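import Cfsg.Agent.Lib.Chev.SylowTorus.Types
import Cfsg.Agent.Lib.Chev.GTorus.Types
import Cfsg.Agent.Lib.Transfer.Sylow

/-!
Commuting elements of good prime order in a Chevalley group which are fused to powers of
themselves give simultaneous eigenvectors of a Weyl group element.
-/

set_option autoImplicit false
set_option maxHeartbeats 1000000

namespace CfsgLib.Classical.AltSection.EigenFusion

open Cfsg.Lie Matrix CfsgLib.Chev CfsgLib.Chev.Cert CfsgLib.Chev.GTorus CfsgLib.Chev.SylowTorus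

variable {D : ChevalleyDatum} {T : Tab} {C : Tab.Cover} (h : Cert D T C)
  {Mi : Matrix (Fin T.l) (Fin T.l) ℤ}
include h

/-- Pairwise commuting elements of good prime order become diagonal under one conjugation. -/
theorem exists_conj_diagonal {L : Type*} [Field L] [Finite L] {ι : Type*} (xs : ι → GL D.Idx L)
    (ℓ : ι → ℕ) (hℓ : ∀ i, (ℓ i).Prime) (hx : ∀ i, xs i ∈ D.group L)
    (ho : ∀ i, orderOf (xs i) = ℓ i) (hc : ∀ i j, Commute (xs i) (xs j))
    (hidx : ∀ i, ¬ ℓ i ∣ (D.diagonalSubgroup L).relIndex (D.group L)) (s : Finset ι) :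
    ∃ g ∈ D.group L, ∀ i ∈ s, g * xs i * g⁻¹ ∈ D.diagonalSubgroup L := by
  classical
  induction s using Finset.induction_on with
  | empty => exact ⟨1, one_mem _, by simp⟩
  | insert a s _ ih =>
    obtain ⟨g, hg, hgs⟩ := ih
    haveI := Fact.mk (hℓ a)
    set A := D.diagonalSubgroup L with hA
    set Z := D.group L ⊓ Subgroup.centralizer ((fun i => g * xs i * g⁻¹) '' (s : Set ι)) with hZ
    have hAZ : A ≤ Z := fun d hd => ⟨h.diagonal_le_group hd, Subgroup.mem_centralizer_iff.2 (by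
      rintro _ ⟨i, hi, rfl⟩
      exact h.diagonal_comm (hgs i hi) hd)⟩
    obtain ⟨S⟩ : Nonempty (Sylow (ℓ a) A) := inferInstance
    set X := (S : Subgroup A).map A.subtype
    have hXA : X ≤ A := Subgroup.map_subtype_le _
    have h1 : ¬ ℓ a ∣ X.relIndex Z := by
      rw [← Subgroup.relIndex_mul_relIndex X A Z hXA hAZ]
      intro hd
      rcases (hℓ a).dvd_mul.1 hd with h1 | h1
      · refine Sylow.not_dvd_index S ?_
        rwa [Subgroup.relIndex, Subgroup.subgroupOf,
          Subgroup.comap_map_eq_self_of_injective A.subtype_injective] at h1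
      · refine hidx a ?_
        rw [← Subgroup.relIndex_mul_relIndex A Z (D.group L) hAZ inf_le_left]
        exact h1.mul_right _
    set u := g * xs a * g⁻¹ with hu
    have huZ : u ∈ Z := by
      refine ⟨(D.group L).mul_mem ((D.group L).mul_mem hg (hx a)) ((D.group L).inv_mem hg),
        Subgroup.mem_centralizer_iff.2 ?_⟩
      rintro _ ⟨i, hi, rfl⟩
      exact ((hc i a).map (MulAut.conj g).toMonoidHom).eq
    have hou : orderOf u = ℓ a := by
      rw [← ho a]
      exact orderOf_injective (MulAut.conj g).toMonoidHom (MulAut.conj g).injective (xs a)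
    obtain ⟨k, hk, hle⟩ := CfsgLib.Transfer.exists_conj_le_of_not_dvd_relIndex (hXA.trans hAZ)
      (S.isPGroup'.map _) h1 (Y := Subgroup.zpowers u) (Subgroup.zpowers_le.2 huZ)
      (IsPGroup.of_card (n := 1) (by rw [Nat.card_zpowers, hou, pow_one]))
    refine ⟨k * g, mul_mem hk.1 hg, fun i hi => ?_⟩
    rcases Finset.mem_insert.1 hi with rfl | hi
    · refine hXA (hle ⟨u, Subgroup.mem_zpowers u, ?_⟩)
      show k * u * k⁻¹ = _
      rw [hu]; group
    · have e : g * xs i * g⁻¹ * k = k * (g * xs i * g⁻¹) :=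
        Subgroup.mem_centralizer_iff.1 hk.2 _ ⟨i, hi, rfl⟩
      rw [show k * g * xs i * (k * g)⁻¹ = k * (g * xs i * g⁻¹) * k⁻¹ by group, ← e,
        mul_inv_cancel_right]
      exact hgs i hi

/-- Fusion of commuting elements to their powers gives common Weyl eigen equations. -/
theorem exists_word_eigen (hMi : Mi * cartanT T = 1) {F : Type*} [Field F] [Fintype F]
    (ds : List ℕ) (e : ℕ) (hl : ds.length = T.l)
    (hL : ∀ (L : Type) [Field L] [Fintype L], OrderOK D L T.l e 1 ds)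
    {ι : Type*} [Finite ι] (ℓ : ι → ℕ) (hℓ : ∀ i, (ℓ i).Prime)
    (hℓq : ∀ i, ¬ ℓ i ∣ Fintype.card F) (hℓd : ∀ i, ∀ d ∈ ds, ¬ ℓ i ∣ d)
    (xs : ι → GL D.Idx F) (hx : ∀ i, xs i ∈ D.group F) (ho : ∀ i, orderOf (xs i) = ℓ i)
    (hc : ∀ i j, Commute (xs i) (xs j)) (y : GL D.Idx F) (hy : y ∈ D.group F) (a : ι → ℕ)
    (hact : ∀ i, y * xs i * y⁻¹ = xs i ^ a i) :
    ∃ w : List ℕ, WordOK T w ∧ ∀ i, ∃ c : Fin T.l → ZMod (ℓ i), c ≠ 0 ∧
      c ᵥ* (w.map (reflMat T)).prod.map (Int.castRingHom (ZMod (ℓ i))) = (a i : ZMod (ℓ i)) • c := by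
  classical
  haveI := Fintype.ofFinite ι
  obtain ⟨p, hp⟩ := CharP.exists F
  obtain ⟨e', hpp, -⟩ := FiniteField.card F p
  have := Fact.mk hpp
  set q := Fintype.card F with hq
  set d := ∏ i, (ℓ i - 1) with hd
  have : NeZero d := ⟨Finset.prod_ne_zero_iff.2 fun i _ => Nat.sub_ne_zero_of_lt (hℓ i).one_lt⟩
  let L := FiniteField.Extension F p d
  let : Fintype L := Fintype.ofFinite L
  have hQq : Fintype.card L = q ^ d := by
    rw [← Nat.card_eq_fintype_card, FiniteField.natCard_extension, Nat.card_eq_fintype_card]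
  have hQ1 : ∀ i, (Fintype.card L : ZMod (ℓ i)) = 1 := fun i => by
    haveI := Fact.mk (hℓ i)
    obtain ⟨k, hk⟩ : ℓ i - 1 ∣ d := Finset.dvd_prod_of_mem _ (Finset.mem_univ i)
    rw [hQq, Nat.cast_pow, hk, pow_mul, ZMod.pow_card_sub_one_eq_one
      fun h0 => hℓq i ((ZMod.natCast_eq_zero_iff _ _).1 h0), one_pow]
  obtain ⟨g', hg', eG, eD⟩ := (hL L).ex
  obtain rfl : g' = 1 := by simpa using hg'
  rw [one_mul] at eG eD
  rw [← hl] at eD
  have hidx : ∀ i, ¬ ℓ i ∣ (D.diagonalSubgroup L).relIndex (D.group L) := fun i =>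
    not_dvd_relIndex h.diagonal_le_group (hℓ i) Fintype.one_lt_card (hQ1 i) eG eD (hℓd i)
  set f : F →+* L := algebraMap F L
  set X : ι → GL D.Idx L := fun i => mapGL D f (xs i) with hX
  have hXo : ∀ i, orderOf (X i) = ℓ i := fun i =>
    (orderOf_injective _ (mapGL_injective D f) (xs i)).trans (ho i)
  obtain ⟨g, hg, hgd⟩ := exists_conj_diagonal h X ℓ hℓ (fun i => h.map_mem_group f (hx i)) hXo
    (fun i j => (hc i j).map _) hidx Finset.univ
  set z : ι → GL D.Idx L := fun i => g * X i * g⁻¹ with hz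
  have hzd : ∀ i, z i ∈ D.diagonalSubgroup L := fun i => hgd i (Finset.mem_univ i)
  have hzy : ∀ i, g * mapGL D f y * g⁻¹ * z i * (g * mapGL D f y * g⁻¹)⁻¹ = z i ^ a i := fun i => by
    simp only [hz, hX]
    rw [conj_pow, ← map_pow, ← hact i, map_mul, map_mul, map_inv]
    group
  obtain ⟨n, hn, hnc⟩ := diag_fusion h (mul_mem (mul_mem hg (h.map_mem_group f hy)) (inv_mem hg))
  obtain ⟨w, hw, hM⟩ := exists_acts_word h (inv_mem hn)
  refine ⟨w, hw, fun i => ?_⟩
  haveI := Fact.mk (hℓ i)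
  have hnz : n * z i * n⁻¹ = z i ^ a i := hnc _ (hzd i) _ (pow_mem (hzd i) _) (hzy i)
  obtain ⟨c, hc'⟩ := h.range_torusHom.ge (hzd i)
  have hzo : orderOf (z i) = ℓ i := by
    rw [show z i = (MulAut.conj g).toMonoidHom (X i) from rfl,
      orderOf_injective (MulAut.conj g).toMonoidHom (MulAut.conj g).injective, hXo]
  have hcl : c ^ ℓ i = 1 := torusHom_injective h hMi (by
    rw [map_pow, map_one, show Cert.torusHom (D := D) (T := T) c = z i from hc', ← hzo,
      pow_orderOf_eq_one])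
  obtain ⟨ω, hω⟩ := exists_prime_orderOf_dvd_card' (G := Lˣ) (ℓ i) (by
    rw [Nat.card_units, Nat.card_eq_fintype_card, ← ZMod.natCast_eq_zero_iff,
      Nat.cast_sub Fintype.card_pos, hQ1, Nat.cast_one, sub_self])
  have hω' : IsPrimitiveRoot (ω : L) (ℓ i) := by
    rw [IsPrimitiveRoot.iff_orderOf, orderOf_units, hω]
  have hXi : ∀ j, ∃ k : ℤ, ω ^ k = c j := fun j => by
    obtain ⟨k, -, hk⟩ := hω'.eq_pow_of_pow_eq_one (ξ := (c j : L))
      (by rw [← Units.val_pow_eq_pow_val, show c j ^ ℓ i = 1 from congrFun hcl j, Units.val_one])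
    exact ⟨k, Units.ext (by rw [zpow_natCast, Units.val_pow_eq_pow_val, hk])⟩
  choose k hk using hXi
  obtain rfl : (fun j => ω ^ k j) = c := funext hk
  refine ⟨fun j => (k j : ZMod (ℓ i)), fun h0 => ?_, ?_⟩
  · have h1 : (fun j => ω ^ k j) = 1 := funext fun j => orderOf_dvd_iff_zpow_eq_one.1
      (by rw [hω]; exact (ZMod.intCast_zmod_eq_zero_iff_dvd _ _).1 (congrFun h0 j))
    rw [h1] at hc'
    rw [← hc', map_one, orderOf_one] at hzo
    exact (hℓ i).ne_one hzo.symm
  · have := vecMul_of_conj h hMi hω (inv_mem hn) hM k (a i : ℤ) (by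
      rw [show Cert.torusHom (D := D) (T := T) (fun j => ω ^ ((a i : ℤ) * k j)) = z i ^ a i by
        rw [← hc', ← map_pow]
        congr 1
        funext j
        rw [Pi.pow_apply, mul_comm, _root_.zpow_mul, zpow_natCast], ← hnz, inv_inv, hc']
      group)
    simpa using this

end CfsgLib.Classical.AltSection.EigenFusion
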