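import Cfsg.Agent.Lib.Classical.AltSection.Fpf

/-!
In a small representation the lifts of disjoint three-cycles do not interfere, and each moves at
least a plane.
-/

set_option autoImplicit false
set_option linter.unusedSectionVars false

namespace CfsgLib.Classical.AltSection

open Equiv Finset Module
open scoped commutatorElement

variable {r : ℕ}

/-! ### Cycles -/

theorem c3_rot {a b c : Fin r} (hab : a ≠ b) (hbc : b ≠ c) (hac : a ≠ c) :
    c3 a b c = c3 b c a := by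
  refine Subtype.ext (Equiv.ext fun i => ?_)
  by_cases ha : i = a
  · subst ha; rw [c3_apply_left hab hbc hac, c3_apply_right hbc hac.symm hab.symm]
  by_cases hb : i = b
  · subst hb; rw [c3_apply_mid hab hbc hac, c3_apply_left hbc hac.symm hab.symm]
  by_cases hc : i = c
  · subst hc; rw [c3_apply_right hab hbc hac, c3_apply_mid hbc hac.symm hab.symm]
  rw [c3_apply_other ha hb hc, c3_apply_other hb hc ha]

theorem c3_inv {a b c : Fin r} (hab : a ≠ b) (hbc : b ≠ c) (hac : a ≠ c) :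
    (c3 a b c)⁻¹ = c3 b a c := by
  refine inv_eq_of_mul_eq_one_right (Subtype.ext (Equiv.ext fun i => ?_))
  rw [Subgroup.coe_mul, Perm.mul_apply, Subgroup.coe_one, Perm.one_apply]
  by_cases ha : i = a
  · subst ha; rw [c3_apply_mid hab.symm hac hbc, c3_apply_right hab hbc hac]
  by_cases hb : i = b
  · subst hb; rw [c3_apply_left hab.symm hac hbc, c3_apply_left hab hbc hac]
  by_cases hc : i = c
  · subst hc; rw [c3_apply_right hab.symm hac hbc, c3_apply_mid hab hbc hac]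
  rw [c3_apply_other hb ha hc, c3_apply_other ha hb hc]

theorem xB_conj {K q : ℕ} [NeZero q] (hodd : Odd q) (ι ι' : Fin K × ZMod q ↪ Fin r) (i : Fin K)
    {g : alternatingGroup (Fin r)} (hg : ∀ z, (g : Perm (Fin r)) (ι z) = ι' z) :
    g * xB hodd ι i * g⁻¹ = xB hodd ι' i := by
  refine Subtype.ext (Equiv.ext fun y => ?_)
  obtain ⟨w, rfl⟩ := (g : Perm (Fin r)).surjective y
  rw [Subgroup.coe_mul, Subgroup.coe_mul, Subgroup.coe_inv, Perm.mul_apply, Perm.mul_apply,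
    Perm.inv_def, Equiv.symm_apply_apply]
  by_cases hw : w ∈ Set.range ι
  · obtain ⟨⟨j, u⟩, rfl⟩ := hw
    rw [xB_apply, hg, hg, xB_apply]
  · rw [xB_apply_notMem hodd ι i hw, xB_apply_notMem hodd ι' i]
    rintro ⟨z, hz⟩
    exact hw ⟨z, (g : Perm (Fin r)).injective (by rw [hg, hz])⟩

/-- The five-cycle `a ↦ b ↦ c ↦ d ↦ e`. -/
theorem exists_five {a b c d e : Fin r} (hinj : Function.Injective ![a, b, c, d, e]) (hodd : Odd 5) :
    ∃ ι : Fin 1 × ZMod 5 ↪ Fin r, xB hodd ι 0 = c3 a b c * c3 c d e := by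
  let v : ZMod 5 → Fin r := ![a, b, c, d, e]
  have hv : Function.Injective v := hinj
  let ι : Fin 1 × ZMod 5 ↪ Fin r :=
    ⟨fun z => v z.2, fun z z' h => Prod.ext (Subsingleton.elim _ _) (hv h)⟩
  have ne : ∀ i j : Fin 5, i ≠ j → ![a, b, c, d, e] i ≠ ![a, b, c, d, e] j := fun i j h => hinj.ne h
  have hab : a ≠ b := ne 0 1 (by decide)
  have hbc : b ≠ c := ne 1 2 (by decide)
  have hac : a ≠ c := ne 0 2 (by decide)
  have hcd : c ≠ d := ne 2 3 (by decide)
  have hde : d ≠ e := ne 3 4 (by decide)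
  have hce : c ≠ e := ne 2 4 (by decide)
  have had : a ≠ d := ne 0 3 (by decide)
  have hae : a ≠ e := ne 0 4 (by decide)
  have hbd : b ≠ d := ne 1 3 (by decide)
  have hbe : b ≠ e := ne 1 4 (by decide)
  refine ⟨ι, Subtype.ext (Equiv.ext fun y => ?_)⟩
  rw [Subgroup.coe_mul, Perm.mul_apply]
  by_cases hy : ∃ u, v u = y
  · obtain ⟨u, rfl⟩ := hy
    have hu : u = 0 ∨ u = 1 ∨ u = 2 ∨ u = 3 ∨ u = 4 := (by decide : ∀ u : ZMod 5, u = 0 ∨ u = 1 ∨ u = 2 ∨ u = 3 ∨ u = 4) u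
    have h1 : (xB hodd ι 0 : Perm (Fin r)) (v u) = v (u + 1) := by
      have := xB_apply hodd ι 0 0 u
      rwa [if_pos rfl] at this
    rw [h1]
    rcases hu with rfl | rfl | rfl | rfl | rfl
    · show b = (c3 a b c : Perm (Fin r)) ((c3 c d e : Perm (Fin r)) a)
      rw [c3_apply_other hac had hae, c3_apply_left hab hbc hac]
    · show c = (c3 a b c : Perm (Fin r)) ((c3 c d e : Perm (Fin r)) b)
      rw [c3_apply_other hbc hbd hbe, c3_apply_mid hab hbc hac]
    · show d = (c3 a b c : Perm (Fin r)) ((c3 c d e : Perm (Fin r)) c)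
      rw [c3_apply_left hcd hde hce, c3_apply_other had.symm hbd.symm hcd.symm]
    · show e = (c3 a b c : Perm (Fin r)) ((c3 c d e : Perm (Fin r)) d)
      rw [c3_apply_mid hcd hde hce, c3_apply_other hae.symm hbe.symm hce.symm]
    · show a = (c3 a b c : Perm (Fin r)) ((c3 c d e : Perm (Fin r)) e)
      rw [c3_apply_right hcd hde hce, c3_apply_right hab hbc hac]
  · push Not at hy
    rw [xB_apply_notMem hodd ι 0 (by rintro ⟨z, hz⟩; exact hy _ hz)]
    have := fun u => Ne.symm (hy u)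
    rw [c3_apply_other (show y ≠ c from this 2) (show y ≠ d from this 3) (show y ≠ e from this 4)]
    exact (c3_apply_other (this 0) (this 1) (this 2)).symm

/-! ### Lifts -/

variable {k : Type*} [Field k] {V : Type*} [AddCommGroup V] [Module k V]
variable {Γ : Type*} [Group Γ] [Finite Γ]
variable {π : Γ →* alternatingGroup (Fin r)} {ρ : Γ →* Module.End k V}
variable [FiniteDimensional k V]

/-- The permutation of an element. -/
abbrev pm (π : Γ →* alternatingGroup (Fin r)) (γ : Γ) : Perm (Fin r) := (π γ : Perm (Fin r))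

theorem lft_c3_conj (C : Cov π ρ) (γ : Γ) {a b c : Fin r} (hab : a ≠ b) (hbc : b ≠ c) (hac : a ≠ c) :
    γ * lft π (c3 a b c) * γ⁻¹ = lft π (c3 (pm π γ a) (pm π γ b) (pm π γ c)) := by
  rw [C.lft_conj (c3_odd hab hbc hac), c3_conj _ hab hbc]

theorem lft_eq_pow (C : Cov π ρ) (γ : Γ) {m : ℕ} (hm : Odd m) (h : π γ ^ m = 1) :
    lft π (π γ) = γ ^ (m + 1) := by
  have h1 : π (γ ^ (m + 1)) = π γ := by rw [map_pow, pow_succ, h, one_mul]
  have h2 : (γ ^ (m + 1)) ^ m = 1 := by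
    rw [← pow_mul, mul_comm, pow_mul]
    exact C.ker_pow_even (by rw [map_pow, h]) hm.add_one
  rw [← C.lft_eq hm h2, h1]

theorem lft_c3_inv (C : Cov π ρ) {a b c : Fin r} (hab : a ≠ b) (hbc : b ≠ c) (hac : a ≠ c) :
    lft π (c3 b a c) = (lft π (c3 a b c))⁻¹ := by
  have h : (lft π (c3 a b c))⁻¹ ^ 3 = 1 := by
    rw [inv_pow, ← C.lft_pow (c3_odd hab hbc hac), c3_order hab hbc hac, lft_one C, inv_one]
  rw [← C.lft_eq ⟨1, rfl⟩ h, map_inv, C.map_lft, c3_inv hab hbc hac]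

theorem gs_univ (C : Cov π ρ) : C.gs univ = ⊤ := by
  set H := C.gs univ
  have hH : ∀ γ : Γ, ∃ h ∈ H, ∃ z ∈ Subgroup.center Γ, γ = h * z := fun γ => by
    obtain ⟨h, hh, e⟩ := C.exists_gs (S := univ) (g := π γ) fun i hi => absurd (mem_univ i) hi
    exact ⟨h, hh, h⁻¹ * γ, C.central (by simp [MonoidHom.mem_ker, e]), by group⟩
  rw [eq_top_iff, ← C.perfect, commutator_def, Subgroup.commutator_le]
  intro x _ y _
  obtain ⟨h, hh, z, hz, rfl⟩ := hH x
  obtain ⟨h', hh', z', hz', rfl⟩ := hH y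
  have e : ⁅h * z, h' * z'⁆ = ⁅h, h'⁆ := by
    have e1 : ∀ g, g * z = z * g := Subgroup.mem_center_iff.1 hz
    have e2 : ∀ g, g * z' = z' * g := Subgroup.mem_center_iff.1 hz'
    simp only [commutatorElement_def, mul_inv_rev]
    calc h * z * (h' * z') * (z⁻¹ * h⁻¹) * (z'⁻¹ * h'⁻¹)
        = h * (z * (h' * z' * z⁻¹)) * h⁻¹ * (z'⁻¹ * h'⁻¹) := by group
      _ = h * (h' * z') * h⁻¹ * (z'⁻¹ * h'⁻¹) := by rw [← e1, inv_mul_cancel_right]
      _ = h * h' * (z' * h⁻¹ * z'⁻¹) * h'⁻¹ := by group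
      _ = h * h' * h⁻¹ * h'⁻¹ := by rw [← e2, mul_inv_cancel_right]
  rw [e, commutatorElement_def]
  exact mul_mem (mul_mem (mul_mem hh hh') (inv_mem hh)) (inv_mem hh')

/-- A set of three-cycle lifts preserving a subspace makes it invariant. -/
theorem invariant_of_c3 (C : Cov π ρ) (U : Submodule k V)
    (h : ∀ a b c : Fin r, a ≠ b → b ≠ c → a ≠ c → ∀ u ∈ U, ρ (lft π (c3 a b c)) u ∈ U) :
    ∀ γ, ∀ u ∈ U, ρ γ u ∈ U := by
  intro γ
  have hγ : γ ∈ Subgroup.closure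
      {x | ∃ a ∈ (univ : Finset (Fin r)), ∃ b ∈ (univ : Finset (Fin r)), ∃ c ∈ (univ : Finset (Fin r)),
        a ≠ b ∧ b ≠ c ∧ a ≠ c ∧ x = lft π (c3 a b c)} := by
    show γ ∈ C.gs univ
    rw [gs_univ C]; exact Subgroup.mem_top γ
  induction hγ using Subgroup.closure_induction'' with
  | mem x hx => obtain ⟨a, -, b, -, c, -, h1, h2, h3, rfl⟩ := hx; exact h a b c h1 h2 h3
  | inv_mem x hx =>
    obtain ⟨a, -, b, -, c, -, h1, h2, h3, rfl⟩ := hx
    rw [← lft_c3_inv C h1 h2 h3]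
    exact h b a c h1.symm h3 h2
  | one => simp
  | mul x y _ _ hx hy => intro u hu; rw [rho_mul_apply]; exact hx _ (hy u hu)

theorem moved_pow_le (γ : Γ) (n : ℕ) : moved ρ (γ ^ n) ≤ moved ρ γ := by
  induction n with
  | zero => rw [pow_zero, moved_one]; exact bot_le
  | succ n ih => rw [pow_succ]; exact (moved_mul_le _ _).trans (sup_le ih le_rfl)

theorem mem_fixd_pow {γ : Γ} {v : V} (h : ρ γ v = v) (n : ℕ) : ρ (γ ^ n) v = v := by
  induction n with
  | zero => simp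
  | succ n ih => rw [pow_succ, rho_mul_apply, h, ih]

theorem fix_swap {γ δ : Γ} (hc : Commute γ δ) (h : ∀ v ∈ moved ρ δ, ρ γ v = v) :
    ∀ v ∈ moved ρ γ, ρ δ v = v := by
  rintro _ ⟨u, rfl⟩
  have h1 := h ((ρ δ - 1) u) ⟨u, rfl⟩
  simp only [LinearMap.sub_apply, Module.End.one_apply, map_sub] at h1 ⊢
  rw [← rho_mul_apply, hc.eq, rho_mul_apply] at h1
  exact sub_eq_sub_iff_sub_eq_sub.1 h1

theorem fix_of_prod_zero {x y : Module.End k V} (h : (x - 1) * (y - 1) = 0) :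
    ∀ v ∈ LinearMap.range (y - 1), x v = v := by
  rintro _ ⟨u, rfl⟩
  exact sub_eq_zero.1 (LinearMap.congr_fun h u)

/-- The moved spaces of operators annihilating each other's displacements are independent. -/
theorem sum_range_le {q : ℕ} [NeZero q] {ζ : k} (hζ : IsPrimitiveRoot ζ q) (hqk : (q : k) ≠ 0)
    {κ : Type*} [Fintype κ] (x : κ → Module.End k V) (hx : ∀ i, x i ^ q = 1)
    (h : ∀ i j, i ≠ j → ∀ v ∈ LinearMap.range (x j - 1), x i v = v) :
    ∑ i, Module.finrank k (LinearMap.range (x i - 1)) ≤ Module.finrank k V := by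
  classical
  suffices key : ∀ s : Finset κ, Module.finrank k ↥(⨆ i ∈ s, LinearMap.range (x i - 1)) =
      ∑ i ∈ s, Module.finrank k (LinearMap.range (x i - 1)) by
    exact (key univ).symm.le.trans (Submodule.finrank_le _)
  intro s
  induction s using Finset.induction_on with
  | empty => simp
  | @insert b s hb ih =>
    rw [Finset.iSup_insert, Finset.sum_insert hb, ← ih]
    have hle : (⨆ i ∈ s, LinearMap.range (x i - 1)) ≤ LinearMap.ker (x b - 1) :=
      iSup₂_le fun j hj v hv => by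
        rw [LinearMap.mem_ker, LinearMap.sub_apply, Module.End.one_apply, sub_eq_zero]
        exact h b j (fun e => hb (e ▸ hj)) v hv
    have hd : LinearMap.range (x b - 1) ⊓ (⨆ i ∈ s, LinearMap.range (x i - 1)) = ⊥ :=
      le_bot_iff.1 ((inf_le_inf_left _ hle).trans (Eigen.disjoint_range_ker hζ hqk (hx b)).le)
    have := Submodule.finrank_sup_add_finrank_inf_eq (LinearMap.range (x b - 1))
      (⨆ i ∈ s, LinearMap.range (x i - 1))
    rwa [hd, finrank_bot, add_zero] at this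

theorem finrank_moved_conj (γ δ : Γ) :
    Module.finrank k (moved ρ (γ * δ * γ⁻¹)) = Module.finrank k (moved ρ δ) := by
  rw [moved_conj]
  exact (Submodule.equivMapOfInjective _ (rho_injective γ) _).finrank_eq.symm

theorem finrank_moved_c3_eq (C : Cov π ρ) {a b c a' b' c' : Fin r} (hab : a ≠ b) (hbc : b ≠ c)
    (hac : a ≠ c) (hab' : a' ≠ b') (hbc' : b' ≠ c') (hac' : a' ≠ c') :
    Module.finrank k (moved ρ (lft π (c3 a b c))) = Module.finrank k (moved ρ (lft π (c3 a' b' c'))) := by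
  obtain ⟨ι, rfl, rfl, rfl⟩ := exists_three hab hbc hac
  obtain ⟨ι', rfl, rfl, rfl⟩ := exists_three hab' hbc' hac'
  obtain ⟨g, hg⟩ := exists_conj ι ι' (by have := C.hr; simp; omega)
  obtain ⟨γ, rfl⟩ := C.surj g
  rw [← finrank_moved_conj γ, lft_c3_conj C γ hab hbc hac]
  have e : ∀ z, pm π γ (ι z) = ι' z := hg
  rw [e, e, e]

variable [IsAlgClosed k] [Nontrivial V]

theorem hroot3 : ∀ c : ZMod 3, c ≠ 0 → ∃ n, c = (mult3.u ^ n : (ZMod 3)ˣ) := by
  intro c hc
  obtain h | h : c = 1 ∨ c = 2 := by revert c; decide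
  · exact ⟨0, by simp [h]⟩
  · exact ⟨1, by rw [h, pow_one]; rfl⟩

/-! ### Characteristic other than three -/

theorem fix_or_eq (C : Cov π ρ) (hs : Small k V r) (h3 : (3 : k) ≠ 0)
    (ι : Fin 2 × ZMod 3 ↪ Fin r) (hodd : Odd 3) {i j : Fin 2} (hij : i ≠ j) :
    (∀ v ∈ moved ρ (lft π (xB hodd ι j)), ρ (lft π (xB hodd ι i)) v = v) ∨
      moved ρ (lft π (xB hodd ι i)) = moved ρ (lft π (xB hodd ι j)) := by
  have := C.hr
  have := hs.le
  have h2K : 2 ≤ r / 3 := by omega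
  let e : Fin 2 × ZMod 3 ↪ Fin (r / 3) × ZMod 3 :=
    ⟨fun z => (Fin.castLE h2K z.1, z.2), fun z z' h => Prod.ext
      (Fin.castLE_injective h2K (congrArg Prod.fst h : _)) (congrArg Prod.snd h : _)⟩
  obtain ⟨ι', hι'⟩ := exists_extend ι e (by simp; omega)
  have hx : ∀ l : Fin 2, xB hodd ι' (Fin.castLE h2K l) = xB hodd ι l :=
    fun l => xB_sub hodd ι ι' l _ fun u => hι' (l, u)
  rw [← hx i, ← hx j]
  rcases pair_three C (by exact_mod_cast h3) hodd ι' (by omega) (by omega)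
    (i := Fin.castLE h2K i) (j := Fin.castLE h2K j)
    (fun e => hij (Fin.castLE_injective h2K e)) with h | h
  · exact Or.inl (fix_of_prod_zero h)
  · exact Or.inr h

/-- Two disjoint three-cycles as blocks. -/
theorem exists_six (hodd : Odd 3) {a b c d e f : Fin r} (hab : a ≠ b) (hbc : b ≠ c) (hac : a ≠ c)
    (hde : d ≠ e) (hef : e ≠ f) (hdf : d ≠ f) (hd : d ≠ a ∧ d ≠ b ∧ d ≠ c)
    (he : e ≠ a ∧ e ≠ b ∧ e ≠ c) (hf : f ≠ a ∧ f ≠ b ∧ f ≠ c) {i j : Fin 2} (hij : i ≠ j) :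
    ∃ ι : Fin 2 × ZMod 3 ↪ Fin r, xB hodd ι i = c3 a b c ∧ xB hodd ι j = c3 d e f := by
  obtain ⟨ι₁, rfl, rfl, rfl⟩ := exists_three hab hbc hac
  obtain ⟨ι₂, rfl, rfl, rfl⟩ := exists_three hde hef hdf
  have hne : ∀ u u', ι₂ (0, u') ≠ ι₁ (0, u) := fun u u' => by
    have h : ∀ x : ZMod 3, x = 0 ∨ x = 1 ∨ x = 2 := by decide
    rcases h u with rfl | rfl | rfl <;> rcases h u' with rfl | rfl | rfl
    exacts [hd.1, he.1, hf.1, hd.2.1, he.2.1, hf.2.1, hd.2.2, he.2.2, hf.2.2]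
  let ι' : Fin 2 × ZMod 3 ↪ Fin r :=
    ⟨fun z => if z.1 = i then ι₁ (0, z.2) else ι₂ (0, z.2), fun z z' h => by
      have hl : ∀ m n l : Fin 2, m ≠ l → n ≠ l → m = n := by decide
      dsimp only at h
      split_ifs at h with h1 h2 h2
      · exact Prod.ext (h1.trans h2.symm) (congrArg Prod.snd (ι₁.injective h) : _)
      · exact absurd h.symm (hne _ _)
      · exact absurd h (hne _ _)
      · exact Prod.ext (hl _ _ _ h1 h2) (congrArg Prod.snd (ι₂.injective h) : _)⟩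
  have e1 : ∀ u, ι' (i, u) = ι₁ (0, u) := fun u => if_pos rfl
  have e2 : ∀ u, ι' (j, u) = ι₂ (0, u) := fun u => if_neg (Ne.symm hij)
  exact ⟨ι', by rw [xB_eq_c3, e1, e1, e1], by rw [xB_eq_c3, e2, e2, e2]⟩

/-- In characteristic other than three disjoint three-cycles do not interfere. -/
theorem fix_three (C : Cov π ρ) (hs : Small k V r) (h3 : (3 : k) ≠ 0)
    (ι : Fin 2 × ZMod 3 ↪ Fin r) (hodd : Odd 3) {i j : Fin 2} (hij : i ≠ j) :
    ∀ v ∈ moved ρ (lft π (xB hodd ι j)), ρ (lft π (xB hodd ι i)) v = v := by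
  classical
  refine (fix_or_eq C hs h3 ι hodd hij).resolve_right fun heq => ?_
  have hr := C.hr
  have heq01 : ∀ ι' : Fin 2 × ZMod 3 ↪ Fin r,
      moved ρ (lft π (xB hodd ι' i)) = moved ρ (lft π (xB hodd ι' j)) := by
    intro ι'
    obtain ⟨g, hg⟩ := exists_conj ι ι' (by simp; omega)
    obtain ⟨γ, rfl⟩ := C.surj g
    rw [← xB_conj hodd ι ι' i hg, ← xB_conj hodd ι ι' j hg, ← C.lft_conj (odd_order C hodd ι i),
      ← C.lft_conj (odd_order C hodd ι j), moved_conj, moved_conj, heq]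
  have hdis : ∀ {a b c d e f : Fin r}, a ≠ b → b ≠ c → a ≠ c → d ≠ e → e ≠ f → d ≠ f →
      (d ≠ a ∧ d ≠ b ∧ d ≠ c) → (e ≠ a ∧ e ≠ b ∧ e ≠ c) → (f ≠ a ∧ f ≠ b ∧ f ≠ c) →
      moved ρ (lft π (c3 a b c)) = moved ρ (lft π (c3 d e f)) := by
    intro a b c d e f hab hbc hac hde hef hdf hd he hf
    obtain ⟨ι', e1, e2⟩ := exists_six hodd hab hbc hac hde hef hdf hd he hf hij
    rw [← e1, ← e2]
    exact heq01 ι'
  have hall : ∀ {a b c d e f : Fin r}, a ≠ b → b ≠ c → a ≠ c → d ≠ e → e ≠ f → d ≠ f →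
      moved ρ (lft π (c3 a b c)) = moved ρ (lft π (c3 d e f)) := by
    intro a b c d e f hab hbc hac hde hef hdf
    have hcard : 3 ≤ (({a, b, c, d, e, f} : Finset (Fin r))ᶜ).card := by
      have : ({a, b, c, d, e, f} : Finset (Fin r)).card ≤ 6 := Finset.card_le_six
      rw [card_compl, Fintype.card_fin]; omega
    obtain ⟨S, hS, hS3⟩ := exists_subset_card_eq hcard
    obtain ⟨u, v, w, huv, huw, hvw, rfl⟩ := card_eq_three.1 hS3
    simp only [insert_subset_iff, singleton_subset_iff, mem_compl, mem_insert, mem_singleton, not_or] at hS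
    obtain ⟨⟨u1, u2, u3, u4, u5, u6⟩, ⟨v1, v2, v3, v4, v5, v6⟩, w1, w2, w3, w4, w5, w6⟩ := hS
    rw [hdis hab hbc hac huv hvw huw ⟨u1, u2, u3⟩ ⟨v1, v2, v3⟩ ⟨w1, w2, w3⟩,
      hdis hde hef hdf huv hvw huw ⟨u4, u5, u6⟩ ⟨v4, v5, v6⟩ ⟨w4, w5, w6⟩]
  set a : Fin r := ⟨0, by omega⟩
  set b : Fin r := ⟨1, by omega⟩
  set c : Fin r := ⟨2, by omega⟩
  have hab : a ≠ b := Fin.ne_of_val_ne (by simp [a, b])
  have hbc : b ≠ c := Fin.ne_of_val_ne (by simp [b, c])
  have hac : a ≠ c := Fin.ne_of_val_ne (by simp [a, c])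
  set M := moved ρ (lft π (c3 a b c))
  have hMinv : ∀ γ, ∀ u ∈ M, ρ γ u ∈ M := fun γ u hu => by
    have : ρ γ u ∈ M.map (ρ γ) := ⟨u, hu, rfl⟩
    rw [← moved_conj, lft_c3_conj C γ hab hbc hac, ← hall hab hbc hac
      ((pm π γ).injective.ne hab) ((pm π γ).injective.ne hbc) ((pm π γ).injective.ne hac)] at this
    exact this
  have hMtop : M = ⊤ := (C.irred M hMinv).resolve_left (C.moved_ne_bot fun e => by
    have := congrArg π e
    rw [C.map_lft, map_one] at this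
    exact c3_ne_one hab hbc hac this)
  refine not_fpf C hs fun p q s hpq hqs hps => ?_
  have htop : LinearMap.range (Y π ρ p q s - 1) = ⊤ := by
    rw [← hMtop]; exact hall hpq hqs hps hab hbc hac
  have hker : LinearMap.ker (Y π ρ p q s - 1) = ⊥ :=
    LinearMap.ker_eq_bot.2 (LinearMap.injective_iff_surjective.2 (LinearMap.range_eq_top.1 htop))
  refine LinearMap.ext fun v => ?_
  refine (Submodule.eq_bot_iff _).1 hker _ (LinearMap.mem_ker.2 ?_)
  have h3 := Y_pow C hpq hqs hps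
  rw [← Module.End.mul_apply, show (Y π ρ p q s - 1) * (Y π ρ p q s * Y π ρ p q s + Y π ρ p q s + 1) =
    Y π ρ p q s ^ 3 - 1 by noncomm_ring, h3, sub_self]
  rfl

/-- In characteristic other than three a three-cycle moves a plane. -/
theorem finrank_moved_three (C : Cov π ρ) (hs : Small k V r) (h3 : (3 : k) ≠ 0) {a b c : Fin r}
    (hab : a ≠ b) (hbc : b ≠ c) (hac : a ≠ c) :
    Module.finrank k (moved ρ (lft π (c3 a b c))) = 2 := by
  have hr := C.hr
  have hn := hs.le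
  have hodd : Odd 3 := ⟨1, rfl⟩
  have h3' : ((3 : ℕ) : k) ≠ 0 := by exact_mod_cast h3
  obtain ⟨ι, ha, hb, hc⟩ := exists_three hab hbc hac
  obtain ⟨ζ, m, hζ, hm, hfr, -⟩ := exists_multiplicity C hodd (by norm_num) h3' mult3 ι (by omega) hroot3
  rw [xB_eq_c3, ha, hb, hc] at hfr
  obtain ⟨κ⟩ : Nonempty (Fin (r / 3) × ZMod 3 ↪ Fin r) :=
    Function.Embedding.nonempty_of_card_le (by simp; omega)
  have hall : ∀ l, Module.finrank k (LinearMap.range (X π ρ hodd κ l - 1)) = 2 * m := fun l => by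
    show Module.finrank k (moved ρ (lft π (xB hodd κ l))) = _
    rw [xB_eq_c3]
    have ne : ∀ u u' : ZMod 3, u ≠ u' → κ (l, u) ≠ κ (l, u') := fun u u' h => κ.injective.ne (by simp [h])
    rw [finrank_moved_c3_eq C (ne 0 1 (by decide)) (ne 1 2 (by decide)) (ne 0 2 (by decide)) hab hbc hac, hfr]
  have hsum := sum_range_le hζ h3' (X π ρ hodd κ) (X_pow C hodd κ) fun i j hij v hv => by
    let e : Fin 2 × ZMod 3 ↪ Fin (r / 3) × ZMod 3 :=
      ⟨fun z => (if z.1 = 0 then i else j, z.2), fun z z' h => by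
        simp only [Prod.mk.injEq] at h
        refine Prod.ext ?_ h.2
        obtain ⟨h, -⟩ := h
        split_ifs at h with h1 h2 h2
        · exact h1.trans h2.symm
        · exact absurd h hij
        · exact absurd h.symm hij
        · omega⟩
    have hi : xB hodd (e.trans κ) 0 = xB hodd κ i := xB_sub hodd κ _ i 0 fun u => rfl
    have hj : xB hodd (e.trans κ) 1 = xB hodd κ j := xB_sub hodd κ _ j 1 fun u => rfl
    have := fix_three C hs h3 (e.trans κ) hodd (i := 0) (j := 1) (by decide)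
    rw [hi, hj] at this
    exact this v hv
  rw [sum_congr rfl fun l _ => hall l, sum_const, card_univ, Fintype.card_fin, smul_eq_mul] at hsum
  rw [hfr]
  rcases Nat.lt_or_ge m 2 with h | h
  · omega
  · have : r / 3 * 4 ≤ r / 3 * (2 * m) := Nat.mul_le_mul_left _ (by omega)
    omega

/-! ### Characteristic three -/

theorem hroot5 : ∀ c : ZMod 5, c ≠ 0 → ∃ n, c = (mult5.u ^ n : (ZMod 5)ˣ) := by
  intro c hc
  have : ∃ n : Fin 4, c = ((mult5.u ^ n.1 : (ZMod 5)ˣ) : ZMod 5) := by revert c; decide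
  exact ⟨this.choose.1, this.choose_spec⟩

/-- A five-cycle has four moved lines. -/
theorem five_lines (C : Cov π ρ) (hs : Small k V r) (h3 : (3 : k) = 0) (hodd : Odd 5)
    (ι : Fin 1 × ZMod 5 ↪ Fin r) :
    ∃ ζ : k, IsPrimitiveRoot ζ 5 ∧ Module.finrank k (moved ρ (lft π (xB hodd ι 0))) = 4 ∧
      ∀ c : ZMod 5, c ≠ 0 → Module.finrank k (Eigen.E ζ (X π ρ hodd ι 0) c) = 1 := by
  have hr := C.hr
  have hn := hs.le
  have h5 : ((5 : ℕ) : k) ≠ 0 := by
    intro h
    push_cast at h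
    exact one_ne_zero (show (1 : k) = 0 by linear_combination 2 * h3 - h)
  obtain ⟨ζ, m, hζ, hm, hfr, hE⟩ := exists_multiplicity C hodd (by norm_num) h5 mult5 ι (by omega) hroot5
  suffices m = 1 by subst this; exact ⟨ζ, hζ, by simpa using hfr, hE⟩
  obtain ⟨κ⟩ : Nonempty (Fin (r / 5) × ZMod 5 ↪ Fin r) :=
    Function.Embedding.nonempty_of_card_le (by simp; omega)
  have hall : ∀ l, Module.finrank k (LinearMap.range (X π ρ hodd κ l - 1)) = 4 * m := fun l => by
    show Module.finrank k (moved ρ (lft π (xB hodd κ l))) = _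
    obtain ⟨g, hg⟩ := exists_conj ι ((single 5 l).trans κ) (by simp; omega)
    obtain ⟨γ, rfl⟩ := C.surj g
    rw [← xB_single hodd κ l, ← xB_conj hodd ι _ 0 hg, ← C.lft_conj (odd_order C hodd ι 0),
      finrank_moved_conj, hfr]
  have hsum := sum_range_le hζ h5 (X π ρ hodd κ) (X_pow C hodd κ) fun i j hij v hv =>
    fix_of_prod_zero (pair_five C h5 hodd κ (by omega) hij) v hv
  rw [sum_congr rfl fun l _ => hall l, sum_const, card_univ, Fintype.card_fin, smul_eq_mul] at hsum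
  rcases Nat.lt_or_ge m 2 with h | h
  · omega
  · have : r / 5 * 8 ≤ r / 5 * (4 * m) := Nat.mul_le_mul_left _ (by omega)
    rcases Nat.lt_or_ge r 10 with h' | h'
    · have := hs.le' (by
        rw [show r = 3 * 3 by omega, Nat.cast_mul]
        simp [h3])
      omega
    · omega

/-- A five-cycle and a disjoint three-cycle. -/
theorem five_fix (C : Cov π ρ) (hs : Small k V r) (h3 : (3 : k) = 0) (hodd : Odd 5)
    (ι : Fin 1 × ZMod 5 ↪ Fin r) {a b c : Fin r} (hab : a ≠ b) (hbc : b ≠ c) (hac : a ≠ c)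
    (ha : a ∉ Set.range ι) (hb : b ∉ Set.range ι) (hc : c ∉ Set.range ι) :
    ∀ v ∈ moved ρ (lft π (c3 a b c)), ρ (lft π (xB hodd ι 0)) v = v := by
  obtain ⟨ζ, hζ, -, hE⟩ := five_lines C hs h3 hodd ι
  have h5 : ((5 : ℕ) : k) ≠ 0 := by
    intro h
    push_cast at h
    exact one_ne_zero (show (1 : k) = 0 by linear_combination 2 * h3 - h)
  have hcg : Commute (c3 a b c) (xB hodd ι 0) := by
    have := c3_conj (xB hodd ι 0) (c := c) hab hbc
    rw [xB_apply_notMem hodd ι 0 ha, xB_apply_notMem hodd ι 0 hb, xB_apply_notMem hodd ι 0 hc,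
      mul_inv_eq_iff_eq_mul] at this
    exact this.symm
  have hcomm := C.lft_commute (c3_odd hab hbc hac) hcg
  refine fix_swap hcomm fun v hv => ?_
  have hv' : v ∈ ⨆ j ∈ univ.erase (0 : ZMod 5), Eigen.E ζ (X π ρ hodd ι 0) j := by
    rw [← Eigen.range_eq hζ h5 (X_pow C hodd ι 0)]; exact hv
  have hle : (⨆ j ∈ univ.erase (0 : ZMod 5), Eigen.E ζ (X π ρ hodd ι 0) j) ≤
      fixd ρ (lft π (c3 a b c)) := by
    refine iSup₂_le fun j hj w hw => ?_
    rw [mem_fixd]
    obtain ⟨w₀, hw₀, hspan⟩ := finrank_eq_one_iff'.1 (hE j (mem_erase.1 hj).1)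
    have hinv : ρ (lft π (c3 a b c)) w₀.1 ∈ Eigen.E ζ (X π ρ hodd ι 0) j := by
      have := (Eigen.mem_E ζ).1 w₀.2
      rw [Eigen.mem_E]
      show ρ (lft π (xB hodd ι 0)) (ρ (lft π (c3 a b c)) w₀.1) = _
      rw [← rho_mul_apply, ← hcomm.eq, rho_mul_apply,
        show ρ (lft π (xB hodd ι 0)) w₀.1 = ζ ^ j.val • w₀.1 from this, map_smul]
    obtain ⟨t, ht⟩ := hspan ⟨_, hinv⟩
    have ht' : ρ (lft π (c3 a b c)) w₀.1 = t • w₀.1 := (congrArg Subtype.val ht).symm
    have ht3 : t ^ 3 = 1 := by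
      refine smul_left_injective k (fun e => hw₀ (Subtype.ext e)) (?_ : t ^ 3 • w₀.1 = (1 : k) • w₀.1)
      have hY := LinearMap.congr_fun (Y_pow C (ρ := ρ) hab hbc hac) w₀.1
      rw [Y, pow_succ, pow_two, Module.End.mul_apply, Module.End.mul_apply, ht', map_smul, map_smul,
        ht', map_smul, ht', smul_smul, smul_smul, Module.End.one_apply] at hY
      rw [one_smul, show t ^ 3 = t * (t * t) by ring]
      simpa [mul_assoc] using hY
    have ht1 : t = 1 := sub_eq_zero.1 (pow_eq_zero_iff (n := 3) (by norm_num) |>.1 (by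
      linear_combination ht3 + (t - t ^ 2) * h3))
    obtain ⟨s, hs'⟩ := hspan ⟨w, hw⟩
    rw [show w = s • w₀.1 from (congrArg Subtype.val hs').symm, map_smul, ht', ht1, one_smul]
  exact mem_fixd.1 (hle hv')

/-! ### Both -/

theorem exists_two_outside (C : Cov π ρ) {S : Finset (Fin r)} (h : S.card + 2 ≤ r) :
    ∃ u v, u ∉ S ∧ v ∉ S ∧ u ≠ v := by
  obtain ⟨u, hu, v, hv, huv⟩ := one_lt_card.1 (show 1 < Sᶜ.card by
    rw [card_compl, Fintype.card_fin]; omega)
  exact ⟨u, v, mem_compl.1 hu, mem_compl.1 hv, huv⟩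

/-- Disjoint three-cycles do not interfere. -/
theorem fix_c3 (C : Cov π ρ) (hs : Small k V r) {a b c d e f : Fin r} (hab : a ≠ b) (hbc : b ≠ c)
    (hac : a ≠ c) (hde : d ≠ e) (hef : e ≠ f) (hdf : d ≠ f) (hd : d ≠ a ∧ d ≠ b ∧ d ≠ c)
    (he : e ≠ a ∧ e ≠ b ∧ e ≠ c) (hf : f ≠ a ∧ f ≠ b ∧ f ≠ c) :
    ∀ v ∈ moved ρ (lft π (c3 a b c)), ρ (lft π (c3 d e f)) v = v := by
  classical
  by_cases h3 : (3 : k) = 0
  · obtain ⟨g, h, hg, hh, hgh⟩ := exists_two_outside C (S := {a, b, c, d, e, f}) (by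
      have : ({a, b, c, d, e, f} : Finset (Fin r)).card ≤ 6 := Finset.card_le_six
      have := C.hr
      omega)
    simp only [mem_insert, mem_singleton, not_or] at hg hh
    obtain ⟨g1, g2, g3, g4, g5, g6⟩ := hg
    obtain ⟨h1, h2, h3', h4, h5, h6⟩ := hh
    have hinj : Function.Injective ![d, e, f, g, h] := fun i j hij => by
      fin_cases i <;> fin_cases j <;> first | rfl |
        (simp [hde, hef, hdf, hde.symm, hef.symm, hdf.symm, g4, g5, g6, h4, h5, h6, hgh,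
          Ne.symm g4, Ne.symm g5, Ne.symm g6, Ne.symm h4, Ne.symm h5, Ne.symm h6, hgh.symm] at hij)
    obtain ⟨ι₁, ι₂, hr₁, hr₂, hprod⟩ := c3_eq_five ⟨2, rfl⟩ hinj
    have hout : ∀ x ∈ ({a, b, c} : Finset (Fin r)), x ∉ Set.range ![d, e, f, g, h] := by
      intro x hx
      simp only [mem_insert, mem_singleton] at hx
      rintro ⟨i, hi⟩
      rcases hx with rfl | rfl | rfl <;> fin_cases i <;> simp at hi <;> subst hi <;>
        simp_all
    have hfix : ∀ ι : Fin 1 × ZMod 5 ↪ Fin r, Set.range ι ⊆ Set.range ![d, e, f, g, h] →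
        ∀ v ∈ moved ρ (lft π (c3 a b c)), ρ (lft π (xB ⟨2, rfl⟩ ι 0)) v = v := fun ι hι =>
      five_fix C hs h3 ⟨2, rfl⟩ ι hab hbc hac (fun hx => hout a (by simp) (hι hx))
        (fun hx => hout b (by simp) (hι hx)) (fun hx => hout c (by simp) (hι hx))
    intro v hv
    have hπ : π (lft π (xB ⟨2, rfl⟩ ι₁ 0) * lft π (xB ⟨2, rfl⟩ ι₂ 0)) = c3 d e f := by
      rw [map_mul, C.map_lft, C.map_lft, hprod]
    rw [← hπ, lft_eq_pow C _ (m := 3) ⟨1, rfl⟩ (by rw [hπ]; exact c3_order hde hef hdf)]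
    exact mem_fixd_pow (by rw [rho_mul_apply, hfix ι₂ hr₂ v hv, hfix ι₁ hr₁ v hv]) _
  · have hodd : Odd 3 := ⟨1, rfl⟩
    obtain ⟨ι', e1, e2⟩ := exists_six hodd hab hbc hac hde hef hdf hd he hf
      (show (0 : Fin 2) ≠ 1 by decide)
    rw [← e1, ← e2]
    exact fix_three C hs h3 ι' hodd (by decide)

/-- A three-cycle moves at least a plane. -/
theorem two_le_moved (C : Cov π ρ) (hs : Small k V r) {a b c : Fin r}
    (hab : a ≠ b) (hbc : b ≠ c) (hac : a ≠ c) :
    2 ≤ Module.finrank k (moved ρ (lft π (c3 a b c))) := by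
  classical
  by_cases h3 : (3 : k) = 0
  · obtain ⟨d, e, hd, he, hde⟩ := exists_two_outside C (S := {a, b, c}) (by
      have : ({a, b, c} : Finset (Fin r)).card ≤ 3 := Finset.card_le_three
      have := C.hr
      omega)
    simp only [mem_insert, mem_singleton, not_or] at hd he
    obtain ⟨d1, d2, d3⟩ := hd
    obtain ⟨e1, e2, e3⟩ := he
    have hinj : Function.Injective ![a, b, c, d, e] := fun i j hij => by
      fin_cases i <;> fin_cases j <;> first | rfl |
        (simp [hab, hbc, hac, hab.symm, hbc.symm, hac.symm, d1, d2, d3, e1, e2, e3, hde,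
          Ne.symm d1, Ne.symm d2, Ne.symm d3, Ne.symm e1, Ne.symm e2, Ne.symm e3, hde.symm] at hij)
    obtain ⟨ι, hι⟩ := exists_five hinj ⟨2, rfl⟩
    obtain ⟨ζ, -, h4, -⟩ := five_lines C hs h3 ⟨2, rfl⟩ ι
    have hπ : π (lft π (c3 a b c) * lft π (c3 c d e)) = xB ⟨2, rfl⟩ ι 0 := by
      rw [map_mul, C.map_lft, C.map_lft, hι]
    rw [← hπ, lft_eq_pow C _ (m := 5) ⟨2, rfl⟩ (by rw [hπ]; exact xB_pow_card _ ι 0)] at h4
    have hle := Submodule.finrank_mono ((moved_pow_le (ρ := ρ) (lft π (c3 a b c) * lft π (c3 c d e)) (5 + 1)).trans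
      (moved_mul_le _ _))
    have hsup := Submodule.finrank_add_le_finrank_add_finrank (moved ρ (lft π (c3 a b c)))
      (moved ρ (lft π (c3 c d e)))
    have := finrank_moved_c3_eq C (ρ := ρ) hab hbc hac (Ne.symm d3) hde (Ne.symm e3)
    omega
  · exact (finrank_moved_three C hs h3 hab hbc hac).ge

end CfsgLib.Classical.AltSection
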