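import Mathlib

/-!
Operators of finite order prime to the characteristic: eigenspaces, joint eigenvectors.
-/

set_option autoImplicit false
set_option linter.unusedSectionVars false

namespace CfsgLib.Classical.AltSection.Eigen

open Finset

variable {k : Type*} [Field k] {V : Type*} [AddCommGroup V] [Module k V]

theorem exists_primitive [IsAlgClosed k] (q : ℕ) [NeZero (q : k)] : ∃ ζ : k, IsPrimitiveRoot ζ q := by
  have hq : 0 < q := Nat.pos_of_ne_zero fun e => NeZero.ne (q : k) (by rw [e, Nat.cast_zero])
  obtain ⟨ζ, hζ⟩ := IsAlgClosed.exists_root (Polynomial.cyclotomic q k) (by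
    rw [Polynomial.degree_cyclotomic]
    exact_mod_cast (Nat.totient_pos.2 hq).ne')
  exact ⟨ζ, Polynomial.isRoot_cyclotomic_iff.1 hζ⟩

variable {q : ℕ} [NeZero q] (ζ : k)

/-- The eigenspace of `x` for `ζ ^ j`. -/
def E (x : Module.End k V) (j : ZMod q) : Submodule k V := LinearMap.ker (x - ζ ^ j.val • 1)

theorem mem_E {x : Module.End k V} {j : ZMod q} {v : V} : v ∈ E ζ x j ↔ x v = ζ ^ j.val • v := by
  rw [E, LinearMap.mem_ker, LinearMap.sub_apply, LinearMap.smul_apply, Module.End.one_apply,
    sub_eq_zero]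

theorem E_zero (x : Module.End k V) : E ζ x (0 : ZMod q) = LinearMap.ker (x - 1) := by
  simp [E]

variable {ζ} (hζ : IsPrimitiveRoot ζ q) (hq : (q : k) ≠ 0)
include hζ hq

omit hq in
theorem zpow_inj {i j : ZMod q} (h : ζ ^ i.val = ζ ^ j.val) : i = j :=
  ZMod.val_injective q (hζ.pow_inj (ZMod.val_lt i) (ZMod.val_lt j) h)

omit hq in
theorem pow_val_add (i j : ZMod q) : ζ ^ (i + j).val = ζ ^ i.val * ζ ^ j.val := by
  rw [ZMod.val_add, ← pow_add]
  conv_rhs => rw [← Nat.mod_add_div (i.val + j.val) q, pow_add, pow_mul, hζ.pow_eq_one, one_pow, mul_one]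

/-- Vectors decompose into eigenvectors. -/
theorem mem_iSup_E {x : Module.End k V} (hx : x ^ q = 1) (v : V) :
    v ∈ ⨆ j, E (q := q) ζ x j := by
  let P : ZMod q → V := fun j => ∑ i : ZMod q, ζ ^ (-(i * j)).val • (x ^ i.val) v
  have hmem : ∀ j, P j ∈ E ζ x j := fun j => by
    rw [mem_E]
    simp only [P, map_sum, map_smul, Finset.smul_sum, smul_smul]
    have hstep : ∀ i : ZMod q, x ((x ^ i.val) v) = (x ^ (i + 1).val) v := fun i => by
      rw [← Module.End.mul_apply, ← pow_succ', ZMod.val_add]
      conv_lhs => rw [← Nat.mod_add_div (i.val + 1) q, pow_add, pow_mul, hx, one_pow, mul_one]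
      rcases Nat.lt_or_ge 1 q with h | h
      · rw [ZMod.val_one'' (by omega)]
      · obtain rfl : q = 1 := le_antisymm h (Nat.pos_of_ne_zero (NeZero.ne q))
        simp [Nat.mod_one]
    simp only [hstep]
    refine Fintype.sum_equiv (Equiv.addRight (1 : ZMod q)) _ _ fun i => ?_
    rw [Equiv.coe_addRight, ← pow_val_add hζ, show j + -((i + 1) * j) = -(i * j) by ring]
  have hsum : ∑ j, P j = (q : k) • v := by
    simp only [P]
    rw [Finset.sum_comm, Finset.sum_eq_single (0 : ZMod q)]
    · rw [← Finset.sum_smul]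
      simp
    · intro i _ hi
      rw [← Finset.sum_smul]
      have hzero : ∑ j : ZMod q, ζ ^ (-(i * j)).val = 0 := by
        have h1 : ∀ j : ZMod q, ζ ^ (-i).val * ζ ^ (-(i * j)).val = ζ ^ (-(i * (j + 1))).val :=
          fun j => by rw [← pow_val_add hζ, show -i + -(i * j) = -(i * (j + 1)) by ring]
        have h2 : ζ ^ (-i).val * ∑ j : ZMod q, ζ ^ (-(i * j)).val =
            ∑ j : ZMod q, ζ ^ (-(i * j)).val := by
          rw [Finset.mul_sum]
          exact Fintype.sum_equiv (Equiv.addRight (1 : ZMod q)) _ _ h1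
        by_contra hne
        refine hi (neg_eq_zero.1 (zpow_inj hζ ?_))
        rw [ZMod.val_zero, pow_zero]
        exact mul_left_eq_self₀.1 h2 |>.resolve_right hne
      rw [hzero, zero_smul]
    · simp
  have h : (q : k) • v ∈ ⨆ j, E (q := q) ζ x j := hsum ▸ Submodule.sum_mem _ fun j _ =>
    Submodule.mem_iSup_of_mem j (hmem j)
  simpa [smul_smul, inv_mul_cancel₀ hq] using Submodule.smul_mem _ (q : k)⁻¹ h

/-- A nonzero invariant space contains an eigenvector. -/
theorem exists_mem_E {x : Module.End k V} (hx : x ^ q = 1) [FiniteDimensional k V] [IsAlgClosed k]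
    {U : Submodule k V} (hU : U ≠ ⊥) (hinv : ∀ u ∈ U, x u ∈ U) :
    ∃ j : ZMod q, U ⊓ E ζ x j ≠ ⊥ := by
  have : Nontrivial U := Submodule.nontrivial_iff_ne_bot.2 hU
  obtain ⟨c, hc⟩ := Module.End.exists_eigenvalue (x.restrict hinv)
  obtain ⟨v, hv⟩ := hc.exists_hasEigenvector
  have hv' : x (v : V) = c • (v : V) := congrArg Subtype.val hv.apply_eq_smul
  have hv0 : (v : V) ≠ 0 := fun e => hv.2 (Subtype.ext e)
  have hpow : ∀ i : ℕ, (x ^ i) (v : V) = c ^ i • (v : V) := fun i => by
    induction i with
    | zero => simp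
    | succ i ih => rw [pow_succ', Module.End.mul_apply, ih, map_smul, hv', smul_smul, pow_succ]
  have hcq : c ^ q = 1 := by
    refine smul_left_injective k hv0 ?_
    show c ^ q • (v : V) = (1 : k) • (v : V)
    rw [← hpow, hx, one_smul]; rfl
  obtain ⟨i, hi, rfl⟩ := hζ.eq_pow_of_pow_eq_one hcq
  refine ⟨(i : ZMod q), fun e => hv0 ((Submodule.eq_bot_iff _).1 e _ ⟨v.2, ?_⟩)⟩
  rw [SetLike.mem_coe, mem_E, ZMod.val_natCast, Nat.mod_eq_of_lt hi, hv']

/-- The moved space of an operator of finite order meets its fixed space trivially. -/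
theorem disjoint_range_ker {x : Module.End k V} (hx : x ^ q = 1) :
    LinearMap.range (x - 1) ⊓ LinearMap.ker (x - 1) = ⊥ := by
  rw [Submodule.eq_bot_iff]
  rintro _ ⟨⟨w, rfl⟩, h⟩
  set v := (x - 1) w with hv
  have hxv : x v = v := by
    rw [SetLike.mem_coe, LinearMap.mem_ker, LinearMap.sub_apply, Module.End.one_apply, sub_eq_zero] at h
    exact h
  have hw : ∀ i : ℕ, (x ^ i) w = w + (i : k) • v := fun i => by
    induction i with
    | zero => simp
    | succ i ih =>
      rw [pow_succ', Module.End.mul_apply, ih, map_add, map_smul, hxv,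
        show x w = w + v by rw [hv, LinearMap.sub_apply, Module.End.one_apply, add_sub_cancel]]
      push_cast; rw [add_smul, one_smul]; abel
  have h1 := hw q
  rw [hx, Module.End.one_apply, eq_comm, add_eq_left, smul_eq_zero] at h1
  exact h1.resolve_left hq

/-- The moved space is the sum of the nontrivial eigenspaces. -/
theorem range_eq {x : Module.End k V} (hx : x ^ q = 1) :
    LinearMap.range (x - 1) = ⨆ j ∈ (univ.erase (0 : ZMod q)), E ζ x j := by
  apply le_antisymm
  · rintro _ ⟨v, rfl⟩
    have h := mem_iSup_E hζ hq hx v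
    induction h using Submodule.iSup_induction' with
    | mem j w hw =>
      rw [mem_E] at hw
      by_cases hj : j = 0
      · subst hj
        rw [ZMod.val_zero, pow_zero, one_smul] at hw
        rw [LinearMap.sub_apply, Module.End.one_apply, hw, sub_self]
        exact zero_mem _
      · refine Submodule.mem_iSup_of_mem j (Submodule.mem_iSup_of_mem (mem_erase.2 ⟨hj, mem_univ _⟩) ?_)
        rw [LinearMap.sub_apply, Module.End.one_apply, hw]
        exact Submodule.sub_mem _ (Submodule.smul_mem _ _ ((mem_E ζ).2 hw)) ((mem_E ζ).2 hw)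
    | zero => rw [map_zero]; exact zero_mem _
    | add a b _ _ ha hb => rw [map_add]; exact add_mem ha hb
  · refine iSup₂_le fun j hj v hv => ?_
    rw [mem_E] at hv
    have hne : ζ ^ j.val - 1 ≠ 0 := sub_ne_zero.2 fun e => (mem_erase.1 hj).1
      (zpow_inj hζ (by rw [e, ZMod.val_zero, pow_zero]))
    refine ⟨(ζ ^ j.val - 1)⁻¹ • v, ?_⟩
    rw [map_smul, LinearMap.sub_apply, Module.End.one_apply, hv,
      show ζ ^ j.val • v - v = (ζ ^ j.val - 1) • v by rw [sub_smul, one_smul], smul_smul,
      inv_mul_cancel₀ hne, one_smul]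

omit hq in
/-- Joint eigenvectors with distinct labels are independent. -/
theorem linearIndependent_joint {ι : Type*} (x : ι → Module.End k V) {σ : Type*}
    (a : σ → ι → ZMod q) (ha : Function.Injective a) (v : σ → V) (hv : ∀ s, v s ≠ 0)
    (he : ∀ s i, v s ∈ E ζ (x i) (a s i)) : LinearIndependent k v := by
  classical
  rw [linearIndependent_iff']
  intro s
  induction s using Finset.induction_on with
  | empty => simp
  | @insert b s hb ih =>
    intro g hg
    have hs : ∀ c ∈ s, g c = 0 := by
      intro c hc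
      obtain ⟨i, hi⟩ : ∃ i, a c i ≠ a b i :=
        Function.ne_iff.1 fun e => hb (ha e ▸ hc)
      have h2 : ∑ d ∈ s, (g d * (ζ ^ (a d i).val - ζ ^ (a b i).val)) • v d = 0 := by
        have := congrArg (x i - ζ ^ (a b i).val • (1 : Module.End k V)) hg
        rw [map_sum, map_zero, Finset.sum_insert hb] at this
        have e : ∀ d, (x i - ζ ^ (a b i).val • (1 : Module.End k V)) (g d • v d) =
            (g d * (ζ ^ (a d i).val - ζ ^ (a b i).val)) • v d := fun d => by
          rw [map_smul, LinearMap.sub_apply, LinearMap.smul_apply, Module.End.one_apply,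
            (mem_E ζ).1 (he d i), ← sub_smul, smul_smul]
        simp only [e, sub_self, mul_zero, zero_smul, zero_add] at this
        exact this
      exact (mul_eq_zero.1 (ih _ h2 c hc)).resolve_right
        (sub_ne_zero.2 fun e => hi (zpow_inj hζ e))
    intro c hc
    rcases Finset.mem_insert.1 hc with rfl | hc'
    · rw [Finset.sum_insert hb, Finset.sum_eq_zero fun d hd => by rw [hs d hd, zero_smul], add_zero,
        smul_eq_zero] at hg
      exact hg.resolve_right (hv c)
    · exact hs c hc'

omit hq in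
/-- The labels of joint eigenvectors are at most the dimension in number. -/
theorem card_weights_le [FiniteDimensional k V] {ι : Type*} [Fintype ι] (x : ι → Module.End k V)
    (S : Finset (ι → ZMod q)) (hS : ∀ a ∈ S, ∃ v ≠ 0, ∀ i, v ∈ E ζ (x i) (a i)) :
    S.card ≤ Module.finrank k V := by
  choose v hv0 hv using fun a : S => hS a.1 a.2
  have := (linearIndependent_joint hζ x (fun a : S => a.1) Subtype.val_injective v hv0 hv).fintype_card_le_finrank
  simpa using this

omit hq in
/-- The sum of distinct eigenspaces is direct. -/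
theorem finrank_iSup_E [FiniteDimensional k V] (x : Module.End k V) (s : Finset (ZMod q)) :
    Module.finrank k ↥(⨆ j ∈ s, E ζ x j) = ∑ j ∈ s, Module.finrank k (E ζ x j) := by
  classical
  induction s using Finset.induction_on with
  | empty => simp
  | @insert b s hb ih =>
    rw [Finset.iSup_insert, Finset.sum_insert hb, ← ih]
    have hinj : Function.Injective (fun j : ZMod q => ζ ^ j.val) := fun i j h => zpow_inj hζ h
    have hd : Disjoint (E ζ x b) (⨆ j ∈ s, E ζ x j) := by
      have h := Module.End.eigenspaces_iSupIndep (f := x) (ζ ^ b.val)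
      have e : ∀ j : ZMod q, E ζ x j = x.eigenspace (ζ ^ j.val) := fun j => by
        ext w; rw [mem_E, Module.End.mem_eigenspace_iff]
      simp only [e]
      refine h.mono_right (iSup₂_le fun j hj => ?_)
      exact le_iSup₂_of_le (ζ ^ j.val) (hinj.ne fun e => hb (e ▸ hj)) le_rfl
    have h := Submodule.finrank_sup_add_finrank_inf_eq (E ζ x b) (⨆ j ∈ s, E ζ x j)
    rw [hd.eq_bot, finrank_bot, add_zero] at h
    exact h

end CfsgLib.Classical.AltSection.Eigen
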