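import Cfsg.Agent.Lib.Classical.AltSection.Cover
import Cfsg.Agent.Lib.Classical.AltSection.Eigen

/-!
Joint eigenspaces of the lifts of disjoint cycles of length three or five, and their orbits.
-/

set_option autoImplicit false
set_option linter.unusedSectionVars false

namespace CfsgLib.Classical.AltSection

open Equiv Finset

variable {r K q : ℕ} [NeZero q]

/-! ### Permutations of blocks -/

/-- The shift of one block. -/
def shiftP (q : ℕ) (i : Fin K) : Perm (Fin K × ZMod q) :=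
  prodCongrRight fun j => if j = i then Equiv.addRight (1 : ZMod q) else 1

theorem shiftP_pow_apply (i : Fin K) (n : ℕ) (j : Fin K) (u : ZMod q) :
    (shiftP q i ^ n) (j, u) = (j, if j = i then u + n else u) := by
  induction n with
  | zero => simp
  | succ n ih =>
    rw [pow_succ', Perm.mul_apply, ih]
    by_cases h : j = i
    · simp [shiftP, prodCongrRight, h, add_assoc]
    · simp [shiftP, prodCongrRight, h]

theorem shiftP_pow_card (i : Fin K) : shiftP q i ^ q = 1 := by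
  ext ⟨j, u⟩ : 1
  rw [shiftP_pow_apply]
  simp

theorem shiftP_commute (i j : Fin K) : Commute (shiftP q i) (shiftP q j) := by
  refine Equiv.ext fun ⟨l, u⟩ => ?_
  simp only [shiftP, Perm.mul_apply, prodCongrRight, Equiv.coe_fn_mk]
  by_cases h : l = i
  · subst h
    by_cases h' : l = j
    · subst h'; simp
    · simp [h', Perm.one_apply]
  · by_cases h' : l = j
    · subst h'; simp [h, Perm.one_apply]
    · simp [h, h', Perm.one_apply]

theorem sign_shiftP (hodd : Odd q) (i : Fin K) : Perm.sign (shiftP q i) = 1 := by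
  have h := congrArg Perm.sign (shiftP_pow_card (q := q) i)
  rwa [map_pow, map_one, Int.units_pow_eq_pow_mod_two, Nat.odd_iff.1 hodd, pow_one] at h

/-- The even permutation with the action of `e` on the blocks. -/
noncomputable def real (ι : Fin K × ZMod q ↪ Fin r) (e : Perm (Fin K × ZMod q))
    (h : Perm.sign e = 1) : alternatingGroup (Fin r) :=
  ⟨Perm.viaEmbedding e ι, by
    classical
    rw [Perm.mem_alternatingGroup, Perm.viaEmbedding, Perm.sign_extendDomain, h]⟩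

/-- A block cycle. -/
noncomputable def xB (hodd : Odd q) (ι : Fin K × ZMod q ↪ Fin r) (i : Fin K) :
    alternatingGroup (Fin r) :=
  real ι (shiftP q i) (sign_shiftP hodd i)

theorem xB_apply (hodd : Odd q) (ι : Fin K × ZMod q ↪ Fin r) (i : Fin K) (j : Fin K) (u : ZMod q) :
    (xB hodd ι i : Perm (Fin r)) (ι (j, u)) = ι (j, if j = i then u + 1 else u) := by
  show Perm.viaEmbedding _ ι (ι (j, u)) = _
  rw [Perm.viaEmbedding_apply, ← pow_one (shiftP q i), shiftP_pow_apply, Nat.cast_one]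

theorem xB_apply_notMem (hodd : Odd q) (ι : Fin K × ZMod q ↪ Fin r) (i : Fin K) {y : Fin r}
    (hy : y ∉ Set.range ι) : (xB hodd ι i : Perm (Fin r)) y = y :=
  Perm.viaEmbedding_apply_of_notMem _ _ _ hy

theorem xB_pow (hodd : Odd q) (ι : Fin K × ZMod q ↪ Fin r) (i : Fin K) (n : ℕ) :
    ((xB hodd ι i ^ n : alternatingGroup (Fin r)) : Perm (Fin r)) =
      Perm.viaEmbedding (shiftP q i ^ n) ι := by
  rw [Subgroup.coe_pow]
  exact (map_pow (Perm.viaEmbeddingHom ι) (shiftP q i) n).symm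

theorem xB_pow_card (hodd : Odd q) (ι : Fin K × ZMod q ↪ Fin r) (i : Fin K) :
    xB hodd ι i ^ q = 1 := by
  refine Subtype.ext ?_
  rw [xB_pow, shiftP_pow_card]
  exact map_one (Perm.viaEmbeddingHom ι)

theorem xB_commute (hodd : Odd q) (ι : Fin K × ZMod q ↪ Fin r) (i j : Fin K) :
    Commute (xB hodd ι i) (xB hodd ι j) := by
  refine Subtype.ext ?_
  exact ((shiftP_commute i j).map (Perm.viaEmbeddingHom ι)).eq

theorem xB_ne_one (hodd : Odd q) (hq : 1 < q) (ι : Fin K × ZMod q ↪ Fin r) (i : Fin K) :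
    xB hodd ι i ≠ 1 := by
  intro h
  have h1 := xB_apply hodd ι i i 0
  rw [h, if_pos rfl, zero_add] at h1
  haveI : Fact (1 < q) := ⟨hq⟩
  exact zero_ne_one (congrArg Prod.snd (ι.injective h1))

/-- An even permutation carrying one embedding to another. -/
theorem exists_conj {α : Type*} [Fintype α] [DecidableEq α] (f f' : α ↪ Fin r)
    (hroom : Fintype.card α + 2 ≤ r) :
    ∃ g : alternatingGroup (Fin r), ∀ a, (g : Perm (Fin r)) (f a) = f' a := by
  classical
  obtain ⟨g, hg⟩ : ∃ g : Perm (Fin r), ∀ a, g (f a) = f' a :=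
    ⟨((Equiv.ofInjective f f.injective).symm.trans (Equiv.ofInjective f' f'.injective)).extendSubtype, fun a => by
      rw [Equiv.extendSubtype_apply_of_mem _ _ ⟨a, rfl⟩]
      simp⟩
  rcases Int.units_eq_one_or (Perm.sign g) with hs | hs
  · exact ⟨⟨g, Perm.mem_alternatingGroup.2 hs⟩, hg⟩
  obtain ⟨u, hu, v, hv, huv⟩ : ∃ u ∈ (univ.map f')ᶜ, ∃ v ∈ (univ.map f')ᶜ, u ≠ v := by
    refine Finset.one_lt_card.1 ?_
    rw [card_compl, card_map, card_univ, Fintype.card_fin]
    omega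
  simp only [Finset.mem_compl, Finset.mem_map, Finset.mem_univ, true_and, not_exists] at hu hv
  refine ⟨⟨swap u v * g, ?_⟩, fun a => ?_⟩
  · rw [Perm.mem_alternatingGroup, map_mul, Perm.sign_swap huv, hs]; rfl
  · show (swap u v * g) (f a) = f' a
    rw [Perm.mul_apply, hg, swap_apply_of_ne_of_ne (hu a) (hv a)]

theorem exists_real (ι : Fin K × ZMod q ↪ Fin r) (e : Perm (Fin K × ZMod q))
    (h : Perm.sign e = 1 ∨ K * q + 2 ≤ r) :
    ∃ g : alternatingGroup (Fin r), ∀ z, (g : Perm (Fin r)) (ι z) = ι (e z) := by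
  rcases h with h | h
  · exact ⟨real ι e h, fun z => Perm.viaEmbedding_apply _ _ _⟩
  · exact exists_conj ι (e.toEmbedding.trans ι) (by simp; exact h)

theorem conj_viaEmbedding (ι : Fin K × ZMod q ↪ Fin r) (e f : Perm (Fin K × ZMod q))
    {g : Perm (Fin r)} (hg : ∀ z, g (ι z) = ι (e z)) :
    g * Perm.viaEmbedding f ι * g⁻¹ = Perm.viaEmbedding (e * f * e⁻¹) ι := by
  refine Equiv.ext fun y => ?_
  rw [Perm.mul_apply, Perm.mul_apply]
  by_cases hy : y ∈ Set.range ι
  · obtain ⟨z, rfl⟩ := hy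
    have h1 : g⁻¹ (ι z) = ι (e⁻¹ z) := by
      rw [Perm.inv_eq_iff_eq, hg]; simp
    rw [h1, Perm.viaEmbedding_apply, hg, Perm.viaEmbedding_apply]
    rfl
  · have h1 : g⁻¹ y ∉ Set.range ι := by
      rintro ⟨z, hz⟩
      exact hy ⟨e z, by rw [← hg, hz]; simp⟩
    rw [Perm.viaEmbedding_apply_of_notMem _ _ _ h1, Perm.viaEmbedding_apply_of_notMem _ _ _ hy]
    simp

/-- The block moves: permute by `σ`, multiply block `j` by `c j`. -/
def mv (σ : Perm (Fin K)) (c : Fin K → (ZMod q)ˣ) : Perm (Fin K × ZMod q) :=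
  (prodCongrLeft fun _ => σ) * prodCongrRight fun j => Units.mulLeft (c j)

theorem mv_apply (σ : Perm (Fin K)) (c : Fin K → (ZMod q)ˣ) (j : Fin K) (u : ZMod q) :
    mv σ c (j, u) = (σ j, c j * u) := rfl

theorem mv_conj_shift (σ : Perm (Fin K)) (c : Fin K → (ZMod q)ˣ) (i : Fin K) :
    mv σ c * shiftP q i * (mv σ c)⁻¹ = shiftP q (σ i) ^ (c i : ZMod q).val := by
  refine Equiv.ext fun z => ?_
  obtain ⟨⟨j, u⟩, rfl⟩ := (mv σ c).surjective z
  rw [Perm.mul_apply, Perm.inv_def, Equiv.symm_apply_apply, Perm.mul_apply,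
    ← pow_one (shiftP q i), shiftP_pow_apply, mv_apply, mv_apply, shiftP_pow_apply]
  by_cases h : j = i
  · subst h
    simp [mul_add]
  · simp [h]

theorem sign_mv (hodd : Odd q) (w : (ZMod q)ˣ) (hw : Perm.sign (Units.mulLeft w) = -1)
    (σ : Perm (Fin K)) (b : Fin K → ℕ) :
    Perm.sign (mv σ fun j => w ^ b j) = Perm.sign σ * (-1) ^ ∑ j, b j := by
  rw [mv, map_mul, Perm.sign_prodCongrLeft, Perm.sign_prodCongrRight, Finset.prod_const,
    Finset.card_univ, ZMod.card, Int.units_pow_eq_pow_mod_two, Nat.odd_iff.1 hodd, pow_one,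
    ← Finset.prod_pow_eq_pow_sum]
  congr 1
  refine Finset.prod_congr rfl fun j _ => ?_
  rw [← hw, ← map_pow]
  congr 1
  induction b j with
  | zero => ext x; simp
  | succ n ih =>
    rw [pow_succ, pow_succ _ n, ← ih]
    ext x; simp [mul_assoc]

/-! ### Weights -/

variable {k : Type*} [Field k] {V : Type*} [AddCommGroup V] [Module k V] [FiniteDimensional k V]
variable {Γ : Type*} [Group Γ] [Finite Γ]
variable {π : Γ →* alternatingGroup (Fin r)} {ρ : Γ →* Module.End k V}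
variable (C : Cov π ρ) (hodd : Odd q) (ι : Fin K × ZMod q ↪ Fin r)
variable {ζ : k} (hζ : IsPrimitiveRoot ζ q) (hqk : (q : k) ≠ 0)

/-- The operator of a block cycle. -/
noncomputable def X (π : Γ →* alternatingGroup (Fin r)) (ρ : Γ →* Module.End k V) (hodd : Odd q)
    (ι : Fin K × ZMod q ↪ Fin r) (i : Fin K) : Module.End k V :=
  ρ (lft π (xB hodd ι i))

include C in
theorem odd_order (i : Fin K) : Odd (orderOf (xB hodd ι i)) :=
  hodd.of_dvd_nat (orderOf_dvd_of_pow_eq_one (xB_pow_card hodd ι i))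

include C in
theorem lft_one : lft π (1 : alternatingGroup (Fin r)) = 1 := by
  have h := C.lft_eq (x := (1 : Γ)) odd_one (one_pow 1)
  rwa [map_one] at h

include C in
theorem X_pow (i : Fin K) : X π ρ hodd ι i ^ q = 1 := by
  rw [X, ← map_pow, ← C.lft_pow (odd_order C hodd ι i), xB_pow_card, lft_one C, map_one]

include C in
theorem X_commute (i j : Fin K) : Commute (X π ρ hodd ι i) (X π ρ hodd ι j) :=
  (C.lft_commute (odd_order C hodd ι i) (xB_commute hodd ι i j)).map ρ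

/-- The joint eigenspace. -/
noncomputable def J (π : Γ →* alternatingGroup (Fin r)) (ρ : Γ →* Module.End k V) (hodd : Odd q)
    (ι : Fin K × ZMod q ↪ Fin r) (ζ : k) (a : Fin K → ZMod q) : Submodule k V :=
  ⨅ i, Eigen.E ζ (X π ρ hodd ι i) (a i)

open scoped Classical in
/-- The weights. -/
noncomputable def Wt (π : Γ →* alternatingGroup (Fin r)) (ρ : Γ →* Module.End k V) (hodd : Odd q)
    (ι : Fin K × ZMod q ↪ Fin r) (ζ : k) : Finset (Fin K → ZMod q) :=
  univ.filter fun a => J π ρ hodd ι ζ a ≠ ⊥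

theorem mem_Wt {a : Fin K → ZMod q} :
    a ∈ Wt π ρ hodd ι ζ ↔ J π ρ hodd ι ζ a ≠ ⊥ := by simp [Wt]

include hζ in
theorem card_Wt_le : (Wt π ρ hodd ι ζ).card ≤ Module.finrank k V := by
  refine Eigen.card_weights_le hζ (X π ρ hodd ι) _ fun a ha => ?_
  obtain ⟨v, hv, hv0⟩ := Submodule.exists_mem_ne_zero_of_ne_bot ((mem_Wt hodd ι).1 ha)
  exact ⟨v, hv0, fun i => (Submodule.mem_iInf _).1 hv i⟩

include C hζ in
/-- An even block move maps joint eigenspaces to joint eigenspaces. -/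
theorem exists_move (w w' : (ZMod q)ˣ) (hww : w * w' = 1) (hw : Perm.sign (Units.mulLeft w) = -1)
    (σ : Perm (Fin K)) (b : Fin K → ℕ)
    (hpar : Perm.sign σ * (-1) ^ (∑ j, b j) = 1 ∨ K * q + 2 ≤ r) (a : Fin K → ZMod q) :
    ∃ γ : Γ, ∀ v ∈ J π ρ hodd ι ζ a, ρ γ v ∈ J π ρ hodd ι ζ
      (fun i => ((w' ^ b (σ.symm i) : (ZMod q)ˣ) : ZMod q) * a (σ.symm i)) := by
  obtain ⟨g, hg⟩ := exists_real ι (mv σ fun j => w ^ b j) (hpar.imp_left fun h => by rwa [sign_mv hodd w hw])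
  obtain ⟨γ, rfl⟩ := C.surj g
  refine ⟨γ, fun v hv => (Submodule.mem_iInf _).2 fun i => ?_⟩
  obtain ⟨j, rfl⟩ := σ.surjective i
  simp only [Equiv.symm_apply_apply]
  set c := ((w ^ b j : (ZMod q)ˣ) : ZMod q)
  have hconj : π γ * xB hodd ι j * (π γ)⁻¹ = xB hodd ι (σ j) ^ c.val := by
    refine Subtype.ext ?_
    rw [xB_pow, Subgroup.coe_mul, Subgroup.coe_mul, Subgroup.coe_inv]
    show _ * Perm.viaEmbedding _ ι * _ = _
    rw [conj_viaEmbedding ι _ _ hg, mv_conj_shift]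
  have h1 : γ * lft π (xB hodd ι j) * γ⁻¹ = lft π (xB hodd ι (σ j)) ^ c.val := by
    rw [C.lft_conj (odd_order C hodd ι j), hconj, C.lft_pow (odd_order C hodd ι (σ j))]
  have h2 : (X π ρ hodd ι (σ j) ^ c.val) (ρ γ v) = ζ ^ (a j).val • ρ γ v := by
    have hvj := (Eigen.mem_E ζ).1 ((Submodule.mem_iInf _).1 hv j)
    simp only [X] at hvj
    rw [X, ← map_pow, ← h1, rho_mul_apply, rho_mul_apply, rho_inv_apply, hvj, map_smul]
  set c' := ((w' ^ b j : (ZMod q)ˣ) : ZMod q)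
  have hcc : c * c' = 1 := by
    show ((w ^ b j : (ZMod q)ˣ) : ZMod q) * _ = 1
    rw [← Units.val_mul, ← mul_pow, hww, one_pow, Units.val_one]
  have h3 : ∀ n : ℕ, ((X π ρ hodd ι (σ j) ^ c.val) ^ n) (ρ γ v) =
      (ζ ^ (a j).val) ^ n • ρ γ v := fun n => by
    induction n with
    | zero => simp
    | succ n ih => rw [pow_succ', Module.End.mul_apply, ih, map_smul, h2, smul_smul, pow_succ]
  have key := h3 c'.val
  rw [← pow_mul, ← pow_mul, pow_eq_pow_mod _ (X_pow C hodd ι (σ j)), pow_eq_pow_mod ((a j).val * c'.val) hζ.pow_eq_one,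
    ← ZMod.val_mul, ← ZMod.val_mul, hcc] at key
  rw [Eigen.mem_E, mul_comm c']
  rcases Nat.lt_or_ge 1 q with h | h
  · rwa [ZMod.val_one'' (by omega), pow_one] at key
  · obtain rfl : q = 1 := le_antisymm h (Nat.pos_of_ne_zero (NeZero.ne q))
    have hX := X_pow C hodd ι (σ j)
    rw [pow_one] at hX
    have h0 : ζ = 1 := by simpa using hζ.pow_eq_one
    rw [hX, h0]; simp

include C hζ in
/-- An even block move carries weights to weights. -/
theorem Wt_move (w w' : (ZMod q)ˣ) (hww : w * w' = 1) (hw : Perm.sign (Units.mulLeft w) = -1)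
    (σ : Perm (Fin K)) (b : Fin K → ℕ)
    (hpar : Perm.sign σ * (-1) ^ (∑ j, b j) = 1 ∨ K * q + 2 ≤ r)
    {a : Fin K → ZMod q} (ha : a ∈ Wt π ρ hodd ι ζ) :
    (fun i => ((w' ^ b (σ.symm i) : (ZMod q)ˣ) : ZMod q) * a (σ.symm i)) ∈ Wt π ρ hodd ι ζ := by
  obtain ⟨γ, hγ⟩ := exists_move C hodd ι hζ w w' hww hw σ b hpar a
  rw [mem_Wt] at ha ⊢
  obtain ⟨v, hv, hv0⟩ := Submodule.exists_mem_ne_zero_of_ne_bot ha
  intro hbot
  refine hv0 (rho_injective (ρ := ρ) γ ?_)
  rw [map_zero]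
  exact (Submodule.eq_bot_iff _).1 hbot _ (hγ v hv)

include C hζ hqk in
/-- A weight in an invariant nonzero space. -/
theorem exists_weight [IsAlgClosed k] {U : Submodule k V} (hU : U ≠ ⊥)
    (hinv : ∀ i, ∀ u ∈ U, X π ρ hodd ι i u ∈ U) :
    ∃ a ∈ Wt π ρ hodd ι ζ, U ⊓ J π ρ hodd ι ζ a ≠ ⊥ := by
  have key : ∀ s : Finset (Fin K), ∃ (a : Fin K → ZMod q) (U' : Submodule k V), U' ≠ ⊥ ∧ U' ≤ U ∧
      (∀ i, ∀ u ∈ U', X π ρ hodd ι i u ∈ U') ∧ ∀ i ∈ s, U' ≤ Eigen.E ζ (X π ρ hodd ι i) (a i) := by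
    intro s
    induction s using Finset.induction_on with
    | empty => exact ⟨0, U, hU, le_rfl, hinv, fun i hi => absurd hi (Finset.notMem_empty i)⟩
    | @insert l s hl ih =>
      obtain ⟨a, U', hU', hle, hi', hs⟩ := ih
      obtain ⟨c, hc⟩ := Eigen.exists_mem_E hζ hqk (X_pow C hodd ι l) hU' (hi' l)
      refine ⟨Function.update a l c, _, hc, inf_le_left.trans hle, fun i u hu => ⟨hi' i u hu.1, ?_⟩,
        fun i hi => ?_⟩
      · have h2 := (Eigen.mem_E ζ).1 hu.2
        rw [SetLike.mem_coe, Eigen.mem_E, ← Module.End.mul_apply, (X_commute C hodd ι l i).eq,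
          Module.End.mul_apply, h2, map_smul]
      · rcases Finset.mem_insert.1 hi with rfl | hi
        · rw [Function.update_self]; exact inf_le_right
        · rw [Function.update_of_ne (show i ≠ l from fun e => hl (by rw [← e]; exact hi))]
          exact inf_le_left.trans (hs i hi)
  obtain ⟨a, U', hU', hle, -, hs⟩ := key univ
  have hJ : U' ≤ U ⊓ J π ρ hodd ι ζ a := le_inf hle (le_iInf fun i => hs i (mem_univ i))
  have hne : U ⊓ J π ρ hodd ι ζ a ≠ ⊥ := fun e => hU' (le_bot_iff.1 (e ▸ hJ))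
  exact ⟨a, (mem_Wt hodd ι).2 fun e => hne (le_bot_iff.1 (e ▸ inf_le_right)), hne⟩

include C hζ hqk in
/-- Weights from a nonzero product of displacements. -/
theorem exists_weight_two [IsAlgClosed k] {i j : Fin K}
    (h : (X π ρ hodd ι i - 1) * (X π ρ hodd ι j - 1) ≠ 0) :
    ∃ a ∈ Wt π ρ hodd ι ζ, a i ≠ 0 ∧ a j ≠ 0 := by
  set U := LinearMap.range ((X π ρ hodd ι i - 1) * (X π ρ hodd ι j - 1))
  have hc : Commute (X π ρ hodd ι i - 1) (X π ρ hodd ι j - 1) :=
    ((X_commute C hodd ι i j).sub_left (Commute.one_left _)).sub_right (Commute.one_right _)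
  obtain ⟨a, ha, hne⟩ := exists_weight C hodd ι hζ hqk (U := U)
    (fun e => h (LinearMap.range_eq_bot.1 e)) fun l u hu => by
    obtain ⟨v, rfl⟩ := hu
    refine ⟨X π ρ hodd ι l v, ?_⟩
    have hl : ∀ m, Commute (X π ρ hodd ι l) (X π ρ hodd ι m - 1) := fun m =>
      (X_commute C hodd ι l m).sub_right (Commute.one_right _)
    exact (LinearMap.congr_fun ((hl i).mul_right (hl j)).eq v).symm
  have hU : ∀ l, (l = i ∨ l = j) → a l ≠ 0 := by
    intro l hl h0
    obtain ⟨v, hv, hv0⟩ := Submodule.exists_mem_ne_zero_of_ne_bot hne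
    refine hv0 ((Submodule.eq_bot_iff _).1 (Eigen.disjoint_range_ker hζ hqk (X_pow C hodd ι l)) v
      ⟨?_, ?_⟩)
    · obtain ⟨w, rfl⟩ := hv.1
      rcases hl with rfl | rfl
      · exact ⟨_, rfl⟩
      · exact ⟨_, (LinearMap.congr_fun hc.eq w).symm⟩
    · rw [SetLike.mem_coe, ← Eigen.E_zero (q := q) ζ, ← h0]
      exact (Submodule.mem_iInf _).1 hv.2 l
  exact ⟨a, ha, hU i (Or.inl rfl), hU j (Or.inr rfl)⟩

include C hζ hqk in
/-- Weights from different moved spaces. -/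
theorem exists_weight_one [IsAlgClosed k] {i j : Fin K}
    (h : ¬ LinearMap.range (X π ρ hodd ι i - 1) ≤ LinearMap.range (X π ρ hodd ι j - 1)) :
    ∃ a ∈ Wt π ρ hodd ι ζ, a i ≠ 0 ∧ a j = 0 := by
  set R := LinearMap.range (X π ρ hodd ι i - 1)
  have hR : ∀ l, ∀ u ∈ R, X π ρ hodd ι l u ∈ R := by
    rintro l _ ⟨v, rfl⟩
    exact ⟨X π ρ hodd ι l v, (LinearMap.congr_fun
      ((X_commute C hodd ι l i).sub_right (Commute.one_right _)).eq v).symm⟩
  have hne0 : R ⊓ Eigen.E ζ (X π ρ hodd ι j) (0 : ZMod q) ≠ ⊥ := by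
    intro hbot
    apply h
    let f : R →ₗ[k] R := (X π ρ hodd ι j - 1).restrict fun u hu => R.sub_mem (hR j u hu) hu
    have hf : Function.Injective f := (injective_iff_map_eq_zero f).2 fun u hu =>
      Subtype.ext ((Submodule.eq_bot_iff _).1 hbot u ⟨u.2, by
        rw [SetLike.mem_coe, Eigen.E_zero, LinearMap.mem_ker]; exact congrArg Subtype.val hu⟩)
    intro v hv
    obtain ⟨u, hu⟩ := LinearMap.injective_iff_surjective.1 hf ⟨v, hv⟩
    exact ⟨u, congrArg Subtype.val hu⟩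
  obtain ⟨a, ha, hne⟩ := exists_weight C hodd ι hζ hqk hne0 fun l u hu => ⟨hR l u hu.1, by
    have h2 := (Eigen.mem_E ζ).1 hu.2
    rw [SetLike.mem_coe, Eigen.mem_E, ← Module.End.mul_apply, (X_commute C hodd ι j l).eq,
      Module.End.mul_apply, h2, map_smul]⟩
  obtain ⟨v, hv, hv0⟩ := Submodule.exists_mem_ne_zero_of_ne_bot hne
  have hv2 := (Submodule.mem_iInf _).1 hv.2
  refine ⟨a, ha, fun h0 => hv0 ((Submodule.eq_bot_iff _).1
    (Eigen.disjoint_range_ker hζ hqk (X_pow C hodd ι i)) v ⟨hv.1.1, ?_⟩), ?_⟩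
  · rw [SetLike.mem_coe, ← Eigen.E_zero (q := q) ζ, ← h0]; exact hv2 i
  · have e1 := (Eigen.mem_E ζ).1 (hv2 j)
    have e2 := (Eigen.mem_E ζ).1 hv.1.2
    exact Eigen.zpow_inj hζ (smul_left_injective k hv0 (e1.symm.trans e2))

end CfsgLib.Classical.AltSection
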