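import Cfsg.Agent.Lib.Classical.AltSection.Lines

/-!
No perfect central extension of `A_r` has an irreducible representation of small degree.
-/

set_option autoImplicit false
set_option linter.unusedSectionVars false

namespace CfsgLib.Classical.AltSection

open Equiv Finset Module

variable {r : ℕ}
variable {k : Type*} [Field k] {V : Type*} [AddCommGroup V] [Module k V]
variable {Γ : Type*} [Group Γ] [Finite Γ]
variable {π : Γ →* alternatingGroup (Fin r)} {ρ : Γ →* Module.End k V}
variable [FiniteDimensional k V] [IsAlgClosed k] [Nontrivial V]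

/-- The spaces are spanned by the lines through one point. -/
theorem P_le_of_lines (C : Cov π ρ) (hs : Small k V r) {o : Fin r} {T : Finset (Fin r)}
    {U : Submodule k V} (hU : ∀ b ∈ T, b ≠ o → line π ρ o b ≤ U) : P π ρ T ≤ U := by
  have hpair : ∀ b ∈ T, ∀ c ∈ T, b ≠ c → line π ρ b c ≤ U := by
    intro b hb c hc hbc
    by_cases hbo : b = o
    · subst hbo; exact hU c hc hbc.symm
    by_cases hco : c = o
    · subst hco; rw [line_symm C hs hbc]; exact hU b hb hbc
    have h := line_le C hs hbc hbo hco
    rw [show ({b, c, o} : Finset (Fin r)) = {o, b, c} by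
        rw [Finset.pair_comm c o, Finset.insert_comm],
      P3_eq C hs (Ne.symm hbo) hbc (Ne.symm hco)] at h
    exact h.trans (sup_le (hU b hb hbo) (hU c hc hco))
  refine P_le fun a ha b hb c hc h1 h2 h3 => ?_
  refine (moved_le_P (π := π) (ρ := ρ) (S := {a, b, c}) (by simp) (by simp) (by simp) h1 h2 h3).trans ?_
  rw [P3_eq C hs h1 h2 h3]
  exact sup_le (hpair a ha b hb h1) (hpair a ha c hc h3)

/-- The central case. -/
theorem central_false (C : Cov π ρ) (hs : Small k V r) : False := by
  classical
  obtain ⟨hn, hr0, -⟩ := tight C hs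
  have hr := C.hr
  set o : Fin r := ⟨0, by omega⟩
  set t : Fin r := ⟨1, by omega⟩
  have hot : o ≠ t := Fin.ne_of_val_ne (by simp [o, t])
  obtain ⟨w, hwl, hw0⟩ := Submodule.exists_mem_ne_zero_of_ne_bot
    (show line π ρ o t ≠ ⊥ from fun e => by
      have := finrank_line C hs hot
      rw [e, finrank_bot] at this
      omega)
  set G := C.gs ({o, t} : Finset (Fin r))ᶜ
  have hGfix : ∀ γ ∈ G, ρ γ w = w := by
    intro γ hγ
    simp only [G, Cov.gs] at hγ
    induction hγ using Subgroup.closure_induction with
    | mem x hx =>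
      obtain ⟨i, hi, j, hj, l, hl, h1, h2, h3, rfl⟩ := hx
      simp only [mem_compl, mem_insert, mem_singleton, not_or] at hi hj hl
      obtain ⟨c, -, hc, -, -⟩ := exists_two_outside C (S := {o, t, i, j, l}) (by
        have : ({o, t, i, j, l} : Finset (Fin r)).card ≤ 5 := Finset.card_le_five
        omega)
      simp only [mem_insert, mem_singleton, not_or] at hc
      obtain ⟨c1, c2, c3', c4, c5⟩ := hc
      exact fix_P C hs (S := {i, j, l}) (T := {o, t, c}) (by
        simp only [disjoint_insert_left, disjoint_singleton_left, mem_insert, mem_singleton, not_or]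
        exact ⟨⟨hi.1, hi.2, Ne.symm c3'⟩, ⟨hj.1, hj.2, Ne.symm c4⟩, hl.1, hl.2, Ne.symm c5⟩)
        (Subgroup.subset_closure ⟨i, by simp, j, by simp, l, by simp, h1, h2, h3, rfl⟩)
        w (line_le C hs hot (Ne.symm c1) (Ne.symm c2) hwl)
    | one => simp
    | mul x y _ _ hx hy => rw [rho_mul_apply, hy, hx]
    | inv x _ hx =>
      nth_rw 1 [← hx]
      exact rho_inv_apply x w
  -- the components
  have hdec : ∀ i, i ≠ o → ∃ x ∈ line π ρ o i, if i = t then x = w else w - x ∈ line π ρ t i := by
    intro i hio
    by_cases hit : i = t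
    · subst hit
      exact ⟨w, hwl, by rw [if_pos rfl]⟩
    have h := line_le C hs hot (Ne.symm hio) (Ne.symm hit) hwl
    rw [show ({o, t, i} : Finset (Fin r)) = {i, o, t} by rw [Finset.pair_comm t i, Finset.insert_comm],
      P3_eq C hs hio hot hit, Submodule.mem_sup] at h
    obtain ⟨y, hy, z, hz, e⟩ := h
    refine ⟨y, line_symm C hs hio ▸ hy, ?_⟩
    rw [if_neg hit, ← e, add_sub_cancel_left]
    exact line_symm C hs hit ▸ hz
  choose! vv hvl hvv using hdec
  have hvt : vv t = w := by
    have := hvv t hot.symm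
    rwa [if_pos rfl] at this
  have hvu : ∀ i, i ≠ o → i ≠ t → w - vv i ∈ line π ρ t i := fun i h1 h2 => by
    have := hvv i h1
    rwa [if_neg h2] at this
  have hv0 : ∀ i, i ≠ o → vv i ≠ 0 := by
    intro i hio e
    by_cases hit : i = t
    · subst hit; exact hw0 (hvt ▸ e)
    have := hvu i hio hit
    rw [e, sub_zero] at this
    exact hw0 (eq_zero_of_mem_lines C hs hot.symm (Ne.symm hio) (Ne.symm hit) (line_symm C hs hot ▸ hwl) this)
  -- equivariance
  have heqv : ∀ γ ∈ G, ∀ i, i ≠ o → ρ γ (vv i) = vv (pm π γ i) := by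
    intro γ hγ i hio
    have hfix : ∀ z, z = o ∨ z = t → pm π γ z = z := fun z hz =>
      C.gs_in hγ z (by rcases hz with rfl | rfl <;> simp)
    have hgo : pm π γ i ≠ o := fun e => hio ((pm π γ).injective (e.trans (hfix o (Or.inl rfl)).symm))
    by_cases hit : i = t
    · subst hit
      rw [hfix t (Or.inr rfl), hvt, hGfix γ hγ]
    have hgt : pm π γ i ≠ t := fun e => hit ((pm π γ).injective (e.trans (hfix t (Or.inr rfl)).symm))
    have h1 : ρ γ (vv i) ∈ line π ρ o (pm π γ i) := by
      have := mem_line_map C hs γ (Ne.symm hio) (hvl i hio)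
      rwa [hfix o (Or.inl rfl)] at this
    have h2 : w - ρ γ (vv i) ∈ line π ρ t (pm π γ i) := by
      have := mem_line_map C hs γ (Ne.symm hit) (hvu i hio hit)
      rwa [hfix t (Or.inr rfl), map_sub, hGfix γ hγ] at this
    refine sub_eq_zero.1 (eq_zero_of_mem_lines C hs (a := pm π γ i) (b := o) (c := t) hgo hot hgt
      (line_symm C hs hgo.symm ▸ Submodule.sub_mem _ h1 (hvl _ hgo)) ?_)
    rw [line_symm C hs hgt, show ρ γ (vv i) - vv (pm π γ i) = (w - vv (pm π γ i)) - (w - ρ γ (vv i)) by abel]
    exact Submodule.sub_mem _ (hvu _ hgo hgt) h2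
  -- independence
  have hind : ∀ I : Finset (Fin r), o ∉ I → I.card + 3 ≤ r → ∀ g : Fin r → k,
      ∑ i ∈ I, g i • vv i = 0 → ∀ i ∈ I, g i = 0 := by
    intro I hoI hI g hg
    obtain ⟨J, hIJ, hJsub, hJ⟩ := exists_subsuperset_card_eq (s := I) (t := (univ : Finset (Fin r)).erase o)
      (fun i hi => mem_erase.2 ⟨fun e => hoI (e ▸ hi), mem_univ i⟩) (n := r - 3) (by omega) (by
        rw [card_erase_of_mem (mem_univ o), card_univ, Fintype.card_fin]; omega)
    have hoJ : o ∉ J := fun e => (mem_erase.1 (hJsub e)).1 rfl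
    let f : J → V := fun i => vv i.1
    have hle : P π ρ (insert o J) ≤ Submodule.span k (Set.range f) := by
      refine P_le_of_lines C hs (o := o) fun b hb hbo => ?_
      rw [line_eq_span C hs (Ne.symm hbo) (hv0 b hbo) (hvl b hbo), Submodule.span_singleton_le_iff_mem]
      exact Submodule.subset_span ⟨⟨b, (mem_insert.1 hb).resolve_left hbo⟩, rfl⟩
    have hdim := le_finrank_P C hs (S := insert o J) (by rw [card_insert_of_notMem hoJ]; omega)
      (by rw [card_insert_of_notMem hoJ]; omega)
    rw [card_insert_of_notMem hoJ] at hdim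
    have hli : LinearIndependent k f := by
      rw [linearIndependent_iff_card_le_finrank_span, Fintype.card_coe]
      have := Submodule.finrank_mono hle
      show J.card ≤ Module.finrank k (Submodule.span k (Set.range f))
      omega
    intro i hi
    have := Fintype.linearIndependent_iff.1 hli (fun j => if j.1 ∈ I then g j.1 else 0) (by
      show ∑ j : J, (if j.1 ∈ I then g j.1 else 0) • vv j.1 = 0
      rw [Finset.sum_coe_sort J fun j => (if j ∈ I then g j else 0) • vv j,
        ← Finset.sum_subset hIJ (fun j _ hj => by rw [if_neg hj, zero_smul]), ← hg]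
      exact Finset.sum_congr rfl fun j hj => by rw [if_pos hj]) ⟨i, hIJ hi⟩
    simpa [hi] using this
  -- a relation
  set E : Finset (Fin r) := univ.erase o
  have hE : ∀ {i}, i ∈ E ↔ i ≠ o := fun {i} => by simp [E]
  obtain ⟨g, hg, i₀, hi₀E, hi₀⟩ : ∃ g : Fin r → k, ∑ i ∈ E, g i • vv i = 0 ∧ ∃ i ∈ E, g i ≠ 0 := by
    have hli : ¬ LinearIndependent k (fun i : E => vv i.1) := fun h => by
      have := h.fintype_card_le_finrank
      rw [Fintype.card_coe, card_erase_of_mem (mem_univ o), card_univ, Fintype.card_fin] at this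
      omega
    obtain ⟨g, hg, i, hi⟩ := Fintype.not_linearIndependent_iff.1 hli
    refine ⟨fun i => if h : i ∈ E then g ⟨i, h⟩ else 0, ?_, i.1, i.2, ?_⟩
    · rw [← Finset.sum_coe_sort, ← hg]
      exact Finset.sum_congr rfl fun j _ => by simp [j.2]
    · simpa [i.2] using hi
  have hconst : ∀ i j, i ≠ o → i ≠ t → j ≠ o → j ≠ t → g i = g j := by
    intro i j hio hit hjo hjt
    by_cases hij : i = j
    · rw [hij]
    obtain ⟨l, -, hl, -, -⟩ := exists_two_outside C (S := {o, t, i, j}) (by
      have : ({o, t, i, j} : Finset (Fin r)).card ≤ 4 := Finset.card_le_four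
      omega)
    simp only [mem_insert, mem_singleton, not_or] at hl
    obtain ⟨l1, l2, l3, l4⟩ := hl
    set γ := lft π (c3 i j l)
    have hγ : γ ∈ G := Subgroup.subset_closure ⟨i, by simp [hio, hit], j, by simp [hjo, hjt], l,
      by simp [l1, l2], hij, Ne.symm l4, Ne.symm l3, rfl⟩
    set σ : Perm (Fin r) := pm π γ
    have hσ : σ = (c3 i j l : Perm (Fin r)) := by simp only [σ, pm, γ, C.map_lft]
    have hσo : σ o = o := by rw [hσ]; exact c3_apply_other hio.symm hjo.symm (Ne.symm l1)
    have himg : ∑ x ∈ E, g (σ.symm x) • vv x = 0 := by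
      have h := congrArg (ρ γ) hg
      rw [map_zero, map_sum] at h
      rw [← h]
      refine Finset.sum_equiv σ.symm (fun x => ?_) fun x hx => ?_
      · rw [hE, hE]
        constructor
        · intro hx e; exact hx (by rw [← σ.apply_symm_apply x, e, hσo])
        · intro hx e; exact hx (by rw [e]; exact σ.injective (by rw [σ.apply_symm_apply, hσo]))
      · have hxo : σ.symm x ≠ o := fun e => hE.1 hx (by rw [← σ.apply_symm_apply x, e, hσo])
        rw [map_smul, heqv γ hγ _ hxo]
        show _ = g _ • vv (σ (σ.symm x))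
        rw [σ.apply_symm_apply]
    have h0 : ∑ x ∈ ({i, j, l} : Finset (Fin r)), (g (σ.symm x) - g x) • vv x = 0 := by
      rw [Finset.sum_subset (show ({i, j, l} : Finset (Fin r)) ⊆ E by simp [insert_subset_iff, E, hio, hjo, l1])]
      · simp only [sub_smul, Finset.sum_sub_distrib, himg, hg, sub_zero]
      · intro x _ hx
        simp only [mem_insert, mem_singleton, not_or] at hx
        have : σ.symm x = x := σ.symm_apply_eq.2 (by
          rw [hσ]; exact (c3_apply_other hx.1 hx.2.1 hx.2.2).symm)
        rw [this, sub_self, zero_smul]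
    have h := hind {i, j, l} (by simp [Ne.symm hio, Ne.symm hjo, Ne.symm l1])
      (by have : ({i, j, l} : Finset (Fin r)).card ≤ 3 := Finset.card_le_three; omega) _ h0 j (by simp)
    have hj : σ.symm j = i := σ.symm_apply_eq.2 (by
      rw [hσ]; exact (c3_apply_left hij (Ne.symm l4) (Ne.symm l3)).symm)
    rw [hj] at h
    exact sub_eq_zero.1 h
  -- three points
  obtain ⟨s, -, hs2, -, -⟩ := exists_two_outside C (S := {o, t}) (by
    have : ({o, t} : Finset (Fin r)).card ≤ 2 := Finset.card_le_two
    omega)
  simp only [mem_insert, mem_singleton, not_or] at hs2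
  obtain ⟨hso, hst⟩ := hs2
  have hts : t ≠ s := Ne.symm hst
  have hos : o ≠ s := Ne.symm hso
  have hw_s : ∀ p q : k, p • w + q • vv s = 0 → p = 0 ∧ q = 0 := by
    intro p q e
    have h := hind {t, s} (by simp [hot, hos]) (by
      have : ({t, s} : Finset (Fin r)).card ≤ 2 := Finset.card_le_two
      omega) (fun i => if i = t then p else q)
      (by rw [Finset.sum_pair hts, if_pos rfl, if_neg hst, hvt]; exact e)
    exact ⟨by simpa using h t (by simp), by simpa [hst] using h s (by simp)⟩
  set γ := lft π (c3 o t s)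
  set x := ρ γ with hx
  have hp : pm π γ = (c3 o t s : Perm (Fin r)) := by simp only [pm, γ, C.map_lft]
  have po : pm π γ o = t := by rw [hp]; exact c3_apply_left hot hts hos
  have pt : pm π γ t = s := by rw [hp]; exact c3_apply_mid hot hts hos
  have ps : pm π γ s = o := by rw [hp]; exact c3_apply_right hot hts hos
  have pi : ∀ i, i ≠ o → i ≠ t → i ≠ s → pm π γ i = i := fun i h1 h2 h3 => by
    rw [hp]; exact c3_apply_other h1 h2 h3
  set u := w - vv s with hu
  have hul : u ∈ line π ρ t s := hvu s hso hst
  have hu0 : u ≠ 0 := fun e => by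
    have := (hw_s 1 (-1) (by rw [one_smul, neg_one_smul, ← sub_eq_add_neg]; exact e)).1
    exact one_ne_zero this
  obtain ⟨a, ha⟩ : ∃ a : k, a • u = x w := by
    have := mem_line_map C hs γ hot hwl
    rw [po, pt, line_eq_span C hs hts hu0 hul] at this
    exact Submodule.mem_span_singleton.1 this
  obtain ⟨b, hb⟩ : ∃ b : k, b • vv s = x u := by
    have := mem_line_map C hs γ hts hul
    rw [pt, ps, line_symm C hs hso, line_eq_span C hs hos (hv0 s hso) (hvl s hso)] at this
    exact Submodule.mem_span_singleton.1 this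
  obtain ⟨c', hc'⟩ : ∃ c' : k, c' • w = x (vv s) := by
    have := mem_line_map C hs γ hos (hvl s hso)
    rw [po, ps, line_symm C hs hot.symm, line_eq_span C hs hot hw0 hwl] at this
    exact Submodule.mem_span_singleton.1 this
  obtain ⟨hca, hba⟩ : c' = a ∧ b = -a := by
    have e : x w = x (vv s) + x u := by rw [← map_add, hu, add_sub_cancel]
    rw [← ha, ← hb, ← hc', hu, smul_sub] at e
    have := hw_s (c' - a) (b + a) (by linear_combination (norm := module) -e)
    exact ⟨sub_eq_zero.1 this.1, eq_neg_of_add_eq_zero_left this.2⟩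
  have hcube : (-a) ^ 3 = 1 := by
    have h3 : x (x (x w)) = w := by
      have := LinearMap.congr_fun (Y_pow C (ρ := ρ) hot hts hos) w
      simpa [Y, pow_succ] using this
    rw [← ha, map_smul, ← hb, smul_smul, map_smul, ← hc', smul_smul, hca, hba] at h3
    refine smul_left_injective k hw0 (?_ : (-a) ^ 3 • w = (1 : k) • w)
    rw [one_smul, show (-a) ^ 3 = a * -a * a by ring]
    exact h3
  have ha1 : a = -1 := by
    suffices (-a : k) = 1 by linear_combination -this
    by_cases h3 : (3 : k) = 0
    · exact sub_eq_zero.1 (pow_eq_zero_iff (n := 3) (by norm_num) |>.1 (by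
        linear_combination hcube + (-a - (-a) ^ 2) * h3))
    by_contra hne
    have hroot : (-a) * (-a) + (-a) + 1 = 0 :=
      (mul_eq_zero.1 (show ((-a) - 1) * ((-a) * (-a) + (-a) + 1) = 0 by linear_combination hcube)).resolve_left
        (sub_ne_zero.2 hne)
    set v := w + (-a) • vv s
    have hxv : x v = v := by
      simp only [v, map_add, map_smul, ← ha, ← hc', hca, hu, smul_sub, smul_smul]
      match_scalars
      · linear_combination -hroot
      · ring
    have hmem : v ∈ moved ρ γ := by
      have hP : moved ρ γ = P π ρ {o, t, s} :=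
        Submodule.eq_of_le_of_finrank_le (moved_le_P (by simp) (by simp) (by simp) hot hts hos)
          (by rw [finrank_P3 C hs hot hts hos]; exact two_le_moved C hs hot hts hos)
      rw [hP, P3_eq C hs hot hts hos]
      exact Submodule.add_mem_sup hwl (Submodule.smul_mem _ _ (hvl s hso))
    have h3k : ((3 : ℕ) : k) ≠ 0 := by exact_mod_cast h3
    haveI : NeZero ((3 : ℕ) : k) := ⟨h3k⟩
    obtain ⟨ζ, hζ⟩ := Eigen.exists_primitive (k := k) 3
    have hv0' : v = 0 := (Submodule.eq_bot_iff _).1
      (Eigen.disjoint_range_ker hζ h3k (Y_pow C (ρ := ρ) hot hts hos)) v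
      (Submodule.mem_inf.2 ⟨hmem, mem_fixd.2 hxv⟩)
    exact one_ne_zero (hw_s 1 (-a) (by rw [one_smul]; exact hv0')).1
  subst hca
  have hxw : x w = vv s - w := by rw [← ha, ha1, neg_one_smul, hu, neg_sub]
  have hxs : x (vv s) = -w := by rw [← hc', ha1, neg_one_smul]
  have hxi : ∀ i, i ≠ o → i ≠ t → i ≠ s → x (vv i) = vv i - w := by
    intro i hio hit his
    have hoi := Ne.symm hio
    have hti := Ne.symm hit
    have hsi := Ne.symm his
    set d := vv i - vv s
    have hd1 : d ∈ P π ρ {o, s, i} := by
      rw [P3_eq C hs hos hsi hoi]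
      exact Submodule.sub_mem _ (Submodule.mem_sup_right (hvl i hio)) (Submodule.mem_sup_left (hvl s hso))
    have hd2 : d ∈ P π ρ {t, s, i} := by
      rw [P3_eq C hs hts hsi hti, show d = u - (w - vv i) by simp only [d, hu]; abel]
      exact Submodule.sub_mem _ (Submodule.mem_sup_left hul) (Submodule.mem_sup_right (hvu i hio hit))
    have hne : P π ρ {o, s, i} ≠ P π ρ {t, s, i} := by
      intro e
      have hwm : w ∈ P π ρ {o, s, i} := by
        have h1 : vv s ∈ P π ρ {o, s, i} := by
          rw [P3_eq C hs hos hsi hoi]; exact Submodule.mem_sup_left (hvl s hso)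
        have h2 : u ∈ P π ρ {o, s, i} := by
          rw [e, P3_eq C hs hts hsi hti]; exact Submodule.mem_sup_left hul
        have := add_mem h1 h2
        rwa [hu, add_sub_cancel] at this
      rw [P3_eq C hs hos hsi hoi, line_eq_span C hs hos (hv0 s hso) (hvl s hso),
        line_eq_span C hs hoi (hv0 i hio) (hvl i hio), Submodule.mem_sup] at hwm
      obtain ⟨y, hy, z, hz, e'⟩ := hwm
      obtain ⟨p, rfl⟩ := Submodule.mem_span_singleton.1 hy
      obtain ⟨q, rfl⟩ := Submodule.mem_span_singleton.1 hz
      have h := hind {t, s, i} (by simp [hot, hos, hoi]) (by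
        have : ({t, s, i} : Finset (Fin r)).card ≤ 3 := Finset.card_le_three
        omega) (fun j => if j = t then -1 else if j = s then p else q) (by
        rw [Finset.sum_insert (by simp [hts, hti]), Finset.sum_pair hsi, if_pos rfl, if_neg hst,
          if_neg hit, if_pos rfl, if_neg his, hvt, ← e']
        module) t (by simp)
      simp at h
    have hdl : d ∈ line π ρ s i := by
      have hle : line π ρ s i ≤ P π ρ {o, s, i} ⊓ P π ρ {t, s, i} := by
        refine le_inf ?_ ?_
        · have := line_le C hs hsi hso hio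
          rwa [show ({s, i, o} : Finset (Fin r)) = {o, s, i} by rw [Finset.pair_comm i o, Finset.insert_comm]] at this
        · have := line_le C hs hsi hst hit
          rwa [show ({s, i, t} : Finset (Fin r)) = {t, s, i} by rw [Finset.pair_comm i t, Finset.insert_comm]] at this
      have hlt : P π ρ {o, s, i} ⊓ P π ρ {t, s, i} < P π ρ {o, s, i} := by
        refine lt_of_le_of_ne inf_le_left fun e => hne ?_
        exact Submodule.eq_of_le_of_finrank_le (inf_eq_left.1 e)
          (by rw [finrank_P3 C hs hts hsi hti, finrank_P3 C hs hos hsi hoi])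
      have h2 := Submodule.finrank_lt_finrank_of_lt hlt
      rw [finrank_P3 C hs hos hsi hoi] at h2
      rw [Submodule.eq_of_le_of_finrank_le hle (by rw [finrank_line C hs hsi]; omega)]
      exact Submodule.mem_inf.2 ⟨hd1, hd2⟩
    have h1 : x d ∈ line π ρ o i := by
      have := mem_line_map C hs γ hsi hdl
      rwa [ps, pi i hio hit his] at this
    have h2 : x (vv i) ∈ line π ρ t i := by
      have := mem_line_map C hs γ hoi (hvl i hio)
      rwa [po, pi i hio hit his] at this
    have hxd : x d = x (vv i) + w := by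
      simp only [d, map_sub, hxs, sub_neg_eq_add]
    have h0 : x (vv i) + w - vv i = 0 := by
      refine eq_zero_of_mem_lines C hs (a := i) (b := o) (c := t) hio hot hit ?_ ?_
      · rw [line_symm C hs hio, ← hxd]; exact Submodule.sub_mem _ h1 (hvl i hio)
      · rw [line_symm C hs hit, show x (vv i) + w - vv i = x (vv i) + (w - vv i) by abel]
        exact add_mem h2 (hvu i hio hit)
    rw [← sub_eq_zero, ← h0]; abel
  -- conclusion
  set R := E.erase t
  have htE : t ∈ E := hE.2 hot.symm
  have hsR : s ∈ R := mem_erase.2 ⟨hst, hE.2 hso⟩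
  set c := g s
  have hRc : ∀ i ∈ R, g i = c := fun i hi =>
    hconst i s (hE.1 (mem_of_mem_erase hi)) (mem_erase.1 hi).1 hso hst
  set S := ∑ i ∈ R, vv i with hS
  have hrel : g t • w + c • S = 0 := by
    rw [hS, Finset.smul_sum, ← hvt, ← hg, ← Finset.add_sum_erase E _ htE]
    exact congrArg _ (Finset.sum_congr rfl fun i hi => by rw [hRc i hi])
  have hcard : (R.erase s).card + 3 = r := by
    simp only [R, E]
    rw [card_erase_of_mem hsR, card_erase_of_mem htE, card_erase_of_mem (mem_univ o), card_univ,
      Fintype.card_fin]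
    omega
  have hxS : x S = S - vv s - ((r : k) - 2) • w := by
    rw [hS, map_sum, ← Finset.add_sum_erase R _ hsR, ← Finset.add_sum_erase R vv hsR,
      Finset.sum_congr rfl fun i hi => hxi i (hE.1 (mem_of_mem_erase (mem_of_mem_erase hi)))
        (mem_erase.1 (mem_of_mem_erase hi)).1 (mem_erase.1 hi).1,
      Finset.sum_sub_distrib, Finset.sum_const, hxs]
    have hc : ((R.erase s).card : k) + 3 = (r : k) := by exact_mod_cast congrArg (Nat.cast (R := k)) hcard
    rw [← Nat.cast_smul_eq_nsmul k, show ((R.erase s).card : k) = (r : k) - 3 by linear_combination hc]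
    module
  have himg := congrArg x hrel
  rw [map_add, map_smul, map_smul, map_zero, hxw, hxS] at himg
  obtain ⟨h1, h2⟩ := hw_s (-(2 * g t) - c * ((r : k) - 2)) (g t - c)
    (by linear_combination (norm := module) himg - hrel)
  have hct : g t = c := sub_eq_zero.1 h2
  have hc0 : c = 0 := by
    have : c * (r : k) = 0 := by linear_combination -h1 - 2 * hct
    exact (mul_eq_zero.1 this).resolve_right hr0
  refine hi₀ ?_
  by_cases hit : i₀ = t
  · rw [hit, hct, hc0]
  · rw [hconst i₀ s (hE.1 hi₀E) hit hso hst]; exact hc0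

end CfsgLib.Classical.AltSection
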