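import Cfsg.Agent.Lib.Classical.AltSection.Base

/-!
The spaces moved by the alternating groups on subsets, and the chain of their dimensions.
-/

set_option autoImplicit false
set_option linter.unusedSectionVars false

namespace CfsgLib.Classical.AltSection

open Equiv Finset Module

variable {r : ℕ}
variable {k : Type*} [Field k] {V : Type*} [AddCommGroup V] [Module k V]
variable {Γ : Type*} [Group Γ] [Finite Γ]
variable {π : Γ →* alternatingGroup (Fin r)} {ρ : Γ →* Module.End k V}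
variable [FiniteDimensional k V] [IsAlgClosed k] [Nontrivial V]

/-- The space moved by the even permutations of `S`. -/
noncomputable def P (π : Γ →* alternatingGroup (Fin r)) (ρ : Γ →* Module.End k V)
    (S : Finset (Fin r)) : Submodule k V :=
  ⨆ a ∈ S, ⨆ b ∈ S, ⨆ c ∈ S, ⨆ (_ : a ≠ b), ⨆ (_ : b ≠ c), ⨆ (_ : a ≠ c), moved ρ (lft π (c3 a b c))

theorem moved_le_P {S : Finset (Fin r)} {a b c : Fin r} (ha : a ∈ S) (hb : b ∈ S) (hc : c ∈ S)
    (hab : a ≠ b) (hbc : b ≠ c) (hac : a ≠ c) : moved ρ (lft π (c3 a b c)) ≤ P π ρ S :=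
  le_iSup₂_of_le a ha (le_iSup₂_of_le b hb (le_iSup₂_of_le c hc
    (le_iSup_of_le hab (le_iSup_of_le hbc (le_iSup_of_le hac le_rfl)))))

theorem P_le {S : Finset (Fin r)} {U : Submodule k V}
    (h : ∀ a ∈ S, ∀ b ∈ S, ∀ c ∈ S, a ≠ b → b ≠ c → a ≠ c → moved ρ (lft π (c3 a b c)) ≤ U) :
    P π ρ S ≤ U :=
  iSup₂_le fun a ha => iSup₂_le fun b hb => iSup₂_le fun c hc => iSup_le fun h1 => iSup_le fun h2 =>
    iSup_le fun h3 => h a ha b hb c hc h1 h2 h3

theorem P_mono {S T : Finset (Fin r)} (h : S ⊆ T) : P π ρ S ≤ P π ρ T :=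
  P_le fun _ ha _ hb _ hc h1 h2 h3 => moved_le_P (h ha) (h hb) (h hc) h1 h2 h3

theorem moved_le_of_gs (C : Cov π ρ) {S : Finset (Fin r)} {γ : Γ} (h : γ ∈ C.gs S) :
    moved ρ γ ≤ P π ρ S := by
  unfold Cov.gs at h
  induction h using Subgroup.closure_induction with
  | mem x hx =>
    obtain ⟨a, ha, b, hb, c, hc, h1, h2, h3, rfl⟩ := hx
    exact moved_le_P ha hb hc h1 h2 h3
  | one => rw [moved_one]; exact bot_le
  | mul x y _ _ hx hy => exact (moved_mul_le x y).trans (sup_le hx hy)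
  | inv x _ hx => rw [moved_inv]; exact hx

/-- Any element permutes these spaces. -/
theorem P_map (C : Cov π ρ) (γ : Γ) (S : Finset (Fin r)) :
    (P π ρ S).map (ρ γ) = P π ρ (S.image (pm π γ)) := by
  have key : ∀ (δ : Γ) (T : Finset (Fin r)), (P π ρ T).map (ρ δ) ≤ P π ρ (T.image (pm π δ)) := by
    intro δ T
    rw [Submodule.map_le_iff_le_comap]
    refine P_le fun a ha b hb c hc h1 h2 h3 => ?_
    rw [← Submodule.map_le_iff_le_comap, ← moved_conj, lft_c3_conj C δ h1 h2 h3]
    exact moved_le_P (mem_image_of_mem _ ha) (mem_image_of_mem _ hb) (mem_image_of_mem _ hc)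
      ((pm π δ).injective.ne h1) ((pm π δ).injective.ne h2) ((pm π δ).injective.ne h3)
  refine le_antisymm (key γ S) ?_
  intro v hv
  refine ⟨ρ γ⁻¹ v, ?_, rho_inv_apply' γ v⟩
  have h := key γ⁻¹ (S.image (pm π γ)) ⟨v, hv, rfl⟩
  have e : (S.image (pm π γ)).image (pm π γ⁻¹) = S := by
    rw [image_image]
    conv_rhs => rw [← image_id (s := S)]
    congr 1
    funext i
    simp [pm, map_inv]
  rwa [e] at h

/-- Disjoint sets do not interfere. -/
theorem fix_P (C : Cov π ρ) (hs : Small k V r) {S T : Finset (Fin r)} (h : Disjoint S T) {γ : Γ}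
    (hγ : γ ∈ C.gs S) : ∀ v ∈ P π ρ T, ρ γ v = v := by
  unfold Cov.gs at hγ
  induction hγ using Subgroup.closure_induction with
  | mem x hx =>
    obtain ⟨a, ha, b, hb, c, hc, h1, h2, h3, rfl⟩ := hx
    have hne : ∀ {i j}, i ∈ S → j ∈ T → i ≠ j := fun hi hj e => disjoint_left.1 h hi (e ▸ hj)
    have hle : P π ρ T ≤ fixd ρ (lft π (c3 a b c)) := P_le fun a' ha' b' hb' c' hc' g1 g2 g3 v hv =>
      mem_fixd.2 (fix_c3 C hs g1 g2 g3 h1 h2 h3 ⟨hne ha ha', hne ha hb', hne ha hc'⟩
        ⟨hne hb ha', hne hb hb', hne hb hc'⟩ ⟨hne hc ha', hne hc hb', hne hc hc'⟩ v hv)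
    exact fun v hv => mem_fixd.1 (hle hv)
  | one => simp
  | mul x y _ _ hx hy => intro v hv; rw [rho_mul_apply, hy v hv, hx v hv]
  | inv x _ hx =>
    intro v hv
    nth_rw 1 [← hx v hv]
    exact rho_inv_apply x v

theorem c3_lift_ne_one (C : Cov π ρ) {a b c : Fin r} (hab : a ≠ b) (hbc : b ≠ c) (hac : a ≠ c) :
    lft π (c3 a b c) ≠ 1 := fun e => by
  have := congrArg π e
  rw [C.map_lft, map_one] at this
  exact c3_ne_one hab hbc hac this

theorem exists_triple {S : Finset (Fin r)} (h : 3 ≤ S.card) :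
    ∃ a b c, a ∈ S ∧ b ∈ S ∧ c ∈ S ∧ a ≠ b ∧ b ≠ c ∧ a ≠ c := by
  obtain ⟨T, hT, hT3⟩ := exists_subset_card_eq h
  obtain ⟨a, b, c, hab, hac, hbc, rfl⟩ := card_eq_three.1 hT3
  exact ⟨a, b, c, hT (by simp), hT (by simp), hT (by simp), hab, hbc, hac⟩

/-- The lifts of the even permutations of a small set are unique. -/
theorem gs_inj (C : Cov π ρ) (hs : Small k V r) {S : Finset (Fin r)} (h : S.card + 3 ≤ r) {γ δ : Γ}
    (hγ : γ ∈ C.gs S) (hδ : δ ∈ C.gs S) (e : π γ = π δ) : γ = δ := by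
  obtain ⟨a, b, c, ha, hb, hc, h1, h2, h3⟩ := exists_triple (S := Sᶜ) (by
    rw [card_compl, Fintype.card_fin]; omega)
  obtain ⟨v, hv, hv0⟩ := Submodule.exists_mem_ne_zero_of_ne_bot
    (C.moved_ne_bot (c3_lift_ne_one C h1 h2 h3))
  have hfix := fix_P C hs (S := S) (T := Sᶜ) disjoint_compl_right
    (mul_mem (inv_mem hγ) hδ) v (moved_le_P ha hb hc h1 h2 h3 hv)
  exact inv_mul_eq_one.1 (C.eq_one_of_fix (by rw [map_mul, map_inv, e, inv_mul_cancel]) hv0 hfix)

/-- The spaces grow strictly. -/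
theorem P_ne_insert (C : Cov π ρ) (hs : Small k V r) {S : Finset (Fin r)} {a : Fin r}
    (ha : a ∉ S) (h3 : 3 ≤ S.card) (h : S.card + 3 ≤ r) : P π ρ (insert a S) ≠ P π ρ S := by
  classical
  intro heq
  have hstep : ∀ b, b ∉ S → P π ρ (insert b S) = P π ρ S := by
    intro b hb
    by_cases hba : b = a
    · rw [hba, heq]
    obtain ⟨c, hc⟩ : ∃ c, c ∉ insert a (insert b S) := by
      by_contra hall
      push Not at hall
      have := card_le_card (show (univ : Finset (Fin r)) ⊆ insert a (insert b S) from fun i _ => hall i)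
      rw [card_univ, Fintype.card_fin] at this
      have := card_insert_le a (insert b S)
      have := card_insert_le b S
      omega
    simp only [mem_insert, not_or] at hc
    obtain ⟨hca, hcb, hcS⟩ := hc
    set g := c3 a b c
    obtain ⟨γ, hγ⟩ := C.surj g
    have hfix : ∀ i ∈ S, pm π γ i = i := fun i hi => by
      show ((π γ : alternatingGroup (Fin r)) : Perm (Fin r)) i = i
      rw [hγ]
      exact c3_apply_other (fun e => ha (e ▸ hi)) (fun e => hb (e ▸ hi)) (fun e => hcS (e ▸ hi))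
    have himg : S.image (pm π γ) = S := by
      conv_rhs => rw [← image_id (s := S)]
      exact image_congr fun i hi => hfix i hi
    have hab' : pm π γ a = b := by
      show ((π γ : alternatingGroup (Fin r)) : Perm (Fin r)) a = b
      rw [hγ]
      exact c3_apply_left (Ne.symm hba) (Ne.symm hcb) (Ne.symm hca)
    calc P π ρ (insert b S) = (P π ρ (insert a S)).map (ρ γ) := by
          rw [P_map C, image_insert, himg, hab']
      _ = (P π ρ S).map (ρ γ) := by rw [heq]
      _ = P π ρ S := by rw [P_map C, himg]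
  have hone : ∀ u v w, u ≠ v → v ≠ w → u ≠ w → v ∈ S → w ∈ S →
      moved ρ (lft π (c3 u v w)) ≤ P π ρ S := by
    intro u v w h1 h2 h3 hv hw
    by_cases hu : u ∈ S
    · exact moved_le_P hu hv hw h1 h2 h3
    · exact (moved_le_P (mem_insert_self u S) (mem_insert_of_mem hv) (mem_insert_of_mem hw) h1 h2 h3).trans
        (hstep u hu).le
  have hinv : ∀ u, u ∉ S → ∀ γ ∈ C.gs (insert u S), (P π ρ S).map (ρ γ) ≤ P π ρ S := by
    intro u hu γ hγ
    rintro _ ⟨v, hv, rfl⟩
    have : ρ γ v - v ∈ P π ρ (insert u S) := moved_le_of_gs C hγ ⟨v, rfl⟩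
    rw [hstep u hu] at this
    simpa using add_mem this hv
  -- a point outside is carried into `S`
  have hpull : ∀ u v w, u ≠ v → v ≠ w → u ≠ w → u ∉ S → (v ∉ S ∨ w ∉ S) →
      ∃ s ∈ S, s ≠ v ∧ s ≠ w ∧ (moved ρ (lft π (c3 s v w)) ≤ P π ρ S →
        moved ρ (lft π (c3 u v w)) ≤ P π ρ S) := by
    intro u v w h1 h2 h3' hu hvw
    have hcard : 2 ≤ ((S.erase v).erase w).card := by
      rcases hvw with hv | hw
      · rw [erase_eq_of_notMem hv]
        have := pred_card_le_card_erase (s := S) (a := w)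
        omega
      · rw [erase_eq_of_notMem (fun e => hw (mem_of_mem_erase e))]
        have := pred_card_le_card_erase (s := S) (a := v)
        omega
    obtain ⟨s, hs', s', hs'', hss⟩ := one_lt_card.1 hcard
    simp only [mem_erase] at hs' hs''
    obtain ⟨hsw, hsv, hsS⟩ := hs'
    obtain ⟨hsw', hsv', hsS'⟩ := hs''
    refine ⟨s, hsS, hsv, hsw, fun hle => ?_⟩
    have hsu : s ≠ u := fun e => hu (e ▸ hsS)
    have hsu' : s' ≠ u := fun e => hu (e ▸ hsS')
    set γ := lft π (c3 s u s')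
    have hγ : γ ∈ C.gs (insert u S) := Subgroup.subset_closure
      ⟨s, mem_insert_of_mem hsS, u, mem_insert_self u S, s', mem_insert_of_mem hsS', hsu, hsu'.symm, hss, rfl⟩
    have hp : pm π γ = (c3 s u s' : Perm (Fin r)) := by simp only [pm, γ, C.map_lft]
    have := (Submodule.map_mono (f := ρ γ) hle).trans (hinv u hu γ hγ)
    rw [← moved_conj, lft_c3_conj C γ hsv h2 hsw, hp, c3_apply_left hsu hsu'.symm hss,
      c3_apply_other hsv.symm h1.symm hsv'.symm, c3_apply_other hsw.symm h3'.symm hsw'.symm] at this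
    exact this
  have htwo : ∀ u v w, u ≠ v → v ≠ w → u ≠ w → w ∈ S → moved ρ (lft π (c3 u v w)) ≤ P π ρ S := by
    intro u v w h1 h2 h3' hw
    by_cases hv : v ∈ S
    · exact hone u v w h1 h2 h3' hv hw
    by_cases hu : u ∈ S
    · rw [c3_rot h1 h2 h3']
      exact hone v w u h2 h3'.symm h1.symm hw hu
    obtain ⟨s, hsS, hsv, hsw, hs'⟩ := hpull u v w h1 h2 h3' hu (Or.inl hv)
    refine hs' ?_
    rw [c3_rot hsv h2 hsw]
    exact hone v w s h2 hsw.symm hsv.symm hw hsS
  have hall : ∀ u v w, u ≠ v → v ≠ w → u ≠ w → moved ρ (lft π (c3 u v w)) ≤ P π ρ S := by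
    intro u v w h1 h2 h3'
    by_cases hw : w ∈ S
    · exact htwo u v w h1 h2 h3' hw
    by_cases hu : u ∈ S
    · rw [c3_rot h1 h2 h3']
      exact htwo v w u h2 h3'.symm h1.symm hu
    obtain ⟨s, hsS, hsv, hsw, hs'⟩ := hpull u v w h1 h2 h3' hu (Or.inr hw)
    refine hs' ?_
    rw [c3_rot hsv h2 hsw]
    exact htwo v w s h2 hsw.symm hsv.symm hsS
  have htop : P π ρ S = ⊤ := by
    refine (C.irred _ (invariant_of_c3 C _ fun u v w h1 h2 h3' x hx => ?_)).resolve_left fun hbot => ?_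
    · have := hall u v w h1 h2 h3' ⟨x, rfl⟩
      simpa using add_mem this hx
    · obtain ⟨u, v, w, hu, hv, hw, h1, h2, h3'⟩ := exists_triple h3
      exact C.moved_ne_bot (c3_lift_ne_one C h1 h2 h3')
        (le_bot_iff.1 (hbot ▸ moved_le_P hu hv hw h1 h2 h3'))
  obtain ⟨u, v, w, hu, hv, hw, h1, h2, h3'⟩ := exists_triple (S := Sᶜ) (by
    rw [card_compl, Fintype.card_fin]; omega)
  refine C.moved_ne_bot (c3_lift_ne_one C h1 h2 h3') ?_
  rw [moved, LinearMap.range_eq_bot]
  refine LinearMap.ext fun x => ?_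
  have hx : ρ (lft π (c3 u v w)) x = x := fix_P C hs (disjoint_compl_left (a := S))
    (Subgroup.subset_closure ⟨u, hu, v, hv, w, hw, h1, h2, h3', rfl⟩) x (htop ▸ Submodule.mem_top)
  simp [hx]

/-- Growth along an inclusion. -/
theorem finrank_P_mono (C : Cov π ρ) (hs : Small k V r) {S : Finset (Fin r)} (h3 : 3 ≤ S.card) :
    ∀ j (T : Finset (Fin r)), S ⊆ T → T.card = S.card + j → T.card + 2 ≤ r →
      Module.finrank k (P π ρ S) + j ≤ Module.finrank k (P π ρ T) := by
  intro j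
  induction j with
  | zero =>
    intro T hST hc _
    rw [add_zero, eq_of_subset_of_card_le hST (by omega)]
  | succ j ih =>
    intro T hST hc hr
    obtain ⟨a, ha⟩ : (T \ S).Nonempty := card_pos.1 (by rw [card_sdiff_of_subset hST]; omega)
    obtain ⟨haT, haS⟩ := mem_sdiff.1 ha
    have hcard := card_erase_of_mem haT
    have h := ih (T.erase a) (fun i hi => mem_erase.2 ⟨fun e => haS (e ▸ hi), hST hi⟩)
      (by omega) (by omega)
    have hne := P_ne_insert C hs (notMem_erase a T) (by omega) (by omega)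
    rw [insert_erase haT] at hne
    have := Submodule.finrank_lt_finrank_of_lt
      (lt_of_le_of_ne (P_mono (π := π) (ρ := ρ) (erase_subset a T)) hne.symm)
    omega

theorem le_finrank_P (C : Cov π ρ) (hs : Small k V r) {S : Finset (Fin r)} (h3 : 3 ≤ S.card)
    (h : S.card + 2 ≤ r) : S.card ≤ Module.finrank k (P π ρ S) + 1 := by
  obtain ⟨S₀, hS₀, hS3⟩ := exists_subset_card_eq h3
  obtain ⟨a, b, c, ha, hb, hc, h1, h2, h3'⟩ := exists_triple hS3.ge
  have := (two_le_moved C hs h1 h2 h3').trans (Submodule.finrank_mono (moved_le_P (π := π) (ρ := ρ) ha hb hc h1 h2 h3'))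
  have := finrank_P_mono C hs hS3.ge (S.card - 3) S hS₀ (by omega) h
  omega

/-- The main count: `T` together with an element moving many points outside it. -/
theorem finrank_P_add_le (C : Cov π ρ) (hs : Small k V r) :
    (∀ T : Finset (Fin r), (3 : k) ≠ 0 → T.card + 3 ≤ r →
        Module.finrank k (P π ρ T) + 2 ≤ Module.finrank k V) ∧
      ∀ T : Finset (Fin r), (3 : k) = 0 → T.card + 5 ≤ r →
        Module.finrank k (P π ρ T) + 4 ≤ Module.finrank k V := by
  have key : ∀ (q : ℕ) [NeZero q] (γ : Γ) (T : Finset (Fin r)) (ζ : k), IsPrimitiveRoot ζ q →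
      (q : k) ≠ 0 → ρ γ ^ q = 1 → (∀ v ∈ P π ρ T, ρ γ v = v) →
      Module.finrank k (P π ρ T) + Module.finrank k (moved ρ γ) ≤ Module.finrank k V := by
    intro q _ γ T ζ hζ hqk hx hfix
    have hd : P π ρ T ⊓ moved ρ γ = ⊥ := by
      refine le_bot_iff.1 ?_
      calc P π ρ T ⊓ moved ρ γ ≤ LinearMap.ker (ρ γ - 1) ⊓ LinearMap.range (ρ γ - 1) :=
            inf_le_inf_right _ fun v hv => mem_fixd.2 (hfix v hv)
        _ = ⊥ := by rw [inf_comm]; exact Eigen.disjoint_range_ker hζ hqk hx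
    have := Submodule.finrank_sup_add_finrank_inf_eq (P π ρ T) (moved ρ γ)
    rw [hd, finrank_bot, add_zero] at this
    exact this.symm.le.trans (Submodule.finrank_le _)
  refine ⟨fun T h3 hT => ?_, fun T h3 hT => ?_⟩
  · obtain ⟨a, b, c, ha, hb, hc, h1, h2, h3'⟩ := exists_triple (S := Tᶜ) (by
      rw [card_compl, Fintype.card_fin]; omega)
    have h3k : ((3 : ℕ) : k) ≠ 0 := by exact_mod_cast h3
    haveI : NeZero ((3 : ℕ) : k) := ⟨h3k⟩
    obtain ⟨ζ, hζ⟩ := Eigen.exists_primitive (k := k) 3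
    have := key 3 (lft π (c3 a b c)) T ζ hζ h3k (Y_pow C h1 h2 h3')
      (fix_P C hs (disjoint_compl_left (a := T)) (Subgroup.subset_closure ⟨a, ha, b, hb, c, hc, h1, h2, h3', rfl⟩))
    rwa [finrank_moved_three C hs h3 h1 h2 h3'] at this
  · obtain ⟨ι⟩ : Nonempty (Fin 1 × ZMod 5 ↪ {i // i ∈ Tᶜ}) := Function.Embedding.nonempty_of_card_le (by
      simp [Fintype.card_coe, card_compl]; omega)
    set ι' := ι.trans (Function.Embedding.subtype _)
    have hodd : Odd 5 := ⟨2, rfl⟩
    obtain ⟨ζ, hζ, h4, -⟩ := five_lines C hs h3 hodd ι'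
    have h5 : ((5 : ℕ) : k) ≠ 0 := by
      intro h
      push_cast at h
      exact one_ne_zero (show (1 : k) = 0 by linear_combination 2 * h3 - h)
    have hfix : ∀ v ∈ P π ρ T, ρ (lft π (xB hodd ι' 0)) v = v := by
      have hout : ∀ i ∈ T, i ∉ Set.range ι' := by
        rintro _ hi ⟨z, rfl⟩
        exact mem_compl.1 (ι z).2 hi
      have hle : P π ρ T ≤ fixd ρ (lft π (xB hodd ι' 0)) :=
        P_le fun a ha b hb c hc g1 g2 g3 v hv => mem_fixd.2
          (five_fix C hs h3 hodd ι' g1 g2 g3 (hout a ha) (hout b hb) (hout c hc) v hv)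
      exact fun v hv => mem_fixd.1 (hle hv)
    have := key 5 (lft π (xB hodd ι' 0)) T ζ hζ h5 (X_pow C hodd ι' 0) hfix
    rwa [h4] at this

/-- The dimensions are forced. -/
theorem tight (C : Cov π ρ) (hs : Small k V r) :
    Module.finrank k V + 2 = r ∧ (r : k) ≠ 0 ∧ ∀ S : Finset (Fin r), 3 ≤ S.card → S.card ≤ 4 →
      Module.finrank k (P π ρ S) + 1 = S.card := by
  obtain ⟨hA, hB⟩ := finrank_P_add_le C hs
  have hr := C.hr
  have hn := hs.le
  have hnn : Module.finrank k V + 2 = r ∧ (r : k) ≠ 0 := by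
    suffices r ≤ Module.finrank k V + 2 from ⟨by omega, fun e => by have := hs.le' e; omega⟩
    by_cases h3 : (3 : k) = 0
    · obtain ⟨T, -, hT⟩ := exists_subset_card_eq (s := (univ : Finset (Fin r))) (n := r - 5) (by simp)
      have := hB T h3 (by omega)
      have := le_finrank_P C hs (S := T) (by omega) (by omega)
      omega
    · obtain ⟨T, -, hT⟩ := exists_subset_card_eq (s := (univ : Finset (Fin r))) (n := r - 3) (by simp)
      have := hA T h3 (by omega)
      have := le_finrank_P C hs (S := T) (by omega) (by omega)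
      omega
  refine ⟨hnn.1, hnn.2, fun S h3' h4 => ?_⟩
  have := le_finrank_P C hs (S := S) h3' (by omega)
  by_cases h3 : (3 : k) = 0
  · obtain ⟨T, hST, hT⟩ := exists_superset_card_eq (s := S) (n := r - 5) (by omega) (by simp)
    have := finrank_P_mono C hs h3' (r - 5 - S.card) T hST (by omega) (by omega)
    have := hB T h3 (by omega)
    have : r ≠ 9 := fun e => hnn.2 (by rw [e, show (9 : ℕ) = 3 * 3 from rfl, Nat.cast_mul]; simp [h3])
    omega
  · obtain ⟨T, hST, hT⟩ := exists_superset_card_eq (s := S) (n := r - 3) (by omega) (by simp)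
    have := finrank_P_mono C hs h3' (r - 3 - S.card) T hST (by omega) (by omega)
    have := hA T h3 (by omega)
    omega

end CfsgLib.Classical.AltSection
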