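import Cfsg.Agent.Lib.Classical.AltSection.EigenFusion
import Cfsg.Agent.Lib.Chev.WeylF4
import Cfsg.Agent.Lib.Chev.WeylG2

/-!
No element of the Weyl group of type F4 or G2 has the eigenvalues needed by the alternating groups
of large degree.
-/

set_option autoImplicit false
set_option maxRecDepth 100000
set_option maxHeartbeats 1000000

namespace CfsgLib.Classical.AltSection.WeylEigen

open Cfsg.Lie Matrix CfsgLib.Chev CfsgLib.Chev.Cert CfsgLib.Chev.GTorus CfsgLib.Chev.SylowTorus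

/-- Words acting in the same way have the same matrix. -/
theorem prod_eq_of_sameAct {D : ChevalleyDatum} {T : Tab} {C : Tab.Cover} (h : Cert D T C)
    {Mi : Matrix (Fin T.l) (Fin T.l) ℤ} (hMi : Mi * cartanT T = 1) {v w : List ℕ}
    (hv : WordOK T v) (hw : WordOK T w) (e : SameAct T v w) :
    (v.map (reflMat T)).prod = (w.map (reflMat T)).prod := by
  have key : ∀ {v : List ℕ}, WordOK T v → ∀ r < T.n,
      carV T (rword T v r) = (v.map (reflMat T)).prod *ᵥ carV T r := by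
    intro v hv r hr
    induction v with
    | nil => simp [rword]
    | cons i v ih =>
      rw [rword_cons, carV_refl h hv.head (h.rword_lt hv.tail hr), ih hv.tail, List.map_cons,
        List.prod_cons, Matrix.mulVec_mulVec]
  have e1 : (v.map (reflMat T)).prod * (cartanT T)ᵀ = (w.map (reflMat T)).prod * (cartanT T)ᵀ := by
    ext i j
    exact congrFun ((key hv _ (h.simple_lt j.2)).symm.trans
      ((congrArg (carV T) (e _ (h.simple_lt j.2))).trans (key hw _ (h.simple_lt j.2)))) i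
  have e2 : (cartanT T)ᵀ * Miᵀ = 1 := by rw [← Matrix.transpose_mul, hMi, Matrix.transpose_one]
  have := congrArg (fun X => X * Miᵀ) e1
  simpa only [Matrix.mul_assoc, e2, Matrix.mul_one] using this

/-- An eigenvalue modulo `ℓ` divides a determinant. -/
theorem dvd_det {l ℓ : ℕ} [Fact ℓ.Prime] {M : Matrix (Fin l) (Fin l) ℤ} {a : ℕ}
    {c : Fin l → ZMod ℓ} (hc : c ≠ 0)
    (he : c ᵥ* M.map (Int.castRingHom (ZMod ℓ)) = (a : ZMod ℓ) • c) :
    (ℓ : ℤ) ∣ (M - (a : ℤ) • 1).det := by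
  have h := RingHom.map_det (Int.castRingHom (ZMod ℓ)) (M - (a : ℤ) • 1)
  rw [eq_intCast] at h
  rw [← ZMod.intCast_zmod_eq_zero_iff_dvd, h]
  refine Matrix.exists_vecMul_eq_zero_iff.1 ⟨c, hc, ?_⟩
  rw [show (Int.castRingHom (ZMod ℓ)).mapMatrix (M - (a : ℤ) • 1) =
    M.map (Int.castRingHom (ZMod ℓ)) - (a : ZMod ℓ) • 1 by
      rw [map_sub, map_zsmul, map_one, ← Int.cast_smul_eq_zsmul (ZMod ℓ), Int.cast_natCast]; rfl,
    Matrix.vecMul_sub, he, Matrix.vecMul_smul, Matrix.vecMul_one, sub_self]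

/-- A vector of length four. -/
abbrev V4 := ℤ × ℤ × ℤ × ℤ

/-- A simple reflection of type F4 on row vectors. -/
def stepF4 : V4 → ℕ → V4
  | (a, b, c, d), 0 => (b - a, b, c, d)
  | (a, b, c, d), 1 => (a, a + c - b, c, d)
  | (a, b, c, d), 2 => (a, b, 2 * b + d - c, d)
  | (a, b, c, d), _ => (a, b, c, c - d)

/-- The vector as a function. -/
def vec4 (v : V4) : Fin 4 → ℤ := ![v.1, v.2.1, v.2.2.1, v.2.2.2]

/-- The matrix of a simple reflection of type F4. -/
noncomputable def R4 (i : ℕ) : Matrix (Fin 4) (Fin 4) ℤ := reflMat tabF4 i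

/-- The matrix of a word of type F4. -/
noncomputable def P4 (w : List ℕ) : Matrix (Fin 4) (Fin 4) ℤ := (w.map (reflMat tabF4)).prod

theorem P4_nil : P4 [] = 1 := rfl

theorem P4_cons (i : ℕ) (w : List ℕ) : P4 (i :: w) = R4 i * P4 w := List.prod_cons

theorem R4_0 : ∀ (x y : Fin 4), R4 0 x y =
    (!![-1, 0, 0, 0; 1, 1, 0, 0; 0, 0, 1, 0; 0, 0, 0, 1] : Matrix (Fin 4) (Fin 4) ℤ) x y := by
  intro x y; fin_cases x <;> fin_cases y <;> decide +kernel

theorem R4_1 : ∀ (x y : Fin 4), R4 1 x y =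
    (!![1, 1, 0, 0; 0, -1, 0, 0; 0, 1, 1, 0; 0, 0, 0, 1] : Matrix (Fin 4) (Fin 4) ℤ) x y := by
  intro x y; fin_cases x <;> fin_cases y <;> decide +kernel

theorem R4_2 : ∀ (x y : Fin 4), R4 2 x y =
    (!![1, 0, 0, 0; 0, 1, 2, 0; 0, 0, -1, 0; 0, 0, 1, 1] : Matrix (Fin 4) (Fin 4) ℤ) x y := by
  intro x y; fin_cases x <;> fin_cases y <;> decide +kernel

theorem R4_3 : ∀ (x y : Fin 4), R4 3 x y =
    (!![1, 0, 0, 0; 0, 1, 0, 0; 0, 0, 1, 1; 0, 0, 0, -1] : Matrix (Fin 4) (Fin 4) ℤ) x y := by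
  intro x y; fin_cases x <;> fin_cases y <;> decide +kernel

theorem vec4_stepF4 (v : V4) {i : ℕ} (hi : i < 4) :
    vec4 v ᵥ* R4 i = vec4 (stepF4 v i) := by
  obtain ⟨a, b, c, d⟩ := v
  interval_cases i
  · funext j; fin_cases j <;>
      simp [vec4, stepF4, Matrix.vecMul, dotProduct, Fin.sum_univ_succ, R4_0] <;> ring
  · funext j; fin_cases j <;>
      simp [vec4, stepF4, Matrix.vecMul, dotProduct, Fin.sum_univ_succ, R4_1] <;> ring
  · funext j; fin_cases j <;>
      simp [vec4, stepF4, Matrix.vecMul, dotProduct, Fin.sum_univ_succ, R4_2] <;> ring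
  · funext j; fin_cases j <;>
      simp [vec4, stepF4, Matrix.vecMul, dotProduct, Fin.sum_univ_succ, R4_3] <;> ring

theorem vecMul_prodF4 : ∀ (w : List ℕ) (v : V4), WordOK tabF4 w →
    vec4 v ᵥ* P4 w = vec4 (w.foldl stepF4 v)
  | [], v, _ => by simp [P4_nil]
  | i :: w, v, hw => by
    rw [P4_cons, ← Matrix.vecMul_vecMul, List.foldl_cons,
      ← vecMul_prodF4 w (stepF4 v i) hw.tail]
    exact congrArg (· ᵥ* _) (vec4_stepF4 v hw.head)

/-- The determinant of a matrix given by rows. -/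
def det4 : V4 → V4 → V4 → V4 → ℤ
  | (a, b, c, d), (e, f, g, h), (i, j, k, l), (m, n, o, p) =>
    a * (f * (k * p - l * o) - g * (j * p - l * n) + h * (j * o - k * n)) -
    b * (e * (k * p - l * o) - g * (i * p - l * m) + h * (i * o - k * m)) +
    c * (e * (j * p - l * n) - f * (i * p - l * m) + h * (i * n - j * m)) -
    d * (e * (j * o - k * n) - f * (i * o - k * m) + g * (i * n - j * m))

theorem det_four (a b c d e f g h i j k l m n o p : ℤ) :
    !![a, b, c, d; e, f, g, h; i, j, k, l; m, n, o, p].det =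
      det4 (a, b, c, d) (e, f, g, h) (i, j, k, l) (m, n, o, p) := by
  rw [Matrix.det_succ_row_zero, Fin.sum_univ_four]
  have e1 : (Fin.succAbove (1 : Fin 4) : Fin 3 → Fin 4) = ![0, 2, 3] := by decide
  have e2 : (Fin.succAbove (2 : Fin 4) : Fin 3 → Fin 4) = ![0, 1, 3] := by decide
  have e3 : (Fin.succAbove (3 : Fin 4) : Fin 3 → Fin 4) = ![0, 1, 2] := by decide
  simp [det4, Matrix.det_fin_three, e1, e2, e3]
  ring

/-- The determinant of the matrix of the word, shifted. -/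
def charF4 (w : List ℕ) (t : ℤ) : ℤ :=
  match w.foldl stepF4 (1, 0, 0, 0), w.foldl stepF4 (0, 1, 0, 0), w.foldl stepF4 (0, 0, 1, 0),
    w.foldl stepF4 (0, 0, 0, 1) with
  | (a, b, c, d), (e, f, g, h), (i, j, k, l), (m, n, o, p) =>
    det4 (a - t, b, c, d) (e, f - t, g, h) (i, j, k - t, l) (m, n, o, p - t)

theorem charF4_eq {w : List ℕ} (hw : WordOK tabF4 w) (t : ℤ) :
    ((w.map (reflMat tabF4)).prod - t • 1).det = charF4 w t := by
  have hrow : ∀ (v : V4) (j : Fin 4), vec4 v = Pi.single j 1 →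
      P4 w j = vec4 (w.foldl stepF4 v) := fun v j hv => by
    rw [← vecMul_prodF4 w v hw, hv]
    exact (Matrix.single_one_vecMul _ _).symm
  have h0 := hrow (1, 0, 0, 0) 0 (by decide)
  have h1 := hrow (0, 1, 0, 0) 1 (by decide)
  have h2 := hrow (0, 0, 1, 0) 2 (by decide)
  have h3 := hrow (0, 0, 0, 1) 3 (by decide)
  show (P4 w - t • 1).det = _
  unfold charF4
  generalize w.foldl stepF4 (1, 0, 0, 0) = r0 at h0 ⊢
  generalize w.foldl stepF4 (0, 1, 0, 0) = r1 at h1 ⊢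
  generalize w.foldl stepF4 (0, 0, 1, 0) = r2 at h2 ⊢
  generalize w.foldl stepF4 (0, 0, 0, 1) = r3 at h3 ⊢
  obtain ⟨a, b, c, d⟩ := r0
  obtain ⟨e, f, g, h⟩ := r1
  obtain ⟨i, j, k, l⟩ := r2
  obtain ⟨m, n, o, p⟩ := r3
  have hM : P4 w =
      !![a, b, c, d; e, f, g, h; i, j, k, l; m, n, o, p] := by
    refine funext fun x => ?_
    fin_cases x
    exacts [h0, h1, h2, h3]
  rw [show P4 w - t • 1 =
    !![a - t, b, c, d; e, f - t, g, h; i, j, k - t, l; m, n, o, p - t] by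
      rw [hM, Matrix.smul_one_eq_diagonal]
      ext x y; fin_cases x <;> fin_cases y <;> simp, det_four]

/-- The check over the Weyl group of type F4. -/
theorem checkF4 : (transversal levelsF4 4).all (fun w =>
    !(decide ((11 : ℤ) ∣ charF4 w 3)) &&
      !(decide ((7 : ℤ) ∣ charF4 w 3) && decide ((5 : ℤ) ∣ charF4 w 2))) = true := by
  decide +kernel

/-- A simple reflection of type G2 on row vectors. -/
def stepG2 : ℤ × ℤ → ℕ → ℤ × ℤ
  | (a, b), 0 => (b - a, b)
  | (a, b), _ => (a, 3 * a - b)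

/-- The matrix of a simple reflection of type G2. -/
noncomputable def R2 (i : ℕ) : Matrix (Fin 2) (Fin 2) ℤ := reflMat tabG2 i

/-- The matrix of a word of type G2. -/
noncomputable def P2 (w : List ℕ) : Matrix (Fin 2) (Fin 2) ℤ := (w.map (reflMat tabG2)).prod

theorem P2_nil : P2 [] = 1 := rfl

theorem P2_cons (i : ℕ) (w : List ℕ) : P2 (i :: w) = R2 i * P2 w := List.prod_cons

theorem R2_0 : ∀ (x y : Fin 2), R2 0 x y =
    (!![-1, 0; 1, 1] : Matrix (Fin 2) (Fin 2) ℤ) x y := by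
  intro x y; fin_cases x <;> fin_cases y <;> decide +kernel

theorem R2_1 : ∀ (x y : Fin 2), R2 1 x y =
    (!![1, 3; 0, -1] : Matrix (Fin 2) (Fin 2) ℤ) x y := by
  intro x y; fin_cases x <;> fin_cases y <;> decide +kernel

theorem vec2_stepG2 (v : ℤ × ℤ) {i : ℕ} (hi : i < 2) :
    ![v.1, v.2] ᵥ* R2 i = ![(stepG2 v i).1, (stepG2 v i).2] := by
  obtain ⟨a, b⟩ := v
  interval_cases i
  · funext j; fin_cases j <;>
      simp [stepG2, Matrix.vecMul, dotProduct, Fin.sum_univ_succ, R2_0] <;> ring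
  · funext j; fin_cases j <;>
      simp [stepG2, Matrix.vecMul, dotProduct, Fin.sum_univ_succ, R2_1] <;> ring

theorem vecMul_prodG2 : ∀ (w : List ℕ) (v : ℤ × ℤ), WordOK tabG2 w →
    ![v.1, v.2] ᵥ* P2 w = ![(w.foldl stepG2 v).1, (w.foldl stepG2 v).2]
  | [], v, _ => by simp [P2_nil]
  | i :: w, v, hw => by
    rw [P2_cons, ← Matrix.vecMul_vecMul, List.foldl_cons,
      ← vecMul_prodG2 w (stepG2 v i) hw.tail]
    exact congrArg (· ᵥ* _) (vec2_stepG2 v hw.head)

/-- The determinant of the matrix of the word, shifted. -/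
def charG2 (w : List ℕ) (t : ℤ) : ℤ :=
  ((w.foldl stepG2 (1, 0)).1 - t) * ((w.foldl stepG2 (0, 1)).2 - t) -
    (w.foldl stepG2 (1, 0)).2 * (w.foldl stepG2 (0, 1)).1

theorem charG2_eq {w : List ℕ} (hw : WordOK tabG2 w) (t : ℤ) :
    ((w.map (reflMat tabG2)).prod - t • 1).det = charG2 w t := by
  have h0 : P2 w 0 = _ :=
    (Matrix.single_one_vecMul (0 : Fin 2) _).symm.trans
      ((congrArg (· ᵥ* _) (by decide : Pi.single (0 : Fin 2) (1 : ℤ) = ![(1, 0).1, ((1, 0) : ℤ × ℤ).2])).trans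
        (vecMul_prodG2 w (1, 0) hw))
  have h1 : P2 w 1 = _ :=
    (Matrix.single_one_vecMul (1 : Fin 2) _).symm.trans
      ((congrArg (· ᵥ* _) (by decide : Pi.single (1 : Fin 2) (1 : ℤ) = ![((0, 1) : ℤ × ℤ).1, ((0, 1) : ℤ × ℤ).2])).trans
        (vecMul_prodG2 w (0, 1) hw))
  show (P2 w - t • 1).det = _
  rw [Matrix.det_fin_two]
  rw [Matrix.smul_one_eq_diagonal]
  simp [charG2, h0, h1]

/-- The check over the Weyl group of type G2. -/
theorem checkG2 : (transversal levelsG2 2).all (fun w =>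
    !(decide ((5 : ℤ) ∣ charG2 w 2))) = true := by
  decide +kernel

end CfsgLib.Classical.AltSection.WeylEigen
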