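import Cfsg.Agent.Lib.Classical.AltSection.Lift
import Cfsg.Agent.Lib.Classical.AltSection.WeylEigen

/-!
Alternating sections of Chevalley groups give eigenvalues of Weyl group elements.
-/

set_option autoImplicit false
set_option maxRecDepth 100000

namespace CfsgLib.Classical.AltSection.ChevSection

open Cfsg.Lie Matrix CfsgLib.Chev CfsgLib.Chev.Cert CfsgLib.Chev.GTorus CfsgLib.Chev.SylowTorus

/-- Even permutations of the first `k` points act on `r` points. -/
theorem exists_embedding {k r : ℕ} (hkr : k ≤ r) :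
    ∃ f : ↥(alternatingGroup (Fin k)) →* ↥(alternatingGroup (Fin r)), Function.Injective f := by
  classical
  let e := (Fin.castLEEmb hkr).toEquivRange
  let g : Equiv.Perm (Fin k) →* Equiv.Perm (Fin r) := Equiv.Perm.extendDomainHom e
  refine ⟨(g.comp (alternatingGroup (Fin k)).subtype).codRestrict _ fun v => ?_, fun v w hvw => ?_⟩
  · rw [Equiv.Perm.mem_alternatingGroup]
    show Equiv.Perm.sign (Equiv.Perm.extendDomain v.1 e) = 1
    rw [Equiv.Perm.sign_extendDomain]
    exact Equiv.Perm.mem_alternatingGroup.1 v.2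
  · exact Subtype.ext (Equiv.Perm.extendDomainHom_injective e (congrArg Subtype.val hvw))

variable {D : ChevalleyDatum} {T : Tab} {C : Tab.Cover} (h : Cert D T C)
  {Mi : Matrix (Fin T.l) (Fin T.l) ℤ}
include h

/-- The Weyl group element produced by an alternating section. -/
theorem exists_transversal_dvd (hMi : Mi * cartanT T = 1) {Lv : List Level}
    (hLv : T.chkLevels Lv = true) {F : Type*} [Field F] [Fintype F]
    (ds : List ℕ) (e : ℕ) (hl : ds.length = T.l)
    (hL : ∀ (L : Type) [Field L] [Fintype L], OrderOK D L T.l e 1 ds)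
    {r : ℕ} (H : Subgroup ↥(D.group F)) (K : Subgroup ↥H) [K.Normal]
    (hsec : Nonempty (↥H ⧸ K ≃* ↥(alternatingGroup (Fin r))))
    {k : ℕ} (hkr : k ≤ r) {ι : Type*} [Finite ι] (xs : ι → Equiv.Perm (Fin k)) (ℓ : ι → ℕ)
    (a : ι → ℕ) (y : Equiv.Perm (Fin k)) (m : ℕ)
    (hxs : ∀ i, Equiv.Perm.sign (xs i) = 1) (hy : Equiv.Perm.sign y = 1)
    (hℓ : ∀ i, (ℓ i).Prime) (hinj : Function.Injective ℓ)
    (hpow : ∀ i, xs i ^ ℓ i = 1) (hne : ∀ i, xs i ≠ 1)
    (hc : ∀ i j, xs i * xs j = xs j * xs i) (hact : ∀ i, y * xs i * y⁻¹ = xs i ^ a i)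
    (hm : y ^ m = 1) (hℓm : ∀ i, ¬ ℓ i ∣ m)
    (hℓq : ∀ i, ¬ ℓ i ∣ Fintype.card F) (hℓd : ∀ i, ∀ d ∈ ds, ¬ ℓ i ∣ d) :
    ∃ w ∈ transversal Lv T.l, WordOK T w ∧
      ∀ i, (ℓ i : ℤ) ∣ ((w.map (reflMat T)).prod - (a i : ℤ) • 1).det := by
  obtain ⟨φ⟩ := hsec
  obtain ⟨f, hf⟩ := exists_embedding hkr
  let π : ↥H →* ↥(alternatingGroup (Fin r)) := φ.toMonoidHom.comp (QuotientGroup.mk' K)
  have hπ : Function.Surjective π := φ.surjective.comp (QuotientGroup.mk'_surjective K)
  let X : ι → ↥(alternatingGroup (Fin k)) := fun i => ⟨xs i, Equiv.Perm.mem_alternatingGroup.2 (hxs i)⟩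
  let Y : ↥(alternatingGroup (Fin k)) := ⟨y, Equiv.Perm.mem_alternatingGroup.2 hy⟩
  obtain ⟨xs', y', ho', hc', hy'⟩ := Lift.exists_lift hπ (fun i => f (X i)) ℓ hℓ hinj
    (fun i => by
      haveI := Fact.mk (hℓ i)
      rw [orderOf_injective f hf, ← Subgroup.orderOf_coe]
      exact orderOf_eq_prime (hpow i) (hne i))
    (fun i j => (show Commute (X i) (X j) from Subtype.ext (hc i j)).map f) (f Y) a
    (fun i => by rw [← map_inv, ← map_mul, ← map_mul, ← map_pow]; exact congrArg f (Subtype.ext (hact i)))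
    (fun i hd => by
      rw [orderOf_injective f hf, ← Subgroup.orderOf_coe] at hd
      exact hℓm i (hd.trans (orderOf_dvd_of_pow_eq_one hm)))
  let c : ↥H →* GL D.Idx F := (D.group F).subtype.comp H.subtype
  have hcinj : Function.Injective c := Subtype.val_injective.comp Subtype.val_injective
  obtain ⟨w, hw, hwe⟩ := EigenFusion.exists_word_eigen h hMi ds e hl hL ℓ hℓ hℓq hℓd
    (fun i => c (xs' i)) (fun i => (xs' i).1.2)
    (fun i => (orderOf_injective c hcinj (xs' i)).trans (ho' i))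
    (fun i j => (hc' i j).map c) (c y') y'.1.2 a
    (fun i => by rw [← map_inv, ← map_mul, ← map_mul, ← map_pow, hy' i])
  obtain ⟨u, hu, huw⟩ := h.exists_transversal hLv T.l le_rfl w hw
  have huok := h.transversal_ok hLv le_rfl hu
  refine ⟨u, hu, huok, fun i => ?_⟩
  haveI := Fact.mk (hℓ i)
  obtain ⟨v, hv0, hv⟩ := hwe i
  rw [← WeylEigen.prod_eq_of_sameAct h hMi hw huok huw]
  exact WeylEigen.dvd_det hv0 hv

end CfsgLib.Classical.AltSection.ChevSection
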