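import Cfsg.Agent.S0892

/-!
Perfect central extensions of alternating groups with a faithful irreducible representation:
canonical lifts of elements of odd order, fixed and moved spaces.
-/

set_option autoImplicit false
set_option linter.unusedSectionVars false

namespace CfsgLib.Classical.AltSection

open Equiv

variable {r : ℕ}

/-- The even permutations fixing everything outside `S`. -/
def In (S : Finset (Fin r)) (g : alternatingGroup (Fin r)) : Prop :=
  ∀ i, i ∉ S → (g : Perm (Fin r)) i = i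

/-- The three-cycle `a ↦ b ↦ c ↦ a`. -/
def c3 (a b c : Fin r) : alternatingGroup (Fin r) :=
  if h : a = b ∨ b = c then 1 else
    ⟨swap a b * swap b c, by
      rw [Perm.mem_alternatingGroup, map_mul, Perm.sign_swap (fun e => h (Or.inl e)),
        Perm.sign_swap (fun e => h (Or.inr e))]
      rfl⟩

theorem c3_val {a b c : Fin r} (hab : a ≠ b) (hbc : b ≠ c) :
    ((c3 a b c : alternatingGroup (Fin r)) : Perm (Fin r)) = swap a b * swap b c := by
  rw [c3, dif_neg (by simp [hab, hbc])]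

theorem c3_conj (g : alternatingGroup (Fin r)) {a b c : Fin r} (hab : a ≠ b) (hbc : b ≠ c) :
    g * c3 a b c * g⁻¹ =
      c3 ((g : Perm (Fin r)) a) ((g : Perm (Fin r)) b) ((g : Perm (Fin r)) c) := by
  refine Subtype.ext ?_
  have h1 := (g : Perm (Fin r)).injective.ne hab
  have h2 := (g : Perm (Fin r)).injective.ne hbc
  rw [c3_val h1 h2, Subgroup.coe_mul, Subgroup.coe_mul, c3_val hab hbc, Subgroup.coe_inv,
    Equiv.swap_apply_apply, Equiv.swap_apply_apply]
  group

theorem c3_apply_left {a b c : Fin r} (hab : a ≠ b) (hbc : b ≠ c) (hac : a ≠ c) :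
    ((c3 a b c : alternatingGroup (Fin r)) : Perm (Fin r)) a = b := by
  rw [c3_val hab hbc, Perm.mul_apply, swap_apply_of_ne_of_ne hab hac, swap_apply_left]

theorem c3_apply_mid {a b c : Fin r} (hab : a ≠ b) (hbc : b ≠ c) (hac : a ≠ c) :
    ((c3 a b c : alternatingGroup (Fin r)) : Perm (Fin r)) b = c := by
  rw [c3_val hab hbc, Perm.mul_apply, swap_apply_left, swap_apply_of_ne_of_ne hac.symm hbc.symm]

theorem c3_apply_right {a b c : Fin r} (hab : a ≠ b) (hbc : b ≠ c) (hac : a ≠ c) :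
    ((c3 a b c : alternatingGroup (Fin r)) : Perm (Fin r)) c = a := by
  rw [c3_val hab hbc, Perm.mul_apply, swap_apply_right, swap_apply_right]

theorem c3_apply_other {a b c i : Fin r} (ha : i ≠ a) (hb : i ≠ b) (hc : i ≠ c) :
    ((c3 a b c : alternatingGroup (Fin r)) : Perm (Fin r)) i = i := by
  unfold c3
  split_ifs with h
  · rfl
  · show (swap a b * swap b c) i = i
    rw [Perm.mul_apply, swap_apply_of_ne_of_ne hb hc, swap_apply_of_ne_of_ne ha hb]

theorem c3_ne_one {a b c : Fin r} (hab : a ≠ b) (hbc : b ≠ c) (hac : a ≠ c) : c3 a b c ≠ 1 := by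
  intro h
  have := c3_apply_left hab hbc hac
  rw [h] at this
  exact hab this

theorem In.mul {S : Finset (Fin r)} {g h : alternatingGroup (Fin r)} (hg : In S g) (hh : In S h) :
    In S (g * h) := fun i hi => by
  rw [Subgroup.coe_mul, Perm.mul_apply, hh i hi, hg i hi]

theorem In.inv {S : Finset (Fin r)} {g : alternatingGroup (Fin r)} (hg : In S g) : In S g⁻¹ :=
  fun i hi => by rw [Subgroup.coe_inv, Perm.inv_eq_iff_eq, hg i hi]

theorem In.mono {S T : Finset (Fin r)} (h : S ⊆ T) {g : alternatingGroup (Fin r)} (hg : In S g) :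
    In T g := fun i hi => hg i fun e => hi (h e)

theorem in_c3 {S : Finset (Fin r)} {a b c : Fin r} (ha : a ∈ S) (hb : b ∈ S) (hc : c ∈ S) :
    In S (c3 a b c) := fun _ hi =>
  c3_apply_other (fun e => hi (e ▸ ha)) (fun e => hi (e ▸ hb)) (fun e => hi (e ▸ hc))

/-- Three-cycles within `S` generate. -/
theorem mem_closure_c3 : ∀ (S : Finset (Fin r)) (g : alternatingGroup (Fin r)), In S g →
    g ∈ Subgroup.closure {x | ∃ a ∈ S, ∃ b ∈ S, ∃ c ∈ S, a ≠ b ∧ b ≠ c ∧ a ≠ c ∧ x = c3 a b c} := by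
  intro S
  induction hn : S.card using Nat.strong_induction_on generalizing S with
  | _ n ih =>
    intro g hg
    by_cases hfix : ∀ a ∈ S, (g : Perm (Fin r)) a = a
    · have : g = 1 := Subtype.ext (Equiv.ext fun i => by
        by_cases hi : i ∈ S
        · exact hfix i hi
        · exact hg i hi)
      rw [this]
      exact one_mem _
    push Not at hfix
    obtain ⟨a, ha, hab⟩ := hfix
    set b := (g : Perm (Fin r)) a with hb'
    have hb : b ∈ S := by
      by_contra hb
      exact hab ((g : Perm (Fin r)).injective (hg b hb))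
    obtain ⟨c, hc, hca, hcb⟩ : ∃ c ∈ S, c ≠ a ∧ c ≠ b := by
      by_contra h
      push Not at h
      have e : (g : Perm (Fin r)) = swap a b := Equiv.ext fun i => by
        by_cases hia : i = a
        · rw [hia, swap_apply_left]
        by_cases hib : i = b
        · subst hib
          rw [swap_apply_right]
          by_cases hgb : (g : Perm (Fin r)) b ∈ S
          · by_contra hne
            exact hia ((g : Perm (Fin r)).injective (h _ hgb hne))
          · exfalso
            refine hgb ?_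
            rw [(g : Perm (Fin r)).injective (hg _ hgb)]
            exact hb
        rw [swap_apply_of_ne_of_ne hia hib]
        exact hg i fun hi => hib (h i hi hia)
      have hs := Perm.mem_alternatingGroup.1 g.2
      rw [e, Perm.sign_swap (Ne.symm hab)] at hs
      exact absurd hs (by decide)
    have hab' : a ≠ b := Ne.symm hab
    have hg' : In (S.erase a) ((c3 a b c)⁻¹ * g) := fun i hi => by
      rw [Subgroup.coe_mul, Perm.mul_apply, Subgroup.coe_inv, Perm.inv_eq_iff_eq]
      by_cases hia : i = a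
      · subst hia; exact (c3_apply_left hab' (Ne.symm hcb) (Ne.symm hca)).symm
      · have hiS : i ∉ S := fun h => hi (Finset.mem_erase.2 ⟨hia, h⟩)
        rw [hg i hiS, in_c3 ha hb hc i hiS]
    have h1 := Subgroup.closure_mono (show {x | ∃ a' ∈ S.erase a, ∃ b ∈ S.erase a, ∃ c ∈ S.erase a,
        a' ≠ b ∧ b ≠ c ∧ a' ≠ c ∧ x = c3 a' b c} ⊆ {x | ∃ a ∈ S, ∃ b ∈ S, ∃ c ∈ S, a ≠ b ∧ b ≠ c ∧ a ≠ c ∧ x = c3 a b c} from
      fun x ⟨u, hu, v, hv, w, hw, h⟩ => ⟨u, Finset.mem_of_mem_erase hu, v,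
        Finset.mem_of_mem_erase hv, w, Finset.mem_of_mem_erase hw, h⟩)
      (ih (S.erase a).card (hn ▸ Finset.card_erase_lt_of_mem ha) (S.erase a) rfl _ hg')
    have h2 : c3 a b c ∈ Subgroup.closure
        {x | ∃ a ∈ S, ∃ b ∈ S, ∃ c ∈ S, a ≠ b ∧ b ≠ c ∧ a ≠ c ∧ x = c3 a b c} :=
      Subgroup.subset_closure ⟨a, ha, b, hb, c, hc, hab', Ne.symm hcb, Ne.symm hca, rfl⟩
    have := mul_mem h2 h1
    rwa [mul_inv_cancel_left] at this

/-! ### The setting -/

variable {k : Type*} [Field k] {V : Type*} [AddCommGroup V] [Module k V]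
variable {Γ : Type*} [Group Γ]

/-- A perfect central extension of `A_r` with a faithful irreducible representation. -/
structure Cov (π : Γ →* alternatingGroup (Fin r)) (ρ : Γ →* Module.End k V) : Prop where
  hr : 9 ≤ r
  surj : Function.Surjective π
  central : π.ker ≤ Subgroup.center Γ
  perfect : commutator Γ = ⊤
  inj : Function.Injective ρ
  irred : ∀ U : Submodule k V, (∀ γ, ∀ u ∈ U, ρ γ u ∈ U) → U = ⊥ ∨ U = ⊤

/-- The moved space. -/
def moved (ρ : Γ →* Module.End k V) (γ : Γ) : Submodule k V := LinearMap.range (ρ γ - 1)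

/-- The fixed space. -/
def fixd (ρ : Γ →* Module.End k V) (γ : Γ) : Submodule k V := LinearMap.ker (ρ γ - 1)

variable {π : Γ →* alternatingGroup (Fin r)} {ρ : Γ →* Module.End k V}

theorem mem_fixd {γ : Γ} {v : V} : v ∈ fixd ρ γ ↔ ρ γ v = v := by
  rw [fixd, LinearMap.mem_ker, LinearMap.sub_apply, Module.End.one_apply, sub_eq_zero]

theorem rho_mul_apply (γ δ : Γ) (v : V) : ρ (γ * δ) v = ρ γ (ρ δ v) := by
  rw [map_mul]; rfl

theorem rho_inv_apply (γ : Γ) (v : V) : ρ γ⁻¹ (ρ γ v) = v := by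
  rw [← rho_mul_apply, inv_mul_cancel, map_one]; rfl

theorem rho_inv_apply' (γ : Γ) (v : V) : ρ γ (ρ γ⁻¹ v) = v := by
  rw [← rho_mul_apply, mul_inv_cancel, map_one]; rfl

theorem rho_injective (γ : Γ) : Function.Injective (ρ γ) :=
  Function.LeftInverse.injective (rho_inv_apply γ)

/-- Conjugation moves the moved space. -/
theorem moved_conj (γ δ : Γ) : moved ρ (γ * δ * γ⁻¹) = (moved ρ δ).map (ρ γ) := by
  apply le_antisymm
  · rintro _ ⟨v, rfl⟩
    refine ⟨(ρ δ - 1) (ρ γ⁻¹ v), ⟨_, rfl⟩, ?_⟩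
    simp only [LinearMap.sub_apply, Module.End.one_apply, map_sub, rho_mul_apply, rho_inv_apply']
  · rintro _ ⟨_, ⟨v, rfl⟩, rfl⟩
    refine ⟨ρ γ v, ?_⟩
    simp only [LinearMap.sub_apply, Module.End.one_apply, map_sub, rho_mul_apply, rho_inv_apply]

theorem moved_mul_le (γ δ : Γ) : moved ρ (γ * δ) ≤ moved ρ γ ⊔ moved ρ δ := by
  rintro _ ⟨v, rfl⟩
  have e : (ρ (γ * δ) - 1) v = (ρ γ - 1) (ρ δ v) + (ρ δ - 1) v := by
    simp only [LinearMap.sub_apply, Module.End.one_apply, rho_mul_apply]; abel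
  rw [e]
  exact Submodule.add_mem_sup ⟨_, rfl⟩ ⟨_, rfl⟩

theorem moved_one : moved ρ 1 = ⊥ := by simp [moved]

theorem moved_inv (γ : Γ) : moved ρ γ⁻¹ = moved ρ γ := by
  have key : ∀ δ : Γ, moved ρ δ⁻¹ ≤ moved ρ δ := fun δ => by
    rintro _ ⟨v, rfl⟩
    refine ⟨-(ρ δ⁻¹ v), ?_⟩
    simp only [LinearMap.sub_apply, Module.End.one_apply, map_neg, rho_inv_apply']
    abel
  exact le_antisymm (key γ) (by simpa using key γ⁻¹)

theorem fixd_conj {γ δ : Γ} {v : V} (h : v ∈ fixd ρ δ) : ρ γ v ∈ fixd ρ (γ * δ * γ⁻¹) := by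
  rw [mem_fixd] at h ⊢
  rw [rho_mul_apply, rho_mul_apply, rho_inv_apply, h]

section lifts

variable (π)

/-- The lift of odd order. -/
noncomputable def lft (g : alternatingGroup (Fin r)) : Γ :=
  (Function.invFun π g) ^ (orderOf g + 1)

end lifts

variable (C : Cov π ρ)
include C

theorem Cov.card_ker [Finite Γ] : Nat.card π.ker ≤ 2 :=
  Cfsg.Agent.S0892.result r (by have := C.hr; omega) (by have := C.hr; omega)
    (by have := C.hr; omega) π.ker C.central (by rw [C.perfect]; exact le_top)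
    (QuotientGroup.quotientKerEquivOfSurjective π C.surj)

theorem Cov.ker_sq [Finite Γ] {z : Γ} (hz : π z = 1) : z * z = 1 := by
  have h := pow_card_eq_one' (x := (⟨z, hz⟩ : π.ker))
  have h2 := C.card_ker
  have hpos : 0 < Nat.card π.ker := Nat.card_pos
  obtain h | h := (show Nat.card π.ker = 1 ∨ Nat.card π.ker = 2 by omega)
  all_goals rename_i hh
  · rw [h, pow_one] at hh
    have : z = 1 := congrArg Subtype.val hh
    rw [this, one_mul]
  · rw [h, pow_two] at hh
    exact congrArg Subtype.val hh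

theorem Cov.ker_pow_even [Finite Γ] {z : Γ} (hz : π z = 1) {m : ℕ} (hm : Even m) : z ^ m = 1 := by
  obtain ⟨j, rfl⟩ := hm
  rw [← two_mul, pow_mul, pow_two, C.ker_sq hz, one_pow]

theorem Cov.map_lft (g : alternatingGroup (Fin r)) : π (lft π g) = g := by
  rw [lft, map_pow, Function.invFun_eq (C.surj g), pow_succ, pow_orderOf_eq_one, one_mul]

/-- Uniqueness of the lift of odd order. -/
theorem Cov.lft_eq [Finite Γ] {x : Γ} {m : ℕ} (hm : Odd m) (hx : x ^ m = 1) : lft π (π x) = x := by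
  set g := π x
  have ho : Odd (orderOf g) := hm.of_dvd_nat (orderOf_dvd_of_pow_eq_one (by rw [← map_pow, hx, map_one]))
  have hxo : x ^ orderOf g = 1 := by
    have hk : π (x ^ orderOf g) = 1 := by rw [map_pow]; exact pow_orderOf_eq_one g
    obtain ⟨j, hj⟩ := hm
    have h1 : (x ^ orderOf g) ^ m = 1 := by rw [← pow_mul, mul_comm, pow_mul, hx, one_pow]
    rw [hj, pow_succ, pow_mul, pow_two, C.ker_sq hk, one_pow, one_mul] at h1
    exact h1
  set y := Function.invFun π g
  have hy : π y = g := Function.invFun_eq (C.surj g)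
  have hz : π (x⁻¹ * y) = 1 := by rw [map_mul, map_inv, hy, inv_mul_cancel]
  have hc : Commute x (x⁻¹ * y) := Subgroup.mem_center_iff.1 (C.central hz) x
  calc lft π g = y ^ (orderOf g + 1) := rfl
    _ = (x * (x⁻¹ * y)) ^ (orderOf g + 1) := by rw [mul_inv_cancel_left]
    _ = x := by rw [hc.mul_pow, C.ker_pow_even hz ho.add_one, mul_one, pow_succ, hxo, one_mul]

theorem Cov.lft_pow_order [Finite Γ] {g : alternatingGroup (Fin r)} (hg : Odd (orderOf g)) :
    lft π g ^ orderOf g = 1 := by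
  rw [lft, ← pow_mul]
  set y := Function.invFun π g
  have hk : π (y ^ orderOf g) = 1 := by
    rw [map_pow, Function.invFun_eq (C.surj g), pow_orderOf_eq_one]
  rw [mul_comm, pow_mul]
  exact C.ker_pow_even hk hg.add_one

theorem Cov.lft_conj [Finite Γ] {g : alternatingGroup (Fin r)} (hg : Odd (orderOf g)) (γ : Γ) :
    γ * lft π g * γ⁻¹ = lft π (π γ * g * (π γ)⁻¹) := by
  have h := C.lft_eq (x := γ * lft π g * γ⁻¹) hg (by rw [conj_pow, C.lft_pow_order hg, mul_one, mul_inv_cancel])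
  rw [← h, map_mul, map_mul, map_inv, C.map_lft]

theorem Cov.lft_commute [Finite Γ] {g h : alternatingGroup (Fin r)} (hg : Odd (orderOf g))
    (e : Commute g h) : Commute (lft π g) (lft π h) := by
  have := C.lft_conj hg (lft π h)
  rw [C.map_lft, ← e.eq, mul_inv_cancel_right] at this
  exact (mul_inv_eq_iff_eq_mul.1 this).symm

theorem Cov.lft_pow [Finite Γ] {g : alternatingGroup (Fin r)} (hg : Odd (orderOf g)) (i : ℕ) :
    lft π (g ^ i) = lft π g ^ i := by
  have h := C.lft_eq (x := lft π g ^ i) hg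
    (by rw [← pow_mul, mul_comm, pow_mul, C.lft_pow_order hg, one_pow])
  rwa [map_pow, C.map_lft] at h

theorem Cov.moved_ne_bot {γ : Γ} (h : γ ≠ 1) : moved ρ γ ≠ ⊥ := fun e => h (C.inj (by
  rw [map_one]
  rw [moved, LinearMap.range_eq_bot, sub_eq_zero] at e
  exact e))

/-- The elements of the kernel act by scalars. -/
theorem Cov.exists_scalar [IsAlgClosed k] [FiniteDimensional k V] [Nontrivial V] {z : Γ}
    (hz : π z = 1) : ∃ c : k, ∀ v, ρ z v = c • v := by
  obtain ⟨c, hc⟩ := Module.End.exists_eigenvalue (ρ z)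
  refine ⟨c, fun v => ?_⟩
  rcases C.irred ((ρ z).eigenspace c) (fun γ u hu => by
    rw [Module.End.mem_eigenspace_iff] at hu ⊢
    rw [← rho_mul_apply, ← (Subgroup.mem_center_iff.1 (C.central hz) γ), rho_mul_apply, hu, map_smul])
    with h | h
  · exact absurd h hc
  · exact Module.End.mem_eigenspace_iff.1 (h ▸ Submodule.mem_top)

/-- A kernel element fixing a nonzero vector is trivial. -/
theorem Cov.eq_one_of_fix [IsAlgClosed k] [FiniteDimensional k V] [Nontrivial V] {z : Γ}
    (hz : π z = 1) {v : V} (hv : v ≠ 0) (h : ρ z v = v) : z = 1 := by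
  obtain ⟨c, hc⟩ := C.exists_scalar hz
  have h1 : c = 1 := smul_left_injective k hv (by show c • v = (1 : k) • v; rw [← hc, h, one_smul])
  refine C.inj (LinearMap.ext fun w => ?_)
  rw [map_one, hc, h1, one_smul]; rfl

/-- The subgroup over the even permutations of `S`. -/
noncomputable def Cov.gs (_C : Cov π ρ) (S : Finset (Fin r)) : Subgroup Γ :=
  Subgroup.closure {x | ∃ a ∈ S, ∃ b ∈ S, ∃ c ∈ S, a ≠ b ∧ b ≠ c ∧ a ≠ c ∧ x = lft π (c3 a b c)}

theorem Cov.gs_mono {S T : Finset (Fin r)} (h : S ⊆ T) : C.gs S ≤ C.gs T :=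
  Subgroup.closure_mono fun _ ⟨a, ha, b, hb, c, hc, hh⟩ => ⟨a, h ha, b, h hb, c, h hc, hh⟩

theorem Cov.gs_in {S : Finset (Fin r)} {γ : Γ} (h : γ ∈ C.gs S) : In S (π γ) := by
  unfold Cov.gs at h
  induction h using Subgroup.closure_induction with
  | mem x hx =>
    obtain ⟨a, ha, b, hb, c, hc, -, -, -, rfl⟩ := hx
    rw [C.map_lft]; exact in_c3 ha hb hc
  | one => intro i _; rw [map_one]; rfl
  | mul x y _ _ hx hy => rw [map_mul]; exact hx.mul hy
  | inv x _ hx => rw [map_inv]; exact hx.inv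

theorem Cov.exists_gs {S : Finset (Fin r)} {g : alternatingGroup (Fin r)} (hg : In S g) :
    ∃ γ ∈ C.gs S, π γ = g := by
  have h := mem_closure_c3 S g hg
  have hle : Subgroup.closure {x | ∃ a ∈ S, ∃ b ∈ S, ∃ c ∈ S, a ≠ b ∧ b ≠ c ∧ a ≠ c ∧ x = c3 a b c} ≤
      (C.gs S).map π := by
    rw [Subgroup.closure_le]
    rintro _ ⟨a, ha, b, hb, c, hc, h1, h2, h3, rfl⟩
    exact ⟨_, Subgroup.subset_closure ⟨a, ha, b, hb, c, hc, h1, h2, h3, rfl⟩, C.map_lft _⟩
  exact hle h

end CfsgLib.Classical.AltSection
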