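import Mathlib

/-!
Counting orbits of sign patterns under permutations of blocks with parity.
-/

set_option autoImplicit false
set_option linter.unusedSectionVars false

namespace CfsgLib.Classical.AltSection.Orbit

open Finset

variable {q K : ℕ} [NeZero q]

/-- The moved pattern. -/
def act (u : (ZMod q)ˣ) (σ : Equiv.Perm (Fin K)) (b : Fin K → ℕ) (a : Fin K → ZMod q) :
    Fin K → ZMod q :=
  fun i => ((u ^ b (σ.symm i) : (ZMod q)ˣ) : ZMod q) * a (σ.symm i)

/-- The support of a pattern. -/
def supp (a : Fin K → ZMod q) : Finset (Fin K) := univ.filter fun i => a i ≠ 0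

theorem mem_supp {a : Fin K → ZMod q} {i : Fin K} : i ∈ supp a ↔ a i ≠ 0 := by simp [supp]

theorem supp_act (u : (ZMod q)ˣ) (σ : Equiv.Perm (Fin K)) (b : Fin K → ℕ) (a : Fin K → ZMod q)
    (i : Fin K) : i ∈ supp (act u σ b a) ↔ σ.symm i ∈ supp a := by
  rw [mem_supp, mem_supp, act, ne_eq, ne_eq, Units.mul_right_eq_zero]

/-- A set closed under even moves. -/
def Closed (u : (ZMod q)ˣ) (W : Finset (Fin K → ZMod q)) : Prop :=
  ∀ (σ : Equiv.Perm (Fin K)) (b : Fin K → ℕ), Equiv.Perm.sign σ * (-1) ^ (∑ j, b j) = 1 →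
    ∀ a ∈ W, act u σ b a ∈ W

variable {u : (ZMod q)ˣ} {W : Finset (Fin K → ZMod q)}

theorem Closed.free (hW : Closed u W) {a : Fin K → ZMod q} (ha : a ∈ W) {i0 : Fin K}
    (h0 : a i0 = 0) (σ : Equiv.Perm (Fin K)) (b : Fin K → ℕ) : act u σ b a ∈ W := by
  rcases Int.units_eq_one_or (Equiv.Perm.sign σ * (-1) ^ (∑ j, b j)) with h | h
  · exact hW σ b h a ha
  · have hsum : ∑ j, Function.update b i0 (b i0 + 1) j = (∑ j, b j) + 1 := by
      rw [Finset.sum_update_of_mem (mem_univ i0), ← Finset.sum_erase_add _ _ (mem_univ i0),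
        Finset.sdiff_singleton_eq_erase]
      omega
    have he : act u σ (Function.update b i0 (b i0 + 1)) a = act u σ b a := by
      funext i
      simp only [act]
      by_cases hi : σ.symm i = i0
      · rw [hi, h0, mul_zero, mul_zero]
      · rw [Function.update_of_ne hi]
    rw [← he]
    refine hW σ _ ?_ a ha
    rw [hsum, pow_succ, ← mul_assoc, h]
    rfl

variable (hu : ∀ n m : ℕ, n < q - 1 → m < q - 1 → u ^ n = u ^ m → n = m)
variable (hcan : ∀ (e e' : (ZMod q)ˣ) (x : ZMod q), x ≠ 0 → (e : ZMod q) * x = e' * x → e = e')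
include hu hcan

/-- Patterns with a zero: many of each support size. -/
theorem card_middle (hW : Closed u W) {a : Fin K → ZMod q} (ha : a ∈ W) {j : ℕ}
    (hj : (supp a).card = j) (hjK : j < K) (d : ℕ) (hd : d ≤ j) :
    K.choose j * (q - 1) ^ d ≤ (W.filter fun c => (supp c).card = j).card := by
  classical
  obtain ⟨i0, hi0⟩ : ∃ i0, a i0 = 0 := by
    by_contra h
    push Not at h
    have : supp a = univ := eq_univ_of_forall fun i => mem_supp.2 (h i)
    rw [this, card_univ, Fintype.card_fin] at hj
    omega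
  have fib : ∀ T ∈ powersetCard j (univ : Finset (Fin K)),
      (q - 1) ^ d ≤ ((W.filter fun c => (supp c).card = j).filter fun c => supp c = T).card := by
    intro T hT
    rw [mem_powersetCard] at hT
    obtain ⟨f, hf⟩ : ∃ f : Fin d → Fin K, Function.Injective f ∧ ∀ l, f l ∈ T :=
      ⟨fun l => T.orderEmbOfFin hT.2 (Fin.castLE hd l),
        (T.orderEmbOfFin hT.2).injective.comp (Fin.castLE_injective hd),
        fun l => T.orderEmbOfFin_mem hT.2 _⟩
    let e : {i // i ∈ supp a} ≃ {i // i ∈ T} := Fintype.equivOfCardEq (by simp [hj, hT.2])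
    set σ := e.extendSubtype
    have hσ : ∀ i, i ∈ T ↔ σ.symm i ∈ supp a := fun i => by
      constructor
      · intro hi
        by_contra hc
        exact e.extendSubtype_not_mem _ hc (by rwa [Equiv.apply_symm_apply])
      · intro hi
        have := e.extendSubtype_mem _ hi
        rwa [Equiv.apply_symm_apply] at this
    let F : (Fin d → Fin (q - 1)) → (Fin K → ZMod q) := fun x =>
      act u σ (fun i => if h : ∃ l, f l = σ i then (x h.choose).1 else 0) a
    have hinj : Function.Injective F := by
      intro x y hxy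
      funext l
      have h := congrFun hxy (f l)
      have hex : ∃ l', f l' = σ (σ.symm (f l)) := ⟨l, (Equiv.apply_symm_apply _ _).symm⟩
      simp only [F, act, dif_pos hex] at h
      have hl : hex.choose = l := hf.1 (hex.choose_spec.trans (Equiv.apply_symm_apply _ _))
      rw [hl] at h
      exact Fin.ext (hu _ _ (x l).2 (y l).2
        (hcan _ _ _ (mem_supp.1 ((hσ _).1 (hf.2 l))) h))
    have hsub : univ.image F ⊆ (W.filter fun c => (supp c).card = j).filter fun c => supp c = T := by
      intro c hc
      obtain ⟨x, -, rfl⟩ := mem_image.1 hc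
      have hs : supp (F x) = T := by
        ext i
        rw [supp_act, hσ]
      exact mem_filter.2 ⟨mem_filter.2 ⟨hW.free ha hi0 _ _, hs ▸ hT.2⟩, hs⟩
    have := card_le_card hsub
    rwa [card_image_of_injective _ hinj, card_univ, Fintype.card_fun, Fintype.card_fin,
      Fintype.card_fin] at this
  have h1 : (W.filter fun c => (supp c).card = j).card =
      ∑ T ∈ powersetCard j (univ : Finset (Fin K)),
        ((W.filter fun c => (supp c).card = j).filter fun c => supp c = T).card :=
    card_eq_sum_card_fiberwise fun c hc =>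
      mem_powersetCard.2 ⟨subset_univ _, (mem_filter.1 hc).2⟩
  rw [h1]
  calc K.choose j * (q - 1) ^ d = ∑ _T ∈ powersetCard j (univ : Finset (Fin K)), (q - 1) ^ d := by
        rw [sum_const, card_powersetCard, card_univ, Fintype.card_fin, smul_eq_mul]
    _ ≤ _ := sum_le_sum fib

/-- Patterns without zeros: half of all. -/
theorem card_full (hW : Closed u W) (hev : Even (q - 1)) (hK : 0 < K) {a : Fin K → ZMod q} (ha : a ∈ W)
    (hfull : (supp a).card = K) :
    (q - 1) ^ (K - 1) * ((q - 1) / 2) ≤ (W.filter fun c => (supp c).card = K).card := by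
  classical
  have hall : ∀ i, a i ≠ 0 := fun i => mem_supp.1 (by
    rw [(card_eq_iff_eq_univ (supp a)).1 (by rw [hfull, Fintype.card_fin])]
    exact mem_univ i)
  set i0 : Fin K := ⟨0, hK⟩
  obtain ⟨hh, hhh⟩ := hev
  let B : ({i : Fin K // i ≠ i0} → Fin (q - 1)) × Fin ((q - 1) / 2) → Fin K → ℕ := fun x i =>
    if h : i = i0 then (∑ l, (x.1 l).1) % 2 + 2 * x.2.1 else (x.1 ⟨i, h⟩).1
  have hlt : ∀ x i, B x i < q - 1 := fun x i => by
    simp only [B]
    split_ifs
    · have := x.2.2; omega
    · exact (x.1 _).2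
  have hpar : ∀ x, Even (∑ i, B x i) := fun x => by
    rw [← Finset.sum_erase_add _ _ (mem_univ i0)]
    have e : ∑ i ∈ univ.erase i0, B x i = ∑ l, (x.1 l).1 := by
      rw [← Finset.sum_attach]
      refine Finset.sum_bij' (fun i _ => ⟨i.1, Finset.ne_of_mem_erase i.2⟩)
        (fun l _ => ⟨l.1, mem_erase.2 ⟨l.2, mem_univ _⟩⟩) (fun _ _ => mem_univ _)
        (fun _ _ => mem_attach _ _) (fun _ _ => rfl) (fun _ _ => rfl) fun i _ => ?_
      simp [B, Finset.ne_of_mem_erase i.2]
    rw [e, show B x i0 = (∑ l, (x.1 l).1) % 2 + 2 * x.2.1 by simp [B], Nat.even_iff]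
    omega
  let F := fun x => act u (1 : Equiv.Perm (Fin K)) (B x) a
  have hinj : Function.Injective F := by
    intro x y hxy
    have hB : ∀ i, B x i = B y i := fun i =>
      hu _ _ (hlt x i) (hlt y i) (hcan _ _ _ (hall i) (congrFun hxy i))
    refine Prod.ext (funext fun l => Fin.ext ?_) (Fin.ext ?_)
    · have := hB l.1
      simpa [B, l.2] using this
    · have h1 : x.1 = y.1 := funext fun l => Fin.ext (by
        have := hB l.1
        simpa [B, l.2] using this)
      have := hB i0
      simp only [B, dif_pos, h1] at this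
      omega
  have hsub : univ.image F ⊆ W.filter fun c => (supp c).card = K := by
    intro c hc
    obtain ⟨x, -, rfl⟩ := mem_image.1 hc
    refine mem_filter.2 ⟨hW 1 (B x) (by rw [map_one, one_mul, (hpar x).neg_one_pow]) a ha, ?_⟩
    rw [show supp (F x) = univ from eq_univ_of_forall fun i =>
      (supp_act _ _ _ _ i).2 (mem_supp.2 (hall _)), card_univ, Fintype.card_fin]
  have := card_le_card hsub
  rwa [card_image_of_injective _ hinj, card_univ, Fintype.card_prod, Fintype.card_fun,
    Fintype.card_fin, Fintype.card_fin, Fintype.card_subtype_compl, Fintype.card_subtype_eq,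
    Fintype.card_fin] at this

end CfsgLib.Classical.AltSection.Orbit
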