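import Cfsg.Agent.Lib.Classical.AltSection.Blocks
import Cfsg.Agent.Lib.Classical.AltSection.Orbit

/-!
Disjoint cycles of length three and five in small representations of covers of alternating groups.
-/

set_option autoImplicit false
set_option linter.unusedSectionVars false

namespace CfsgLib.Classical.AltSection

open Equiv Finset

/-- A multiplier generating the units. -/
structure Mult (q : ℕ) [NeZero q] where
  u : (ZMod q)ˣ
  w : (ZMod q)ˣ
  mul : w * u = 1
  sign : Perm.sign (Units.mulLeft w) = -1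
  inj : ∀ n m : ℕ, n < q - 1 → m < q - 1 → u ^ n = u ^ m → n = m
  cancel : ∀ (e e' : (ZMod q)ˣ) (x : ZMod q), x ≠ 0 → (e : ZMod q) * x = e' * x → e = e'

/-- The multiplier for three. -/
def mult3 : Mult 3 where
  u := ⟨2, 2, by decide, by decide⟩
  w := ⟨2, 2, by decide, by decide⟩
  mul := by decide
  sign := by decide
  inj n m hn hm h := by
    interval_cases n <;> interval_cases m <;> first | rfl | exact absurd h (by decide)
  cancel e e' x hx h := by
    haveI : Fact (Nat.Prime 3) := ⟨Nat.prime_three⟩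
    exact Units.ext (mul_right_cancel₀ hx h)

/-- The multiplier for five. -/
def mult5 : Mult 5 where
  u := ⟨2, 3, by decide, by decide⟩
  w := ⟨3, 2, by decide, by decide⟩
  mul := by decide
  sign := by decide
  inj n m hn hm h := by
    interval_cases n <;> interval_cases m <;> first | rfl | exact absurd h (by decide)
  cancel e e' x hx h := by
    haveI : Fact (Nat.Prime 5) := ⟨by norm_num⟩
    exact Units.ext (mul_right_cancel₀ hx h)

theorem le_choose : ∀ K j : ℕ, 0 < j → j < K → K ≤ K.choose j := by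
  intro K
  induction K with
  | zero => intro j _ h; omega
  | succ K ih =>
    intro j hj hjK
    obtain ⟨i, rfl⟩ : ∃ i, j = i + 1 := ⟨j - 1, by omega⟩
    rw [Nat.choose_succ_succ]
    rcases Nat.eq_zero_or_pos i with rfl | hi
    · simp [Nat.choose_one_right]
    · have h1 := ih i hi (by omega)
      have h2 : 0 < K.choose (i + 1) := Nat.choose_pos (by omega)
      rw [Nat.succ_eq_add_one]
      omega

theorem two_pow_gt : ∀ K : ℕ, 3 ≤ K → K < 2 ^ (K - 1) := by
  intro K hK
  induction K, hK using Nat.le_induction with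
  | base => norm_num
  | succ K hK ih =>
    rw [show K + 1 - 1 = K - 1 + 1 by omega, pow_succ]
    omega

theorem four_pow_gt : ∀ K : ℕ, 3 ≤ K → 5 * K + 2 < 4 ^ (K - 1) * 2 := by
  intro K hK
  induction K, hK using Nat.le_induction with
  | base => norm_num
  | succ K hK ih =>
    rw [show K + 1 - 1 = K - 1 + 1 by omega, pow_succ]
    omega

variable {k : Type*} [Field k] [IsAlgClosed k] {V : Type*} [AddCommGroup V] [Module k V]
  [FiniteDimensional k V]
variable {Γ : Type*} [Group Γ] [Finite Γ] {r K : ℕ}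
variable {π : Γ →* alternatingGroup (Fin r)} {ρ : Γ →* Module.End k V}

theorem closed_Wt {q : ℕ} [NeZero q] (C : Cov π ρ) (hodd : Odd q) (ι : Fin K × ZMod q ↪ Fin r)
    {ζ : k} (hζ : IsPrimitiveRoot ζ q) (M : Mult q) :
    Orbit.Closed M.u (Wt π ρ hodd ι ζ) := fun σ b h _ ha =>
  Wt_move C hodd ι hζ M.w M.u M.mul M.sign σ b (Or.inl h) ha

/-- Blocks of three: either the displacements annihilate each other or they move the same space. -/
theorem pair_three (C : Cov π ρ) (h3 : ((3 : ℕ) : k) ≠ 0) (hodd : Odd 3)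
    (ι : Fin K × ZMod 3 ↪ Fin r) (hK : 3 ≤ K) (hn : Module.finrank k V ≤ 3 * K) {i j : Fin K}
    (hij : i ≠ j) :
    (X π ρ hodd ι i - 1) * (X π ρ hodd ι j - 1) = 0 ∨
      LinearMap.range (X π ρ hodd ι i - 1) = LinearMap.range (X π ρ hodd ι j - 1) := by
  classical
  haveI : NeZero ((3 : ℕ) : k) := ⟨h3⟩
  obtain ⟨ζ, hζ⟩ := Eigen.exists_primitive (k := k) 3
  refine or_iff_not_imp_left.2 fun hne => ?_
  set W := Wt π ρ hodd ι ζ
  have hW : Orbit.Closed mult3.u W := closed_Wt C hodd ι hζ mult3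
  have hcard : W.card ≤ 3 * K := (card_Wt_le hodd ι hζ).trans hn
  have big : ∀ a ∈ W, ∀ l, (Orbit.supp a).card = l → 2 ≤ l → l < K → False := by
    intro a ha l hl h2 hlK
    have h := Orbit.card_middle mult3.inj mult3.cancel hW ha hl hlK 2 h2
    have h1 := card_filter_le W fun c => (Orbit.supp c).card = l
    have h4 : K * 4 ≤ K.choose l * (3 - 1) ^ 2 := Nat.mul_le_mul_right _ (le_choose K l (by omega) hlK)
    omega
  have hle : ∀ a, (Orbit.supp a : Finset (Fin K)).card ≤ K := fun a => by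
    have := card_le_univ (Orbit.supp (q := 3) a)
    rwa [Fintype.card_fin] at this
  obtain ⟨a, ha, hai, haj⟩ := exists_weight_two C hodd ι hζ h3 hne
  have h2 : 2 ≤ (Orbit.supp a).card :=
    one_lt_card.2 ⟨i, Orbit.mem_supp.2 hai, j, Orbit.mem_supp.2 haj, hij⟩
  have hfull : (Orbit.supp a).card = K := by
    rcases (hle a).eq_or_lt with h | h
    · exact h
    · exact (big a ha _ rfl h2 h).elim
  have hF := Orbit.card_full mult3.inj mult3.cancel hW ⟨1, rfl⟩ (by omega) ha hfull
  have key : ∀ i' j' : Fin K, LinearMap.range (X π ρ hodd ι i' - 1) ≤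
      LinearMap.range (X π ρ hodd ι j' - 1) := by
    intro i' j'
    by_contra hno
    obtain ⟨c, hc, hci, hcj⟩ := exists_weight_one C hodd ι hζ h3 hno
    have hpos : 0 < (Orbit.supp c).card := card_pos.2 ⟨i', Orbit.mem_supp.2 hci⟩
    have hlt : (Orbit.supp c).card < K := by
      refine (hle c).lt_of_ne fun e => ?_
      have := (card_eq_iff_eq_univ (Orbit.supp c)).1 (by rw [e, Fintype.card_fin])
      exact Orbit.mem_supp.1 (this.symm ▸ mem_univ j') hcj
    rcases Nat.lt_or_ge (Orbit.supp c).card 2 with h | h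
    · have h1 := Orbit.card_middle mult3.inj mult3.cancel hW hc (j := 1) (by omega) (by omega) 1 le_rfl
      rw [Nat.choose_one_right, pow_one] at h1
      have hd : Disjoint (W.filter fun c => (Orbit.supp c).card = K)
          (W.filter fun c => (Orbit.supp c).card = 1) :=
        disjoint_filter.2 fun x _ e => by omega
      have h3' := card_le_card (union_subset (filter_subset (fun c => (Orbit.supp c).card = K) W)
        (filter_subset (fun c => (Orbit.supp c).card = 1) W))
      rw [card_union_of_disjoint hd] at h3'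
      have := two_pow_gt K hK
      norm_num at hF
      omega
    · exact big c hc _ rfl h hlt
  exact le_antisymm (key i j) (key j i)

/-- Blocks of five: the displacements annihilate each other. -/
theorem pair_five (C : Cov π ρ) (h5 : ((5 : ℕ) : k) ≠ 0) (hodd : Odd 5)
    (ι : Fin K × ZMod 5 ↪ Fin r) (hn : Module.finrank k V ≤ 5 * K + 2) {i j : Fin K} (hij : i ≠ j) :
    (X π ρ hodd ι i - 1) * (X π ρ hodd ι j - 1) = 0 := by
  classical
  haveI : NeZero ((5 : ℕ) : k) := ⟨h5⟩
  obtain ⟨ζ, hζ⟩ := Eigen.exists_primitive (k := k) 5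
  by_contra hne
  set W := Wt π ρ hodd ι ζ
  have hW : Orbit.Closed mult5.u W := closed_Wt C hodd ι hζ mult5
  have hcard : W.card ≤ 5 * K + 2 := (card_Wt_le hodd ι hζ).trans hn
  obtain ⟨a, ha, hai, haj⟩ := exists_weight_two C hodd ι hζ h5 hne
  have h2 : 2 ≤ (Orbit.supp a).card :=
    one_lt_card.2 ⟨i, Orbit.mem_supp.2 hai, j, Orbit.mem_supp.2 haj, hij⟩
  have hle : (Orbit.supp a).card ≤ K := by
    have := card_le_univ (Orbit.supp a)
    rwa [Fintype.card_fin] at this
  have h1 := fun l => card_filter_le W fun c => (Orbit.supp c).card = l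
  rcases hle.eq_or_lt with hfull | hlt
  swap
  · have h := Orbit.card_middle mult5.inj mult5.cancel hW ha rfl hlt 2 h2
    have h4 : K * 16 ≤ K.choose (Orbit.supp a).card * (5 - 1) ^ 2 :=
      Nat.mul_le_mul_right _ (le_choose K _ (by omega) hlt)
    have := h1 (Orbit.supp a).card
    omega
  rcases Nat.lt_or_ge K 3 with h3 | h3
  · obtain rfl : K = 2 := by omega
    have hall : ∀ l, a l ≠ 0 := fun l => Orbit.mem_supp.1 (by
      rw [(card_eq_iff_eq_univ (Orbit.supp a)).1 (by rw [hfull, Fintype.card_fin])]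
      exact mem_univ l)
    have dec : ∀ a0 a1 c0 c1 : ZMod 5, a0 ≠ 0 → a1 ≠ 0 → c0 ≠ 0 → c1 ≠ 0 →
        ∃ b0 b1 : Fin 4, ((b0.1 + b1.1) % 2 = 0 ∧ c0 = 2 ^ b0.1 * a0 ∧ c1 = 2 ^ b1.1 * a1) ∨
          ((b0.1 + b1.1) % 2 = 1 ∧ c0 = 2 ^ b1.1 * a1 ∧ c1 = 2 ^ b0.1 * a0) := by decide
    have hmem : ∀ c : Fin 2 → ZMod 5, (∀ l, c l ≠ 0) → c ∈ W := by
      intro c hc
      obtain ⟨b0, b1, h | h⟩ := dec _ _ _ _ (hall 0) (hall 1) (hc 0) (hc 1)
      · obtain ⟨hp, e0, e1⟩ := h
        have := hW 1 ![b0.1, b1.1] (by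
          rw [map_one, one_mul, Fin.sum_univ_two]
          exact (Nat.even_iff.2 hp).neg_one_pow) a ha
        convert this using 1
        funext l
        fin_cases l
        · simpa [Orbit.act, mult5, Equiv.Perm.one_def] using e0
        · simpa [Orbit.act, mult5, Equiv.Perm.one_def] using e1
      · obtain ⟨hp, e0, e1⟩ := h
        have := hW (Equiv.swap 0 1) ![b0.1, b1.1] (by
          rw [Perm.sign_swap (by decide), Fin.sum_univ_two]
          show -1 * (-1 : ℤˣ) ^ (b0.1 + b1.1) = 1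
          rw [(Nat.odd_iff.2 hp).neg_one_pow]; rfl) a ha
        convert this using 1
        funext l
        fin_cases l
        · simpa [Orbit.act, mult5, Equiv.Perm.one_def] using e0
        · simpa [Orbit.act, mult5, Equiv.Perm.one_def] using e1
    have h16 : (univ.filter fun c : Fin 2 → ZMod 5 => ∀ l, c l ≠ 0).card = 16 := by decide
    have := card_le_card (show (univ.filter fun c : Fin 2 → ZMod 5 => ∀ l, c l ≠ 0) ⊆ W from
      fun c hc => hmem c (mem_filter.1 hc).2)
    omega
  · have hF := Orbit.card_full mult5.inj mult5.cancel hW ⟨2, rfl⟩ (by omega) ha hfull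
    have := four_pow_gt K h3
    have := h1 K
    norm_num at hF
    omega

/-- The moved space of a cycle consists of equally many copies of each nontrivial eigenvalue. -/
theorem exists_multiplicity {q : ℕ} [NeZero q] (C : Cov π ρ) (hodd : Odd q) (hq : 1 < q)
    (hqk : (q : k) ≠ 0) (M : Mult q) (ι : Fin 1 × ZMod q ↪ Fin r) (hroom : q + 2 ≤ r)
    (hcyc : ∀ c : ZMod q, c ≠ 0 → ∃ n, c = (M.u ^ n : (ZMod q)ˣ)) :
    ∃ (ζ : k) (m : ℕ), IsPrimitiveRoot ζ q ∧ 0 < m ∧
      Module.finrank k (moved ρ (lft π (xB hodd ι 0))) = (q - 1) * m ∧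
      ∀ c : ZMod q, c ≠ 0 → Module.finrank k (Eigen.E ζ (X π ρ hodd ι 0) c) = m := by
  classical
  haveI : NeZero (q : k) := ⟨hqk⟩
  obtain ⟨ζ, hζ⟩ := Eigen.exists_primitive (k := k) q
  let e : ZMod q → ℕ := fun c => Module.finrank k (Eigen.E ζ (X π ρ hodd ι 0) c)
  have hJ : ∀ a : Fin 1 → ZMod q, J π ρ hodd ι ζ a = Eigen.E ζ (X π ρ hodd ι 0) (a 0) :=
    fun a => (iInf_unique (f := fun i => Eigen.E ζ (X π ρ hodd ι i) (a i)))
  have mono : ∀ (n : ℕ) (c : ZMod q), e c ≤ e (((M.u ^ n : (ZMod q)ˣ) : ZMod q) * c) := by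
    intro n c
    obtain ⟨γ, hγ⟩ := exists_move C hodd ι hζ M.w M.u M.mul M.sign 1 (fun _ => n)
      (Or.inr (by omega)) (fun _ => c)
    rw [hJ, hJ] at hγ
    exact LinearMap.finrank_le_finrank_of_injective (f := (ρ γ).restrict hγ)
      fun x y h => Subtype.ext (rho_injective γ (congrArg Subtype.val h))
  have hone : ∀ c : ZMod q, c ≠ 0 → e c = e 1 := fun c hc => by
    obtain ⟨n, rfl⟩ := hcyc c hc
    refine le_antisymm ?_ (by simpa using mono n 1)
    obtain ⟨n', hn'⟩ := hcyc ((M.u ^ n)⁻¹ : (ZMod q)ˣ) (by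
      haveI : Fact (1 < q) := ⟨hq⟩
      exact Units.ne_zero _)
    have := mono n' (M.u ^ n : (ZMod q)ˣ)
    rwa [← hn', ← Units.val_mul, inv_mul_cancel, Units.val_one] at this
  have hfr : Module.finrank k (moved ρ (lft π (xB hodd ι 0))) = (q - 1) * e 1 := by
    have hm : moved ρ (lft π (xB hodd ι 0)) = ⨆ j ∈ univ.erase (0 : ZMod q), Eigen.E ζ (X π ρ hodd ι 0) j :=
      Eigen.range_eq hζ hqk (X_pow C hodd ι 0)
    rw [hm, Eigen.finrank_iSup_E hζ,
      sum_congr rfl fun c hc => hone c (mem_erase.1 hc).1, sum_const, card_erase_of_mem (mem_univ _),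
      card_univ, ZMod.card, smul_eq_mul]
  refine ⟨ζ, e 1, hζ, Nat.pos_of_ne_zero fun h0 => ?_, hfr, hone⟩
  refine C.moved_ne_bot (γ := lft π (xB hodd ι 0)) (fun h => ?_) (Submodule.finrank_eq_zero.1 (by rw [hfr, h0, mul_zero]))
  have := congrArg π h
  rw [C.map_lft, map_one] at this
  exact xB_ne_one hodd hq ι 0 this

end CfsgLib.Classical.AltSection
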