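import Cfsg.Agent.Lib.Classical.AltSection.E6Cover
import Cfsg.Agent.Lib.Classical.AltSection.ChevSection

/-!
The degree of an alternating section of a group of type E6.
-/

set_option autoImplicit false
set_option maxRecDepth 100000
set_option maxHeartbeats 1000000

namespace CfsgLib.Classical.AltSection.E6Alt

open Cfsg.Lie CfsgLib.Chev

variable {F : Type*} [Field F] [Fintype F]

theorem not_dvd_card {p : ℕ} [CharP F p] {ℓ : ℕ} (hℓ : ℓ.Prime) (hne : p ≠ ℓ) :
    ¬ ℓ ∣ Fintype.card F := fun h => by
  obtain ⟨n, hp, hcard⟩ := FiniteField.card F p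
  rw [hcard] at h
  exact hne ((Nat.prime_dvd_prime_iff_eq hℓ hp).1 (hℓ.dvd_of_dvd_pow h)).symm

theorem two_pow_eight : (2 : ZMod 11) ^ 8 = 3 := by decide

/-- No section on thirteen points outside characteristic eleven. -/
theorem lt_thirteen {p : ℕ} [CharP F p] (hp : p ≠ 11) {r : ℕ} {H : Subgroup ↥(chevE6.group F)}
    (π : H →* alternatingGroup (Fin r)) (hπ : Function.Surjective π) : r < 13 := by
  by_contra hr
  haveI : Fact (Nat.Prime 11) := ⟨by norm_num⟩
  obtain ⟨f, hf⟩ := ChevSection.exists_embedding (k := 13) (r := r) (by omega)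
  let g : alternatingGroup (Fin 13) := [c3 0 1 2, c3 2 3 4, c3 4 5 6, c3 6 7 8, c3 8 9 10].prod
  let y : alternatingGroup (Fin 13) :=
    [c3 1 2 3, c3 2 4 3, c3 3 6 4, c3 4 8 5, c3 5 10 7, c3 9 10 11, c3 10 11 12].prod
  have hg : g ^ 11 = 1 := by decide +kernel
  have hg1 : g ≠ 1 := by decide +kernel
  have hy : y ^ 10 = 1 := by decide +kernel
  have hyg : y * g * y⁻¹ = g ^ 2 := by decide +kernel
  obtain ⟨xs, y', ho, -, hy'⟩ := Lift.exists_lift hπ (fun _ : Unit => f g) (fun _ => 11)
    (fun _ => by norm_num) (fun _ _ _ => Subsingleton.elim _ _)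
    (fun _ => by rw [orderOf_injective f hf]; exact orderOf_eq_prime hg hg1)
    (fun _ _ => Commute.refl _) (f y) (fun _ => 2)
    (fun _ => by rw [← map_inv, ← map_mul, ← map_mul, ← map_pow, hyg])
    (fun _ hd => by
      rw [orderOf_injective f hf] at hd
      exact absurd (Nat.le_of_dvd (by norm_num) (hd.trans (orderOf_dvd_of_pow_eq_one hy))) (by norm_num))
  let c : H →* GL chevE6.Idx F := (chevE6.group F).subtype.comp H.subtype
  have hc : Function.Injective c := Subtype.val_injective.comp Subtype.val_injective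
  obtain ⟨L, _, _, _, _, _, X, -, -, -, hX0, hbal⟩ := E6Fusion.exists_balanced (ℓ := 11) (by norm_num)
    (by decide) (not_dvd_card (p := p) (by norm_num) hp) (x := c (xs ())) (y := c y') (xs ()).1.2
    (by rw [orderOf_injective c hc, ho]) y'.1.2 (a := 2)
    (by rw [← map_inv, ← map_mul, ← map_mul, ← map_pow, hy'])
  set d : Fin 6 → ZMod 11 := fun i => (X (E6Fusion.e6 i) : ZMod 11)
  have h2 : ∀ j, E6Weights.num d j = E6Weights.num d (2 * j) := fun j => by
    have := hbal j
    rwa [Nat.cast_ofNat] at this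
  have hpow : ∀ (i : ℕ) j, E6Weights.num d j = E6Weights.num d (2 ^ i * j) := by
    intro i
    induction i with
    | zero => intro j; rw [pow_zero, one_mul]
    | succ i ih => intro j; rw [ih j, h2, ← mul_assoc, pow_succ']
  have h8 := two_pow_eight
  obtain ⟨j, hj⟩ := (E6Weights.num_eleven hX0 fun j => by rw [hpow 8 j, h8]).2
  exact hj (h2 j)

/-- No section on twelve points in characteristic prime to thirty. -/
theorem lt_twelve {p : ℕ} [CharP F p] (hp2 : p ≠ 2) (hp3 : p ≠ 3) {r : ℕ}
    {H : Subgroup ↥(chevE6.group F)} (π : H →* alternatingGroup (Fin r)) (hπ : Function.Surjective π) :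
    r < 12 := by
  by_contra hr
  obtain ⟨f, hf⟩ := ChevSection.exists_embedding (k := 12) (r := r) (by omega)
  let P : Subgroup H := f.range.comap π
  let H' : Subgroup ↥(chevE6.group F) := P.map H.subtype
  let eP : P ≃* H' := P.equivMapOfInjective _ H.subtype_injective
  let πP : P →* alternatingGroup (Fin 12) :=
    (MonoidHom.ofInjective hf).symm.toMonoidHom.comp ((π.comp P.subtype).codRestrict f.range fun γ => γ.2)
  have hπP : Function.Surjective πP := fun a => by
    obtain ⟨γ, hγ⟩ := hπ (f a)
    refine ⟨⟨γ, a, hγ.symm⟩, ?_⟩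
    apply (MonoidHom.ofInjective hf).injective
    rw [MonoidHom.comp_apply, MulEquiv.coe_toMonoidHom, MulEquiv.apply_symm_apply]
    exact Subtype.ext hγ
  let π' : H' →* alternatingGroup (Fin 12) := πP.comp eP.symm.toMonoidHom
  have hπ' : Function.Surjective π' := hπP.comp eP.symm.surjective
  have h2 : (2 : F) ≠ 0 := fun e => by
    have h : ((2 : ℕ) : F) = 0 := by exact_mod_cast e
    rw [CharP.cast_eq_zero_iff F p] at h
    exact hp2 ((Nat.prime_dvd_prime_iff_eq (CharP.char_is_prime F p) Nat.prime_two).1 h)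
  have h3 : (3 : F) ≠ 0 := fun e => by
    have h : ((3 : ℕ) : F) = 0 := by exact_mod_cast e
    rw [CharP.cast_eq_zero_iff F p] at h
    exact hp3 ((Nat.prime_dvd_prime_iff_eq (CharP.char_is_prime F p) Nat.prime_three).1 h)
  have hcard : Nat.card (alternatingGroup (Fin 12)) = 239500800 := by
    have h := two_mul_nat_card_alternatingGroup (α := Fin 12)
    rw [Nat.card_perm, Nat.card_fin, show Nat.factorial 12 = 479001600 by decide] at h
    omega
  by_cases hp7 : p = 7
  · haveI : Fact (Nat.Prime 11) := ⟨by norm_num⟩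
    have hp : p ≠ 11 := by omega
    obtain ⟨c, hc, hbal, hle⟩ := E6Cover.exists_num (ℓ := 11) (a := 3) (by decide)
      (not_dvd_card (p := p) (by norm_num) hp) h2 h3 (by rw [hcard]; norm_num) π' hπ'
      (cs := [c3 0 1 2, c3 2 3 4, c3 4 5 6, c3 6 7 8, c3 8 9 10])
      (by
        intro g hg
        simp only [List.mem_cons, List.not_mem_nil, or_false] at hg
        rcases hg with rfl | rfl | rfl | rfl | rfl <;>
          exact ⟨_, _, _, by decide, by decide, by decide, rfl⟩) rfl
      ⟨Finset.univ.erase 11, by decide, by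
        show ∀ i, i ∉ Finset.univ.erase (11 : Fin 12) → _ = i
        decide +kernel⟩
      (by decide +kernel) (by decide +kernel)
      (y := [c3 1 3 2, c3 2 6 3, c3 3 9 4, c3 5 9 6, c3 6 7 8, c3 7 10 8, c3 8 9 10].prod)
      (by decide +kernel)
    have := (E6Weights.num_eleven hc fun j => by rw [hbal j, Nat.cast_ofNat]).1
    omega
  · haveI : Fact (Nat.Prime 7) := ⟨by norm_num⟩
    obtain ⟨c, hc, hbal, hle⟩ := E6Cover.exists_num (ℓ := 7) (a := 3) (by decide)
      (not_dvd_card (p := p) (by norm_num) hp7) h2 h3 (by rw [hcard]; norm_num) π' hπ'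
      (cs := [c3 0 1 2, c3 2 3 4, c3 4 5 6])
      (by
        intro g hg
        simp only [List.mem_cons, List.not_mem_nil, or_false] at hg
        rcases hg with rfl | rfl | rfl <;>
          exact ⟨_, _, _, by decide, by decide, by decide, rfl⟩) rfl
      ⟨{0, 1, 2, 3, 4, 5, 6}, by decide, by
        show ∀ i, i ∉ ({0, 1, 2, 3, 4, 5, 6} : Finset (Fin 12)) → _ = i
        decide +kernel⟩
      (by decide +kernel) (by decide +kernel)
      (y := [c3 1 3 2, c3 2 6 4, c3 4 5 10, c3 5 10 11].prod)
      (by decide +kernel)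
    have := E6Weights.num_seven hc fun j => by rw [hbal j, Nat.cast_ofNat]
    omega

/-- The bound on the degree. -/
theorem degree_le (p : ℕ) [CharP F p] (r : ℕ) (H : Subgroup ↥(chevE6.group F))
    (π : H →* alternatingGroup (Fin r)) (hπ : Function.Surjective π) :
    r ≤ 11 + (if p = 2 ∨ p = 3 ∨ p = 5 then 1 else 0) := by
  split_ifs with h
  · have := lt_thirteen (p := p) (by omega) π hπ
    omega
  · push Not at h
    have := lt_twelve (p := p) h.1 h.2.1 π hπ
    omega

end CfsgLib.Classical.AltSection.E6Alt
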