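import Cfsg.Agent.Lib.Classical.AltSection.TwelveBlocks

/-!
The space moved by an element of prime order in a representation of degree at most twenty-seven of a
minimal cover of the alternating group on twelve points.
-/

set_option autoImplicit false
set_option linter.unusedSectionVars false
set_option maxRecDepth 100000
set_option maxHeartbeats 1000000

namespace CfsgLib.Classical.AltSection.Twelve

open Equiv Finset Module

theorem bd_add {a b : ℕ} (h : a + b ≤ 27) : bd a + bd b ≤ bd (a + b) := by
  unfold bd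
  split_ifs <;> omega

/-- The bound on the moved space for a minimal cover, with a defect allowed by the blocks. -/
theorem core (e : ℕ) (he : e = 0 ∨ (Natural ∧ 1 ≤ e)) : ∀ (n : ℕ) (k : Type) [Field k] [IsAlgClosed k],
    (2 : k) ≠ 0 → (3 : k) ≠ 0 → ∀ (V : Type) [AddCommGroup V] [Module k V] [FiniteDimensional k V],
    Module.finrank k V = n → n ≤ 27 →
    ∀ (H : Type) [Group H] [Finite H] (π : H →* alternatingGroup (Fin 12)) (ρ : H →* Module.End k V),
    Function.Surjective π → (∀ L : Subgroup H, L.map π = ⊤ → L = ⊤) → (e = 0 → π.ker = ⊥) →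
    ∀ cs : List (alternatingGroup (Fin 12)),
    (∀ g ∈ cs, ∃ a b c, a ≠ b ∧ b ≠ c ∧ a ≠ c ∧ g = c3 a b c) →
    (2 * cs.length + 1).Prime → ((2 * cs.length + 1 : ℕ) : k) ≠ 0 →
    ¬ (2 * cs.length + 1) ∣ Nat.card π.ker →
    (∃ T : Finset (Fin 12), T.card ≤ 2 * cs.length + 1 ∧ In T cs.prod) →
    ∀ x : H, x ^ (2 * cs.length + 1) = 1 → π x = cs.prod →
    Module.finrank k (moved ρ x) ≤ (2 * cs.length + e) * bd n := by
  classical
  intro n
  induction n using Nat.strong_induction_on with
  | _ n IH =>
  intro k _ _ h2 h3 V _ _ _ hdim hn H₀ _ _ π₀ ρ₀ hπ₀ hmin₀ hker₀ cs hcs hℓ hℓk hK₀ hT x₀ hx₀ hxg₀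
  have hr : 9 ≤ 12 := by norm_num
  -- make it faithful
  rcases normal_cases π₀ hr hπ₀ hmin₀ ρ₀.ker with hk0 | hk0
  · have h1 : ρ₀ x₀ = 1 := MonoidHom.mem_ker.1 (hk0 ▸ Subgroup.mem_top x₀ : x₀ ∈ ρ₀.ker)
    rw [moved, h1, sub_self, LinearMap.range_zero, finrank_bot]
    exact Nat.zero_le _
  let H := H₀ ⧸ ρ₀.ker
  let π : H →* alternatingGroup (Fin 12) := QuotientGroup.lift ρ₀.ker π₀ hk0
  let ρ : H →* Module.End k V := QuotientGroup.lift ρ₀.ker ρ₀ le_rfl
  have hinj : Function.Injective ρ := by
    intro u v e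
    obtain ⟨u, rfl⟩ := QuotientGroup.mk_surjective u
    obtain ⟨v, rfl⟩ := QuotientGroup.mk_surjective v
    have e' : ρ₀ u = ρ₀ v := e
    refine QuotientGroup.eq.2 (MonoidHom.mem_ker.2 ?_)
    rw [map_mul, ← e', ← map_mul, inv_mul_cancel, map_one]
  have hπ : Function.Surjective π := fun g => by
    obtain ⟨h, rfl⟩ := hπ₀ g; exact ⟨QuotientGroup.mk h, rfl⟩
  have hmin : ∀ L : Subgroup H, L.map π = ⊤ → L = ⊤ := fun L hL => by
    have h1 : (L.comap (QuotientGroup.mk' ρ₀.ker)).map π₀ = ⊤ := eq_top_iff.2 fun g _ => by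
      obtain ⟨u, hu, rfl⟩ : g ∈ L.map π := hL ▸ Subgroup.mem_top g
      obtain ⟨u, rfl⟩ := QuotientGroup.mk_surjective u
      exact ⟨u, hu, rfl⟩
    refine eq_top_iff.2 fun u _ => ?_
    obtain ⟨u, rfl⟩ := QuotientGroup.mk_surjective u
    exact (hmin₀ _ h1 ▸ Subgroup.mem_top u : u ∈ L.comap (QuotientGroup.mk' ρ₀.ker))
  have hkmap : π.ker = π₀.ker.map (QuotientGroup.mk' ρ₀.ker) := QuotientGroup.ker_lift ρ₀.ker π₀ hk0
  have hker : e = 0 → π.ker = ⊥ := fun h => by rw [hkmap, hker₀ h, Subgroup.map_bot]
  have hK : ¬ (2 * cs.length + 1) ∣ Nat.card π.ker := fun hd =>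
    hK₀ (hd.trans (hkmap ▸ Subgroup.card_map_dvd π₀.ker _))
  set x : H := QuotientGroup.mk x₀ with hxdef
  have hx : x ^ (2 * cs.length + 1) = 1 := by
    rw [hxdef, ← QuotientGroup.mk_pow, hx₀, QuotientGroup.mk_one]
  have hxg : π x = cs.prod := hxg₀
  show Module.finrank k (moved ρ x) ≤ _
  clear_value x
  rcases Nat.eq_zero_or_pos n with hn0 | hnpos
  · exact (Submodule.finrank_le _).trans (by rw [hdim, hn0]; exact Nat.zero_le _)
  haveI : Nontrivial V := Module.finrank_pos_iff.1 (hdim ▸ hnpos)
  by_cases hirr : ∀ U : Submodule k V, (∀ γ, ∀ u ∈ U, ρ γ u ∈ U) → U = ⊥ ∨ U = ⊤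
  · obtain ⟨T, hTc, hTg⟩ := hT
    by_cases hA : ∀ A : Subgroup H, A.Normal → (∀ a ∈ A, ∀ b ∈ A, a * b = b * a) → A ≤ Subgroup.center H
    · have C : Cov π ρ := ⟨hr, hπ, ker_central hπ hmin hinj hirr (hdim ▸ hn) hA,
        commutator_eq_top π hr hπ hmin, hinj, hirr⟩
      obtain ⟨m, hm1, hm2, hm17, hmv⟩ := central_moved C h2 h3 (hdim ▸ hn)
      have h11 := eleven_le C h2 h3
      rw [hdim] at h11 hm17
      have hb : m ≤ bd n := by
        unfold bd
        rcases (show m = 1 ∨ m = 2 by omega) with rfl | rfl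
        · split_ifs <;> omega
        · have := hm17 rfl
          split_ifs <;> omega
      set P := (cs.map (lft π)).prod with hPdef
      have hP : π P = cs.prod := by
        rw [hPdef, map_list_prod, List.map_map]
        congr 1
        exact (List.map_congr_left fun g _ => C.map_lft g).trans (List.map_id _)
      have hodd : Odd (2 * cs.length + 1) := ⟨cs.length, by ring⟩
      have hgℓ : π P ^ (2 * cs.length + 1) = 1 := by rw [hP, ← hxg, ← map_pow, hx, map_one]
      have hxP : x = P ^ (2 * cs.length + 1 + 1) := by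
        rw [← lft_eq_pow C P hodd hgℓ, hP, ← hxg, C.lft_eq hodd hx]
      have hlist : ∀ l : List (alternatingGroup (Fin 12)),
          (∀ g ∈ l, ∃ a b c, a ≠ b ∧ b ≠ c ∧ a ≠ c ∧ g = c3 a b c) →
          Module.finrank k (moved ρ (l.map (lft π)).prod) ≤ l.length * (2 * m) := by
        intro l
        induction l with
        | nil => intro _; simp [moved_one]
        | cons g l ih =>
          intro hl
          obtain ⟨a, b, c, hab, hbc, hac, rfl⟩ := hl g List.mem_cons_self
          have h1 := ih fun g hg => hl g (List.mem_cons_of_mem _ hg)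
          rw [List.map_cons, List.prod_cons, List.length_cons]
          refine (Submodule.finrank_mono (moved_mul_le _ _)).trans
            ((Submodule.finrank_add_le_finrank_add_finrank _ _).trans ?_)
          have h0 : Module.finrank k (moved ρ (lft π (c3 a b c))) = 2 * m := hmv a b c hab hbc hac
          rw [h0, add_mul, one_mul]
          omega
      rw [hxP]
      refine (Submodule.finrank_mono (moved_pow_le P _)).trans ((hlist cs hcs).trans ?_)
      calc cs.length * (2 * m) = (2 * cs.length) * m := by ring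
        _ ≤ (2 * cs.length + e) * bd n := Nat.mul_le_mul (Nat.le_add_right _ _) hb
    · rcases he with rfl | ⟨hnat, he1⟩
      · exfalso
        refine hA fun A hAn hab => ?_
        haveI := hAn
        rcases normal_cases π hr hπ hmin A with h | h
        · exfalso
          obtain ⟨a, b, hab'⟩ := (alt_facts hr).2
          obtain ⟨u, rfl⟩ := hπ a
          obtain ⟨v, rfl⟩ := hπ b
          refine hab' ?_
          rw [← map_mul, ← map_mul, hab u (h ▸ Subgroup.mem_top u) v (h ▸ Subgroup.mem_top v)]
        · exact h.trans (by rw [hker rfl]; exact bot_le)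
      · push Not at hA
        obtain ⟨A, hAn, hab, hnc⟩ := hA
        haveI := hAn
        refine (monomial_bound hnat hπ hmin hinj hirr (hdim ▸ hn) A hab hnc hℓ hK hx hTc (hxg ▸ hTg)).trans ?_
        rw [hdim]
        exact Nat.mul_le_mul_right _ (by omega)
  push Not at hirr
  obtain ⟨U, hU, hbot, htop⟩ := hirr
  let ρU : H →* Module.End k U :=
    { toFun := fun γ => (ρ γ).restrict (hU γ)
      map_one' := by ext u; simp
      map_mul' := fun γ δ => by ext u; simp [rho_mul_apply] }
  let ρQ : H →* Module.End k (V ⧸ U) :=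
    { toFun := fun γ => U.mapQ U (ρ γ) (hU γ)
      map_one' := by ext u; simp
      map_mul' := fun γ δ => by ext u; simp [rho_mul_apply] }
  have hfU := Submodule.finrank_quotient_add_finrank U
  have hUpos : 0 < Module.finrank k U :=
    Nat.pos_of_ne_zero fun e => hbot (Submodule.finrank_eq_zero.1 e)
  have hUlt : Module.finrank k U < Module.finrank k V := Submodule.finrank_lt htop
  refine (moved_le_add hx hℓk U hU ρU ρQ (fun _ _ => rfl) (fun _ _ => rfl)).trans ?_
  have h1 := IH (Module.finrank k U) (by omega) k h2 h3 U rfl (by omega) H π ρU hπ hmin hker cs hcs hℓ hℓk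
    hK hT x hx hxg
  have h2' := IH (Module.finrank k (V ⧸ U)) (by omega) k h2 h3 (V ⧸ U) rfl (by omega) H π ρQ hπ hmin hker
    cs hcs hℓ hℓk hK hT x hx hxg
  refine (Nat.add_le_add h1 h2').trans ?_
  rw [← mul_add]
  refine Nat.mul_le_mul_left _ ?_
  have := bd_add (a := Module.finrank k U) (b := Module.finrank k (V ⧸ U)) (by omega)
  rwa [show Module.finrank k U + Module.finrank k (V ⧸ U) = n by omega] at this

/-- Subgroups of index at most twenty-seven fix a point. -/
theorem natural : Natural := by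
  classical
  intro S hS hidx
  let k := AlgebraicClosure ℚ
  let X := alternatingGroup (Fin 12) ⧸ S
  haveI : Fintype X := Fintype.ofFinite X
  have hX : Fintype.card X ≤ 27 := by
    rw [← Nat.card_eq_fintype_card]; exact hidx
  let ρ : alternatingGroup (Fin 12) →* Module.End k (X → k) :=
    { toFun := fun g => LinearMap.funLeft k k fun p => g⁻¹ • p
      map_one' := by
        apply LinearMap.ext; intro f; funext p
        show f ((1 : alternatingGroup (Fin 12))⁻¹ • p) = f p
        rw [inv_one, one_smul]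
      map_mul' := fun g h => by
        apply LinearMap.ext; intro f; funext p
        show f ((g * h)⁻¹ • p) = f (h⁻¹ • g⁻¹ • p)
        rw [mul_inv_rev, mul_smul] }
  -- every three-cycle moves at most eight cosets
  have hsupp : ∀ a b c : Fin 12, a ≠ b → b ≠ c → a ≠ c →
      (univ.filter fun p : X => c3 a b c • p ≠ p).card ≤ 8 := by
    intro a b c hab hbc hac
    set t := c3 a b c with ht
    have ht3 : t ^ 3 = 1 := c3_order hab hbc hac
    have hmv : Module.finrank k (moved ρ t) ≤ 4 := by
      have hker1 : Nat.card (MonoidHom.id (alternatingGroup (Fin 12))).ker = 1 := by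
        rw [MonoidHom.ker_id]; exact Subgroup.card_bot
      have h := core 0 (Or.inl rfl) (Fintype.card X) k (by norm_num) (by norm_num) (X → k)
        (Module.finrank_fintype_fun_eq_card k) hX _ (MonoidHom.id _) ρ (fun g => ⟨g, rfl⟩)
        (fun L hL => by rwa [Subgroup.map_id] at hL) (fun _ => MonoidHom.ker_id) [t]
        (fun g hg => ⟨a, b, c, hab, hbc, hac, by simpa using hg⟩) (by norm_num) (by norm_num)
        (by rw [hker1]; norm_num)
        ⟨{a, b, c}, card_le_three, by
          simpa [ht] using in_c3 (S := {a, b, c}) (by simp) (by simp) (by simp)⟩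
        t (by simpa using ht3) (by simp)
      refine h.trans ?_
      unfold bd
      split_ifs <;> simp
    -- the least point of each orbit
    let key : X → ℕ := fun p => (Fintype.equivFin X p).val
    have hkey : ∀ p q, key p = key q → p = q := fun p q h => (Fintype.equivFin X).injective (Fin.ext h)
    set R := univ.filter fun p : X => key p ≤ key (t • p) ∧ key p ≤ key (t • t • p) with hR
    have h3p : ∀ p : X, t • t • t • p = p := fun p => by
      rw [smul_smul, smul_smul, ← pow_two, ← pow_succ, ht3, one_smul]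
    have hfix : Module.finrank k (fixd ρ t) ≤ R.card := by
      let Φ : fixd ρ t →ₗ[k] ({q : X // q ∈ R} → k) :=
        (LinearMap.funLeft k k fun q : {q : X // q ∈ R} => q.1).comp (fixd ρ t).subtype
      refine (LinearMap.finrank_le_finrank_of_injective (f := Φ) ?_).trans ?_
      · refine (injective_iff_map_eq_zero Φ).2 fun f hf => Subtype.ext (funext fun p => ?_)
        have hinv : ∀ q, f.1 (t • q) = f.1 q := fun q => by
          have h := congrFun (mem_fixd.1 f.2) (t • q)
          show f.1 (t • q) = f.1 q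
          rw [← h]
          show f.1 (t⁻¹ • t • q) = f.1 q
          rw [inv_smul_smul]
        have h0 : ∀ q ∈ R, f.1 q = 0 := fun q hq => congrFun hf ⟨q, hq⟩
        show f.1 p = 0
        by_cases h1 : key p ≤ key (t • p) ∧ key p ≤ key (t • t • p)
        · exact h0 p (mem_filter.2 ⟨mem_univ _, h1⟩)
        by_cases h2 : key (t • p) ≤ key (t • t • p)
        · rw [← hinv p]
          exact h0 _ (mem_filter.2 ⟨mem_univ _, h2, by rw [h3p]; omega⟩)
        · rw [← hinv p, ← hinv (t • p)]
          exact h0 _ (mem_filter.2 ⟨mem_univ _, by rw [h3p]; omega, by rw [h3p]; omega⟩)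
      · rw [Module.finrank_fintype_fun_eq_card]
        simp
    have h1 : Module.finrank k (moved ρ t) + Module.finrank k (fixd ρ t) = Fintype.card X :=
      (LinearMap.finrank_range_add_finrank_ker (ρ t - 1)).trans (Module.finrank_fintype_fun_eq_card k)
    have hq : Rᶜ.card ≤ 4 := by rw [card_compl]; omega
    have hsub : (univ.filter fun p : X => t • p ≠ p) ⊆ Rᶜ ∪ Rᶜ.image (fun p => t⁻¹ • p) := by
      intro p hp
      rw [mem_filter] at hp
      rw [mem_union, mem_compl, mem_image]
      by_cases hpR : p ∈ R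
      · refine Or.inr ⟨t • p, mem_compl.2 fun hR' => hp.2 ?_, inv_smul_smul t p⟩
        obtain ⟨-, a1, -⟩ := mem_filter.1 hpR
        obtain ⟨-, -, a2⟩ := mem_filter.1 hR'
        rw [h3p] at a2
        exact (hkey _ _ (le_antisymm a1 a2)).symm
      · exact Or.inl hpR
    refine (card_le_card hsub).trans ((card_union_le _ _).trans ?_)
    have := card_image_le (s := Rᶜ) (f := fun p : X => t⁻¹ • p)
    omega
  -- some three-cycle moves a coset
  obtain ⟨a, b, c, hab, hbc, hac, p, hp⟩ : ∃ a b c : Fin 12, a ≠ b ∧ b ≠ c ∧ a ≠ c ∧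
      ∃ p : X, c3 a b c • p ≠ p := by
    by_contra hno
    push Not at hno
    refine hS (eq_top_iff.2 fun g _ => (Subgroup.closure_le _).2 ?_ (mem_closure_c3 univ g fun i hi => absurd (mem_univ i) hi))
    rintro _ ⟨a, -, b, -, c, -, h1, h2, h3, rfl⟩
    have := hno a b c h1 h2 h3 ((1 : alternatingGroup (Fin 12)) : X)
    rw [MulAction.Quotient.smul_coe, smul_eq_mul, mul_one, QuotientGroup.eq, mul_one] at this
    exact inv_mem_iff.1 this
  set S' := MulAction.stabilizer (alternatingGroup (Fin 12)) p with hS'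
  -- nine points fix it
  set T₁ : Finset (Fin 12) := univ \ {a, b, c} with hT₁
  have hT₁c : T₁.card = 9 := by
    rw [hT₁, card_sdiff_of_subset (subset_univ _), card_univ, Fintype.card_fin,
      card_eq_three.2 ⟨a, b, c, hab, hac, hbc, rfl⟩]
  have hnine : ∀ g, In T₁ g → g ∈ S' := by
    obtain ⟨f, hf, hfT, hfr⟩ := exists_alt_embedding T₁ hT₁c
    set t := c3 a b c with ht
    have hcom : ∀ h, Commute (f h) t := fun h => by
      refine Subtype.ext (Perm.Disjoint.commute fun i => ?_).eq
      by_cases hi : i ∈ T₁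
      · refine Or.inr (c3_apply_other ?_ ?_ ?_) <;>
          · rintro rfl; simp [hT₁] at hi
      · exact Or.inl (hfT h i hi)
    let M := univ.filter fun q : X => t • q ≠ q
    have hM : ∀ h (q : X), q ∈ M → f h • q ∈ M := fun h q hq => by
      simp only [M, mem_filter, mem_univ, true_and] at hq ⊢
      rw [smul_smul, ← (hcom h).eq, mul_smul]
      exact fun e => hq (MulAction.injective (f h) e)
    let ψ : alternatingGroup (Fin 9) →* Perm M :=
      { toFun := fun h => (MulAction.toPerm (f h)).subtypePerm fun q =>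
          ⟨fun hq => by
            have := hM h⁻¹ _ hq
            rwa [map_inv, MulAction.toPerm_apply, inv_smul_smul] at this,
          fun hq => hM h q hq⟩
        map_one' := Equiv.ext fun q => Subtype.ext (show f 1 • q.1 = q.1 by rw [map_one, one_smul])
        map_mul' := fun h h' => Equiv.ext fun q => Subtype.ext
          (show f (h * h') • q.1 = f h • f h' • q.1 by rw [map_mul, mul_smul]) }
    haveI : IsSimpleGroup (alternatingGroup (Fin 9)) := (alt_facts (r := 9) le_rfl).1
    have hψ : ψ.ker = ⊤ := by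
      refine (MonoidHom.normal_ker ψ).eq_bot_or_eq_top.resolve_left fun hb => ?_
      have h1 := Nat.card_le_card_of_injective ψ ((MonoidHom.ker_eq_bot_iff ψ).1 hb)
      haveI : Nontrivial (Fin 9) := inferInstance
      have h9 := two_mul_nat_card_alternatingGroup (α := Fin 9)
      rw [Nat.card_perm, Nat.card_fin] at h9
      rw [Nat.card_perm, Nat.card_eq_fintype_card (α := M), Fintype.card_coe] at h1
      have h8 : M.card.factorial ≤ Nat.factorial 8 := Nat.factorial_le (hsupp a b c hab hbc hac)
      simp only [Nat.factorial] at h9 h8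
      have h1' : Nat.card (alternatingGroup (Fin 9)) ≤ M.card.factorial := h1
      omega
    intro g hg
    obtain ⟨h, rfl⟩ := hfr g hg
    have h2 := congrArg Subtype.val (Perm.ext_iff.1 (MonoidHom.mem_ker.1 (hψ ▸ Subgroup.mem_top h : h ∈ ψ.ker))
      ⟨p, mem_filter.2 ⟨mem_univ _, hp⟩⟩)
    exact h2
  -- the largest such set
  obtain ⟨Tm, hTm, hmax⟩ := ((univ : Finset (Finset (Fin 12))).filter
    fun T => 9 ≤ T.card ∧ ∀ g, In T g → g ∈ S').exists_max_image card ⟨T₁, mem_filter.2 ⟨mem_univ _, hT₁c.ge, hnine⟩⟩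
  simp only [mem_filter, mem_univ, true_and] at hTm hmax
  obtain ⟨hc9, hTmS⟩ := hTm
  have hS'ne : S' ≠ ⊤ := fun h => hp (MulAction.mem_stabilizer_iff.1 (h ▸ Subgroup.mem_top (c3 a b c) : c3 a b c ∈ S'))
  have hc11 : Tm.card ≤ 11 := by
    by_contra hlt
    have : Tm = univ := eq_univ_of_card _ (le_antisymm (card_le_univ _) (by simp; omega))
    exact hS'ne (eq_top_iff.2 fun g _ => hTmS g fun i hi => absurd (this ▸ mem_univ i) hi)
  have hinv : ∀ g ∈ S', Tm.image (g : Perm (Fin 12)) = Tm := by
    intro g hg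
    set T' := Tm.image (g : Perm (Fin 12)) with hT'
    have hc' : T'.card = Tm.card := card_image_of_injective _ (g : Perm (Fin 12)).injective
    have hT'S : ∀ h, In T' h → h ∈ S' := fun h hh => by
      have : In Tm (g⁻¹ * h * g) := fun i hi => by
        have h1 : (g : Perm (Fin 12)) i ∉ T' := fun hm => by
          obtain ⟨j, hj, e⟩ := mem_image.1 hm
          exact hi ((g : Perm (Fin 12)).injective e ▸ hj)
        show ((g : Perm (Fin 12))⁻¹ * (h : Perm (Fin 12)) * (g : Perm (Fin 12))) i = i
        rw [Perm.mul_apply, Perm.mul_apply, hh _ h1, Perm.inv_def, Equiv.symm_apply_apply]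
      rw [show h = g * (g⁻¹ * h * g) * g⁻¹ by group]
      exact mul_mem (mul_mem hg (hTmS _ this)) (inv_mem hg)
    have h2 : 2 ≤ (Tm ∩ T').card := by
      have := card_union_add_card_inter Tm T'
      have := card_le_univ (Tm ∪ T')
      rw [Fintype.card_fin] at this
      omega
    have hu := hmax (Tm ∪ T') ⟨hc9.trans (card_le_card subset_union_left),
      in_union hTmS hT'S (by omega) h2⟩
    have he := (eq_of_subset_of_card_le subset_union_left hu).symm
    exact (eq_of_subset_of_card_le (fun i hi => (he.subset (mem_union_right _ hi))) hc'.ge)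
  have hcnt : Tm.card = 11 := by
    by_contra hne
    have hchoose : 27 < Nat.choose 12 Tm.card := by
      rcases (show Tm.card = 9 ∨ Tm.card = 10 by omega) with h | h <;> rw [h] <;> decide
    have hall : ∀ T' ∈ (univ : Finset (Fin 12)).powersetCard Tm.card,
        ∃ g : alternatingGroup (Fin 12), Tm.image (g : Perm (Fin 12)) = T' := by
      intro T' hT'
      rw [mem_powersetCard] at hT'
      obtain ⟨g, hg⟩ := exists_conj (r := 12) ((Tm.orderEmbOfFin rfl).toEmbedding)
        ((T'.orderEmbOfFin hT'.2).toEmbedding) (by rw [Fintype.card_fin]; omega)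
      refine ⟨g, eq_of_subset_of_card_le (fun i hi => ?_) ?_⟩
      · obtain ⟨j, hj, rfl⟩ := mem_image.1 hi
        have hj' : j ∈ Set.range (Tm.orderEmbOfFin rfl) := by rw [range_orderEmbOfFin]; exact hj
        obtain ⟨u, rfl⟩ := hj'
        have := hg u
        simp only [RelEmbedding.coe_toEmbedding] at this
        rw [this]
        exact orderEmbOfFin_mem T' hT'.2 u
      · rw [card_image_of_injective _ (g : Perm (Fin 12)).injective, hT'.2]
    choose g hg using hall
    have hle : ((univ : Finset (Fin 12)).powersetCard Tm.card).card ≤ Fintype.card X := by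
      rw [← card_univ (α := X)]
      refine card_le_card_of_injOn (fun T' => if h : T' ∈ _ then g T' h • p else p) (fun _ _ => mem_univ _) ?_
      intro T' hT' T'' hT'' e
      rw [mem_coe] at hT' hT''
      simp only [dif_pos hT', dif_pos hT''] at e
      have hm : (g T'' hT'')⁻¹ * g T' hT' ∈ S' := by
        rw [hS', MulAction.mem_stabilizer_iff, mul_smul, e, inv_smul_smul]
      rw [← hg T' hT', ← hg T'' hT'']
      conv_rhs => rw [← hinv _ hm, image_image]
      refine image_congr fun i _ => ?_
      simp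
    rw [card_powersetCard, card_univ, Fintype.card_fin] at hle
    omega
  obtain ⟨t, ht⟩ : ∃ t, Tmᶜ = {t} := card_eq_one.1 (by rw [card_compl, Fintype.card_fin]; omega)
  have hmem : ∀ i, i ∉ Tm ↔ i = t := fun i => by rw [← mem_compl, ht, mem_singleton]
  have hSt : ∀ g, g ∈ S' ↔ (g : Perm (Fin 12)) t = t := fun g => by
    refine ⟨fun hg => (hmem _).1 fun hm => ?_, fun hg => hTmS g fun i hi => by rw [(hmem i).1 hi, hg]⟩
    rw [← hinv g hg, mem_image] at hm
    obtain ⟨j, hj, e⟩ := hm
    exact ((hmem t).2 rfl) ((g : Perm (Fin 12)).injective e ▸ hj)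
  obtain ⟨g₀, rfl⟩ := QuotientGroup.mk_surjective p
  refine ⟨((g₀ : Perm (Fin 12)))⁻¹ t, fun g => ?_⟩
  have h := hSt (g₀ * g * g₀⁻¹)
  rw [hS', MulAction.mem_stabilizer_iff, MulAction.Quotient.smul_coe, smul_eq_mul, inv_mul_cancel_right,
    QuotientGroup.eq, Subgroup.coe_mul, Subgroup.coe_mul, Subgroup.coe_inv, Perm.mul_apply, Perm.mul_apply,
    mul_inv_rev, inv_mul_cancel_right, inv_mem_iff] at h
  rw [h]
  constructor
  · intro e
    nth_rw 2 [← e]
    rw [Perm.inv_def, Equiv.symm_apply_apply]
  · intro e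
    rw [e, Perm.inv_def, Equiv.apply_symm_apply]

/-- The space moved by an element of prime order. -/
theorem moved_bound {k : Type} [Field k] [IsAlgClosed k] (h2 : (2 : k) ≠ 0) (h3 : (3 : k) ≠ 0) {V : Type}
    [AddCommGroup V] [Module k V] [FiniteDimensional k V] (hn : Module.finrank k V ≤ 27) {H : Type}
    [Group H] [Finite H] {π : H →* alternatingGroup (Fin 12)} (ρ : H →* Module.End k V)
    (hπ : Function.Surjective π) (hmin : ∀ L : Subgroup H, L.map π = ⊤ → L = ⊤)
    {cs : List (alternatingGroup (Fin 12))}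
    (hcs : ∀ g ∈ cs, ∃ a b c, a ≠ b ∧ b ≠ c ∧ a ≠ c ∧ g = c3 a b c) {ℓ : ℕ} (hℓe : 2 * cs.length + 1 = ℓ)
    (hℓ : ℓ.Prime) (hℓk : (ℓ : k) ≠ 0) (hK : ¬ ℓ ∣ Nat.card π.ker)
    (hT : ∃ T : Finset (Fin 12), T.card ≤ ℓ ∧ In T cs.prod) {x : H} (hx : x ^ ℓ = 1) (hxg : π x = cs.prod) :
    Module.finrank k (moved ρ x) ≤ 2 * ℓ := by
  subst hℓe
  refine (core 1 (Or.inr ⟨natural, le_rfl⟩) _ k h2 h3 V rfl hn H π ρ hπ hmin (fun h => absurd h one_ne_zero)
    cs hcs hℓ hℓk hK hT x hx hxg).trans ?_
  rw [mul_comm 2 (2 * cs.length + 1)]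
  refine Nat.mul_le_mul_left _ ?_
  unfold bd
  split_ifs <;> omega

end CfsgLib.Classical.AltSection.Twelve
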