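import Cfsg.Agent.Lib.Classical.AltSection.E6Rep
import Cfsg.Agent.Lib.Classical.AltSection.TwelveBound
import Cfsg.Agent.Lib.Transfer.Sylow
import Cfsg.Agent.Lib.Chev.SylowTorus.Types

/-!
The cover in the representation of degree twenty-seven of an alternating section on twelve points of a
group of type E6: subgroups of good prime power order are commutative, so a minimal cover has a kernel of
order prime to the prime.
-/

set_option autoImplicit false
set_option maxRecDepth 100000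
set_option maxHeartbeats 1000000
set_option linter.unusedSectionVars false

namespace CfsgLib.Classical.AltSection.E6Cover

open Cfsg.Lie Matrix CfsgLib.Chev CfsgLib.Chev.Cert CfsgLib.Chev.GTorus CfsgLib.Chev.SylowTorus

/-- The kernel of a minimal cover has order prime to a prime at which the Sylow subgroups are commutative. -/
theorem ker_coprime {r ℓ : ℕ} [Fact ℓ.Prime] {L : Type} [Group L] [Finite L]
    (π : L →* alternatingGroup (Fin r)) (hr : 9 ≤ r) (hπ : Function.Surjective π)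
    (hmin : ∀ M : Subgroup L, M.map π = ⊤ → M = ⊤) (hd : ℓ ∣ Nat.card (alternatingGroup (Fin r)))
    (hab : ∀ P : Subgroup L, IsPGroup ℓ P → ∀ a ∈ P, ∀ b ∈ P, a * b = b * a) :
    ¬ ℓ ∣ Nat.card π.ker := by
  classical
  haveI := ker_nilpotent π hmin hπ
  obtain ⟨S⟩ : Nonempty (Sylow ℓ π.ker) := inferInstance
  haveI hSn : (S : Subgroup π.ker).Normal := Sylow.normal_of_normalizerCondition
    Group.normalizerCondition_of_isNilpotent S
  haveI := Sylow.characteristic_of_normal S hSn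
  set Q := (S : Subgroup π.ker).map π.ker.subtype with hQ
  haveI : Q.Normal := ConjAct.normal_of_characteristic_of_normal
  have hQp : IsPGroup ℓ Q := S.isPGroup'.map _
  obtain ⟨P, hP⟩ := hQp.exists_le_sylow
  have hPK : ¬ (P : Subgroup L) ≤ π.ker := fun hle => by
    have h1 : π.ker.index = Nat.card (alternatingGroup (Fin r)) := by
      rw [Subgroup.index_ker, MonoidHom.range_eq_top.2 hπ, Subgroup.card_top]
    exact P.not_dvd_index ((h1 ▸ hd).trans (Subgroup.index_dvd_of_le hle))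
  have hPC : (P : Subgroup L) ≤ Subgroup.centralizer (Q : Set L) := fun p hp =>
    Subgroup.mem_centralizer_iff.2 fun q hq => hab P P.isPGroup' q (hP hq) p hp
  have hC : Subgroup.centralizer (Q : Set L) = ⊤ :=
    (normal_cases π hr hπ hmin _).resolve_right fun h => hPK (hPC.trans h)
  have hperf := commutator_eq_top π hr hπ hmin
  haveI : IsMulCommutative (P : Subgroup L) :=
    ⟨⟨fun a b => Subtype.ext (hab P P.isPGroup' a.1 a.2 b.1 b.2)⟩⟩
  letI : CommGroup (P : Subgroup L) :=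
    { (inferInstance : Group (P : Subgroup L)) with mul_comm := fun a b => mul_comm' a b }
  have hQ1 : ∀ z ∈ Q, z = 1 := by
    intro z hz
    have hzc : ∀ g : L, g * z = z * g := fun g =>
      ((Subgroup.mem_centralizer_iff.1 (hC ▸ Subgroup.mem_top g)) z hz).symm
    have htr := MonoidHom.transfer_eq_pow (MonoidHom.id (P : Subgroup L)) z fun k g₀ _ => by
      rw [mul_assoc, ← ((show Commute g₀ z from hzc g₀).pow_right k).eq, inv_mul_cancel_left]
    have htriv : MonoidHom.transfer (MonoidHom.id (P : Subgroup L)) z = 1 := by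
      have h := Abelianization.commutator_subset_ker (MonoidHom.transfer (MonoidHom.id (P : Subgroup L)))
      rw [hperf] at h
      exact MonoidHom.mem_ker.1 (h (Subgroup.mem_top z))
    rw [htriv] at htr
    have h1 : z ^ (P : Subgroup L).index = 1 := congrArg Subtype.val htr.symm
    obtain ⟨k, hk⟩ := hQp ⟨z, hz⟩
    have hk' : z ^ ℓ ^ k = 1 := congrArg Subtype.val hk
    have h2 := pow_gcd_eq_one.2 ⟨hk', h1⟩
    rwa [Nat.Coprime.gcd_eq_one ((((Fact.out : ℓ.Prime).coprime_iff_not_dvd).2 P.not_dvd_index).pow_left k),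
      pow_one] at h2
  intro hdvd
  obtain ⟨z, hz⟩ := exists_prime_orderOf_dvd_card' ℓ hdvd
  have hzp : IsPGroup ℓ (Subgroup.zpowers z) :=
    IsPGroup.of_card_dvd_pow (n := 1) (by rw [Nat.card_zpowers, hz, pow_one])
  haveI := Sylow.unique_of_normal S hSn
  obtain ⟨S', hS'⟩ := hzp.exists_le_sylow
  have hS : S' = S := Subsingleton.elim _ _
  have : z = 1 := Subtype.ext (hQ1 z.1 ⟨z, hS ▸ hS' (Subgroup.mem_zpowers z), rfl⟩)
  rw [this, orderOf_one] at hz
  exact (Fact.out : ℓ.Prime).ne_one hz.symm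

variable {F : Type*} [Field F] [Fintype F]

/-- Subgroups of good prime power order are commutative. -/
theorem pgroup_comm {ℓ : ℕ} [Fact ℓ.Prime] (hℓd : ∀ d ∈ [2, 5, 6, 8, 9, 12], ¬ ℓ ∣ d)
    (hℓq : ¬ ℓ ∣ Fintype.card F) {P : Subgroup (GL chevE6.Idx F)} (hP : P ≤ chevE6.group F)
    (hp : IsPGroup ℓ P) : ∀ a ∈ P, ∀ b ∈ P, a * b = b * a := by
  classical
  have hℓ : ℓ.Prime := Fact.out
  obtain ⟨p, hpc⟩ := CharP.exists F
  obtain ⟨e', hpp, -⟩ := FiniteField.card F p
  have := Fact.mk hpp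
  have : NeZero (ℓ - 1) := ⟨Nat.sub_ne_zero_of_lt hℓ.one_lt⟩
  let L := FiniteField.Extension F p (ℓ - 1)
  let : Fintype L := Fintype.ofFinite L
  have hQ1 : (Fintype.card L : ZMod ℓ) = 1 := by
    rw [← Nat.card_eq_fintype_card, FiniteField.natCard_extension, Nat.card_eq_fintype_card,
      Nat.cast_pow, ZMod.pow_card_sub_one_eq_one fun h0 => hℓq ((ZMod.natCast_eq_zero_iff _ _).1 h0)]
  obtain ⟨g', -, eG, eD⟩ := (orderOK_E6 (F := L)).ex
  have hidx : ¬ ℓ ∣ (chevE6.diagonalSubgroup L).relIndex (chevE6.group L) :=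
    CycTorus.not_dvd_relIndex_of certE6.diagonal_le_group hℓ Fintype.one_lt_card hQ1 eG eD hℓd
  let f : F →+* L := algebraMap F L
  set D := chevE6.diagonalSubgroup L
  obtain ⟨S⟩ : Nonempty (Sylow ℓ D) := inferInstance
  set X := (S : Subgroup D).map D.subtype with hX
  have hXD : X ≤ D := Subgroup.map_subtype_le _
  have hidx' : ¬ ℓ ∣ X.relIndex (chevE6.group L) := by
    rw [← Subgroup.relIndex_mul_relIndex X D _ hXD certE6.diagonal_le_group]
    refine hℓ.not_dvd_mul ?_ hidx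
    rw [Subgroup.relIndex, hX, ← Subgroup.comap_subtype,
      Subgroup.comap_map_eq_self_of_injective D.subtype_injective]
    exact S.not_dvd_index
  set Y := P.map (mapGL chevE6 f)
  obtain ⟨h, -, hh⟩ := CfsgLib.Transfer.exists_conj_le_of_not_dvd_relIndex (hXD.trans certE6.diagonal_le_group)
    (S.isPGroup'.map _) hidx' (Y := Y) (by
      rintro _ ⟨v, hv, rfl⟩
      exact certE6.map_mem_group f (hP hv)) (hp.map _)
  intro a ha b hb
  apply mapGL_injective chevE6 f
  apply (MulAut.conj h).injective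
  obtain ⟨c, hc⟩ := certE6.range_torusHom.ge (hXD (hh ⟨_, ⟨a, ha, rfl⟩, rfl⟩))
  obtain ⟨d, hd⟩ := certE6.range_torusHom.ge (hXD (hh ⟨_, ⟨b, hb, rfl⟩, rfl⟩))
  rw [MulEquiv.coe_toMonoidHom] at hc hd
  rw [map_mul, map_mul, map_mul, map_mul, ← hc, ← hd, ← map_mul, ← map_mul, mul_comm]

/-- The numerical consequence of an alternating section on twelve points. -/
theorem exists_num {ℓ a : ℕ} [Fact ℓ.Prime] (hℓd : ∀ d ∈ [2, 5, 6, 8, 9, 12], ¬ ℓ ∣ d)
    (hℓq : ¬ ℓ ∣ Fintype.card F) (h2 : (2 : F) ≠ 0) (h3 : (3 : F) ≠ 0)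
    (hℓ12 : ℓ ∣ Nat.card (alternatingGroup (Fin 12))) {H : Subgroup ↥(chevE6.group F)}
    (π : H →* alternatingGroup (Fin 12)) (hπ : Function.Surjective π)
    {cs : List (alternatingGroup (Fin 12))}
    (hcs : ∀ g ∈ cs, ∃ a b c, a ≠ b ∧ b ≠ c ∧ a ≠ c ∧ g = c3 a b c) (hℓe : 2 * cs.length + 1 = ℓ)
    (hT : ∃ T : Finset (Fin 12), T.card ≤ ℓ ∧ In T cs.prod) (hne : cs.prod ≠ 1) (hℓg : cs.prod ^ ℓ = 1)
    {y : alternatingGroup (Fin 12)} (hy : y * cs.prod * y⁻¹ = cs.prod ^ a) :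
    ∃ c : Fin 6 → ZMod ℓ, c ≠ 0 ∧
      (∀ i, E6Weights.num c i = E6Weights.num c ((a : ZMod ℓ) * i)) ∧
      27 ≤ 2 * ℓ + E6Weights.num c 0 := by
  classical
  have hℓ : ℓ.Prime := Fact.out
  -- the pairs over the subgroup
  let Hadj : Subgroup (GL chevE6.Idx F) := H.map (chevE6.group F).subtype
  let H27 : Subgroup (GL (Fin 27) F × GL chevE6.Idx F) :=
    E6Rep.pairs F ⊓ Hadj.comap (MonoidHom.snd _ _)
  let eH : H ≃* Hadj := H.equivMapOfInjective _ (chevE6.group F).subtype_injective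
  let p2 : H27 →* Hadj :=
    ((MonoidHom.snd _ _).comp H27.subtype).codRestrict Hadj fun v => v.2.2
  let π27 : H27 →* alternatingGroup (Fin 12) := π.comp (eH.symm.toMonoidHom.comp p2)
  obtain ⟨Φ, hΦ, hsur, -, -, hker⟩ := E6Rep.exists_cover (K := F)
  have hπ27 : Function.Surjective π27 := fun g => by
    obtain ⟨v, rfl⟩ := hπ g
    obtain ⟨z, hz⟩ := hsur v.1.1 v.1.2
    refine ⟨⟨Φ z, hΦ.le ⟨z, rfl⟩, show (Φ z).2 ∈ Hadj from hz ▸ ⟨v.1, v.2, rfl⟩⟩, ?_⟩
    show π _ = π v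
    congr 1
    apply eH.injective
    rw [MonoidHom.comp_apply, MulEquiv.coe_toMonoidHom, MulEquiv.apply_symm_apply]
    exact Subtype.ext hz
  have hab27 : ∀ P : Subgroup H27, IsPGroup ℓ P → ∀ v ∈ P, ∀ w ∈ P, v * w = w * v := by
    intro P hP v hv w hw
    let q : H27 →* GL chevE6.Idx F := Hadj.subtype.comp p2
    have hle : P.map q ≤ chevE6.group F := by
      rintro _ ⟨u, -, rfl⟩
      obtain ⟨h, -, e⟩ := u.2.2
      exact e ▸ h.2
    have hq : q (v * w * v⁻¹ * w⁻¹) = 1 := by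
      have := pgroup_comm hℓd hℓq hle (hP.map q) (q v) ⟨v, hv, rfl⟩ (q w) ⟨w, hw, rfl⟩
      rw [map_mul, map_mul, map_mul, map_inv, map_inv, this]
      group
    obtain ⟨z, hz⟩ : (v * w * v⁻¹ * w⁻¹).1 ∈ Φ.range := hΦ.ge (v * w * v⁻¹ * w⁻¹).2.1
    obtain ⟨h13, -⟩ := hker z (by rw [hz]; exact hq)
    have h3' : (v * w * v⁻¹ * w⁻¹) ^ 3 = 1 := Subtype.ext (Prod.ext (by
      rw [SubmonoidClass.coe_pow, Prod.pow_fst, ← hz, h13]; rfl) (by
      rw [SubmonoidClass.coe_pow, Prod.pow_snd]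
      rw [show (v * w * v⁻¹ * w⁻¹).1.2 = 1 from hq, one_pow]; rfl))
    obtain ⟨k, hk⟩ := hP ⟨_, mul_mem (mul_mem (mul_mem hv hw) (inv_mem hv)) (inv_mem hw)⟩
    have hk' : (v * w * v⁻¹ * w⁻¹) ^ ℓ ^ k = 1 := congrArg Subtype.val hk
    have h := pow_gcd_eq_one.2 ⟨hk', h3'⟩
    rw [Nat.Coprime.gcd_eq_one (Nat.Coprime.pow_left k ((Nat.coprime_primes hℓ Nat.prime_three).2
      fun e => hℓd 6 (by simp) (e ▸ by norm_num))), pow_one] at h
    rw [mul_inv_eq_one, mul_inv_eq_iff_eq_mul] at h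
    exact h
  -- a minimal cover in the lowest universe
  haveI : _root_.Small.{0} ↥H27 := _root_.Small.mk' (Finite.equivFin ↥H27)
  let e : Shrink.{0} ↥H27 ≃* H27 := Shrink.mulEquiv
  haveI : Finite (Shrink.{0} ↥H27) := Finite.of_equiv _ (equivShrink.{0} ↥H27)
  let π₀ : Shrink.{0} ↥H27 →* alternatingGroup (Fin 12) := π27.comp e.toMonoidHom
  have hπ₀ : Function.Surjective π₀ := hπ27.comp e.surjective
  obtain ⟨L, hL, hLmin⟩ := (Set.toFinite {L : Subgroup (Shrink.{0} ↥H27) | L.map π₀ = ⊤}).exists_minimal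
    ⟨⊤, Subgroup.map_top_of_surjective π₀ hπ₀⟩
  let πL : L →* alternatingGroup (Fin 12) := π₀.comp L.subtype
  let ι : L →* GL (Fin 27) F × GL chevE6.Idx F := H27.subtype.comp (e.toMonoidHom.comp L.subtype)
  have hι : Function.Injective ι := Subtype.val_injective.comp (e.injective.comp Subtype.val_injective)
  have hπL : Function.Surjective πL := fun g => by
    obtain ⟨h, hh, rfl⟩ : g ∈ L.map π₀ := by
      rw [show L.map π₀ = ⊤ from hL]; exact Subgroup.mem_top g
    exact ⟨⟨h, hh⟩, rfl⟩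
  have hmin : ∀ M : Subgroup L, M.map πL = ⊤ → M = ⊤ := fun M hM => by
    have h1 : M.map L.subtype ≤ L := Subgroup.map_subtype_le M
    have h2 : (M.map L.subtype).map π₀ = ⊤ := by rw [Subgroup.map_map]; exact hM
    have h3 : L ≤ M.map L.subtype := hLmin h2 h1
    refine eq_top_iff.2 fun x _ => ?_
    obtain ⟨w, hw, e⟩ := h3 x.2
    rwa [← Subtype.ext (show (w : Shrink.{0} ↥H27) = x from e)]
  have habL : ∀ P : Subgroup L, IsPGroup ℓ P → ∀ v ∈ P, ∀ w ∈ P, v * w = w * v := fun P hP v hv w hw => by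
    let g : L →* H27 := e.toMonoidHom.comp L.subtype
    apply (e.injective.comp Subtype.val_injective : Function.Injective g)
    show g (v * w) = g (w * v)
    rw [map_mul, map_mul]
    exact hab27 (P.map g) (hP.map g) _ ⟨v, hv, rfl⟩ _ ⟨w, hw, rfl⟩
  have hK := ker_coprime πL (by norm_num) hπL hmin hℓ12 habL
  -- an element of order `ℓ` with a normalising element
  obtain ⟨x₁, hx₁⟩ := hπL cs.prod
  obtain ⟨j, hjπ, hjℓ⟩ := Twelve.exists_lift_power (π := πL) hℓ hK (x := x₁) (by rw [hx₁, hℓg])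
  set x := x₁ ^ j
  rw [hx₁] at hjπ
  obtain ⟨y₁, hy₁⟩ := hπL y
  obtain ⟨h, -, hh⟩ := Twelve.conj_lift (π := πL) hℓ hK (x := x ^ a) (y := y₁ * x * y₁⁻¹)
    (by rw [← pow_mul, mul_comm, pow_mul, hjℓ, one_pow]) (by rw [conj_pow, hjℓ, mul_one, mul_inv_cancel])
    (by rw [map_mul, map_mul, map_inv, map_pow πL x a, hy₁, hjπ, hy])
  set v := ι x
  set w := ι (h * y₁)
  have hv : ∀ u : L, (ι u).2 ∈ chevE6.group F := fun u => by
    obtain ⟨g, -, eg⟩ := (e.toMonoidHom (L.subtype u)).2.2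
    have h0 : (ι u).2 = (g : GL chevE6.Idx F) := eg.symm
    exact h0 ▸ g.2
  have hv1 : v.2 ≠ 1 := fun h1 => hne (by
    rw [← hjπ]
    show π _ = 1
    rw [← map_one π]
    congr 1
    apply eH.injective
    rw [map_one, MonoidHom.comp_apply, MulEquiv.coe_toMonoidHom, MulEquiv.apply_symm_apply]
    exact Subtype.ext h1)
  have hvℓ : v ^ ℓ = 1 := by rw [← map_pow, hjℓ, map_one]
  have hact : w.2 * v.2 * w.2⁻¹ = v.2 ^ a := by
    have h1 : h * y₁ * x * (h * y₁)⁻¹ = x ^ a := by rw [← hh]; group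
    have h2 := congrArg (fun z => (ι z).2) h1
    simp only [map_mul, map_inv, map_pow, Prod.snd_mul, Prod.snd_inv, Prod.pow_snd] at h2
    simp only [v, w, map_mul, Prod.snd_mul]
    exact h2
  obtain ⟨k, ik, iac, j', c, hc0, hbal, hmv⟩ := E6Rep.exists_moved hℓd hℓq (hv x)
    (orderOf_eq_prime (by rw [← Prod.pow_snd, hvℓ]; rfl) hv1) (hv (h * y₁)) hact
  refine ⟨c, hc0, hbal, ?_⟩
  have hu := hmv v.1 (show v ∈ E6Rep.pairs F from (e.toMonoidHom (L.subtype x)).2.1)
    (by rw [← Prod.pow_fst, hvℓ]; rfl)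
  let ρ : L →* Module.End k (Fin 27 → k) :=
    (Matrix.toLinAlgEquiv' (R := k) (n := Fin 27)).toRingEquiv.toMonoidHom.comp
      ((RingHom.mapMatrix j').toMonoidHom.comp
        ((Units.coeHom _).comp ((MonoidHom.fst _ _).comp ι)))
  have hb := Twelve.moved_bound (k := k) (fun e => h2 (j'.injective (by rw [map_ofNat, map_zero]; exact e)))
    (fun e => h3 (j'.injective (by rw [map_ofNat, map_zero]; exact e)))
    (V := Fin 27 → k) (by rw [Module.finrank_fin_fun]) ρ hπL hmin hcs hℓe hℓ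
    (fun e0 => by
      have h0 : (ℓ : F) = 0 := j'.injective (by rw [map_natCast, map_zero]; exact e0)
      obtain ⟨p, hpc⟩ := CharP.exists F
      obtain ⟨n, hpp, hcard⟩ := FiniteField.card F p
      have h1 := (CharP.cast_eq_zero_iff F p ℓ).1 h0
      rw [(Nat.prime_dvd_prime_iff_eq hpp hℓ).1 h1] at hcard
      exact hℓq (hcard ▸ dvd_pow_self ℓ n.ne_zero))
    hK hT hjℓ hjπ
  have : Module.finrank k (moved ρ x) + E6Weights.num c 0 = 27 := hu
  omega

end CfsgLib.Classical.AltSection.E6Cover
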