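import Cfsg.Agent.Lib.Classical.AltSection.E6Weights
import Cfsg.Agent.Lib.Classical.AltSection.WeylEigen
import Cfsg.Agent.Lib.Chev.CertE6
import Cfsg.Agent.Lib.Chev.CycTorus.Common

/-!
An element of good prime order conjugate to a power of itself in a group of type E6 gives a vector
modulo the prime at which the values of the twenty-seven weights are invariant under the exponent.
-/

set_option autoImplicit false
set_option maxRecDepth 100000

namespace CfsgLib.Classical.AltSection.E6Fusion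

open Cfsg.Lie Matrix CfsgLib.Chev CfsgLib.Chev.Cert CfsgLib.Chev.GTorus CfsgLib.Chev.SylowTorus
open E6Weights (wt val num)

/-- The six nodes. -/
noncomputable def e6 : Fin 6 ≃ Fin tabE6.l := finCongr (by rfl)

/-- The matrix of a simple reflection on six coordinates. -/
noncomputable def refl6 (i : ℕ) : Matrix (Fin 6) (Fin 6) ℤ := (reflMat tabE6 i).submatrix e6 e6

/-- The permutation of the weights by a simple reflection. -/
noncomputable def wperm (i : ℕ) (a : Fin 27) : Fin 27 :=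
  ((List.finRange 27).find? fun b => decide (∀ j : Fin 6,
    (refl6 i *ᵥ wt a) j = wt b j)).getD a

theorem wperm_ok : ∀ i : Fin 6, (((List.finRange 27).map (wperm i)).Nodup ∧
    ∀ (a : Fin 27) (j : Fin 6), (refl6 i *ᵥ wt a) j = wt (wperm i a) j) := by
  decide +kernel

theorem wperm_bijective (i : Fin 6) : Function.Bijective (wperm i) :=
  Finite.injective_iff_bijective.1 fun a b h =>
    List.inj_on_of_nodup_map (wperm_ok i).1 (List.mem_finRange a) (List.mem_finRange b) h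

theorem val_vecMul {ℓ : ℕ} (c : Fin 6 → ZMod ℓ) (i : Fin 6) (a : Fin 27) :
    val (c ᵥ* (refl6 i).map (Int.castRingHom (ZMod ℓ))) a = val c (wperm i a) := by
  show (c ᵥ* (refl6 i).map (Int.castRingHom (ZMod ℓ))) ⬝ᵥ (fun k => (wt a k : ZMod ℓ)) =
    c ⬝ᵥ fun k => (wt (wperm i a) k : ZMod ℓ)
  rw [← dotProduct_mulVec]
  congr 1
  funext j
  rw [← (wperm_ok i).2 a j]
  exact (RingHom.map_mulVec (Int.castRingHom (ZMod ℓ)) _ _ j).symm

theorem refl6_prod : ∀ w : List ℕ,
    (w.map refl6).prod = (w.map (reflMat tabE6)).prod.submatrix e6 e6 := by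
  intro w
  induction w with
  | nil => simp [Matrix.submatrix_one_equiv]
  | cons i w ih =>
    rw [List.map_cons, List.prod_cons, List.map_cons, List.prod_cons, ih, refl6,
      Matrix.submatrix_mul_equiv]

theorem num_word {ℓ : ℕ} : ∀ (w : List ℕ), (∀ i ∈ w, i < 6) → ∀ (c : Fin 6 → ZMod ℓ) (x : ZMod ℓ),
    num (c ᵥ* (w.map refl6).prod.map (Int.castRingHom (ZMod ℓ))) x = num c x := by
  intro w
  induction w with
  | nil => intro _ c x; simp [Matrix.map_one]
  | cons i w ih =>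
    intro hw c x
    rw [List.map_cons, List.prod_cons, Matrix.map_mul, ← Matrix.vecMul_vecMul,
      ih fun k hk => hw k (List.mem_cons_of_mem _ hk)]
    unfold num
    have hi := hw i (List.mem_cons_self ..)
    have hb := wperm_bijective ⟨i, hi⟩
    refine Finset.card_bij (fun a _ => wperm i a) (fun a ha => ?_) (fun a _ b _ e => hb.1 e) fun b hb' => ?_
    · rw [Finset.mem_filter] at ha ⊢
      exact ⟨Finset.mem_univ _, (val_vecMul c ⟨i, hi⟩ a).symm.trans ha.2⟩
    · obtain ⟨a, rfl⟩ := hb.2 b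
      rw [Finset.mem_filter] at hb'
      exact ⟨a, Finset.mem_filter.2 ⟨Finset.mem_univ _,
        (val_vecMul c ⟨i, hi⟩ a).trans hb'.2⟩, rfl⟩

/-- A matrix inverting the Cartan matrix up to three. -/
noncomputable def adjE6 : Matrix (Fin tabE6.l) (Fin tabE6.l) ℤ :=
  matOf tabE6.l [[4, 3, 5, 6, 4, 2], [3, 6, 6, 9, 6, 3], [5, 6, 10, 12, 8, 4],
    [6, 9, 12, 18, 12, 6], [4, 6, 8, 12, 10, 5], [2, 3, 4, 6, 5, 4]]

theorem adjE6_mul : adjE6 * cartanT tabE6 = (3 : ℤ) • 1 := by decide +kernel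

variable {L : Type*} [Field L]

/-- Parameters killed in the adjoint group are killed by three. -/
theorem pow_three_of_ker {c : Fin tabE6.l → Lˣ}
    (hc : Cert.torusHom (D := chevE6) (T := tabE6) c = 1) : c ^ 3 = 1 := by
  rw [← MonoidHom.mem_ker, certE6.ker_torusHom, MonoidHom.mem_ker] at hc
  have h : matHom (adjE6 * cartanT tabE6) c = 1 := by rw [matHom_mul, hc, map_one]
  funext i
  have hi := congrFun h i
  rw [adjE6_mul, matHom_apply, Pi.one_apply] at hi
  rw [Pi.pow_apply, Pi.one_apply, ← hi, Finset.prod_eq_single i]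
  · simp [zpow_ofNat]
  · intro j _ hj; simp [Matrix.one_apply_ne hj.symm]
  · exact fun h => absurd (Finset.mem_univ _) h

/-- Exponents of trivial parameters vanish modulo a prime other than three. -/
theorem exponents_eq {r : ℕ} (hr : r.Prime) (hr3 : r ≠ 3) {ω : Lˣ} (hω : orderOf ω = r)
    {X Y : Fin tabE6.l → ℤ}
    (h : Cert.torusHom (D := chevE6) (T := tabE6) (fun i => ω ^ X i) =
      Cert.torusHom (D := chevE6) (T := tabE6) (fun i => ω ^ Y i)) (i : Fin tabE6.l) :
    (X i : ZMod r) = (Y i : ZMod r) := by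
  have := Fact.mk hr
  have h1 : Cert.torusHom (D := chevE6) (T := tabE6) (fun i => ω ^ (X i - Y i)) = 1 := by
    rw [show (fun i => ω ^ (X i - Y i)) = (fun i => ω ^ X i) * (fun i => ω ^ Y i)⁻¹ from
      funext fun i => _root_.zpow_sub ω _ _, map_mul, map_inv, h, mul_inv_cancel]
  have h2 : (ω ^ (X i - Y i)) ^ 3 = 1 := congrFun (pow_three_of_ker h1) i
  rw [← zpow_natCast, ← _root_.zpow_mul, ← orderOf_dvd_iff_zpow_eq_one, hω,
    ← ZMod.intCast_zmod_eq_zero_iff_dvd, Int.cast_mul, Int.cast_natCast] at h2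
  rcases mul_eq_zero.1 h2 with h3 | h3
  · rwa [Int.cast_sub, sub_eq_zero] at h3
  · exfalso
    rw [ZMod.natCast_eq_zero_iff] at h3
    exact hr3 ((Nat.prime_dvd_prime_iff_eq hr Nat.prime_three).1 h3)

/-- The diagonal form of an element of good prime order with its invariant vector. -/
theorem exists_balanced {F : Type*} [Field F] [Fintype F] {ℓ : ℕ} (hℓ : ℓ.Prime)
    (hℓd : ∀ d ∈ [2, 5, 6, 8, 9, 12], ¬ ℓ ∣ d) (hℓq : ¬ ℓ ∣ Fintype.card F)
    {x y : GL chevE6.Idx F} (hx : x ∈ chevE6.group F) (ho : orderOf x = ℓ)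
    (hy : y ∈ chevE6.group F) {a : ℕ} (hact : y * x * y⁻¹ = x ^ a) :
    ∃ (L : Type) (_ : Field L) (_ : Fintype L) (f : F →+* L) (g : GL chevE6.Idx L) (ω : Lˣ)
      (X : Fin tabE6.l → ℤ), g ∈ chevE6.group L ∧ orderOf ω = ℓ ∧
      g * mapGL chevE6 f x * g⁻¹ = Cert.torusHom (D := chevE6) (T := tabE6) (fun i => ω ^ X i) ∧
      (fun i => (X (e6 i) : ZMod ℓ)) ≠ 0 ∧
      ∀ j, num (fun i => (X (e6 i) : ZMod ℓ)) j =
        num (fun i => (X (e6 i) : ZMod ℓ)) ((a : ZMod ℓ) * j) := by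
  classical
  have := Fact.mk hℓ
  have h3 : ℓ ≠ 3 := fun e => hℓd 6 (by simp) (e ▸ by norm_num)
  obtain ⟨p, hp⟩ := CharP.exists F
  obtain ⟨e', hpp, -⟩ := FiniteField.card F p
  have := Fact.mk hpp
  set q := Fintype.card F with hq
  have : NeZero (ℓ - 1) := ⟨Nat.sub_ne_zero_of_lt hℓ.one_lt⟩
  let L := FiniteField.Extension F p (ℓ - 1)
  let : Fintype L := Fintype.ofFinite L
  have hQ1 : (Fintype.card L : ZMod ℓ) = 1 := by
    rw [← Nat.card_eq_fintype_card, FiniteField.natCard_extension, Nat.card_eq_fintype_card,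
      Nat.cast_pow, ZMod.pow_card_sub_one_eq_one fun h0 => hℓq ((ZMod.natCast_eq_zero_iff _ _).1 h0)]
  obtain ⟨g', -, eG, eD⟩ := (orderOK_E6 (F := L)).ex
  have hidx : ¬ ℓ ∣ (chevE6.diagonalSubgroup L).relIndex (chevE6.group L) :=
    CycTorus.not_dvd_relIndex_of certE6.diagonal_le_group hℓ Fintype.one_lt_card hQ1 eG eD hℓd
  set f : F →+* L := algebraMap F L
  set xL := mapGL chevE6 f x with hxL
  have hXo : orderOf xL = ℓ :=
    (orderOf_injective _ (mapGL_injective chevE6 f) x).trans ho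
  obtain ⟨g, hg, hgd⟩ := EigenFusion.exists_conj_diagonal certE6 (fun _ : Unit => xL) (fun _ => ℓ)
    (fun _ => hℓ) (fun _ => certE6.map_mem_group f hx) (fun _ => hXo) (fun _ _ => Commute.refl _)
    (fun _ => hidx) Finset.univ
  set z := g * xL * g⁻¹ with hz
  have hzd : z ∈ chevE6.diagonalSubgroup L := hgd () (Finset.mem_univ _)
  have hzy : g * mapGL chevE6 f y * g⁻¹ * z * (g * mapGL chevE6 f y * g⁻¹)⁻¹ = z ^ a := by
    simp only [hz, hxL]
    rw [conj_pow, ← map_pow, ← hact, map_mul, map_mul, map_inv]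
    group
  obtain ⟨n, hn, hnc⟩ := diag_fusion certE6 (mul_mem (mul_mem hg (certE6.map_mem_group f hy)) (inv_mem hg))
  have hnz : n * z * n⁻¹ = z ^ a := hnc _ hzd _ (pow_mem hzd _) hzy
  obtain ⟨w, hw, hM⟩ := exists_acts_word certE6 (inv_mem hn)
  obtain ⟨c, hc'⟩ := certE6.range_torusHom.ge hzd
  have hzo : orderOf z = ℓ := by
    rw [show z = (MulAut.conj g).toMonoidHom xL from rfl,
      orderOf_injective (MulAut.conj g).toMonoidHom (MulAut.conj g).injective, hXo]
  -- parameters of order dividing `ℓ`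
  obtain ⟨t, ht⟩ : ∃ t : ℕ, 3 * t ≡ 1 [MOD ℓ] := by
    have h30 : (3 : ZMod ℓ) ≠ 0 := by
      rw [← Nat.cast_ofNat, Ne, ZMod.natCast_eq_zero_iff]
      exact fun h => h3 ((Nat.prime_dvd_prime_iff_eq hℓ Nat.prime_three).1 h)
    refine ⟨((3 : ZMod ℓ)⁻¹).val, ?_⟩
    rw [← ZMod.natCast_eq_natCast_iff]
    simp [mul_inv_cancel₀ h30]
  have hcl : c ^ (ℓ * 3) = 1 := by
    rw [pow_mul]
    exact pow_three_of_ker (by rw [map_pow, hc']; exact orderOf_dvd_iff_pow_eq_one.1 (dvd_of_eq hzo))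
  obtain ⟨ω, hω⟩ := exists_prime_orderOf_dvd_card' (G := Lˣ) ℓ (by
    rw [Nat.card_units, Nat.card_eq_fintype_card, ← ZMod.natCast_eq_zero_iff,
      Nat.cast_sub Fintype.card_pos, hQ1, Nat.cast_one, sub_self])
  have hω' : IsPrimitiveRoot (ω : L) ℓ := by
    rw [IsPrimitiveRoot.iff_orderOf, orderOf_units, hω]
  have hXi : ∀ j, ∃ k : ℤ, ω ^ k = c j ^ (3 * t) := fun j => by
    obtain ⟨k, -, hk⟩ := hω'.eq_pow_of_pow_eq_one (ξ := ((c j ^ (3 * t) : Lˣ) : L)) (by
      rw [← Units.val_pow_eq_pow_val, ← pow_mul, show 3 * t * ℓ = ℓ * 3 * t by ring, pow_mul,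
        show c j ^ (ℓ * 3) = 1 from congrFun hcl j, one_pow, Units.val_one])
    exact ⟨k, Units.ext (by rw [zpow_natCast, Units.val_pow_eq_pow_val, hk])⟩
  choose X hX using hXi
  have hzX : z = Cert.torusHom (D := chevE6) (T := tabE6) (fun i => ω ^ X i) := by
    rw [funext hX, show (fun j => c j ^ (3 * t)) = c ^ (3 * t) from rfl, map_pow, hc']
    conv_lhs => rw [← pow_one z]
    exact pow_eq_pow_iff_modEq.2 (hzo.symm ▸ ht.symm)
  refine ⟨L, inferInstance, inferInstance, f, g, ω, X, hg, hω, hzX, fun h0 => ?_, ?_⟩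
  · have h1 : (fun i => ω ^ X i) = 1 := funext fun j => orderOf_dvd_iff_zpow_eq_one.1
      (by
        rw [hω, ← e6.apply_symm_apply j]
        exact (ZMod.intCast_zmod_eq_zero_iff_dvd _ _).1 (congrFun h0 (e6.symm j)))
    rw [hzX, h1, map_one, orderOf_one] at hzo
    exact hℓ.ne_one hzo.symm
  · set M := (w.map (reflMat tabE6)).prod with hMdef
    have hXa : n * z * n⁻¹ =
        Cert.torusHom (D := chevE6) (T := tabE6) (fun i => ω ^ ((a : ℤ) * X i)) := by
      rw [hnz, hzX, ← map_pow]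
      congr 1
      funext j
      rw [Pi.pow_apply, mul_comm, _root_.zpow_mul, zpow_natCast]
    have hconj := conj_torusHom certE6 (inv_mem hn) hM fun i => ω ^ X i
    rw [matHom_pow] at hconj
    have hz2 : n⁻¹ * Cert.torusHom (D := chevE6) (T := tabE6) (fun i => ω ^ ((a : ℤ) * X i)) * n⁻¹⁻¹ =
        Cert.torusHom (D := chevE6) (T := tabE6) (fun i => ω ^ X i) := by
      rw [← hXa, ← hzX]; group
    have heq := exponents_eq hℓ h3 hω (mul_left_cancel (mul_right_cancel (hconj.trans hz2.symm)))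
    intro j
    have hvec : (fun i => (X i : ZMod ℓ)) ᵥ* M.map (Int.castRingHom (ZMod ℓ)) =
        fun i => (a : ZMod ℓ) * (X i : ZMod ℓ) := by
      funext i
      have h1 := heq i
      rw [Matrix.mulVec_transpose] at h1
      simpa [Matrix.vecMul, dotProduct] using h1
    have ha0 : (a : ZMod ℓ) ≠ 0 := by
      intro h0
      have hd : ℓ ∣ a := (ZMod.natCast_eq_zero_iff _ _).1 h0
      have : z ^ a = 1 := orderOf_dvd_iff_pow_eq_one.1 (hzo.symm ▸ hd)
      rw [this, conj_eq_one_iff] at hnz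
      rw [hnz, orderOf_one] at hzo
      exact hℓ.ne_one hzo.symm
    have hv6 : (fun i => (X (e6 i) : ZMod ℓ)) ᵥ* (w.map refl6).prod.map (Int.castRingHom (ZMod ℓ)) =
        fun i => (a : ZMod ℓ) * (X (e6 i) : ZMod ℓ) := by
      funext i
      rw [refl6_prod, ← hMdef, ← congrFun hvec (e6 i)]
      simp only [Matrix.vecMul, dotProduct]
      exact Fintype.sum_equiv e6 _ _ fun k => rfl
    rw [← num_word w (fun k hk => (hw k hk : k < tabE6.l)) (fun i => (X (e6 i) : ZMod ℓ))
      ((a : ZMod ℓ) * j), hv6, E6Weights.num_smul ha0, inv_mul_cancel_left₀ ha0]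

end CfsgLib.Classical.AltSection.E6Fusion
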