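import Cfsg.Agent.Lib.Classical.AltSection.E6Fusion
import Cfsg.Agent.Lib.Chev.CubicE6.Main
import Cfsg.Agent.Lib.Chev.StCenterE

/-!
The pairs of matrices covering a group of type E6 by its representation of degree twenty-seven, and
the space moved there by an element of good prime order.
-/

set_option autoImplicit false
set_option maxRecDepth 100000
set_option linter.unusedSectionVars false

namespace CfsgLib.Classical.AltSection.E6Rep

open Cfsg.Lie Matrix CfsgLib.Chev CfsgLib.ChevOrth
open CfsgLib.CubicE6 (xE A)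
open E6Weights (wt num)
open E6Fusion (e6)

/-- The pairs of root elements generate the covering group. -/
noncomputable def pairs (K : Type*) [Field K] : Subgroup (GL (Fin 27) K × GL chevE6.Idx K) :=
  Subgroup.closure {p | ∃ r, r < 72 ∧ ∃ t : K, p = (xE r t, X chevE6 r t)}

/-- The case of a column under a simple root and its negative. -/
noncomputable def colCase (i : ℕ) (a : Fin 27) (w : ℤ) : Bool :=
  let B := A (tabE6.simple i)
  let B' := A (tabE6.neg (tabE6.simple i))
  let E : SM (Fin 27) := [(a, a, 1)]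
  if w = 1 then
    chkZero (mulS B E) && chkZero (mulS B (mulS B' E) ++ sm (-1) E) &&
      chkZero (mulS B' (mulS B' E))
  else if w = -1 then
    chkZero (mulS B' E) && chkZero (mulS B' (mulS B E) ++ sm (-1) E) &&
      chkZero (mulS B (mulS B E))
  else decide (w = 0) && chkZero (mulS B E) && chkZero (mulS B' E)

theorem colCase_ok : ∀ (i : Fin 6) (a : Fin 27), colCase i a (wt a i) = true := by
  decide +kernel

section field

variable {K : Type*} [Field K]

/-- A torus element in the representation. -/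
noncomputable def tor27 : (Fin tabE6.l → Kˣ) →* GL (Fin 27) K where
  toFun c :=
    { val := Matrix.diagonal fun a => ((∏ i, c (e6 i) ^ wt a i : Kˣ) : K)
      inv := Matrix.diagonal fun a => ((∏ i, c (e6 i) ^ wt a i : Kˣ)⁻¹ : Kˣ).val
      val_inv := by
        rw [Matrix.diagonal_mul_diagonal, ← Matrix.diagonal_one]
        simp only [← Units.val_mul, mul_inv_cancel, Units.val_one]
      inv_val := by
        rw [Matrix.diagonal_mul_diagonal, ← Matrix.diagonal_one]
        simp only [← Units.val_mul, inv_mul_cancel, Units.val_one] }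
  map_one' := by
    refine Units.ext ?_
    show Matrix.diagonal _ = 1
    rw [← Matrix.diagonal_one]
    simp
  map_mul' c d := by
    refine Units.ext ?_
    show Matrix.diagonal _ = Matrix.diagonal _ * Matrix.diagonal _
    rw [Matrix.diagonal_mul_diagonal]
    simp [mul_zpow, Finset.prod_mul_distrib]

theorem coe_tor27 (c : Fin tabE6.l → Kˣ) :
    (tor27 c : Matrix (Fin 27) (Fin 27) K) =
      Matrix.diagonal fun a => ((∏ i, c (e6 i) ^ wt a i : Kˣ) : K) := rfl

theorem tor27_single (i : Fin tabE6.l) (t : Kˣ) :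
    (tor27 (Pi.mulSingle i t) : Matrix (Fin 27) (Fin 27) K) =
      Matrix.diagonal fun a => (t : K) ^ wt a (e6.symm i) := by
  rw [coe_tor27]
  congr 1
  funext a
  rw [Finset.prod_eq_single (e6.symm i)]
  · rw [Equiv.apply_symm_apply, Pi.mulSingle_eq_same, Units.val_zpow_eq_zpow_val]
  · intro j _ hj
    rw [Pi.mulSingle_eq_of_ne (fun e => hj (by rw [← e, Equiv.symm_apply_apply])), _root_.one_zpow]
  · exact fun h => absurd (Finset.mem_univ _) h

variable [Fintype K]

theorem exists_cover :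
    ∃ (Φ : chevE6.SteinbergCover K →* GL (Fin 27) K × GL chevE6.Idx K),
      Φ.range = pairs K ∧ (∀ v ∈ chevE6.group K, ∃ z, (Φ z).2 = v) ∧
      (∀ z, (Φ z).2 ∈ chevE6.group K) ∧
      (∀ c : Fin tabE6.l → Kˣ, ∃ z,
        Φ z = (tor27 c, Cert.torusHom (D := chevE6) (T := tabE6) c)) ∧
      (∀ z, (Φ z).2 = 1 → (Φ z).1 ^ 3 = 1 ∧ ∀ y, Commute (Φ z) (Φ y)) := by
  classical
  have hnb : Rel.Nbr tabE6 := by unfold Rel.Nbr; decide +kernel
  obtain ⟨ρ, hρ⟩ : ∃ ρ : chevE6.SteinbergCover K →* GL (Fin 27) K, ∀ r, r < tabE6.n → ∀ t : K,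
      ρ ((certE6.relOf (R := chevE6.steinbergRelsAB K) le_rfl
        (steinbergRelsAB_subset chevE6 K)).x r t) = xE r t :=
    minE6.exists_rep (K := K) minE6_sq certE6 minE6_n minE6_move minE6_base
  set L := certE6.relOf (R := chevE6.steinbergRelsAB K) le_rfl (steinbergRelsAB_subset chevE6 K)
  have hn : tabE6.n = 72 := by decide +kernel
  have hmul := L.mult_of_finite certE6 hnb
  refine ⟨ρ.prod L.π, ?_, fun v hv => ?_, fun z => certE6.π_mem_group L z, fun c => ?_, fun z hz => ?_⟩
  · rw [MonoidHom.range_eq_map, ← L.generate, MonoidHom.map_closure]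
    refine congrArg Subgroup.closure (Set.ext fun g => ⟨?_, ?_⟩)
    · rintro ⟨_, ⟨r, hr, t, rfl⟩, rfl⟩
      exact ⟨r, hn ▸ hr, t, Prod.ext (hρ r hr t) (L.π_x r hr t)⟩
    · rintro ⟨r, hr, t, rfl⟩
      exact ⟨_, ⟨r, hn.symm ▸ hr, t, rfl⟩,
        Prod.ext (hρ r (hn.symm ▸ hr) t) (L.π_x r (hn.symm ▸ hr) t)⟩
  · obtain ⟨z, hz⟩ := certE6.stTheta_surjective (R := chevE6.steinbergRelsAB K) le_rfl
      (steinbergRelsAB_subset chevE6 K) ⟨v, hv⟩
    exact ⟨z, congrArg Subtype.val hz⟩
  · refine ⟨L.torG certE6 hnb hmul c, Prod.ext ?_ (L.π_torG certE6 hnb hmul c)⟩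
    show (ρ.comp (L.torG certE6 hnb hmul)) c = tor27 c
    congr 1
    refine MonoidHom.pi_ext fun i t => ?_
    rw [MonoidHom.comp_apply, L.torG_single certE6 hnb hmul]
    refine Units.ext (Matrix.ext fun b a => ?_)
    rw [tor27_single]
    have hp := certE6.simple_lt i.2
    have hm := Cert.neg_lt (T := tabE6) hp
    have hc := colCase_ok (e6.symm i) a
    have hi6 : ((e6.symm i : Fin 6) : ℕ) = (i : ℕ) := rfl
    simp only [colCase, hi6] at hc
    set E : Matrix (Fin 27) (Fin 27) K := toM K [(a, a, 1)] with hE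
    set B : Matrix (Fin 27) (Fin 27) K := toM K (A (tabE6.simple i)) with hA
    set B' : Matrix (Fin 27) (Fin 27) K := toM K (A (tabE6.neg (tabE6.simple i))) with hA'
    have hxE : ∀ r (u : K), ((xE r u : GL (Fin 27) K) : Matrix (Fin 27) (Fin 27) K) =
        1 + u • toM K (A r) := fun r u => minE6.coe_xR minE6_sq r u
    have hz : ∀ S : SM (Fin 27), chkZero S = true → toM K S = 0 := fun S h => toM_eq_zero h
    have key : (ρ (L.hG (tabE6.simple i) (t : K)) : Matrix (Fin 27) (Fin 27) K) * E =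
        ((t : K) ^ wt a (e6.symm i)) • E := by
      rw [Rel.hG, Rel.nG, Rel.nG, map_mul, map_mul, map_mul, map_mul, map_mul]
      simp only [hρ _ hp, hρ _ hm, Units.val_mul, hxE, inv_neg, inv_one,
        _root_.neg_neg]
      rw [← hA, ← hA']
      simp only [mul_assoc]
      have ht : (t : K) ≠ 0 := t.ne_zero
      split_ifs at hc with h1 h2
      · simp only [Bool.and_eq_true] at hc
        obtain ⟨⟨c0, c1⟩, c2⟩ := hc
        have a0 : B * E = 0 := by rw [hA, hE, ← toM_mulS]; exact hz _ c0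
        have a1 : B * (B' * E) = E := by
          have h := hz _ c1
          rw [toM_append, toM_sm, toM_mulS, toM_mulS, Int.cast_neg, Int.cast_one, neg_one_smul,
            add_neg_eq_zero] at h
          exact h
        have a2 : B' * (B' * E) = 0 := by
          have h := hz _ c2
          rwa [toM_mulS, toM_mulS] at h
        simp only [add_mul, mul_add, one_mul, mul_one, smul_mul_assoc, mul_smul_comm, a0, a1, a2,
          smul_zero, add_zero, h1, zpow_one, mul_zero]
        match_scalars <;> field_simp <;> ring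
      · simp only [Bool.and_eq_true] at hc
        obtain ⟨⟨c0, c1⟩, c2⟩ := hc
        have a0 : B' * E = 0 := by rw [hA', hE, ← toM_mulS]; exact hz _ c0
        have a1 : B' * (B * E) = E := by
          have h := hz _ c1
          rw [toM_append, toM_sm, toM_mulS, toM_mulS, Int.cast_neg, Int.cast_one, neg_one_smul,
            add_neg_eq_zero] at h
          exact h
        have a2 : B * (B * E) = 0 := by
          have h := hz _ c2
          rwa [toM_mulS, toM_mulS] at h
        simp only [add_mul, mul_add, one_mul, mul_one, smul_mul_assoc, mul_smul_comm, a0, a1, a2,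
          smul_zero, add_zero, h2, _root_.zpow_neg_one, mul_zero]
        match_scalars <;> field_simp <;> ring
      · simp only [Bool.and_eq_true, decide_eq_true_eq] at hc
        obtain ⟨⟨h0, c0⟩, c1⟩ := hc
        have a0 : B * E = 0 := by rw [hA, hE, ← toM_mulS]; exact hz _ c0
        have a1 : B' * E = 0 := by rw [hA', hE, ← toM_mulS]; exact hz _ c1
        simp only [add_mul, one_mul, smul_mul_assoc, a0, a1, smul_zero, add_zero, h0, zpow_zero,
          one_smul]
    have hEs : E = Matrix.single a a 1 := by simp [hE, toM]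
    rw [hEs] at key
    have hba := congrFun (congrFun key b) a
    rw [Matrix.mul_single_apply_same, mul_one, Matrix.smul_apply, smul_eq_mul] at hba
    rw [hba, Matrix.diagonal_apply, Matrix.single_apply]
    by_cases hb : b = a
    · subst hb; simp
    · simp [hb, Ne.symm hb]
  · have hzk : z ∈ L.π.ker := hz
    obtain ⟨c, hc, rfl⟩ := L.ker_le_map certE6 hnb hmul hzk
    refine ⟨?_, fun y => ?_⟩
    · show (ρ (L.torG certE6 hnb hmul c)) ^ 3 = 1
      rw [← map_pow, ← map_pow, E6Fusion.pow_three_of_ker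
        (by rw [← MonoidHom.mem_ker, certE6.ker_torusHom]; exact hc), map_one, map_one]
    · have hcz : L.torG certE6 hnb hmul c ∈ Subgroup.center _ := L.ker_eq_center certE6 hnb ▸ hzk
      exact (show Commute _ y from (Subgroup.mem_center_iff.1 hcz y).symm).map _

end field

theorem map_pairs {F L : Type*} [Field F] [Field L] (f : F →+* L) {p : GL (Fin 27) F × GL chevE6.Idx F}
    (hp : p ∈ pairs F) :
    (Units.map (f.mapMatrix : Matrix (Fin 27) (Fin 27) F →+* _).toMonoidHom p.1,
      mapGL chevE6 f p.2) ∈ pairs L := by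
  let φ := ((Units.map (f.mapMatrix : Matrix (Fin 27) (Fin 27) F →+* Matrix (Fin 27) (Fin 27) L).toMonoidHom).prodMap
    (mapGL chevE6 f))
  have h : (pairs F).map φ ≤ pairs L := by
    rw [pairs, MonoidHom.map_closure, Subgroup.closure_le]
    rintro _ ⟨_, ⟨r, hr, t, rfl⟩, rfl⟩
    refine Subgroup.subset_closure ⟨r, hr, f t, Prod.ext (Units.ext ?_) (certE6.X_map f r t)⟩
    show ((xE r t : GL (Fin 27) F) : Matrix (Fin 27) (Fin 27) F).map f = _
    rw [xE, xE, minE6.coe_xR, minE6.coe_xR]
    ext i j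
    simp only [Matrix.map_apply, Matrix.add_apply, Matrix.smul_apply, Matrix.one_apply, smul_eq_mul,
      map_add, map_mul, MinRep.mK]
    show f ((1 + t • toM F (A r) : Matrix (Fin 27) (Fin 27) F) i j) =
      (1 + f t • toM L (A r) : Matrix (Fin 27) (Fin 27) L) i j
    simp [Matrix.one_apply, apply_ite f, toM_apply, map_intCast]
  exact h ⟨p, hp, rfl⟩

/-- The space moved by an element of good prime order with a normalising element. -/
theorem exists_moved {F : Type*} [Field F] [Fintype F] {ℓ : ℕ} [Fact ℓ.Prime]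
    (hℓd : ∀ d ∈ [2, 5, 6, 8, 9, 12], ¬ ℓ ∣ d) (hℓq : ¬ ℓ ∣ Fintype.card F)
    {x y : GL chevE6.Idx F} (hx : x ∈ chevE6.group F) (ho : orderOf x = ℓ)
    (hy : y ∈ chevE6.group F) {a : ℕ} (hact : y * x * y⁻¹ = x ^ a) :
    ∃ (k : Type) (_ : Field k) (_ : IsAlgClosed k) (j : F →+* k) (c : Fin 6 → ZMod ℓ),
      c ≠ 0 ∧ (∀ i, num c i = num c ((a : ZMod ℓ) * i)) ∧
      ∀ u, (u, x) ∈ pairs F → u ^ ℓ = 1 →
        Module.finrank k (LinearMap.range (Matrix.toLin' ((u : Matrix (Fin 27) (Fin 27) F).map j) - 1)) +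
          num c 0 = 27 := by
  classical
  have hℓ : ℓ.Prime := Fact.out
  obtain ⟨L, iL, iF, f, g, ω, X, hg, hω, hconj, hc0, hbal⟩ :=
    E6Fusion.exists_balanced hℓ hℓd hℓq hx ho hy hact
  set c : Fin 6 → ZMod ℓ := fun i => (X (e6 i) : ZMod ℓ) with hc
  let k := AlgebraicClosure L
  let jk : L →+* k := algebraMap L k
  refine ⟨k, inferInstance, inferInstance, jk.comp f, c, hc0, hbal, fun u hu huℓ => ?_⟩
  obtain ⟨Φ, hΦ, hsur, -, htor, hker⟩ := exists_cover (K := L)
  obtain ⟨zg, hzg⟩ := hsur g hg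
  obtain ⟨zu, hzu⟩ := hΦ.ge (map_pairs f hu)
  obtain ⟨zd, hzd⟩ := htor fun i => ω ^ X i
  set d := tor27 (K := L) fun i => ω ^ X i with hd
  set uL := Units.map (f.mapMatrix : Matrix (Fin 27) (Fin 27) F →+* _).toMonoidHom u with huL
  set z := zg * zu * zg⁻¹ * zd⁻¹ with hz
  obtain ⟨hz3, hzc⟩ := hker z (by
    simp only [hz, map_mul, map_inv, Prod.snd_mul, Prod.snd_inv, hzg, hzu, hzd, hconj, mul_inv_cancel])
  have hzd1 : Commute (Φ z).1 d := by
    have h := congrArg Prod.fst (hzc zd).eq
    simp only [hzd, Prod.fst_mul] at h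
    exact h
  have hval : (Φ zg).1 * uL * (Φ zg).1⁻¹ = (Φ z).1 * d := by
    simp only [hz, map_mul, map_inv, Prod.fst_mul, Prod.fst_inv, hzu, hzd]
    rw [inv_mul_cancel_right]
  have hdℓ : d ^ ℓ = 1 := by
    rw [hd, ← map_pow]
    convert map_one (tor27 (K := L)) using 2
    funext i
    rw [Pi.pow_apply, ← zpow_natCast, ← _root_.zpow_mul, mul_comm, _root_.zpow_mul, zpow_natCast,
      ← hω, pow_orderOf_eq_one, _root_.one_zpow, Pi.one_apply]
  have hz1 : (Φ z).1 = 1 := by
    have h1 : (Φ z).1 ^ ℓ = 1 := by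
      have h2 : ((Φ z).1 * d) ^ ℓ = 1 := by
        rw [← hval, conj_pow, huL, ← map_pow, huℓ, map_one, mul_one, mul_inv_cancel]
      rwa [hzd1.mul_pow, hdℓ, mul_one] at h2
    have h3 : Nat.gcd ℓ 3 = 1 := (Nat.coprime_primes hℓ Nat.prime_three).2
      fun e => hℓd 6 (by simp) (e ▸ by norm_num)
    have h4 := pow_gcd_eq_one.2 ⟨h1, hz3⟩
    rwa [h3, pow_one] at h4
  rw [hz1, one_mul] at hval
  let M : GL (Fin 27) L →* GL (Fin 27) k :=
    Units.map (jk.mapMatrix : Matrix (Fin 27) (Fin 27) L →+* _).toMonoidHom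
  set G := M (Φ zg).1 with hG
  set U := M uL with hU
  have hUval : (U : Matrix (Fin 27) (Fin 27) k) = (u : Matrix (Fin 27) (Fin 27) F).map (jk.comp f) := by
    simp [hU, M, huL, Matrix.map_map, Function.comp_def]
  have hGU : (G : Matrix (Fin 27) (Fin 27) k) * ((U : Matrix (Fin 27) (Fin 27) k) - 1) *
      ((G⁻¹ : GL (Fin 27) k) : Matrix (Fin 27) (Fin 27) k) =
        (M d : Matrix (Fin 27) (Fin 27) k) - 1 := by
    rw [← hval, map_mul, map_mul, map_inv, Units.val_mul, Units.val_mul, mul_sub, sub_mul, mul_one,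
      ← Units.val_mul G G⁻¹, mul_inv_cancel, Units.val_one]
  have hrank : ((U : Matrix (Fin 27) (Fin 27) k) - 1).rank = ((M d : Matrix (Fin 27) (Fin 27) k) - 1).rank := by
    rw [← hGU, Matrix.rank_mul_eq_left_of_isUnit_det _ _
        (Matrix.isUnit_iff_isUnit_det _ |>.1 G⁻¹.isUnit),
      Matrix.rank_mul_eq_right_of_isUnit_det _ _ (Matrix.isUnit_iff_isUnit_det _ |>.1 G.isUnit)]
  have hMd : (M d : Matrix (Fin 27) (Fin 27) k) - 1 =
      Matrix.diagonal fun b => jk ((∏ i, (ω ^ X (e6 i)) ^ wt b i : Lˣ) : L) - 1 := by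
    show (Matrix.diagonal _).map jk - 1 = _
    rw [Matrix.diagonal_map (map_zero jk), ← Matrix.diagonal_one, Matrix.diagonal_sub]
  rw [← hUval, show (1 : (Fin 27 → k) →ₗ[k] (Fin 27 → k)) = Matrix.toLin' 1 from Matrix.toLin'_one.symm,
    ← map_sub, Matrix.toLin'_apply', ← Matrix.rank, hrank, hMd,
    Matrix.rank_diagonal, num]
  have hiff : ∀ b, jk ((∏ i, (ω ^ X (e6 i)) ^ wt b i : Lˣ) : L) - 1 ≠ 0 ↔ ¬ E6Weights.val c b = 0 := by
    intro b
    have hp : (∏ i, (ω ^ X (e6 i)) ^ wt b i : Lˣ) = ω ^ ∑ i, X (e6 i) * wt b i := by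
      induction (Finset.univ : Finset (Fin 6)) using Finset.cons_induction with
      | empty => simp
      | cons i s hi ih => rw [Finset.prod_cons, Finset.sum_cons, ih, _root_.zpow_add, _root_.zpow_mul]
    rw [not_iff_not, sub_eq_zero, ← map_one jk, jk.injective.eq_iff, Units.val_eq_one, hp,
      ← orderOf_dvd_iff_zpow_eq_one, hω, ← ZMod.intCast_zmod_eq_zero_iff_dvd]
    simp [E6Weights.val, hc]
  rw [Fintype.card_subtype, Finset.filter_congr fun b _ => hiff b, add_comm,
    Finset.card_filter_add_card_filter_not]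
  simp

end CfsgLib.Classical.AltSection.E6Rep
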