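import Mathlib.Data.ZMod.Basic
import Mathlib.Algebra.BigOperators.Fin
import Mathlib.Algebra.Field.ZMod
import Mathlib.Tactic

/-!
Residues of the twenty-seven weights of type E6 at a vector which is invariant, as a multiset, under
multiplication by a given residue.
-/

set_option autoImplicit false
set_option maxRecDepth 100000
set_option linter.unusedSectionVars false

namespace CfsgLib.Classical.AltSection.E6Weights

/-- The twenty-seven weights, shifted by one. -/
def wtData : List (List ℕ) :=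
  [[2,1,1,1,1,1], [0,1,2,1,1,1], [1,1,0,2,1,1], [1,2,1,0,2,1], [1,0,1,1,2,1], [1,2,1,1,0,2],
    [1,0,1,2,0,2], [1,2,1,1,1,0], [1,1,2,0,1,2], [1,0,1,2,1,0], [2,1,0,1,1,2], [1,1,2,0,2,0],
    [0,1,1,1,1,2], [2,1,0,1,2,0], [1,1,2,1,0,1], [0,1,1,1,2,0], [2,1,0,2,0,1], [0,1,1,2,0,1],
    [2,2,1,0,1,1], [0,2,2,0,1,1], [2,0,1,1,1,1], [0,0,2,1,1,1], [1,2,0,1,1,1], [1,0,0,2,1,1],
    [1,1,1,0,2,1], [1,1,1,1,0,2], [1,1,1,1,1,0]]

/-- The weight of a coordinate. -/
def wt (a : Fin 27) (i : Fin 6) : ℤ := ((wtData.getD a.val []).getD i.val 1 : ℤ) - 1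

/-- The value of a weight. -/
def val {R : Type*} [CommRing R] (c : Fin 6 → R) (a : Fin 27) : R := ∑ i, c i * (wt a i : R)

/-- The number of weights with a given value. -/
def num {R : Type*} [CommRing R] [DecidableEq R] (c : Fin 6 → R) (j : R) : ℕ :=
  (Finset.univ.filter fun a => val c a = j).card

/-- The values in natural numbers, `n` standing for minus one. -/
def vals (n x0 x1 x2 x3 x4 x5 : ℕ) : List ℕ :=
  [x0,
    Nat.add (Nat.mul n x0) (x2),
    Nat.add (Nat.mul n x2) (x3),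
    Nat.add (Nat.add (x1) (Nat.mul n x3)) (x4),
    Nat.add (Nat.mul n x1) (x4),
    Nat.add (Nat.add (x1) (Nat.mul n x4)) (x5),
    Nat.add (Nat.add (Nat.add (Nat.mul n x1) (x3)) (Nat.mul n x4)) (x5),
    Nat.add (x1) (Nat.mul n x5),
    Nat.add (Nat.add (x2) (Nat.mul n x3)) (x5),
    Nat.add (Nat.add (Nat.mul n x1) (x3)) (Nat.mul n x5),
    Nat.add (Nat.add (x0) (Nat.mul n x2)) (x5),
    Nat.add (Nat.add (Nat.add (x2) (Nat.mul n x3)) (x4)) (Nat.mul n x5),
    Nat.add (Nat.mul n x0) (x5),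
    Nat.add (Nat.add (Nat.add (x0) (Nat.mul n x2)) (x4)) (Nat.mul n x5),
    Nat.add (x2) (Nat.mul n x4),
    Nat.add (Nat.add (Nat.mul n x0) (x4)) (Nat.mul n x5),
    Nat.add (Nat.add (Nat.add (x0) (Nat.mul n x2)) (x3)) (Nat.mul n x4),
    Nat.add (Nat.add (Nat.mul n x0) (x3)) (Nat.mul n x4),
    Nat.add (Nat.add (x0) (x1)) (Nat.mul n x3),
    Nat.add (Nat.add (Nat.add (Nat.mul n x0) (x1)) (x2)) (Nat.mul n x3),
    Nat.add (x0) (Nat.mul n x1),
    Nat.add (Nat.add (Nat.mul n x0) (Nat.mul n x1)) (x2),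
    Nat.add (x1) (Nat.mul n x2),
    Nat.add (Nat.add (Nat.mul n x1) (Nat.mul n x2)) (x3),
    Nat.add (Nat.mul n x3) (x4),
    Nat.add (Nat.mul n x4) (x5),
    Nat.mul n x5]

/-- The distribution of the values multiplied by `a`, packed in fields of five bits. -/
noncomputable def hist (l a : ℕ) (v : List ℕ) : ℕ :=
  List.rec (motive := fun _ => ℕ) 0
    (fun x _ ih => Nat.add ih (Nat.pow 32 (Nat.mod (Nat.mul a x) l))) v

/-- The test of values modulo seven. -/
noncomputable def testSeven (v : List ℕ) : Bool :=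
  let h := hist 7 1 v
  bif Nat.beq h (hist 7 3 v) then Nat.ble (Nat.mod h 32) 9 else true

/-- The test of values modulo eleven. -/
noncomputable def testEleven (v : List ℕ) : Bool :=
  let h := hist 11 1 v
  bif Nat.beq h (hist 11 3 v) then Nat.ble (Nat.mod h 32) 2 && !Nat.beq h (hist 11 2 v) else true

/-- The quadratic form, `n` standing for minus one. -/
def quad (l n x0 x1 x2 x3 x4 x5 : ℕ) : Bool :=
  Nat.beq (Nat.mod (Nat.add (Nat.add (Nat.add (Nat.mul x0 x0) (Nat.mul x1 x1))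
      (Nat.add (Nat.add (Nat.mul x2 x2) (Nat.mul x3 x3)) (Nat.add (Nat.mul x4 x4) (Nat.mul x5 x5))))
    (Nat.mul n (Nat.add (Nat.add (Nat.mul x0 x2) (Nat.mul x2 x3))
      (Nat.add (Nat.mul x4 (Nat.add x3 x5)) (Nat.mul x1 x3))))) l) 0

/-- A test at every residue. -/
noncomputable def allBelow (f : ℕ → Bool) (l : ℕ) : Bool :=
  Nat.rec (motive := fun _ => Bool) true (fun k ih => bif f k then ih else false) l

theorem allBelow_spec {f : ℕ → Bool} : ∀ {l : ℕ}, allBelow f l = true → ∀ x < l, f x = true := by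
  intro l
  induction l with
  | zero => intro _ x hx; omega
  | succ k ih =>
    intro h x hx
    have h' : (bif f k then allBelow f k else false) = true := h
    cases hk : f k
    · simp [hk] at h'
    · rw [hk, cond_true] at h'
      rcases Nat.lt_succ_iff_lt_or_eq.1 hx with h1 | rfl
      · exact ih h' x h1
      · exact hk

/-- Three further coordinates. -/
noncomputable def chkThree (l : ℕ) (t : List ℕ → Bool) (x0 x1 x2 : ℕ) : Bool :=
  allBelow (fun x3 => allBelow (fun x4 => allBelow (fun x5 =>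
    bif quad l (Nat.sub l 1) x0 x1 x2 x3 x4 x5 then t (vals (Nat.sub l 1) x0 x1 x2 x3 x4 x5)
    else true) l) l) l

theorem chkThree_spec {l : ℕ} {t : List ℕ → Bool} {x0 x1 x2 x3 x4 x5 : ℕ}
    (h : chkThree l t x0 x1 x2 = true) (h3 : x3 < l) (h4 : x4 < l) (h5 : x5 < l)
    (hq : quad l (l - 1) x0 x1 x2 x3 x4 x5 = true) :
    t (vals (l - 1) x0 x1 x2 x3 x4 x5) = true := by
  have := allBelow_spec (allBelow_spec (allBelow_spec h x3 h3) x4 h4) x5 h5
  rwa [show Nat.sub l 1 = l - 1 from rfl, hq, cond_true] at this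

theorem seven_head : allBelow (fun x1 => allBelow (fun x2 => chkThree 7 testSeven 1 x1 x2) 7) 7 = true := by
  decide +kernel

theorem seven_tail : allBelow (fun x2 => chkThree 7 testSeven 0 1 x2) 7 = true ∧
    chkThree 7 testSeven 0 0 1 = true := by
  decide +kernel

theorem seven_last : allBelow (fun x4 => allBelow (fun x5 => testSeven (vals 6 0 0 0 1 x4 x5)) 7) 7 = true ∧
    allBelow (fun x5 => testSeven (vals 6 0 0 0 0 1 x5)) 7 = true ∧
    testSeven (vals 6 0 0 0 0 0 1) = true := by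
  decide +kernel

theorem eleven_0 : allBelow (fun x2 => chkThree 11 testEleven 1 0 x2) 11 = true := by decide +kernel

theorem eleven_1 : allBelow (fun x2 => chkThree 11 testEleven 1 1 x2) 11 = true := by decide +kernel

theorem eleven_2 : allBelow (fun x2 => chkThree 11 testEleven 1 2 x2) 11 = true := by decide +kernel

theorem eleven_3 : allBelow (fun x2 => chkThree 11 testEleven 1 3 x2) 11 = true := by decide +kernel

theorem eleven_4 : allBelow (fun x2 => chkThree 11 testEleven 1 4 x2) 11 = true := by decide +kernel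

theorem eleven_5 : allBelow (fun x2 => chkThree 11 testEleven 1 5 x2) 11 = true := by decide +kernel

theorem eleven_6 : allBelow (fun x2 => chkThree 11 testEleven 1 6 x2) 11 = true := by decide +kernel

theorem eleven_7 : allBelow (fun x2 => chkThree 11 testEleven 1 7 x2) 11 = true := by decide +kernel

theorem eleven_8 : allBelow (fun x2 => chkThree 11 testEleven 1 8 x2) 11 = true := by decide +kernel

theorem eleven_9 : allBelow (fun x2 => chkThree 11 testEleven 1 9 x2) 11 = true := by decide +kernel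

theorem eleven_10 : allBelow (fun x2 => chkThree 11 testEleven 1 10 x2) 11 = true := by decide +kernel

theorem eleven_tail : allBelow (fun x2 => chkThree 11 testEleven 0 1 x2) 11 = true ∧
    chkThree 11 testEleven 0 0 1 = true := by
  decide +kernel

theorem eleven_last :
    allBelow (fun x4 => allBelow (fun x5 => testEleven (vals 10 0 0 0 1 x4 x5)) 11) 11 = true ∧
    allBelow (fun x5 => testEleven (vals 10 0 0 0 0 1 x5)) 11 = true ∧
    testEleven (vals 10 0 0 0 0 0 1) = true := by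
  decide +kernel

theorem eleven_head (x : ℕ) (hx : x < 11) :
    allBelow (fun x2 => chkThree 11 testEleven 1 x x2) 11 = true := by
  interval_cases x
  · exact eleven_0
  · exact eleven_1
  · exact eleven_2
  · exact eleven_3
  · exact eleven_4
  · exact eleven_5
  · exact eleven_6
  · exact eleven_7
  · exact eleven_8
  · exact eleven_9
  · exact eleven_10

/-- The weight of a coordinate. -/
def row (a : Fin 27) : List ℕ := wtData.getD a.val []

theorem list_ofFn_row {R : Type*} [CommRing R] (c : Fin 6 → R) :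
    List.ofFn (val c) = [c 0, -c 0 + c 2, -c 2 + c 3, c 1 + -c 3 + c 4, -c 1 + c 4, c 1 + -c 4 + c 5,
      -c 1 + c 3 + -c 4 + c 5, c 1 + -c 5, c 2 + -c 3 + c 5, -c 1 + c 3 + -c 5, c 0 + -c 2 + c 5,
      c 2 + -c 3 + c 4 + -c 5, -c 0 + c 5, c 0 + -c 2 + c 4 + -c 5, c 2 + -c 4, -c 0 + c 4 + -c 5,
      c 0 + -c 2 + c 3 + -c 4, -c 0 + c 3 + -c 4, c 0 + c 1 + -c 3, -c 0 + c 1 + c 2 + -c 3,
      c 0 + -c 1, -c 0 + -c 1 + c 2, c 1 + -c 2, -c 1 + -c 2 + c 3, -c 3 + c 4, -c 4 + c 5, -c 5] := by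
  norm_num [List.ofFn_succ, val, wt, wtData, Fin.sum_univ_succ, add_assoc]
  and_intros <;> rfl

variable {l : ℕ} [NeZero l]

theorem three_ne_seven : (3 : ZMod 7) ≠ 0 := by decide

theorem three_ne_eleven : (3 : ZMod 11) ≠ 0 := by decide

theorem two_ne_eleven : (2 : ZMod 11) ≠ 0 := by decide

theorem vals_cast (c : Fin 6 → ZMod l) :
    (vals (l - 1) (c 0).val (c 1).val (c 2).val (c 3).val (c 4).val (c 5).val).map
      (fun x : ℕ => (x : ZMod l)) = List.ofFn (val c) := by
  have h1 : ((l - 1 : ℕ) : ZMod l) = -1 := by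
    rw [Nat.cast_sub (NeZero.pos l), ZMod.natCast_self, Nat.cast_one, zero_sub]
  rw [list_ofFn_row]
  simp [vals, h1]

/-- The distribution is that of the weights. -/
theorem hist_vals (c : Fin 6 → ZMod l) (a : ℕ) :
    hist l a (vals (l - 1) (c 0).val (c 1).val (c 2).val (c 3).val (c 4).val (c 5).val) =
      ∑ i, 32 ^ ((a : ZMod l) * val c i).val := by
  have key : ∀ v : List ℕ, hist l a v =
      ((v.map fun x : ℕ => (x : ZMod l)).map fun z => 32 ^ ((a : ZMod l) * z).val).sum := by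
    intro v
    induction v with
    | nil => rfl
    | cons x v ih =>
      show hist l a v + 32 ^ (a * x % l) = _
      rw [List.map_cons, List.map_cons, List.sum_cons, ← ih, ← Nat.cast_mul, ZMod.val_natCast]
      exact add_comm _ _
  rw [key, vals_cast, List.map_ofFn, List.sum_ofFn]
  rfl

theorem hist_one (c : Fin 6 → ZMod l) :
    hist l 1 (vals (l - 1) (c 0).val (c 1).val (c 2).val (c 3).val (c 4).val (c 5).val) =
      ∑ i, 32 ^ (val c i).val := by
  rw [hist_vals]; simp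

/-- The number of zeros is the last field. -/
theorem hist_mod (c : Fin 6 → ZMod l) : (∑ i, 32 ^ (val c i).val) % 32 = num c 0 := by
  classical
  rw [Finset.sum_nat_mod]
  have e : ∀ i, 32 ^ (val c i).val % 32 = if val c i = 0 then 1 else 0 := fun i => by
    by_cases h : val c i = 0
    · simp [h]
    · rw [if_neg h]
      exact Nat.mod_eq_zero_of_dvd (dvd_pow_self 32 fun e => h ((ZMod.val_eq_zero _).1 e))
  rw [Finset.sum_congr rfl fun i _ => e i, Finset.sum_boole, Nat.mod_eq_of_lt]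
  · rfl
  · have := Finset.card_filter_le (Finset.univ : Finset (Fin 27)) fun i => val c i = 0
    simp only [Finset.card_univ, Fintype.card_fin] at this
    simp only [Nat.cast_id]
    omega

section prime

variable {p : ℕ} [Fact p.Prime]

theorem sum_scale {M : Type*} [AddCommMonoid M] {a : ZMod p} (ha : a ≠ 0) {c : Fin 6 → ZMod p}
    (h : ∀ j, num c j = num c (a * j)) (φ : ZMod p → M) :
    ∑ i, φ (a * val c i) = ∑ i, φ (val c i) := by
  classical
  have e : ∀ ψ : ZMod p → M, ∑ i, ψ (val c i) = ∑ j, num c j • ψ j := fun ψ => by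
    rw [← Finset.sum_fiberwise Finset.univ (val c) fun i => ψ (val c i)]
    refine Finset.sum_congr rfl fun j _ => ?_
    rw [num, ← Finset.sum_const]
    exact Finset.sum_congr rfl fun i hi => by rw [(Finset.mem_filter.1 hi).2]
  rw [e fun z => φ (a * z), e φ, ← Equiv.sum_comp (Equiv.mulLeft₀ a ha) fun j => num c j • φ j]
  exact Finset.sum_congr rfl fun j _ => by rw [Equiv.mulLeft₀_apply, ← h]

theorem num_smul {k : ZMod p} (hk : k ≠ 0) (c : Fin 6 → ZMod p) (j : ZMod p) :
    num (fun i => k * c i) j = num c (k⁻¹ * j) := by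
  unfold num
  congr 1
  ext a
  simp only [Finset.mem_filter, Finset.mem_univ, true_and]
  rw [show val (fun i => k * c i) a = k * val c a by simp [val, Finset.mul_sum, mul_assoc]]
  rw [eq_inv_mul_iff_mul_eq₀ hk]

/-- An invariant distribution makes the quadratic form vanish. -/
theorem quad_eq (hp : 7 ≤ p) {c : Fin 6 → ZMod p} (h : ∀ j, num c j = num c (3 * j)) :
    quad p (p - 1) (c 0).val (c 1).val (c 2).val (c 3).val (c 4).val (c 5).val = true := by
  have h1 : ((p - 1 : ℕ) : ZMod p) = -1 := by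
    rw [Nat.cast_sub (by omega), ZMod.natCast_self, Nat.cast_one, zero_sub]
  have hne : ∀ m : ℕ, 0 < m → m < p → (m : ZMod p) ≠ 0 := fun m h0 hlt e =>
    absurd (Nat.le_of_dvd h0 ((ZMod.natCast_eq_zero_iff _ _).1 e)) (by omega)
  have h3 : (3 : ZMod p) ≠ 0 := by simpa using hne 3 (by omega) (by omega)
  have h2 : (2 : ZMod p) ≠ 0 := by simpa using hne 2 (by omega) (by omega)
  have hs := sum_scale h3 h (fun z => z * z)
  have h8 : ((2 : ZMod p) * 2 * 2) * ∑ i, val c i * val c i = 0 := by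
    rw [← sub_eq_zero] at hs
    rw [← Finset.sum_sub_distrib] at hs
    rw [← hs, Finset.mul_sum]
    exact Finset.sum_congr rfl fun i _ => by ring
  have hS := (mul_eq_zero.1 h8).resolve_left (by simp [h2])
  have hQ : ∑ i, val c i * val c i = (2 * 2 * 3 : ZMod p) * (c 0 * c 0 + c 1 * c 1 + c 2 * c 2 +
      c 3 * c 3 + c 4 * c 4 + c 5 * c 5 - (c 0 * c 2 + c 2 * c 3 + c 4 * (c 3 + c 5) + c 1 * c 3)) := by
    rw [← List.sum_ofFn, show (fun i => val c i * val c i) = (fun z => z * z) ∘ val c from rfl,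
      ← List.map_ofFn, list_ofFn_row]
    simp only [List.map_cons, List.map_nil, List.sum_cons, List.sum_nil]
    ring
  rw [hQ] at hS
  have hS' := (mul_eq_zero.1 hS).resolve_left (by simp [h2, h3])
  refine (Nat.beq_eq ..).mpr ?_
  refine Nat.mod_eq_zero_of_dvd ((ZMod.natCast_eq_zero_iff _ _).1 ?_)
  rw [← hS']
  simp only [Nat.add_eq, Nat.mul_eq, Nat.cast_add, Nat.cast_mul, ZMod.natCast_zmod_val, h1]
  ring

/-- A vector has a multiple with leading entry one. -/
theorem exists_normal {c : Fin 6 → ZMod p} (hc : c ≠ 0) : ∃ k : ZMod p, k ≠ 0 ∧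
    ((k * c 0).val = 1 ∨ (k * c 0).val = 0 ∧ ((k * c 1).val = 1 ∨ (k * c 1).val = 0 ∧
      ((k * c 2).val = 1 ∨ (k * c 2).val = 0 ∧ ((k * c 3).val = 1 ∨ (k * c 3).val = 0 ∧
        ((k * c 4).val = 1 ∨ (k * c 4).val = 0 ∧ (k * c 5).val = 1))))) := by
  have one : ∀ {x : ZMod p}, x ≠ 0 → (x⁻¹ * x).val = 1 := fun hx => by
    rw [inv_mul_cancel₀ hx, ZMod.val_one]
  by_cases h0 : c 0 = 0
  swap
  · exact ⟨_, inv_ne_zero h0, Or.inl (one h0)⟩
  by_cases h1 : c 1 = 0
  swap
  · exact ⟨_, inv_ne_zero h1, Or.inr ⟨by simp [h0], Or.inl (one h1)⟩⟩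
  by_cases h2 : c 2 = 0
  swap
  · exact ⟨_, inv_ne_zero h2, Or.inr ⟨by simp [h0], Or.inr ⟨by simp [h1], Or.inl (one h2)⟩⟩⟩
  by_cases h3 : c 3 = 0
  swap
  · exact ⟨_, inv_ne_zero h3, Or.inr ⟨by simp [h0], Or.inr ⟨by simp [h1], Or.inr ⟨by simp [h2],
      Or.inl (one h3)⟩⟩⟩⟩
  by_cases h4 : c 4 = 0
  swap
  · exact ⟨_, inv_ne_zero h4, Or.inr ⟨by simp [h0], Or.inr ⟨by simp [h1], Or.inr ⟨by simp [h2],
      Or.inr ⟨by simp [h3], Or.inl (one h4)⟩⟩⟩⟩⟩
  have h5 : c 5 ≠ 0 := fun h5 => hc (funext fun i => by fin_cases i <;> assumption)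
  exact ⟨_, inv_ne_zero h5, Or.inr ⟨by simp [h0], Or.inr ⟨by simp [h1], Or.inr ⟨by simp [h2],
      Or.inr ⟨by simp [h3], Or.inr ⟨by simp [h4], one h5⟩⟩⟩⟩⟩⟩

end prime

theorem check_seven [Fact (Nat.Prime 7)] {c : Fin 6 → ZMod 7}
    (h : (c 0).val = 1 ∨ (c 0).val = 0 ∧ ((c 1).val = 1 ∨ (c 1).val = 0 ∧ ((c 2).val = 1 ∨
      (c 2).val = 0 ∧ ((c 3).val = 1 ∨ (c 3).val = 0 ∧ ((c 4).val = 1 ∨ (c 4).val = 0 ∧ (c 5).val = 1)))))
    (hq : quad 7 6 (c 0).val (c 1).val (c 2).val (c 3).val (c 4).val (c 5).val = true) :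
    testSeven (vals 6 (c 0).val (c 1).val (c 2).val (c 3).val (c 4).val (c 5).val) = true := by
  have hl : ∀ i, (c i).val < 7 := fun i => ZMod.val_lt _
  rcases h with h0 | ⟨h0, h1 | ⟨h1, h2 | ⟨h2, h3 | ⟨h3, h4 | ⟨h4, h5⟩⟩⟩⟩⟩
  · rw [h0] at hq ⊢
    exact chkThree_spec (allBelow_spec (allBelow_spec seven_head _ (hl 1)) _ (hl 2)) (hl 3) (hl 4) (hl 5) hq
  · rw [h0, h1] at hq ⊢
    exact chkThree_spec (allBelow_spec seven_tail.1 _ (hl 2)) (hl 3) (hl 4) (hl 5) hq
  · rw [h0, h1, h2] at hq ⊢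
    exact chkThree_spec seven_tail.2 (hl 3) (hl 4) (hl 5) hq
  · rw [h0, h1, h2, h3]
    exact allBelow_spec (allBelow_spec seven_last.1 _ (hl 4)) _ (hl 5)
  · rw [h0, h1, h2, h3, h4]
    exact allBelow_spec seven_last.2.1 _ (hl 5)
  · rw [h0, h1, h2, h3, h4, h5]
    exact seven_last.2.2

theorem check_eleven [Fact (Nat.Prime 11)] {c : Fin 6 → ZMod 11}
    (h : (c 0).val = 1 ∨ (c 0).val = 0 ∧ ((c 1).val = 1 ∨ (c 1).val = 0 ∧ ((c 2).val = 1 ∨
      (c 2).val = 0 ∧ ((c 3).val = 1 ∨ (c 3).val = 0 ∧ ((c 4).val = 1 ∨ (c 4).val = 0 ∧ (c 5).val = 1)))))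
    (hq : quad 11 10 (c 0).val (c 1).val (c 2).val (c 3).val (c 4).val (c 5).val = true) :
    testEleven (vals 10 (c 0).val (c 1).val (c 2).val (c 3).val (c 4).val (c 5).val) = true := by
  have hl : ∀ i, (c i).val < 11 := fun i => ZMod.val_lt _
  rcases h with h0 | ⟨h0, h1 | ⟨h1, h2 | ⟨h2, h3 | ⟨h3, h4 | ⟨h4, h5⟩⟩⟩⟩⟩
  · rw [h0] at hq ⊢
    exact chkThree_spec (allBelow_spec (eleven_head _ (hl 1)) _ (hl 2)) (hl 3) (hl 4) (hl 5) hq
  · rw [h0, h1] at hq ⊢
    exact chkThree_spec (allBelow_spec eleven_tail.1 _ (hl 2)) (hl 3) (hl 4) (hl 5) hq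
  · rw [h0, h1, h2] at hq ⊢
    exact chkThree_spec eleven_tail.2 (hl 3) (hl 4) (hl 5) hq
  · rw [h0, h1, h2, h3]
    exact allBelow_spec (allBelow_spec eleven_last.1 _ (hl 4)) _ (hl 5)
  · rw [h0, h1, h2, h3, h4]
    exact allBelow_spec eleven_last.2.1 _ (hl 5)
  · rw [h0, h1, h2, h3, h4, h5]
    exact eleven_last.2.2

/-- Modulo seven at most nine values vanish. -/
theorem num_seven [Fact (Nat.Prime 7)] {c : Fin 6 → ZMod 7} (hc : c ≠ 0)
    (h : ∀ j, num c j = num c (3 * j)) : num c 0 ≤ 9 := by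
  obtain ⟨k, hk, hm⟩ := exists_normal hc
  set d : Fin 6 → ZMod 7 := fun i => k * c i with hd
  have h' : ∀ j, num d j = num d (3 * j) := fun j => by
    rw [hd, num_smul hk, num_smul hk, h, mul_left_comm]
  have ht := check_seven (c := d) hm (quad_eq le_rfl h')
  have e3 : hist 7 3 (vals (7 - 1) (d 0).val (d 1).val (d 2).val (d 3).val (d 4).val (d 5).val) =
      hist 7 1 (vals (7 - 1) (d 0).val (d 1).val (d 2).val (d 3).val (d 4).val (d 5).val) := by
    rw [hist_vals, hist_one]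
    exact sum_scale three_ne_seven h' fun z => 32 ^ z.val
  simp only [show (7 : ℕ) - 1 = 6 from rfl] at e3
  rw [testSeven, e3] at ht
  simp only [Nat.beq_refl, cond_true, Nat.ble_eq] at ht
  have ho := hist_one (l := 7) d
  simp only [show (7 : ℕ) - 1 = 6 from rfl] at ho
  rw [ho, show Nat.mod _ 32 = _ from hist_mod d] at ht
  rwa [hd, num_smul hk, mul_zero] at ht

/-- Modulo eleven at most two values vanish, and the values are not invariant under a generator. -/
theorem num_eleven [Fact (Nat.Prime 11)] {c : Fin 6 → ZMod 11} (hc : c ≠ 0)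
    (h : ∀ j, num c j = num c (3 * j)) : num c 0 ≤ 2 ∧ ∃ j, num c j ≠ num c (2 * j) := by
  obtain ⟨k, hk, hm⟩ := exists_normal hc
  set d : Fin 6 → ZMod 11 := fun i => k * c i with hd
  have h' : ∀ j, num d j = num d (3 * j) := fun j => by
    rw [hd, num_smul hk, num_smul hk, h, mul_left_comm]
  have ht := check_eleven (c := d) hm (quad_eq (by norm_num) h')
  have e3 : hist 11 3 (vals (11 - 1) (d 0).val (d 1).val (d 2).val (d 3).val (d 4).val (d 5).val) =
      hist 11 1 (vals (11 - 1) (d 0).val (d 1).val (d 2).val (d 3).val (d 4).val (d 5).val) := by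
    rw [hist_vals, hist_one]
    exact sum_scale three_ne_eleven h' fun z => 32 ^ z.val
  simp only [show (11 : ℕ) - 1 = 10 from rfl] at e3
  rw [testEleven, e3] at ht
  simp only [Nat.beq_refl, cond_true, Bool.and_eq_true, Bool.not_eq_true', Nat.ble_eq] at ht
  obtain ⟨h0, h12⟩ := ht
  have ho := hist_one (l := 11) d
  simp only [show (11 : ℕ) - 1 = 10 from rfl] at ho
  rw [ho, show Nat.mod _ 32 = _ from hist_mod d, hd, num_smul hk, mul_zero] at h0
  refine ⟨h0, by_contra fun hall => ?_⟩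
  push Not at hall
  have h2 : ∀ j, num d j = num d (2 * j) := fun j => by
    rw [hd, num_smul hk, num_smul hk, hall, mul_left_comm]
  have e2 : hist 11 2 (vals (11 - 1) (d 0).val (d 1).val (d 2).val (d 3).val (d 4).val (d 5).val) =
      hist 11 1 (vals (11 - 1) (d 0).val (d 1).val (d 2).val (d 3).val (d 4).val (d 5).val) := by
    rw [hist_vals, hist_one]
    exact sum_scale two_ne_eleven h2 fun z => 32 ^ z.val
  simp only [show (11 : ℕ) - 1 = 10 from rfl] at e2
  rw [e2, Nat.beq_refl] at h12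
  exact Bool.noConfusion h12

end CfsgLib.Classical.AltSection.E6Weights
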