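import Cfsg.Agent.Lib.Classical.AltSection.E7Fourteen
import Cfsg.Agent.Lib.Classical.AltSection.ChevSection

/-!
The degree of an alternating section of a group of type E7.
-/

set_option autoImplicit false
set_option maxRecDepth 100000
set_option maxHeartbeats 1000000

namespace CfsgLib.Classical.AltSection.E7Alt

open Cfsg.Lie CfsgLib.Chev
open E7Lifts (Cover)

variable {F : Type*} [Field F] [Fintype F]

theorem not_dvd_card {p : ℕ} [CharP F p] {ℓ : ℕ} (hℓ : ℓ.Prime) (hne : p ≠ ℓ) :
    ¬ ℓ ∣ Fintype.card F := fun h => by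
  obtain ⟨n, hp, hcard⟩ := FiniteField.card F p
  rw [hcard] at h
  exact hne ((Nat.prime_dvd_prime_iff_eq hℓ hp).1 (hℓ.dvd_of_dvd_pow h)).symm

/-- A cover of a section on fewer points. -/
theorem exists_cover_le {r m : ℕ} {H : Subgroup ↥(chevE7.group F)} (π : H →* alternatingGroup (Fin r))
    (hπ : Function.Surjective π) (hm : m ≤ r) : Nonempty (Cover F m) := by
  obtain ⟨f, hf⟩ := ChevSection.exists_embedding (k := m) (r := r) hm
  let P : Subgroup H := f.range.comap π
  let H' : Subgroup ↥(chevE7.group F) := P.map H.subtype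
  let eP : P ≃* H' := P.equivMapOfInjective _ H.subtype_injective
  let πP : P →* alternatingGroup (Fin m) :=
    (MonoidHom.ofInjective hf).symm.toMonoidHom.comp ((π.comp P.subtype).codRestrict f.range fun γ => γ.2)
  have hπP : Function.Surjective πP := fun a => by
    obtain ⟨γ, hγ⟩ := hπ (f a)
    refine ⟨⟨γ, a, hγ.symm⟩, ?_⟩
    apply (MonoidHom.ofInjective hf).injective
    rw [MonoidHom.comp_apply, MulEquiv.coe_toMonoidHom, MulEquiv.apply_symm_apply]
    exact Subtype.ext hγ
  exact E7Lifts.exists_cover (πP.comp eP.symm.toMonoidHom) (hπP.comp eP.symm.surjective)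

/-- An embedding of the field in an algebraically closed one. -/
theorem exists_closure (p : ℕ) [Fact p.Prime] [CharP F p] :
    Nonempty (F →+* AlgebraicClosure (ZMod p)) := by
  letI : Algebra (ZMod p) F := ZMod.algebra F p
  exact ⟨(IsAlgClosed.lift (R := ZMod p) (M := AlgebraicClosure (ZMod p)) (S := F)).toRingHom⟩

/-- The bound on the degree. -/
theorem degree_le (p : ℕ) [Fact p.Prime] [CharP F p] (r : ℕ) (H : Subgroup ↥(chevE7.group F))
    (π : H →* alternatingGroup (Fin r)) (hπ : Function.Surjective π) :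
    r ≤ 13 + (if p = 7 then 1 else 0) := by
  obtain ⟨j₀⟩ := exists_closure (F := F) p
  by_contra hlt
  by_cases hp : p = 7
  · rw [if_pos hp] at hlt
    obtain ⟨C⟩ := exists_cover_le π hπ (m := 15) (by omega)
    have h10 : (10 : F) ≠ 0 := fun e => by
      have h : ((10 : ℕ) : F) = 0 := by exact_mod_cast e
      rw [CharP.cast_eq_zero_iff F p, hp] at h
      omega
    exact E7Fifteen.false_of_cover C (not_dvd_card (p := p) (by norm_num) (by omega)) h10 j₀
  · rw [if_neg hp] at hlt
    obtain ⟨C⟩ := exists_cover_le π hπ (m := 14) (by omega)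
    exact E7Fourteen.false_of_cover C (not_dvd_card (p := p) (by norm_num) hp) j₀

end CfsgLib.Classical.AltSection.E7Alt
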