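import Cfsg.Agent.Lib.Classical.AltSection.E7Rho

/-!
No alternating section on fifteen points of a group of type E7 in characteristic prime to ten: three
disjoint five-cycles leave a space of eight dimensions to the centraliser of one of them.
-/

set_option autoImplicit false
set_option maxRecDepth 100000
set_option maxHeartbeats 2000000
set_option linter.unusedSectionVars false

namespace CfsgLib.Classical.AltSection.E7Fifteen

open Cfsg.Lie CfsgLib.Chev
open E7Lifts (Cover)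
open E7Rho (rho)
open Eigen (E)

/-- An even permutation from its table and that of its inverse. -/
def mkA {n : ℕ} [NeZero n] (l l' : List (Fin n))
    (h : (∀ i : Fin n, l'.getD (l.getD i.val 0).val 0 = i) ∧
      ∀ i : Fin n, l.getD (l'.getD i.val 0).val 0 = i)
    (hs : Equiv.Perm.sign (⟨fun i => l.getD i.val 0, fun i => l'.getD i.val 0, h.1, h.2⟩ :
      Equiv.Perm (Fin n)) = 1) : alternatingGroup (Fin n) :=
  ⟨⟨fun i => l.getD i.val 0, fun i => l'.getD i.val 0, h.1, h.2⟩, Equiv.Perm.mem_alternatingGroup.2 hs⟩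

/-- The first five-cycle. -/
def a1 : alternatingGroup (Fin 15) := c3 0 1 2 * c3 2 3 4

/-- The second five-cycle. -/
def a2 : alternatingGroup (Fin 15) := c3 5 6 7 * c3 7 8 9

/-- The third five-cycle. -/
def a3 : alternatingGroup (Fin 15) := c3 10 11 12 * c3 12 13 14

/-- Inversion of the first block. -/
def y1 : alternatingGroup (Fin 15) :=
  mkA [0, 4, 3, 2, 1, 5, 6, 7, 8, 9, 10, 11, 12, 13, 14] [0, 4, 3, 2, 1, 5, 6, 7, 8, 9, 10, 11, 12, 13, 14]
    (by decide +kernel) (by decide +kernel)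

/-- Doubling of the first two blocks. -/
def y2 : alternatingGroup (Fin 15) :=
  mkA [0, 2, 4, 1, 3, 5, 7, 9, 6, 8, 10, 11, 12, 13, 14] [0, 3, 1, 4, 2, 5, 8, 6, 9, 7, 10, 11, 12, 13, 14]
    (by decide +kernel) (by decide +kernel)

/-- The blocks permuted cyclically. -/
def y3 : alternatingGroup (Fin 15) :=
  mkA [5, 6, 7, 8, 9, 10, 11, 12, 13, 14, 0, 1, 2, 3, 4] [10, 11, 12, 13, 14, 0, 1, 2, 3, 4, 5, 6, 7, 8, 9]
    (by decide +kernel) (by decide +kernel)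

/-- The first two blocks exchanged, one of them doubled. -/
def y4 : alternatingGroup (Fin 15) :=
  mkA [5, 6, 7, 8, 9, 0, 2, 4, 1, 3, 10, 11, 12, 13, 14] [5, 8, 6, 9, 7, 0, 1, 2, 3, 4, 10, 11, 12, 13, 14]
    (by decide +kernel) (by decide +kernel)

theorem rels_base : (a1 ^ 5 = 1 ∧ a2 ^ 5 = 1 ∧ a3 ^ 5 = 1) ∧ (a1 ≠ 1 ∧ a2 ≠ 1) ∧
    (a1 * a2 = a2 * a1 ∧ a1 * a3 = a3 * a1 ∧ a2 * a3 = a3 * a2) := by
  decide +kernel

theorem rels_y1 : y1 * a1 * y1⁻¹ = a1 ^ 4 ∧ y1 * a2 * y1⁻¹ = a2 ∧ y1 * a3 * y1⁻¹ = a3 := by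
  decide +kernel

theorem rels_y2 : y2 * a1 * y2⁻¹ = a1 ^ 2 ∧ y2 * a2 * y2⁻¹ = a2 ^ 2 ∧ y2 * a3 * y2⁻¹ = a3 := by
  decide +kernel

theorem rels_y3 : y3 * a1 * y3⁻¹ = a2 ∧ y3 * a2 * y3⁻¹ = a3 ∧ y3 * a3 * y3⁻¹ = a1 := by
  decide +kernel

theorem rels_y4 : y4 * a1 * y4⁻¹ = a2 ∧ y4 * a2 * y4⁻¹ = a1 ^ 2 ∧ y4 * a3 * y4⁻¹ = a3 := by
  decide +kernel

theorem zmod_facts : (((2 : ℕ) : ZMod 5) ≠ 0 ∧ ((4 : ℕ) : ZMod 5) ≠ 0) ∧
    (((2 : ℕ) : ZMod 5) * 3 = 1 ∧ ((4 : ℕ) : ZMod 5) * 4 = 1) := by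
  decide

theorem univ_five : (Finset.univ : Finset (ZMod 5)) = {0, 1, 2, 3, 4} := by decide

theorem two_gen : ∀ z : ZMod 5, z ≠ 0 → ∃ n : Fin 4, (2 : ZMod 5) ^ n.val = z := by decide

/-- The points outside the first block. -/
def rest : Finset (Fin 15) := Finset.univ.filter fun i => 5 ≤ i.val

theorem card_rest : rest.card = 10 := by decide

theorem in_a2 : In rest a2 := by
  unfold In
  decide +kernel

/-- The moves on the labels of joint eigenspaces. -/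
def moves : List (ZMod 5 × ZMod 5 × ZMod 5 → ZMod 5 × ZMod 5 × ZMod 5) :=
  [fun t => (4 * t.1, t.2.1, t.2.2), fun t => (3 * t.1, 3 * t.2.1, t.2.2),
    fun t => (t.2.2, t.1, t.2.1), fun t => (3 * t.2.1, t.1, t.2.2)]

/-- A word in the moves from its code in digits to the base five. -/
def path {α : Type*} (G : List (α → α)) : ℕ → ℕ → α → α
  | 0, _, s => s
  | n + 1, c, s => if c % 5 = 0 then s else (G.getD (c % 5 - 1) id) (path G n (c / 5) s)

theorem path_const {α β : Type*} {G : List (α → α)} {f : α → β}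
    (h : ∀ g ∈ G, ∀ x, f (g x) = f x) : ∀ (n c : ℕ) (s : α), f (path G n c s) = f s := by
  intro n
  induction n with
  | zero => intro c s; rfl
  | succ n ih =>
    intro c s
    rw [path]
    split_ifs
    · rfl
    · by_cases hi : c % 5 - 1 < G.length
      · rw [List.getD_eq_getElem _ _ hi, h _ (List.getElem_mem hi), ih]
      · rw [List.getD_eq_default _ _ (by omega), id, ih]

/-- The number of nonzero labels. -/
def weight (t : ZMod 5 × ZMod 5 × ZMod 5) : ℕ :=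
  (if t.1 = 0 then 0 else 1) + (if t.2.1 = 0 then 0 else 1) + (if t.2.2 = 0 then 0 else 1)

/-- A representative of each number of nonzero labels. -/
def repr3 (n : ℕ) : ZMod 5 × ZMod 5 × ZMod 5 :=
  if n = 0 then (0, 0, 0) else if n = 1 then (1, 0, 0) else if n = 2 then (1, 1, 0) else (1, 1, 1)

/-- The words leading to the labels. -/
def codes : List ℕ :=
  [
    0, 18, 193, 68, 43, 3, 3, 983, 192, 188, 38, 42, 313, 38, 233, 13, 17, 548, 13, 48, 8, 8, 198, 67,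
    63, 0, 18, 213, 88, 43, 0, 0, 543, 118, 43, 196, 108, 313, 38, 233, 71, 23, 213, 13, 48, 37, 8, 198,
    73, 63, 7, 44, 966, 339, 319, 21, 21, 966, 341, 319, 62, 62, 4957, 1664, 1582, 7, 7, 4794, 339, 1082,
    46, 46, 4791, 332, 1207, 2, 19, 193, 68, 217, 4, 4, 193, 68, 219, 109, 42, 992, 367, 317, 2, 2, 969,
    344, 217, 9, 9, 958, 67, 242, 1, 89, 967, 69, 216, 1, 1, 1069, 69, 216, 39, 39, 1566, 191, 1166, 14,
    14, 967, 66, 241, 12, 12, 991, 334, 316]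

theorem path_all : ∀ a b c : ZMod 5,
    path moves 6 (codes.getD (25 * a.val + 5 * b.val + c.val) 0) (repr3 (weight (a, b, c))) = (a, b, c) := by
  decide +kernel

variable {F : Type*} [Field F] [Fintype F]

theorem false_of_cover (C : Cover F 15) (h5 : ¬ 5 ∣ Fintype.card F) (h10 : (10 : F) ≠ 0)
    {k : Type} [Field k] [IsAlgClosed k] (j₀ : F →+* k) : False := by
  classical
  haveI : Fact (Nat.Prime 5) := ⟨by norm_num⟩
  have hK := E7Lifts.ker_coprime C (by norm_num) (ℓ := 5) (by norm_num) (by norm_num) h5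
  obtain ⟨⟨p1, p2, p3⟩, ⟨n1, n2⟩, ⟨c12, c13, c23⟩⟩ := rels_base
  obtain ⟨u1, u2, u3⟩ := rels_y1
  obtain ⟨v1, v2, v3⟩ := rels_y2
  obtain ⟨w1, w2, w3⟩ := rels_y3
  obtain ⟨z1, z2, z3⟩ := rels_y4
  have hk10 : (10 : k) ≠ 0 := fun e => h10 (j₀.injective (by rw [map_ofNat, map_zero]; exact e))
  have hq : ((5 : ℕ) : k) ≠ 0 := fun e => hk10 (by
    rw [show (10 : k) = ((5 : ℕ) : k) * 2 by norm_num, e, zero_mul])
  haveI : NeZero ((5 : ℕ) : k) := ⟨hq⟩
  obtain ⟨ζ, hζ⟩ := Eigen.exists_primitive (k := k) 5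
  -- commuting lifts
  have lift : ∀ {g : alternatingGroup (Fin 15)}, g ^ 5 = 1 → ∀ {n : ℕ} (xs : Fin n → C.L),
      (∀ i, xs i ^ 5 = 1) → (∀ i j, Commute (xs i) (xs j)) →
      (∀ i, g * C.π (xs i) * g⁻¹ = C.π (xs i)) →
      ∃ y, C.π y = g ∧ y ^ 5 = 1 ∧ ∀ i, Commute y (xs i) := by
    intro g hg n xs hx hc hgx
    obtain ⟨h, hh, hhc⟩ := E7Lifts.fusion C.surj hK hx hx hc hc g hgx
    obtain ⟨m, hm, hm5⟩ := Twelve.exists_lift_power (π := C.π) (ℓ := 5) (by norm_num) hK (x := h)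
      (by rw [hh, hg])
    refine ⟨h ^ m, hm.trans hh, hm5, fun i => Commute.pow_left ?_ m⟩
    exact mul_inv_eq_iff_eq_mul.1 (hhc i)
  obtain ⟨x1, e1, o1, -⟩ := lift p1 (n := 0) Fin.elim0 (fun i => i.elim0) (fun i => i.elim0) (fun i => i.elim0)
  obtain ⟨x2, e2, o2, hc2⟩ := lift p2 ![x1] (by simp [o1]) (by simp)
    (by intro i; fin_cases i; simp [e1, mul_inv_eq_iff_eq_mul, c12])
  have c21 : Commute x2 x1 := hc2 0
  obtain ⟨x3, e3, o3, hc3⟩ := lift p3 ![x1, x2] (by simp [Fin.forall_fin_two, o1, o2])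
    (by simp [Fin.forall_fin_two, c21, c21.symm])
    (by intro i; fin_cases i <;> simp [e1, e2, mul_inv_eq_iff_eq_mul, c13, c23])
  have c31 : Commute x3 x1 := hc3 0
  have c32 : Commute x3 x2 := hc3 1
  have fus : ∀ (g : alternatingGroup (Fin 15)) (b1 b2 b3 : C.L),
      b1 ^ 5 = 1 → b2 ^ 5 = 1 → b3 ^ 5 = 1 → Commute b1 b2 → Commute b1 b3 → Commute b2 b3 →
      g * a1 * g⁻¹ = C.π b1 → g * a2 * g⁻¹ = C.π b2 → g * a3 * g⁻¹ = C.π b3 →
      ∃ h, h * x1 * h⁻¹ = b1 ∧ h * x2 * h⁻¹ = b2 ∧ h * x3 * h⁻¹ = b3 := by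
    intro g b1 b2 b3 q1 q2 q3 d12 d13 d23 g1 g2 g3
    obtain ⟨h, -, hh⟩ := E7Lifts.fusion (xs := ![x1, x2, x3]) (ys := ![b1, b2, b3]) C.surj hK
      (by intro i; fin_cases i <;> simp [o1, o2, o3]) (by intro i; fin_cases i <;> simp [q1, q2, q3])
      (by intro i j; fin_cases i <;> fin_cases j <;>
        simp [c21, c21.symm, c31, c31.symm, c32, c32.symm])
      (by intro i j; fin_cases i <;> fin_cases j <;>
        simp [d12, d12.symm, d13, d13.symm, d23, d23.symm])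
      g (by intro i; fin_cases i <;> simp [e1, e2, e3, g1, g2, g3])
    exact ⟨h, hh 0, hh 1, hh 2⟩
  have hp5 : ∀ {x : C.L}, x ^ 5 = 1 → ∀ n : ℕ, (x ^ n) ^ 5 = 1 := fun hx n => by
    rw [← pow_mul, mul_comm, pow_mul, hx, one_pow]
  obtain ⟨g1, G11, G12, G13⟩ := fus y1 (x1 ^ 4) x2 x3 (hp5 o1 4) o2 o3 (c21.symm.pow_left 4)
    (c31.symm.pow_left 4) c32.symm (by rw [map_pow, e1, u1]) (by rw [e2, u2]) (by rw [e3, u3])
  obtain ⟨g2, G21, G22, G23⟩ := fus y2 (x1 ^ 2) (x2 ^ 2) x3 (hp5 o1 2) (hp5 o2 2) o3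
    (c21.symm.pow_pow 2 2) (c31.symm.pow_left 2) (c32.symm.pow_left 2)
    (by rw [map_pow, e1, v1]) (by rw [map_pow, e2, v2]) (by rw [e3, v3])
  obtain ⟨g3, G31, G32, G33⟩ := fus y3 x2 x3 x1 o2 o3 o1 c32.symm c21 c31
    (by rw [e2, w1]) (by rw [e3, w2]) (by rw [e1, w3])
  obtain ⟨g4, G41, G42, G43⟩ := fus y4 x2 (x1 ^ 2) x3 o2 (hp5 o1 2) o3 (c21.pow_right 2)
    c32.symm (c31.symm.pow_left 2) (by rw [e2, z1]) (by rw [map_pow, e1, z2]) (by rw [e3, z3])
  -- joint eigenspaces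
  set R := rho C j₀ with hR
  have r1 : R x1 ^ 5 = 1 := by rw [← map_pow, o1, map_one]
  have r2 : R x2 ^ 5 = 1 := by rw [← map_pow, o2, map_one]
  have r3 : R x3 ^ 5 = 1 := by rw [← map_pow, o3, map_one]
  let T : ZMod 5 × ZMod 5 × ZMod 5 → Submodule k (Fin 56 → k) := fun t =>
    E ζ (R x1) t.1 ⊓ E ζ (R x2) t.2.1 ⊓ E ζ (R x3) t.2.2
  let f : ZMod 5 × ZMod 5 × ZMod 5 → ℕ := fun t => Module.finrank k (T t)
  have mapT : ∀ (g : C.L) (t : ZMod 5 × ZMod 5 × ZMod 5), (T t).map (R g) =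
      E ζ (R (g * x1 * g⁻¹)) t.1 ⊓ E ζ (R (g * x2 * g⁻¹)) t.2.1 ⊓ E ζ (R (g * x3 * g⁻¹)) t.2.2 :=
    fun g t => by
      simp only [T, R, Submodule.map_inf _ (E7Rho.rho_injective g), E7Rho.map_E]
  have sq : ∀ (x : C.L), R x ^ 5 = 1 → ∀ j : ZMod 5, E ζ (R (x ^ 2)) j = E ζ (R x) (3 * j) := by
    intro x hx j
    rw [map_pow, ← E7Rho.E_pow hζ hx (a := 2) zmod_facts.1.1 (3 * j)]
    congr 1
    rw [← mul_assoc, zmod_facts.2.1, one_mul]
  have fourth : ∀ (x : C.L), R x ^ 5 = 1 → ∀ j : ZMod 5, E ζ (R (x ^ 4)) j = E ζ (R x) (4 * j) := by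
    intro x hx j
    rw [map_pow, ← E7Rho.E_pow hζ hx (a := 4) zmod_facts.1.2 (4 * j)]
    congr 1
    rw [← mul_assoc, zmod_facts.2.2, one_mul]
  have hinv : ∀ g ∈ moves, ∀ t, f (g t) = f t := by
    intro g hg t
    simp only [moves, List.mem_cons, List.not_mem_nil, or_false] at hg
    rcases hg with rfl | rfl | rfl | rfl <;> show Module.finrank k (T _) = Module.finrank k (T t)
    · rw [← E7Rho.finrank_map (j₀ := j₀) g1 (T t), mapT, G11, G12, G13, fourth x1 r1]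
    · rw [← E7Rho.finrank_map (j₀ := j₀) g2 (T t), mapT, G21, G22, G23, sq x1 r1, sq x2 r2]
    · rw [← E7Rho.finrank_map (j₀ := j₀) g3 (T t), mapT, G31, G32, G33]
      simp only [T]
      rw [inf_comm (E ζ (R x2) t.1 ⊓ E ζ (R x3) t.2.1), ← inf_assoc]
    · rw [← E7Rho.finrank_map (j₀ := j₀) g4 (T t), mapT, G41, G42, G43, sq x1 r1]
      simp only [T]
      rw [inf_comm (E ζ (R x2) t.1)]
  have hcls : ∀ a b c, f (a, b, c) = f (repr3 (weight (a, b, c))) := fun a b c =>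
    (congrArg f (path_all a b c)).symm.trans (path_const hinv _ _ _)
  have hE1 : ∀ a, Module.finrank k ↥(E ζ (R x1) a) = ∑ b, ∑ c, f (a, b, c) := fun a => by
    rw [E7Rho.finrank_split hζ hq r2 (E7Rho.E_invariant ζ c21 a)]
    refine Finset.sum_congr rfl fun b _ => ?_
    rw [E7Rho.finrank_split hζ hq r3 (U := E ζ (R x1) a ⊓ E ζ (R x2) b) (fun v hv =>
      ⟨E7Rho.E_invariant ζ c31 a v hv.1, E7Rho.E_invariant ζ c32 b v hv.2⟩)]
  have h56 : ∑ a, ∑ b, ∑ c, f (a, b, c) = 56 := by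
    simp only [← hE1]
    have h := E7Rho.finrank_split hζ hq r1 (U := ⊤) (fun u _ => Submodule.mem_top)
    rw [finrank_top, Module.finrank_fin_fun] at h
    exact (Finset.sum_congr rfl fun a _ => by rw [top_inf_eq]).trans h.symm
  set f0 := f (0, 0, 0) with hf0
  set m1 := f (1, 0, 0) with hm1
  set m2 := f (1, 1, 0) with hm2
  set m3 := f (1, 1, 1) with hm3
  have hval : ∀ a b c, f (a, b, c) = (if weight (a, b, c) = 0 then f0 else
      if weight (a, b, c) = 1 then m1 else if weight (a, b, c) = 2 then m2 else m3) := fun a b c => by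
    rw [hcls, repr3]
    split_ifs <;> rfl
  have hcount : f0 + 12 * m1 + 48 * m2 + 64 * m3 = 56 := by
    rw [← h56]
    simp only [hval]
    rw [univ_five]
    simp +decide [weight]
    ring
  have hd : Module.finrank k ↥(E ζ (R x1) (1 : ZMod 5)) = m1 + 8 * m2 + 16 * m3 := by
    rw [hE1]
    simp only [hval]
    rw [univ_five]
    simp +decide [weight]
    ring
  -- the bound from the fixed space
  have hfus : ∀ a : ℕ, ¬ 5 ∣ a → ∃ h, h * x1 * h⁻¹ = x1 ^ a := by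
    intro a ha
    obtain ⟨n, hn⟩ : ∃ n : ℕ, (2 : ZMod 5) ^ n = (a : ZMod 5) := by
      obtain ⟨n, hn⟩ := two_gen (a : ZMod 5) fun h => ha ((ZMod.natCast_eq_zero_iff _ _).1 h)
      exact ⟨n, hn⟩
    refine ⟨g2 ^ n, ?_⟩
    have h1 : ∀ n : ℕ, g2 ^ n * x1 * (g2 ^ n)⁻¹ = x1 ^ 2 ^ n := by
      intro n
      induction n with
      | zero => simp
      | succ n ih =>
        rw [pow_succ' g2, show g2 * g2 ^ n * x1 * (g2 * g2 ^ n)⁻¹ =
          g2 * (g2 ^ n * x1 * (g2 ^ n)⁻¹) * g2⁻¹ by group, ih, ← conj_pow, G21, ← pow_mul,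
          ← pow_succ']
    rw [h1, ← Nat.div_add_mod (2 ^ n) 5, ← Nat.div_add_mod a 5, pow_add, pow_add, pow_mul, pow_mul, o1,
      one_pow, one_pow, one_mul, one_mul]
    congr 1
    rw [← ZMod.natCast_eq_natCast_iff']
    push_cast
    exact hn
  have hfix := E7Rho.fix_five (j₀ := j₀) h5 o1 (by rw [e1]; exact n1) hfus
  rw [← Eigen.E_zero ζ (q := 5), ← hR, hE1] at hfix
  have hd0 : ∑ b, ∑ c, f ((0 : ZMod 5), b, c) = f0 + 8 * m1 + 16 * m2 := by
    simp only [hval]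
    rw [univ_five]
    simp +decide [weight]
    ring
  rw [hd0] at hfix
  have hm : m3 = 0 ∧ m2 = 1 ∧ m1 = 0 := by omega
  -- the centraliser of the first cycle
  set U := E ζ (R x1) (1 : ZMod 5) with hU
  have hU8 : Module.finrank k U = 8 := by omega
  set S : Finset (Fin 15) := rest with hSdef
  let P : Subgroup C.L :=
    { carrier := {h | Commute h x1 ∧ In S (C.π h)}
      one_mem' := ⟨Commute.one_left _, by intro i _; rw [map_one]; rfl⟩
      mul_mem' := fun {a b} ha hb => ⟨ha.1.mul_left hb.1, by rw [map_mul]; exact ha.2.mul hb.2⟩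
      inv_mem' := fun {a} ha => ⟨ha.1.inv_left, by rw [map_inv]; exact ha.2.inv⟩ }
  have hPS : ∀ h ∈ P, In S (C.π h) := fun h hh => hh.2
  have hsur : ∀ g, In S g → ∃ h ∈ P, C.π h = g := by
    intro g hg
    have hfixed : ∀ i : Fin 15, i.val < 5 → (g : Equiv.Perm (Fin 15)) i = i := fun i hi =>
      hg i (by simp [hSdef, rest]; omega)
    have hga : g * a1 * g⁻¹ = a1 := by
      rw [a1, show g * (c3 0 1 2 * c3 2 3 4) * g⁻¹ = (g * c3 0 1 2 * g⁻¹) * (g * c3 2 3 4 * g⁻¹) by group,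
        c3_conj g (by decide) (by decide), c3_conj g (by decide) (by decide), hfixed 0 (by decide),
        hfixed 1 (by decide), hfixed 2 (by decide), hfixed 3 (by decide), hfixed 4 (by decide)]
    obtain ⟨h, hh, hc⟩ := E7Lifts.fusion (xs := fun _ : Unit => x1) (ys := fun _ => x1) C.surj hK
      (fun _ => o1) (fun _ => o1) (fun _ _ => Commute.refl _) (fun _ _ => Commute.refl _) g
      (fun _ => by rw [e1, hga])
    exact ⟨h, ⟨mul_inv_eq_iff_eq_mul.1 (hc ()), by rw [hh]; exact hg⟩, hh⟩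
  have hPU : ∀ h ∈ P, ∀ v ∈ U, R h v ∈ U := fun h hh => E7Rho.E_invariant ζ hh.1 _
  rcases E7Rho.alt_dichotomy C.π (n := 10) (by norm_num) (S := S) card_rest P hPS hsur
    (E7Rho.restr hPU) with hall | ⟨φ, hφ, hker, -⟩
  · have ha2 : In S a2 := in_a2
    obtain ⟨h, hh, ht⟩ := hall a2 ha2
    obtain ⟨m, hm', hm5⟩ := Twelve.exists_lift_power (π := C.π) (ℓ := 5) (by norm_num) hK (x := h.1)
      (by rw [hh, p2])
    have htm : ∀ v ∈ U, R (h.1 ^ m) v = v := by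
      have h1 := E7Rho.restr_eq_one hPU (h := h ^ m) (by rw [map_pow, ht, one_pow])
      simpa using h1
    have hcm : Commute (h.1 ^ m) x1 := h.2.1.pow_left m
    obtain ⟨g, hg1, hgc⟩ := E7Lifts.fusion (xs := ![h.1 ^ m, x1]) (ys := ![x2, x1]) C.surj hK
      (by simp [Fin.forall_fin_two, hm5, o1]) (by simp [Fin.forall_fin_two, o2, o1])
      (by simp [Fin.forall_fin_two, hcm, hcm.symm]) (by simp [Fin.forall_fin_two, c21, c21.symm]) 1
      (by simp only [Fin.forall_fin_two, Matrix.cons_val_zero, Matrix.cons_val_one, inv_one, mul_one,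
            one_mul, hm', hh, e2]
          exact ⟨trivial, trivial⟩)
    have hgx : Commute g x1 := mul_inv_eq_iff_eq_mul.1 (hgc 1)
    have hx2 : ∀ v ∈ U, R x2 v = v := by
      have := E7Rho.conj_trivial (j₀ := j₀) (g := g) (u := h.1 ^ m) (U := U)
        (E7Rho.E_invariant ζ hgx.inv_left _) htm
      rwa [show g * h.1 ^ m * g⁻¹ = x2 from hgc 0] at this
    have hpos : 0 < Module.finrank k (T (1, 1, 0)) := by
      show 0 < f (1, 1, 0); omega
    obtain ⟨v, hv, hv0⟩ := Submodule.exists_mem_ne_zero_of_ne_bot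
      (fun e : T (1, 1, 0) = ⊥ => by rw [e, finrank_bot] at hpos; omega)
    have h1 := hx2 v hv.1.1
    rw [(Eigen.mem_E ζ).1 hv.1.2, ZMod.val_one, pow_one] at h1
    have h2 : ζ = 1 := smul_left_injective k hv0 (by show ζ • v = (1 : k) • v; rw [one_smul]; exact h1)
    exact hζ.ne_one (by norm_num) h2
  · refine noSection (r := 10) (by norm_num) 8 k U P φ (E7Rho.restr hPU) hφ hker hU8
      ⟨by omega, fun e => absurd (by exact_mod_cast e) hk10⟩

end CfsgLib.Classical.AltSection.E7Fifteen
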