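import Cfsg.Agent.Lib.Classical.AltSection.E7Fifteen

/-!
No alternating section on fourteen points of a group of type E7 in characteristic other than seven: two
disjoint seven-cycles leave six-dimensional spaces to the centraliser of one of them, on which an element
of order five or three fixes too much.
-/

set_option autoImplicit false
set_option maxRecDepth 100000
set_option maxHeartbeats 2000000
set_option linter.unusedSectionVars false

namespace CfsgLib.Classical.AltSection.E7Fourteen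

open Cfsg.Lie CfsgLib.Chev
open E7Lifts (Cover)
open E7Rho (rho)
open E7Fifteen (mkA path path_const)
open Eigen (E mem_E)

/-! ### Fusion inside a subgroup -/

section inside

variable {L : Type*} [Group L] [Finite L] {Q : Type*} [Group Q] {π : L →* Q} {ℓ : ℕ} [Fact ℓ.Prime]
variable (N : Subgroup L)

theorem card_ker_inside (hK : ¬ ℓ ∣ Nat.card π.ker) :
    ¬ ℓ ∣ Nat.card ((π.comp N.subtype).rangeRestrict).ker := fun hd => hK (hd.trans (by
  rw [MonoidHom.ker_rangeRestrict]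
  let f : (π.comp N.subtype).ker →* π.ker :=
    { toFun := fun z => ⟨z.1.1, z.2⟩, map_one' := rfl, map_mul' := fun _ _ => rfl }
  exact Subgroup.card_dvd_of_injective f fun a b e =>
    Subtype.ext (Subtype.ext (congrArg (fun z : π.ker => z.1) e))))

/-- Fusion by an element of a subgroup. -/
theorem fusion_in (hK : ¬ ℓ ∣ Nat.card π.ker) {ι : Type*} {xs ys : ι → L} (hxN : ∀ i, xs i ∈ N)
    (hyN : ∀ i, ys i ∈ N) (hx : ∀ i, xs i ^ ℓ = 1) (hy : ∀ i, ys i ^ ℓ = 1)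
    (hxc : ∀ i j, Commute (xs i) (xs j)) (hyc : ∀ i j, Commute (ys i) (ys j)) {g : Q}
    (hgN : ∃ h ∈ N, π h = g) (hg : ∀ i, g * π (xs i) * g⁻¹ = π (ys i)) :
    ∃ h ∈ N, π h = g ∧ ∀ i, h * xs i * h⁻¹ = ys i := by
  obtain ⟨h₀, hh₀, rfl⟩ := hgN
  obtain ⟨h, hh, hc⟩ := E7Lifts.fusion (π := (π.comp N.subtype).rangeRestrict)
    (xs := fun i => (⟨xs i, hxN i⟩ : N)) (ys := fun i => (⟨ys i, hyN i⟩ : N))
    (MonoidHom.rangeRestrict_surjective _) (card_ker_inside N hK) (fun i => Subtype.ext (hx i))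
    (fun i => Subtype.ext (hy i)) (fun i j => Subtype.ext (hxc i j)) (fun i j => Subtype.ext (hyc i j))
    ((π.comp N.subtype).rangeRestrict ⟨h₀, hh₀⟩) (fun i => Subtype.ext (hg i))
  exact ⟨h.1, h.2, congrArg Subtype.val hh, fun i => congrArg Subtype.val (hc i)⟩

/-- A lift in a subgroup commuting with given lifts. -/
theorem lift_in (hK : ¬ ℓ ∣ Nat.card π.ker) {ι : Type*} {xs : ι → L} (hxN : ∀ i, xs i ∈ N)
    (hx : ∀ i, xs i ^ ℓ = 1) (hxc : ∀ i j, Commute (xs i) (xs j)) {g : Q} (hgN : ∃ h ∈ N, π h = g)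
    (hgℓ : g ^ ℓ = 1) (hg : ∀ i, g * π (xs i) * g⁻¹ = π (xs i)) :
    ∃ y ∈ N, π y = g ∧ y ^ ℓ = 1 ∧ ∀ i, Commute y (xs i) := by
  obtain ⟨h, hN, hh, hc⟩ := fusion_in N hK hxN hxN hx hx hxc hxc hgN hg
  have hd : π h ^ ℓ = 1 := by rw [hh, hgℓ]
  obtain ⟨m, hm1, hm0⟩ := Nat.chineseRemainder (((Fact.out : ℓ.Prime).coprime_iff_not_dvd).2 hK) 1 0
  refine ⟨h ^ m, pow_mem hN m, ?_, ?_, fun i => Commute.pow_left (mul_inv_eq_iff_eq_mul.1 (hc i)) m⟩
  · rw [map_pow, ← hh]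
    exact (pow_eq_pow_iff_modEq.2 (hm1.of_dvd (orderOf_dvd_of_pow_eq_one hd))).trans (pow_one _)
  · rw [← pow_mul, mul_comm, pow_mul]
    obtain ⟨c, hc'⟩ := Nat.modEq_zero_iff_dvd.1 hm0
    have hmem : h ^ ℓ ∈ π.ker := by rw [MonoidHom.mem_ker, map_pow, hh, hgℓ]
    have h1 : (⟨h ^ ℓ, hmem⟩ : π.ker) ^ Nat.card π.ker = 1 := pow_card_eq_one'
    rw [hc', pow_mul, show (h ^ ℓ) ^ Nat.card π.ker = 1 from congrArg Subtype.val h1, one_pow]

end inside

/-! ### Permutations -/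

/-- The first seven-cycle. -/
def a1 : alternatingGroup (Fin 14) := c3 0 1 2 * c3 2 3 4 * c3 4 5 6

/-- The second seven-cycle. -/
def a2 : alternatingGroup (Fin 14) := c3 7 8 9 * c3 9 10 11 * c3 11 12 13

/-- Both blocks tripled. -/
def y1 : alternatingGroup (Fin 14) :=
  mkA [0, 3, 6, 2, 5, 1, 4, 7, 10, 13, 9, 12, 8, 11] [0, 5, 3, 1, 6, 4, 2, 7, 12, 10, 8, 13, 11, 9]
    (by decide +kernel) (by decide +kernel)

/-- The first block doubled. -/
def y2 : alternatingGroup (Fin 14) :=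
  mkA [0, 2, 4, 6, 1, 3, 5, 7, 8, 9, 10, 11, 12, 13] [0, 4, 1, 5, 2, 6, 3, 7, 8, 9, 10, 11, 12, 13]
    (by decide +kernel) (by decide +kernel)

/-- The blocks exchanged, one of them tripled. -/
def y3 : alternatingGroup (Fin 14) :=
  mkA [7, 8, 9, 10, 11, 12, 13, 0, 3, 6, 2, 5, 1, 4] [7, 12, 10, 8, 13, 11, 9, 0, 1, 2, 3, 4, 5, 6]
    (by decide +kernel) (by decide +kernel)

/-- Doubling of five points of the first block. -/
def y5 : alternatingGroup (Fin 14) :=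
  mkA [0, 2, 4, 1, 3, 6, 5, 7, 8, 9, 10, 11, 12, 13] [0, 3, 1, 4, 2, 6, 5, 7, 8, 9, 10, 11, 12, 13]
    (by decide +kernel) (by decide +kernel)

/-- An exchange of the blocks of four points. -/
def mv : alternatingGroup (Fin 14) :=
  mkA [0, 1, 2, 7, 8, 9, 10, 3, 4, 5, 6, 11, 12, 13] [0, 1, 2, 7, 8, 9, 10, 3, 4, 5, 6, 11, 12, 13]
    (by decide +kernel) (by decide +kernel)

/-- The inversion of the first pair of three-cycles. -/
def r0 : alternatingGroup (Fin 14) :=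
  mkA [0, 2, 1, 3, 4, 6, 5, 7, 8, 9, 10, 11, 12, 13] [0, 2, 1, 3, 4, 6, 5, 7, 8, 9, 10, 11, 12, 13]
    (by decide +kernel) (by decide +kernel)

/-- The exchange of the first pair of three-cycles. -/
def s0 : alternatingGroup (Fin 14) :=
  mkA [4, 5, 6, 3, 0, 2, 1, 7, 8, 9, 10, 11, 12, 13] [4, 6, 5, 3, 0, 1, 2, 7, 8, 9, 10, 11, 12, 13]
    (by decide +kernel) (by decide +kernel)

/-- The inversion of the second pair of three-cycles. -/
def r1 : alternatingGroup (Fin 14) :=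
  mkA [0, 2, 1, 3, 5, 4, 6, 7, 8, 9, 10, 11, 12, 13] [0, 2, 1, 3, 5, 4, 6, 7, 8, 9, 10, 11, 12, 13]
    (by decide +kernel) (by decide +kernel)

/-- The exchange of the second pair of three-cycles. -/
def s1 : alternatingGroup (Fin 14) :=
  mkA [3, 4, 5, 0, 2, 1, 6, 7, 8, 9, 10, 11, 12, 13] [3, 5, 4, 0, 1, 2, 6, 7, 8, 9, 10, 11, 12, 13]
    (by decide +kernel) (by decide +kernel)

/-- The inversion of the third pair of three-cycles. -/
def r2 : alternatingGroup (Fin 14) :=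
  mkA [0, 6, 2, 3, 5, 4, 1, 7, 8, 9, 10, 11, 12, 13] [0, 6, 2, 3, 5, 4, 1, 7, 8, 9, 10, 11, 12, 13]
    (by decide +kernel) (by decide +kernel)

/-- The exchange of the third pair of three-cycles. -/
def s2 : alternatingGroup (Fin 14) :=
  mkA [3, 5, 2, 0, 1, 6, 4, 7, 8, 9, 10, 11, 12, 13] [3, 4, 2, 0, 6, 1, 5, 7, 8, 9, 10, 11, 12, 13]
    (by decide +kernel) (by decide +kernel)

/-- The inversion of the fourth pair of three-cycles. -/
def r3 : alternatingGroup (Fin 14) :=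
  mkA [0, 6, 2, 4, 3, 5, 1, 7, 8, 9, 10, 11, 12, 13] [0, 6, 2, 4, 3, 5, 1, 7, 8, 9, 10, 11, 12, 13]
    (by decide +kernel) (by decide +kernel)

/-- The exchange of the fourth pair of three-cycles. -/
def s3 : alternatingGroup (Fin 14) :=
  mkA [2, 3, 0, 6, 1, 5, 4, 7, 8, 9, 10, 11, 12, 13] [2, 4, 0, 1, 6, 5, 3, 7, 8, 9, 10, 11, 12, 13]
    (by decide +kernel) (by decide +kernel)

theorem rels_base : (a1 ^ 7 = 1 ∧ a2 ^ 7 = 1) ∧ (a1 ≠ 1 ∧ a2 ≠ 1) ∧ a1 * a2 = a2 * a1 := by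
  decide +kernel

theorem rels_y1 : y1 * a1 * y1⁻¹ = a1 ^ 3 ∧ y1 * a2 * y1⁻¹ = a2 ^ 3 := by decide +kernel

theorem rels_y2 : y2 * a1 * y2⁻¹ = a1 ^ 2 ∧ y2 * a2 * y2⁻¹ = a2 := by decide +kernel

theorem rels_y3 : y3 * a1 * y3⁻¹ = a2 ∧ y3 * a2 * y3⁻¹ = a1 ^ 3 := by decide +kernel

/-- The points of the first block. -/
def first : Finset (Fin 14) := Finset.univ.filter fun i => i.val < 7

/-- The points of the second block. -/
def second : Finset (Fin 14) := Finset.univ.filter fun i => 7 ≤ i.val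

theorem card_first : first.card = 7 := by decide

theorem card_second : second.card = 7 := by decide

/-- A five-cycle in the first block. -/
def g5 : alternatingGroup (Fin 14) := c3 0 1 2 * c3 2 3 4

theorem rels_five : g5 ^ 5 = 1 ∧ g5 ≠ 1 ∧ y5 * g5 * y5⁻¹ = g5 ^ 2 := by decide +kernel

theorem in_five : In first g5 ∧ In first y5 := by
  unfold In
  decide +kernel

theorem in_first : In first a1 ∧ In second a2 := by
  unfold In
  decide +kernel

/-- The relations of a pair of three-cycles. -/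
def PairRels (g v r s : alternatingGroup (Fin 14)) : Prop :=
  r * g * r⁻¹ = g ^ 2 ∧ r * v * r⁻¹ = v ^ 2 ∧ s * g * s⁻¹ = v ∧ s * v * s⁻¹ = g ^ 2

theorem pair0 : PairRels (c3 0 1 2) (c3 4 5 6) r0 s0 := by unfold PairRels; decide +kernel

theorem pair1 : PairRels (c3 0 1 2) (c3 3 4 5) r1 s1 := by unfold PairRels; decide +kernel

theorem pair2 : PairRels (c3 3 4 5) (c3 0 1 6) r2 s2 := by unfold PairRels; decide +kernel

theorem pair3 : PairRels (c3 0 1 6) (c3 2 3 4) r3 s3 := by unfold PairRels; decide +kernel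

theorem in_pairs : (In first r0 ∧ In first s0) ∧ (In first r1 ∧ In first s1) ∧
    (In first r2 ∧ In first s2) ∧ (In first r3 ∧ In first s3) := by
  unfold In
  decide +kernel

theorem in_cycles : In first (c3 0 1 2) ∧ In first (c3 3 4 5) ∧ In first (c3 4 5 6) ∧
    In first (c3 0 1 6) ∧ In first (c3 2 3 4) ∧ In second (c3 7 8 9) := by
  unfold In
  decide +kernel

theorem cycle_rels : (c3 0 1 2 : alternatingGroup (Fin 14)) ^ 3 = 1 ∧
    (c3 3 4 5 : alternatingGroup (Fin 14)) ^ 3 = 1 ∧ (c3 4 5 6 : alternatingGroup (Fin 14)) ^ 3 = 1 ∧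
    (c3 0 1 6 : alternatingGroup (Fin 14)) ^ 3 = 1 ∧ (c3 2 3 4 : alternatingGroup (Fin 14)) ^ 3 = 1 ∧
    (c3 7 8 9 : alternatingGroup (Fin 14)) ^ 3 = 1 := by
  decide +kernel

theorem cycle_comm : Commute (c3 3 4 5 : alternatingGroup (Fin 14)) (c3 0 1 2) ∧
    Commute (c3 0 1 6 : alternatingGroup (Fin 14)) (c3 3 4 5) ∧
    Commute (c3 2 3 4 : alternatingGroup (Fin 14)) (c3 0 1 6) ∧
    Commute (c3 4 5 6 : alternatingGroup (Fin 14)) (c3 0 1 2) ∧
    Commute (c3 7 8 9 : alternatingGroup (Fin 14)) (c3 0 1 2) := by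
  unfold Commute SemiconjBy
  decide +kernel

theorem cycle_ne : (c3 0 1 2 : alternatingGroup (Fin 14)) ≠ 1 ∧
    (c3 7 8 9 : alternatingGroup (Fin 14)) ≠ 1 := by
  decide +kernel

theorem rels_mv : mv * c3 0 1 2 * mv⁻¹ = c3 0 1 2 ∧ mv * c3 3 4 5 * mv⁻¹ = c3 7 8 9 := by
  decide +kernel

/-- An even permutation of a block commutes with the cycle of the other. -/
theorem comm_outside {g : alternatingGroup (Fin 14)} :
    (In first g → g * a2 * g⁻¹ = a2) ∧ (In second g → g * c3 0 1 2 * g⁻¹ = c3 0 1 2) := by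
  constructor <;> intro hg
  · have hfix : ∀ i : Fin 14, 7 ≤ i.val → (g : Equiv.Perm (Fin 14)) i = i := fun i hi =>
      hg i (by simp [first]; omega)
    rw [a2, show g * (c3 7 8 9 * c3 9 10 11 * c3 11 12 13) * g⁻¹ =
      (g * c3 7 8 9 * g⁻¹) * (g * c3 9 10 11 * g⁻¹) * (g * c3 11 12 13 * g⁻¹) by group,
      c3_conj g (by decide) (by decide), c3_conj g (by decide) (by decide),
      c3_conj g (by decide) (by decide), hfix 7 (by decide), hfix 8 (by decide), hfix 9 (by decide),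
      hfix 10 (by decide), hfix 11 (by decide), hfix 12 (by decide), hfix 13 (by decide)]
  · have hfix : ∀ i : Fin 14, i.val < 7 → (g : Equiv.Perm (Fin 14)) i = i := fun i hi =>
      hg i (by simp [second]; omega)
    rw [c3_conj g (by decide) (by decide), hfix 0 (by decide), hfix 1 (by decide), hfix 2 (by decide)]

/-! ### Labels -/

/-- The moves on the labels of joint eigenspaces. -/
def moves : List (ZMod 7 × ZMod 7 → ZMod 7 × ZMod 7) :=
  [fun t => (5 * t.1, 5 * t.2), fun t => (4 * t.1, t.2), fun t => (5 * t.2, t.1)]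

/-- The number of nonzero labels. -/
def weight (t : ZMod 7 × ZMod 7) : ℕ := (if t.1 = 0 then 0 else 1) + (if t.2 = 0 then 0 else 1)

/-- A representative of each number of nonzero labels. -/
def repr2 (n : ℕ) : ZMod 7 × ZMod 7 := if n = 0 then (0, 0) else if n = 1 then (1, 0) else (1, 1)

/-- The words leading to the labels. -/
def codes : List ℕ :=
  [
    0, 3, 63, 188, 13, 8, 38, 0, 0, 782, 3908, 162, 212, 792, 12, 12, 156, 788, 32, 42, 158, 37,
    87, 783, 781, 167, 37, 157, 2, 2, 213, 188, 6, 8, 38, 1, 3, 63, 438, 13, 1, 88, 7, 17, 163,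
    838, 33, 7, 31]

/-- A word leads to every label. -/
theorem path_all : ∀ a b : ZMod 7,
    path moves 6 (codes.getD (7 * a.val + b.val) 0) (repr2 (weight (a, b))) = (a, b) := by
  decide +kernel

theorem zmod_facts : (((2 : ℕ) : ZMod 7) ≠ 0 ∧ ((3 : ℕ) : ZMod 7) ≠ 0) ∧
    (((2 : ℕ) : ZMod 7) * 4 = 1 ∧ ((3 : ℕ) : ZMod 7) * 5 = 1) ∧ ((2 : ℕ) : ZMod 3) ≠ 0 ∧
    ((2 : ℕ) : ZMod 3) * 2 = 1 := by
  decide

theorem univ_seven : (Finset.univ : Finset (ZMod 7)) = {0, 1, 2, 3, 4, 5, 6} := by decide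

theorem univ_three : (Finset.univ : Finset (ZMod 3)) = {0, 1, 2} := by decide

theorem sum_five (f : ZMod 5 → ℕ) : ∑ j, f j = f 0 + (f 1 + (f 2 + (f 3 + f 4))) := by
  rw [show (Finset.univ : Finset (ZMod 5)) = {0, 1, 2, 3, 4} by decide]
  simp +decide

theorem sum_seven (f : ZMod 7 → ℕ) :
    ∑ j, f j = f 0 + (f 1 + (f 2 + (f 3 + (f 4 + (f 5 + f 6))))) := by
  rw [univ_seven]
  simp +decide

theorem ne_five : (1 : ZMod 5) ≠ 0 ∧ (2 : ZMod 5) ≠ 0 ∧ (3 : ZMod 5) ≠ 0 ∧ (4 : ZMod 5) ≠ 0 := by decide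

theorem ne_seven : (1 : ZMod 7) ≠ 0 ∧ (2 : ZMod 7) ≠ 0 ∧ (3 : ZMod 7) ≠ 0 ∧ (4 : ZMod 7) ≠ 0 ∧
    (5 : ZMod 7) ≠ 0 ∧ (6 : ZMod 7) ≠ 0 := by
  decide

theorem one_three : (1 : ZMod 3) ≠ 0 := by decide

theorem three_gen : ∀ z : ZMod 7, z ≠ 0 → ∃ n : Fin 6, (3 : ZMod 7) ^ n.val = z := by decide

theorem two_gen : ∀ z : ZMod 5, z ≠ 0 → ∃ n : Fin 4, (2 : ZMod 5) ^ n.val = z := by decide

theorem three_cases : ∀ z : ZMod 3, z = 0 ∨ z = 1 ∨ z = 2 := by decide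

/-- Powers by a generator give all powers. -/
theorem fuse_all {G : Type*} [Group G] {ℓ g : ℕ} {h x : G} (hx : x ^ ℓ = 1) (hh : h * x * h⁻¹ = x ^ g)
    {a n : ℕ} (hn : ((g ^ n : ℕ) : ZMod ℓ) = (a : ZMod ℓ)) : h ^ n * x * (h ^ n)⁻¹ = x ^ a := by
  have h1 : ∀ n : ℕ, h ^ n * x * (h ^ n)⁻¹ = x ^ g ^ n := by
    intro n
    induction n with
    | zero => simp
    | succ n ih =>
      rw [pow_succ' h, show h * h ^ n * x * (h * h ^ n)⁻¹ = h * (h ^ n * x * (h ^ n)⁻¹) * h⁻¹ by group,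
        ih, ← conj_pow, hh, ← pow_mul, ← pow_succ']
  rw [h1]
  exact pow_eq_pow_iff_modEq.2 (((ZMod.natCast_eq_natCast_iff _ _ _).1 hn).of_dvd (orderOf_dvd_of_pow_eq_one hx))

variable {F : Type*} [Field F] [Fintype F]

section pair

variable (C : Cover F 14) {k : Type} [Field k] [IsAlgClosed k] (j₀ : F →+* k)

/-- A pair of commuting lifts of disjoint three-cycles on a six-dimensional space. -/
theorem pair_cases [Fact (Nat.Prime 3)] (hK : ¬ 3 ∣ Nat.card C.π.ker) {ξ : k} (hξ : IsPrimitiveRoot ξ 3)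
    (h3 : ((3 : ℕ) : k) ≠ 0) (N : Subgroup C.L) (U : Submodule k (Fin 56 → k))
    (hNU : ∀ h ∈ N, ∀ v ∈ U, rho C j₀ h v ∈ U) (hU6 : Module.finrank k U = 6)
    (hnt : ∀ t ∈ N, C.π t ≠ 1 → ¬ ∀ v ∈ U, rho C j₀ t v = v) {g₁ g₂ r s : alternatingGroup (Fin 14)}
    (hrel : PairRels g₁ g₂ r s) (hg₁ : g₁ ≠ 1) (hrN : ∃ h ∈ N, C.π h = r) (hsN : ∃ h ∈ N, C.π h = s)
    {t v : C.L} (ht : t ∈ N) (hv : v ∈ N) (et : C.π t = g₁) (ev : C.π v = g₂) (ot : t ^ 3 = 1)
    (ov : v ^ 3 = 1) (hc : Commute v t) :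
    Module.finrank k ↥(U ⊓ E ξ (rho C j₀ t) (0 : ZMod 3)) =
        Module.finrank k ↥(U ⊓ E ξ (rho C j₀ v) (0 : ZMod 3)) ∧
      ((Module.finrank k ↥(U ⊓ E ξ (rho C j₀ t) (0 : ZMod 3)) = 2 ∧
          U ⊓ E ξ (rho C j₀ t) (0 : ZMod 3) = U ⊓ E ξ (rho C j₀ v) (0 : ZMod 3)) ∨
        (Module.finrank k ↥(U ⊓ E ξ (rho C j₀ t) (0 : ZMod 3)) = 4 ∧
          0 < Module.finrank k ↥(U ⊓ E ξ (rho C j₀ t) (1 : ZMod 3)) ∧
          ∀ i : ZMod 3, i ≠ 0 → U ⊓ E ξ (rho C j₀ t) i ≤ E ξ (rho C j₀ v) (0 : ZMod 3))) := by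
  obtain ⟨q1, q2, q3, q4⟩ := hrel
  have hp3 : ∀ {x : C.L}, x ^ 3 = 1 → (x ^ 2) ^ 3 = 1 := fun hx => by
    rw [← pow_mul, mul_comm, pow_mul, hx, one_pow]
  obtain ⟨hr, hrm, -, hr'⟩ := fusion_in N hK (xs := ![t, v]) (ys := ![t ^ 2, v ^ 2])
    (by simp [Fin.forall_fin_two, ht, hv]) (by simp [Fin.forall_fin_two, pow_mem ht, pow_mem hv])
    (by simp [Fin.forall_fin_two, ot, ov]) (by simp [Fin.forall_fin_two, hp3 ot, hp3 ov])
    (by simp [Fin.forall_fin_two, hc, hc.symm])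
    (by simp [Fin.forall_fin_two, hc.symm.pow_pow 2 2, hc.pow_pow 2 2]) hrN
    (by simp [Fin.forall_fin_two, map_pow, et, ev, q1, q2])
  obtain ⟨hs, hsm, -, hs'⟩ := fusion_in N hK (xs := ![t, v]) (ys := ![v, t ^ 2])
    (by simp [Fin.forall_fin_two, ht, hv]) (by simp [Fin.forall_fin_two, pow_mem ht, hv])
    (by simp [Fin.forall_fin_two, ot, ov]) (by simp [Fin.forall_fin_two, hp3 ot, ov])
    (by simp [Fin.forall_fin_two, hc, hc.symm])
    (by simp [Fin.forall_fin_two, hc.symm.pow_left 2, hc.pow_right 2]) hsN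
    (by simp [Fin.forall_fin_two, map_pow, et, ev, q3, q4])
  set R := rho C j₀
  have rt : R t ^ 3 = 1 := by rw [← map_pow, ot, map_one]
  have rv : R v ^ 3 = 1 := by rw [← map_pow, ov, map_one]
  let D : ZMod 3 → ZMod 3 → Submodule k (Fin 56 → k) := fun i j => U ⊓ E ξ (R t) i ⊓ E ξ (R v) j
  let f : ZMod 3 → ZMod 3 → ℕ := fun i j => Module.finrank k (D i j)
  have sq : ∀ (x : C.L), R x ^ 3 = 1 → ∀ j : ZMod 3, E ξ (R (x ^ 2)) j = E ξ (R x) (2 * j) := by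
    intro x hx j
    rw [map_pow, ← E7Rho.E_pow hξ hx (a := 2) zmod_facts.2.2.1 (2 * j), ← mul_assoc, zmod_facts.2.2.2,
      one_mul]
  have mapD : ∀ g ∈ N, ∀ i j, (D i j).map (R g) =
      U ⊓ E ξ (R (g * t * g⁻¹)) i ⊓ E ξ (R (g * v * g⁻¹)) j := fun g hg i j => by
    simp only [D, R, Submodule.map_inf _ (E7Rho.rho_injective g), E7Rho.map_E,
      E7Rho.map_invariant g (hNU g hg)]
  have i1 : ∀ i j, f (2 * i) (2 * j) = f i j := fun i j => by
    show _ = Module.finrank k (D i j)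
    rw [← E7Rho.finrank_map (j₀ := j₀) hr (D i j), mapD hr hrm,
      show hr * t * hr⁻¹ = t ^ 2 from hr' 0, show hr * v * hr⁻¹ = v ^ 2 from hr' 1, sq t rt, sq v rv]
  have i2 : ∀ i j, f (2 * j) i = f i j := fun i j => by
    show _ = Module.finrank k (D i j)
    rw [← E7Rho.finrank_map (j₀ := j₀) hs (D i j), mapD hs hsm,
      show hs * t * hs⁻¹ = v from hs' 0, show hs * v * hs⁻¹ = t ^ 2 from hs' 1, sq t rt]
    show Module.finrank k ↥(U ⊓ E ξ (R t) (2 * j) ⊓ E ξ (R v) i) = _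
    rw [inf_right_comm]
  have e20 : f 2 0 = f 1 0 := by have := i1 1 0; rwa [mul_one, mul_zero] at this
  have e01 : f 0 1 = f 1 0 := by have := i2 1 0; rwa [mul_zero] at this
  have e02 : f 0 2 = f 1 0 := by
    have := i1 0 1; rw [mul_one, mul_zero] at this; exact this.trans e01
  have e22 : f 2 2 = f 1 1 := by have := i1 1 1; rwa [mul_one] at this
  have e21 : f 2 1 = f 1 1 := by have := i2 1 1; rwa [mul_one] at this
  have e12 : f 1 2 = f 1 1 := by
    have h1 := i1 2 1; rw [mul_one, show (2 : ZMod 3) * 2 = 1 by rfl] at h1; exact h1.trans e21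
  have hcol : ∀ i, Module.finrank k ↥(U ⊓ E ξ (R t) i) = f i 0 + (f i 1 + f i 2) := fun i => by
    rw [E7Rho.finrank_split hξ h3 rv (U := U ⊓ E ξ (R t) i)
      (fun w hw => ⟨hNU v hv w hw.1, E7Rho.E_invariant ξ hc i w hw.2⟩), univ_three]
    rw [Finset.sum_insert (by decide), Finset.sum_insert (by decide), Finset.sum_singleton]
  have hrow : ∀ j, Module.finrank k ↥(U ⊓ E ξ (R v) j) = f 0 j + (f 1 j + f 2 j) := fun j => by
    rw [E7Rho.finrank_split hξ h3 rt (U := U ⊓ E ξ (R v) j)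
      (fun w hw => ⟨hNU t ht w hw.1, E7Rho.E_invariant ξ hc.symm j w hw.2⟩), univ_three]
    rw [Finset.sum_insert (by decide), Finset.sum_insert (by decide), Finset.sum_singleton]
    simp only [f, D]
    rw [inf_right_comm U (E ξ (R v) j), inf_right_comm U (E ξ (R v) j), inf_right_comm U (E ξ (R v) j)]
  have h6 : Module.finrank k U = Module.finrank k ↥(U ⊓ E ξ (R t) (0 : ZMod 3)) +
      (Module.finrank k ↥(U ⊓ E ξ (R t) (1 : ZMod 3)) +
        Module.finrank k ↥(U ⊓ E ξ (R t) (2 : ZMod 3))) := by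
    rw [E7Rho.finrank_split hξ h3 rt (U := U) (hNU t ht), univ_three]
    rw [Finset.sum_insert (by decide), Finset.sum_insert (by decide), Finset.sum_singleton]
  rw [hU6, hcol, hcol, hcol] at h6
  have hne : ¬ f 0 0 + (f 0 1 + f 0 2) = 6 := fun e => hnt t ht (et ▸ hg₁) fun w hw => by
    have e' : U ⊓ E ξ (R t) (0 : ZMod 3) = U :=
      Submodule.eq_of_le_of_finrank_eq inf_le_left (by rw [hcol, e, hU6])
    rw [← e'] at hw
    simpa using (mem_E ξ).1 hw.2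
  refine ⟨by rw [hcol, hrow]; omega, ?_⟩
  by_cases hm : f 1 1 = 0
  · refine Or.inr ⟨by rw [hcol]; omega, by rw [hcol]; omega, fun i hi => ?_⟩
    have hle : U ⊓ E ξ (R t) i ⊓ E ξ (R v) (0 : ZMod 3) = U ⊓ E ξ (R t) i :=
      Submodule.eq_of_le_of_finrank_eq inf_le_left (by
        rw [hcol]
        show f i 0 = _
        rcases three_cases i with rfl | rfl | rfl
        · exact absurd rfl hi
        · omega
        · omega)
    intro w hw
    rw [← hle] at hw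
    exact hw.2
  · refine Or.inl ⟨by rw [hcol]; omega, ?_⟩
    have a : U ⊓ E ξ (R t) (0 : ZMod 3) ⊓ E ξ (R v) (0 : ZMod 3) = U ⊓ E ξ (R t) (0 : ZMod 3) :=
      Submodule.eq_of_le_of_finrank_eq inf_le_left (by rw [hcol]; show f 0 0 = _; omega)
    have b : U ⊓ E ξ (R t) (0 : ZMod 3) ⊓ E ξ (R v) (0 : ZMod 3) = U ⊓ E ξ (R v) (0 : ZMod 3) :=
      Submodule.eq_of_le_of_finrank_eq (inf_le_inf_right _ inf_le_left)
        (by rw [hrow]; show f 0 0 = _; omega)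
    exact a.symm.trans b

end pair

theorem false_of_cover (C : Cover F 14) (h7 : ¬ 7 ∣ Fintype.card F) {k : Type} [Field k] [IsAlgClosed k]
    (j₀ : F →+* k) : False := by
  classical
  haveI : Fact (Nat.Prime 7) := ⟨by norm_num⟩
  have hchar : ∀ ℓ : ℕ, ℓ.Prime → ¬ ℓ ∣ Fintype.card F → (ℓ : k) ≠ 0 := fun ℓ hℓ hq e => by
    obtain ⟨p, hpc⟩ := CharP.exists F
    obtain ⟨n, hpp, hcard⟩ := FiniteField.card F p
    have h0 : (ℓ : F) = 0 := j₀.injective (by rw [map_natCast, map_zero]; exact e)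
    have h1 := (CharP.cast_eq_zero_iff F p ℓ).1 h0
    rw [(Nat.prime_dvd_prime_iff_eq hpp hℓ).1 h1] at hcard
    exact hq (hcard ▸ dvd_pow_self ℓ n.ne_zero)
  have hK := E7Lifts.ker_coprime C (by norm_num) (ℓ := 7) (by norm_num) (by norm_num) h7
  obtain ⟨⟨p1, p2⟩, ⟨n1, n2⟩, c12⟩ := rels_base
  obtain ⟨u1, u2⟩ := rels_y1
  obtain ⟨v1, v2⟩ := rels_y2
  obtain ⟨w1, w2⟩ := rels_y3
  have hq := hchar 7 (by norm_num) h7
  haveI : NeZero ((7 : ℕ) : k) := ⟨hq⟩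
  obtain ⟨ζ, hζ⟩ := Eigen.exists_primitive (k := k) 7
  -- commuting lifts of the two cycles
  have hsurj : ∀ g, ∃ h ∈ (⊤ : Subgroup C.L), C.π h = g := fun g =>
    let ⟨h, e⟩ := C.surj g; ⟨h, Subgroup.mem_top h, e⟩
  obtain ⟨x1, -, e1, o1, -⟩ := lift_in ⊤ hK (ℓ := 7) (ι := Empty) (xs := Empty.elim) (fun i => i.elim)
    (fun i => i.elim) (fun i => i.elim) (hsurj a1) p1 (fun i => i.elim)
  obtain ⟨x2, -, e2, o2, hc2⟩ := lift_in ⊤ hK (ℓ := 7) (ι := Unit) (xs := fun _ => x1)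
    (fun _ => Subgroup.mem_top _) (fun _ => o1) (fun _ _ => Commute.refl _) (hsurj a2) p2
    (fun _ => by rw [e1, mul_inv_eq_iff_eq_mul, c12])
  have c21 : Commute x2 x1 := hc2 ()
  have fus : ∀ (g : alternatingGroup (Fin 14)) (b1 b2 : C.L), b1 ^ 7 = 1 → b2 ^ 7 = 1 → Commute b1 b2 →
      g * a1 * g⁻¹ = C.π b1 → g * a2 * g⁻¹ = C.π b2 → ∃ h, h * x1 * h⁻¹ = b1 ∧ h * x2 * h⁻¹ = b2 := by
    intro g b1 b2 q1 q2 d g1 g2
    obtain ⟨h, -, hh⟩ := E7Lifts.fusion (xs := ![x1, x2]) (ys := ![b1, b2]) C.surj hK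
      (by simp [Fin.forall_fin_two, o1, o2]) (by simp [Fin.forall_fin_two, q1, q2])
      (by simp [Fin.forall_fin_two, c21, c21.symm]) (by simp [Fin.forall_fin_two, d, d.symm])
      g (by simp [Fin.forall_fin_two, e1, e2, g1, g2])
    exact ⟨h, hh 0, hh 1⟩
  have hp7 : ∀ {x : C.L}, x ^ 7 = 1 → ∀ n : ℕ, (x ^ n) ^ 7 = 1 := fun hx n => by
    rw [← pow_mul, mul_comm, pow_mul, hx, one_pow]
  obtain ⟨g1, G11, G12⟩ := fus y1 (x1 ^ 3) (x2 ^ 3) (hp7 o1 3) (hp7 o2 3) (c21.symm.pow_pow 3 3)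
    (by rw [map_pow, e1, u1]) (by rw [map_pow, e2, u2])
  obtain ⟨g2, G21, G22⟩ := fus y2 (x1 ^ 2) x2 (hp7 o1 2) o2 (c21.symm.pow_left 2)
    (by rw [map_pow, e1, v1]) (by rw [e2, v2])
  obtain ⟨g3, G31, G32⟩ := fus y3 x2 (x1 ^ 3) o2 (hp7 o1 3) (c21.pow_right 3)
    (by rw [e2, w1]) (by rw [map_pow, e1, w2])
  -- joint eigenspaces
  set R := rho C j₀ with hR
  have r1 : R x1 ^ 7 = 1 := by rw [← map_pow, o1, map_one]
  have r2 : R x2 ^ 7 = 1 := by rw [← map_pow, o2, map_one]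
  let T : ZMod 7 × ZMod 7 → Submodule k (Fin 56 → k) := fun t => E ζ (R x1) t.1 ⊓ E ζ (R x2) t.2
  let f : ZMod 7 × ZMod 7 → ℕ := fun t => Module.finrank k (T t)
  have mapT : ∀ (g : C.L) (t : ZMod 7 × ZMod 7), (T t).map (R g) =
      E ζ (R (g * x1 * g⁻¹)) t.1 ⊓ E ζ (R (g * x2 * g⁻¹)) t.2 := fun g t => by
    simp only [T, R, Submodule.map_inf _ (E7Rho.rho_injective g), E7Rho.map_E]
  have sq : ∀ (x : C.L), R x ^ 7 = 1 → ∀ j : ZMod 7, E ζ (R (x ^ 2)) j = E ζ (R x) (4 * j) := by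
    intro x hx j
    rw [map_pow, ← E7Rho.E_pow hζ hx (a := 2) zmod_facts.1.1 (4 * j), ← mul_assoc, zmod_facts.2.1.1,
      one_mul]
  have cube : ∀ (x : C.L), R x ^ 7 = 1 → ∀ j : ZMod 7, E ζ (R (x ^ 3)) j = E ζ (R x) (5 * j) := by
    intro x hx j
    rw [map_pow, ← E7Rho.E_pow hζ hx (a := 3) zmod_facts.1.2 (5 * j), ← mul_assoc, zmod_facts.2.1.2,
      one_mul]
  have hinv : ∀ g ∈ moves, ∀ t, f (g t) = f t := by
    intro g hg t
    simp only [moves, List.mem_cons, List.not_mem_nil, or_false] at hg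
    rcases hg with rfl | rfl | rfl <;> show Module.finrank k (T _) = Module.finrank k (T t)
    · rw [← E7Rho.finrank_map (j₀ := j₀) g1 (T t), mapT, G11, G12, cube x1 r1, cube x2 r2]
    · rw [← E7Rho.finrank_map (j₀ := j₀) g2 (T t), mapT, G21, G22, sq x1 r1]
    · rw [← E7Rho.finrank_map (j₀ := j₀) g3 (T t), mapT, G31, G32, cube x1 r1]
      exact LinearEquiv.finrank_eq (LinearEquiv.ofEq _ _ (inf_comm _ _))
  have hcls : ∀ a b, f (a, b) = f (repr2 (weight (a, b))) := fun a b => by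
    exact (congrArg f (path_all a b)).symm.trans (path_const hinv _ _ _)
  set f0 := f (0, 0) with hf0
  set m1 := f (1, 0) with hm1
  set m2 := f (1, 1) with hm2
  have hval : ∀ a b, f (a, b) = (if weight (a, b) = 0 then f0 else if weight (a, b) = 1 then m1 else m2) :=
    fun a b => by rw [hcls, repr2]; split_ifs <;> rfl
  have hE1 : ∀ a, Module.finrank k ↥(E ζ (R x1) a) = ∑ b, f (a, b) := fun a => by
    rw [E7Rho.finrank_split hζ hq r2 (E7Rho.E_invariant ζ c21 a)]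
  have hE2 : ∀ b, Module.finrank k ↥(E ζ (R x2) b) = ∑ a, f (a, b) := fun b => by
    rw [E7Rho.finrank_split hζ hq r1 (E7Rho.E_invariant ζ c21.symm b)]
    exact Finset.sum_congr rfl fun a _ => by show _ = Module.finrank k (T (a, b)); rw [inf_comm]
  have h56 : ∑ a, ∑ b, f (a, b) = 56 := by
    simp only [← hE1]
    have h := E7Rho.finrank_split hζ hq r1 (U := ⊤) (fun u _ => Submodule.mem_top)
    rw [finrank_top, Module.finrank_fin_fun] at h
    exact (Finset.sum_congr rfl fun a _ => by rw [top_inf_eq]).trans h.symm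
  have hcount : f0 + 12 * m1 + 36 * m2 = 56 := by
    rw [← h56]
    simp only [hval]
    rw [univ_seven]
    simp +decide [weight]
    ring
  have hfix0 : ∑ b, f ((0 : ZMod 7), b) = f0 + 6 * m1 := by
    simp only [hval]
    rw [univ_seven]
    simp +decide [weight]
    ring
  have hfix := E7Rho.fix_seven (j₀ := j₀) h7 o1 (by rw [e1]; exact n1) (fun a ha => by
    obtain ⟨n, hn⟩ := three_gen (a : ZMod 7) fun h => ha ((ZMod.natCast_eq_zero_iff _ _).1 h)
    exact ⟨g1 ^ n.val, fuse_all o1 G11 (by push_cast; exact hn)⟩)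
  rw [← Eigen.E_zero ζ (q := 7), ← hR, hE1, hfix0] at hfix
  have hm : m2 = 1 ∧ m1 = 0 ∧ f0 = 20 := by omega
  obtain ⟨hm2', hm1', hf0'⟩ := hm
  -- the common fixed space and the six-dimensional spaces
  set W := E ζ (R x2) (0 : ZMod 7) with hW
  have hW20 : Module.finrank k W = 20 := by
    rw [hW, hE2]; simp only [hval]; rw [univ_seven]; simp +decide [weight]; omega
  have hWx1 : ∀ v ∈ W, R x1 v = v := fun v hv => by
    have e : E ζ (R x1) (0 : ZMod 7) ⊓ W = W := Submodule.eq_of_le_of_finrank_eq inf_le_right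
      (by rw [hW20]; exact hf0')
    rw [← e] at hv
    simpa using (mem_E ζ).1 hv.1
  have hU6 : ∀ b : ZMod 7, b ≠ 0 → Module.finrank k ↥(E ζ (R x2) b) = 6 := fun b hb => by
    rw [hE2]; simp only [hval]; rw [univ_seven]
    have : weight (0, b) = 1 := by simp [weight, hb]
    simp +decide [weight, hb]
    omega
  have hno : ∀ b : ZMod 7, b ≠ 0 → ∀ v ∈ E ζ (R x2) b, R x1 v = v → v = 0 := fun b hb v hv hfix' => by
    have h0 : f (0, b) = 0 := by rw [hval]; simp [weight, hb, hm1']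
    have h1 : T (0, b) = ⊥ := Submodule.finrank_eq_zero.1 h0
    exact (Submodule.eq_bot_iff _).1 h1 v ⟨(mem_E ζ).2 (by simpa using hfix'), hv⟩
  -- the subgroup acting trivially on the common fixed space
  let P : Subgroup C.L :=
    { carrier := {h | Commute h x2 ∧ In first (C.π h)}
      one_mem' := ⟨Commute.one_left _, by intro i _; rw [map_one]; rfl⟩
      mul_mem' := fun {a b} ha hb => ⟨ha.1.mul_left hb.1, by rw [map_mul]; exact ha.2.mul hb.2⟩
      inv_mem' := fun {a} ha => ⟨ha.1.inv_left, by rw [map_inv]; exact ha.2.inv⟩ }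
  have hPsur : ∀ g, In first g → ∃ h ∈ P, C.π h = g := by
    intro g hg
    obtain ⟨h, hh, hc⟩ := E7Lifts.fusion (xs := fun _ : Unit => x2) (ys := fun _ => x2) C.surj hK
      (fun _ => o2) (fun _ => o2) (fun _ _ => Commute.refl _) (fun _ _ => Commute.refl _) g
      (fun _ => by rw [e2, comm_outside.1 hg])
    exact ⟨h, ⟨mul_inv_eq_iff_eq_mul.1 (hc ()), by rw [hh]; exact hg⟩, hh⟩
  have hPU : ∀ b : ZMod 7, ∀ h ∈ P, ∀ v ∈ E ζ (R x2) b, R h v ∈ E ζ (R x2) b := fun b h hh =>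
    E7Rho.E_invariant ζ hh.1 b
  have hx1P : x1 ∈ P := ⟨c21.symm, by rw [e1]; exact in_first.1⟩
  let N : Subgroup C.L :=
    { carrier := {h | h ∈ P ∧ ∀ v ∈ W, R h v = v}
      one_mem' := ⟨one_mem P, fun v _ => by rw [map_one]; rfl⟩
      mul_mem' := fun {a b} ha hb => ⟨mul_mem ha.1 hb.1, fun v hv => by
        rw [hR, E7Rho.rho_mul_apply, ← hR, hb.2 v hv, ha.2 v hv]⟩
      inv_mem' := fun {a} ha => ⟨inv_mem ha.1, fun v hv => by
        conv_lhs => rw [← ha.2 v hv]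
        exact E7Rho.rho_apply_inv a v⟩ }
  have hNsur : ∀ g, In first g → ∃ h ∈ N, C.π h = g := by
    rcases E7Rho.alt_dichotomy C.π (n := 7) (by norm_num) (S := first) card_first P (fun h hh => hh.2) hPsur
      (E7Rho.restr (hPU 0)) with hall | ⟨φ, -, hker, hφ⟩
    · intro g hg
      obtain ⟨h, hh, ht⟩ := hall g hg
      exact ⟨h.1, ⟨h.2, E7Rho.restr_eq_one (hPU 0) ht⟩, hh⟩
    · refine absurd (hφ ⟨x1, hx1P⟩ (hker ?_)) (by rw [e1]; exact n1)
      exact LinearMap.ext fun v => Subtype.ext (hWx1 v.1 v.2)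
  have hx1N : x1 ∈ N := ⟨hx1P, hWx1⟩
  have hNU : ∀ b : ZMod 7, ∀ h ∈ N, ∀ v ∈ E ζ (R x2) b, R h v ∈ E ζ (R x2) b := fun b h hh =>
    hPU b h hh.1
  -- a lift of the first cycle in a subgroup is conjugate to it
  have hconj : ∀ h ∈ N, C.π h = a1 → ∃ (m : ℕ) (g : C.L), g ∈ N ∧ g * h ^ m * g⁻¹ = x1 := by
    intro h hh eh
    obtain ⟨m, hm', hm7⟩ := Twelve.exists_lift_power (π := C.π) (ℓ := 7) (by norm_num) hK (x := h)
      (by rw [eh, p1])
    obtain ⟨g, hgN, -, hg⟩ := fusion_in N hK (ι := Unit) (xs := fun _ => h ^ m) (ys := fun _ => x1)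
      (fun _ => pow_mem hh m) (fun _ => hx1N) (fun _ => hm7) (fun _ => o1) (fun _ _ => Commute.refl _)
      (fun _ _ => Commute.refl _) (g := 1) ⟨1, one_mem N, map_one _⟩
      (fun _ => by rw [one_mul, inv_one, mul_one, hm', eh, e1])
    exact ⟨m, g, hgN, hg ()⟩
  have hnt : ∀ b : ZMod 7, b ≠ 0 → ∀ t ∈ N, C.π t ≠ 1 → ¬ ∀ v ∈ E ζ (R x2) b, R t v = v := by
    intro b hb t ht htne htriv
    rcases E7Rho.alt_dichotomy C.π (n := 7) (by norm_num) (S := first) card_first N (fun h hh => hh.1.2) hNsur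
      (E7Rho.restr (hNU b)) with hall | ⟨φ, -, hker, hφ⟩
    · obtain ⟨h, hh, htr⟩ := hall a1 in_first.1
      obtain ⟨m, g, hgN, hg⟩ := hconj h.1 h.2 hh
      have hm' : ∀ v ∈ E ζ (R x2) b, R (h.1 ^ m) v = v := by
        have h1 := E7Rho.restr_eq_one (hNU b) (h := h ^ m) (by rw [map_pow, htr, one_pow])
        simpa using h1
      have hx := E7Rho.conj_trivial (j₀ := j₀) (g := g) (hNU b g⁻¹ (inv_mem hgN)) hm'
      rw [hg] at hx
      have hpos := hU6 b hb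
      obtain ⟨v, hv, hv0⟩ := Submodule.exists_mem_ne_zero_of_ne_bot
        (fun e : E ζ (R x2) b = ⊥ => by rw [e, finrank_bot] at hpos; omega)
      exact hv0 (hno b hb v hv (hx v hv))
    · exact htne (hφ ⟨t, ht⟩ (hker (LinearMap.ext fun v => Subtype.ext (htriv v.1 v.2))))
  have split2 : ∀ (V' : Submodule k (Fin 56 → k)), (∀ v ∈ V', R x2 v ∈ V') →
      Module.finrank k V' = ∑ b, Module.finrank k ↥(V' ⊓ E ζ (R x2) b) := fun V' h =>
    E7Rho.finrank_split hζ hq r2 h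
  by_cases h5 : 5 ∣ Fintype.card F
  swap
  · -- an element of order five
    haveI : Fact (Nat.Prime 5) := ⟨by norm_num⟩
    have hK5 := E7Lifts.ker_coprime C (by norm_num) (ℓ := 5) (by norm_num) (by norm_num) h5
    have hq5 := hchar 5 (by norm_num) h5
    haveI : NeZero ((5 : ℕ) : k) := ⟨hq5⟩
    obtain ⟨ξ, hξ⟩ := Eigen.exists_primitive (k := k) 5
    obtain ⟨f5, ne5, conj5⟩ := rels_five
    obtain ⟨u, huN, eu, ou, -⟩ := lift_in N hK5 (ℓ := 5) (ι := Empty) (xs := Empty.elim)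
      (fun i => i.elim) (fun i => i.elim) (fun i => i.elim) (hNsur g5 in_five.1) f5 (fun i => i.elim)
    obtain ⟨h, hhN, -, hh⟩ := fusion_in N hK5 (ι := Unit) (xs := fun _ => u) (ys := fun _ => u ^ 2)
      (fun _ => huN) (fun _ => pow_mem huN 2) (fun _ => ou)
      (fun _ => by rw [← pow_mul, mul_comm, pow_mul, ou, one_pow]) (fun _ _ => Commute.refl _)
      (fun _ _ => Commute.refl _) (hNsur y5 in_five.2) (fun _ => by rw [map_pow, eu, conj5])
    have hpows : ∀ a : ℕ, ¬ 5 ∣ a → ∃ g ∈ N, g * u * g⁻¹ = u ^ a := by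
      intro a ha
      obtain ⟨n, hn⟩ := two_gen (a : ZMod 5) fun h => ha ((ZMod.natCast_eq_zero_iff _ _).1 h)
      exact ⟨h ^ n.val, pow_mem hhN _, fuse_all ou (hh ()) (by push_cast; exact hn)⟩
    have hle := E7Rho.fix_five (j₀ := j₀) h5 ou (by rw [eu]; exact ne5) (fun a ha =>
      let ⟨g, _, hg⟩ := hpows a ha; ⟨g, hg⟩)
    rw [← Eigen.E_zero ξ (q := 5), ← hR] at hle
    rw [split2 _ (E7Rho.E_invariant ξ huN.1.1.symm 0)] at hle
    have hW0 : 20 ≤ Module.finrank k ↥(E ξ (R u) (0 : ZMod 5) ⊓ E ζ (R x2) (0 : ZMod 7)) := by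
      rw [← hW20]
      refine Submodule.finrank_mono fun v hv => ⟨(mem_E ξ).2 ?_, hv⟩
      rw [ZMod.val_zero, pow_zero, one_smul]
      exact huN.2 v hv
    have hb2 : ∀ b : ZMod 7, b ≠ 0 →
        2 ≤ Module.finrank k ↥(E ξ (R u) (0 : ZMod 5) ⊓ E ζ (R x2) b) := by
      intro b hb
      have ru : R u ^ 5 = 1 := by rw [← map_pow, ou, map_one]
      have hs := E7Rho.finrank_split hξ hq5 ru (U := E ζ (R x2) b) (hNU b u huN)
      have hc : ∀ j : ZMod 5, j ≠ 0 → Module.finrank k ↥(E ζ (R x2) b ⊓ E ξ (R u) j) =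
          Module.finrank k ↥(E ζ (R x2) b ⊓ E ξ (R u) (1 : ZMod 5)) := fun j hj =>
        E7Rho.finrank_const hξ ou (fun a ha =>
          let ⟨g, hgN, hg⟩ := hpows a ha; ⟨g, hg, hNU b g hgN⟩) hj
      obtain ⟨d2, d3, d4⟩ := ne_five.2
      rw [hU6 b hb, sum_five, hc _ d2, hc _ d3, hc _ d4, inf_comm (E ζ (R x2) b)] at hs
      omega
    rw [← Finset.add_sum_erase _ _ (Finset.mem_univ (0 : ZMod 7))] at hle
    have hsum := Finset.card_nsmul_le_sum (Finset.univ.erase (0 : ZMod 7))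
      (fun b => Module.finrank k ↥(E ξ (R u) (0 : ZMod 5) ⊓ E ζ (R x2) b)) 2
      fun b hb => hb2 b (Finset.ne_of_mem_erase hb)
    rw [Finset.card_erase_of_mem (Finset.mem_univ _), Finset.card_univ, ZMod.card, smul_eq_mul] at hsum
    have hle' : Module.finrank k ↥(E ξ (R u) (0 : ZMod 5) ⊓ E ζ (R x2) (0 : ZMod 7)) +
        ∑ b ∈ Finset.univ.erase (0 : ZMod 7),
          Module.finrank k ↥(E ξ (R u) (0 : ZMod 5) ⊓ E ζ (R x2) b) ≤ 24 := hle
    omega
  -- characteristic five: elements of order three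
  have h3 : ¬ 3 ∣ Fintype.card F := by
    obtain ⟨p, hpc⟩ := CharP.exists F
    obtain ⟨n, hpp, hcard⟩ := FiniteField.card F p
    rw [hcard] at h5 ⊢
    intro h
    have a := (Nat.prime_dvd_prime_iff_eq (by norm_num) hpp).1 ((by norm_num : Nat.Prime 5).dvd_of_dvd_pow h5)
    have b := (Nat.prime_dvd_prime_iff_eq (by norm_num) hpp).1 ((by norm_num : Nat.Prime 3).dvd_of_dvd_pow h)
    omega
  haveI : Fact (Nat.Prime 3) := ⟨by norm_num⟩
  have hK3 := E7Lifts.ker_coprime C (by norm_num) (ℓ := 3) (by norm_num) (by norm_num) h3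
  have hq3 := hchar 3 (by norm_num) h3
  haveI : NeZero ((3 : ℕ) : k) := ⟨hq3⟩
  obtain ⟨ξ, hξ⟩ := Eigen.exists_primitive (k := k) 3
  obtain ⟨C0, C1, C2, C3, C4, C5⟩ := cycle_rels
  obtain ⟨K1, K2, K3, K4, K5⟩ := cycle_comm
  obtain ⟨J0, J1, J2, J3, J4, J5⟩ := in_cycles
  obtain ⟨⟨I0, I0'⟩, ⟨I1, I1'⟩, ⟨I2, I2'⟩, ⟨I3, I3'⟩⟩ := in_pairs
  obtain ⟨N0, N5⟩ := cycle_ne
  have liftN : ∀ {g g' : alternatingGroup (Fin 14)} (t : C.L), t ∈ N → t ^ 3 = 1 → C.π t = g' →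
      In first g → g ^ 3 = 1 → Commute g g' →
      ∃ v ∈ N, C.π v = g ∧ v ^ 3 = 1 ∧ Commute v t := by
    intro g g' t ht ot et hg hg3 hc
    obtain ⟨v, hv, ev, ov, hcv⟩ := lift_in N hK3 (ℓ := 3) (ι := Unit) (xs := fun _ => t) (fun _ => ht)
      (fun _ => ot) (fun _ _ => Commute.refl _) (hNsur g hg) hg3
      (fun _ => by rw [et, hc.eq, mul_inv_cancel_right])
    exact ⟨v, hv, ev, ov, hcv ()⟩
  obtain ⟨t, htN, et, ot, -⟩ := lift_in N hK3 (ℓ := 3) (ι := Empty) (xs := Empty.elim)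
    (fun i => i.elim) (fun i => i.elim) (fun i => i.elim) (hNsur _ J0) C0 (fun i => i.elim)
  obtain ⟨v, hvN, ev, ov, cv⟩ := liftN t htN ot et J1 C1 K1
  obtain ⟨w, hwN, ew, ow, cw⟩ := liftN v hvN ov ev J3 C3 K2
  obtain ⟨s, hsN, es, os, cs⟩ := liftN w hwN ow ew J4 C4 K3
  obtain ⟨z, hzN, ez, oz, cz⟩ := liftN t htN ot et J2 C2 K4
  have hcyc : ∀ {g : alternatingGroup (Fin 14)} {x : C.L}, C.π x = g → g = c3 0 1 2 → C.π x ≠ 1 :=
    fun e e' => by rw [e, e']; exact N0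
  have hfour : ∀ b : ZMod 7, b ≠ 0 →
      0 < Module.finrank k ↥(E ζ (R x2) b ⊓ E ξ (R t) (1 : ZMod 3)) ∧
      ∀ i : ZMod 3, i ≠ 0 → E ζ (R x2) b ⊓ E ξ (R t) i ≤ E ξ (R v) (0 : ZMod 3) := by
    intro b hb
    set U := E ζ (R x2) b
    have hne1 : ∀ {a b c : Fin 14}, a ≠ b → b ≠ c → a ≠ c → (c3 a b c : alternatingGroup (Fin 14)) ≠ 1 :=
      fun h1 h2 h3 => c3_ne_one h1 h2 h3
    have P0 := pair_cases C j₀ hK3 hξ hq3 N U (hNU b) (hU6 b hb) (hnt b hb) pair0 N0 (hNsur _ I0)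
      (hNsur _ I0') htN hzN et ez ot oz cz
    have P1 := pair_cases C j₀ hK3 hξ hq3 N U (hNU b) (hU6 b hb) (hnt b hb) pair1 N0 (hNsur _ I1)
      (hNsur _ I1') htN hvN et ev ot ov cv
    have P2 := pair_cases C j₀ hK3 hξ hq3 N U (hNU b) (hU6 b hb) (hnt b hb) pair2
      (hne1 (by decide) (by decide) (by decide)) (hNsur _ I2) (hNsur _ I2') hvN hwN ev ew ov ow cw
    have P3 := pair_cases C j₀ hK3 hξ hq3 N U (hNU b) (hU6 b hb) (hnt b hb) pair3
      (hne1 (by decide) (by decide) (by decide)) (hNsur _ I3) (hNsur _ I3') hwN hsN ew es ow os cs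
    rcases P1.2 with ⟨d2, e01⟩ | ⟨-, hpos, hv0⟩
    swap
    · exact ⟨hpos, hv0⟩
    exfalso
    have dv : Module.finrank k ↥(U ⊓ E ξ (R v) (0 : ZMod 3)) = 2 := P1.1 ▸ d2
    obtain ⟨-, e0z⟩ := P0.2.resolve_right fun h => by
      have := h.1; rw [← hR] at this; omega
    obtain ⟨-, e12⟩ := P2.2.resolve_right fun h => by
      have := h.1; rw [← hR] at this; omega
    have dw : Module.finrank k ↥(U ⊓ E ξ (R w) (0 : ZMod 3)) = 2 := P2.1 ▸ dv
    obtain ⟨-, e23⟩ := P3.2.resolve_right fun h => by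
      have := h.1; rw [← hR] at this; omega
    rw [← hR] at e01 e0z e12 e23
    set W2 := U ⊓ E ξ (R t) (0 : ZMod 3) with hW2
    have hfixes : ∀ x ∈ W2, R (t * s * z) x = x := fun x hx => by
      have h1 : R t x = x := by simpa using (mem_E ξ).1 hx.2
      have h2 : R s x = x := by simpa using (mem_E ξ).1 (((e01.trans e12).trans e23).le hx).2
      have h3 : R z x = x := by simpa using (mem_E ξ).1 (e0z.le hx).2
      rw [hR, E7Rho.rho_mul_apply, E7Rho.rho_mul_apply, ← hR, h3, h2, h1]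
    obtain ⟨m, g, hgN, hg⟩ := hconj (t * s * z) (mul_mem (mul_mem htN hsN) hzN)
      (by rw [map_mul, map_mul, et, es, ez]; rfl)
    obtain ⟨x, hx, hx0⟩ := Submodule.exists_mem_ne_zero_of_ne_bot
      (fun e : W2 = ⊥ => by rw [e, finrank_bot] at d2; omega)
    have hpowfix : ∀ n : ℕ, R ((t * s * z) ^ n) x = x := by
      intro n
      induction n with
      | zero => rw [pow_zero, map_one]; rfl
      | succ n ih => rw [pow_succ, hR, E7Rho.rho_mul_apply, ← hR, hfixes x hx, ih]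
    refine hx0 (E7Rho.rho_injective (j₀ := j₀) g ?_)
    rw [map_zero]
    refine hno b hb _ (hNU b g hgN x hx.1) ?_
    rw [← hg, hR, E7Rho.rho_mul_apply, E7Rho.rho_mul_apply, E7Rho.rho_apply_inv, ← hR, hpowfix]
  -- the second lift fixes what the first one moves
  have hvi : ∀ i : ZMod 3, i ≠ 0 → E ξ (R t) i ≤ E ξ (R v) (0 : ZMod 3) := by
    intro i hi
    set M := E ξ (R t) i
    have hM : ∀ x ∈ M, R x2 x ∈ M := E7Rho.E_invariant ξ htN.1.1.symm i
    have e : M ⊓ E ξ (R v) (0 : ZMod 3) = M := by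
      refine Submodule.eq_of_le_of_finrank_eq inf_le_left ?_
      rw [split2 _ hM, split2 _ (fun x hx => Submodule.mem_inf.2 ⟨hM x hx.1, E7Rho.E_invariant ξ hvN.1.1.symm 0 x hx.2⟩)]
      refine Finset.sum_congr rfl fun b _ => ?_
      refine congrArg (fun S : Submodule k (Fin 56 → k) => Module.finrank k S) ?_
      refine le_antisymm (inf_le_inf_right _ inf_le_left) ?_
      by_cases hb : b = 0
      · subst hb
        exact le_inf (le_inf inf_le_left fun x hx => (mem_E ξ).2 (by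
          rw [ZMod.val_zero, pow_zero, one_smul]; exact hvN.2 x hx.2)) inf_le_right
      · exact le_inf (le_inf inf_le_left (inf_comm (E ξ (R t) i) _ ▸ (hfour b hb).2 i hi)) inf_le_right
    exact e ▸ inf_le_right
  obtain ⟨M0, M1⟩ := rels_mv
  obtain ⟨u₀, -, eu₀, ou₀, hcu⟩ := lift_in ⊤ hK3 (ℓ := 3) (ι := Unit) (xs := fun _ => t)
    (fun _ => Subgroup.mem_top _) (fun _ => ot) (fun _ _ => Commute.refl _) (hsurj (c3 7 8 9)) C5
    (fun _ => by rw [et, K5.eq, mul_inv_cancel_right])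
  have cu : Commute u₀ t := hcu ()
  obtain ⟨gm, -, hgm⟩ := E7Lifts.fusion (xs := ![t, v]) (ys := ![t, u₀]) C.surj hK3
    (by simp [Fin.forall_fin_two, ot, ov]) (by simp [Fin.forall_fin_two, ot, ou₀])
    (by simp [Fin.forall_fin_two, cv, cv.symm]) (by simp [Fin.forall_fin_two, cu, cu.symm]) mv
    (by simp [Fin.forall_fin_two, et, ev, eu₀, M0, M1])
  have hgt : Commute gm t := mul_inv_eq_iff_eq_mul.1 (hgm 0)
  set U3 := E ξ (R t) (1 : ZMod 3) with hU3
  have hu3 : ∀ x ∈ U3, R u₀ x = x := by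
    have h1 : ∀ x ∈ U3, R v x = x := fun x hx => by
      simpa using (mem_E ξ).1 (hvi 1 one_three hx)
    have := E7Rho.conj_trivial (j₀ := j₀) (g := gm) (E7Rho.E_invariant ξ hgt.inv_left _) h1
    rwa [show gm * v * gm⁻¹ = u₀ from hgm 1] at this
  let P2 : Subgroup C.L :=
    { carrier := {h | Commute h t ∧ In second (C.π h)}
      one_mem' := ⟨Commute.one_left _, by intro i _; rw [map_one]; rfl⟩
      mul_mem' := fun {a b} ha hb => ⟨ha.1.mul_left hb.1, by rw [map_mul]; exact ha.2.mul hb.2⟩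
      inv_mem' := fun {a} ha => ⟨ha.1.inv_left, by rw [map_inv]; exact ha.2.inv⟩ }
  have hP2sur : ∀ g, In second g → ∃ h ∈ P2, C.π h = g := by
    intro g hg
    obtain ⟨h, hh, hc⟩ := E7Lifts.fusion (xs := fun _ : Unit => t) (ys := fun _ => t) C.surj hK3
      (fun _ => ot) (fun _ => ot) (fun _ _ => Commute.refl _) (fun _ _ => Commute.refl _) g
      (fun _ => by rw [et, comm_outside.2 hg])
    exact ⟨h, ⟨mul_inv_eq_iff_eq_mul.1 (hc ()), by rw [hh]; exact hg⟩, hh⟩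
  have hP2U : ∀ h ∈ P2, ∀ x ∈ U3, R h x ∈ U3 := fun h hh => E7Rho.E_invariant ξ hh.1 _
  rcases E7Rho.alt_dichotomy C.π (n := 7) (by norm_num) (S := second) card_second P2 (fun h hh => hh.2)
    hP2sur (E7Rho.restr hP2U) with hall | ⟨φ, -, hker, hφ⟩
  swap
  · refine absurd (hφ ⟨u₀, cu, by rw [eu₀]; exact J5⟩ (hker ?_)) (by rw [eu₀]; exact N5)
    exact LinearMap.ext fun x => Subtype.ext (hu3 x.1 x.2)
  obtain ⟨h, hh, htr⟩ := hall a2 in_first.2
  obtain ⟨m, hm', hm7⟩ := Twelve.exists_lift_power (π := C.π) (ℓ := 7) (by norm_num) hK (x := h.1)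
    (by rw [hh, p2])
  have htm : ∀ x ∈ U3, R (h.1 ^ m) x = x := by
    have h1 := E7Rho.restr_eq_one hP2U (h := h ^ m) (by rw [map_pow, htr, one_pow])
    simpa using h1
  obtain ⟨g, hgP, -, hg⟩ := fusion_in P2 hK (ι := Unit) (xs := fun _ => h.1 ^ m) (ys := fun _ => x2)
    (fun _ => pow_mem h.2 m) (fun _ => ⟨htN.1.1.symm, by rw [e2]; exact in_first.2⟩) (fun _ => hm7)
    (fun _ => o2) (fun _ _ => Commute.refl _) (fun _ _ => Commute.refl _) (g := 1)
    ⟨1, one_mem P2, map_one _⟩ (fun _ => by rw [one_mul, inv_one, mul_one, hm', hh, e2])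
  have hx2 := E7Rho.conj_trivial (j₀ := j₀) (g := g) (hP2U g⁻¹ (inv_mem hgP)) htm
  rw [show g * h.1 ^ m * g⁻¹ = x2 from hg ()] at hx2
  obtain ⟨hpos, -⟩ := hfour 1 ne_seven.1
  obtain ⟨x, hx, hx0⟩ := Submodule.exists_mem_ne_zero_of_ne_bot
    (fun e : E ζ (R x2) (1 : ZMod 7) ⊓ U3 = ⊥ => by rw [e, finrank_bot] at hpos; omega)
  have h1 := hx2 x hx.2
  rw [(mem_E ζ).1 hx.1, ZMod.val_one, pow_one] at h1
  exact hζ.ne_one (by norm_num) (smul_left_injective k hx0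
    (by show ζ • x = (1 : k) • x; rw [one_smul]; exact h1))

end CfsgLib.Classical.AltSection.E7Fourteen
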