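import Cfsg.Agent.Lib.Classical.AltSection.TwelveMoved

/-!
Tools for the reduction of representations of covers of the alternating group on twelve points: lifts of
elements of prime order, moved spaces in extensions, and kernels which are not central.
-/

set_option autoImplicit false
set_option linter.unusedSectionVars false
set_option maxRecDepth 100000
set_option maxHeartbeats 1000000

namespace CfsgLib.Classical.AltSection.Twelve

open Equiv Finset Module
open scoped commutatorElement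

/-! ### Lifts of elements of prime order -/

section lifts

variable {L Q : Type} [Group L] [Group Q] [Finite L] {π : L →* Q} {ℓ : ℕ}

theorem exists_lift_power (hℓ : ℓ.Prime) (hK : ¬ ℓ ∣ Nat.card π.ker) {x : L} (hg : π x ^ ℓ = 1) :
    ∃ m : ℕ, π (x ^ m) = π x ∧ (x ^ m) ^ ℓ = 1 := by
  obtain ⟨m, hm1, hm0⟩ := Nat.chineseRemainder ((hℓ.coprime_iff_not_dvd).2 hK) 1 0
  refine ⟨m, ?_, ?_⟩
  · rw [map_pow]
    exact (pow_eq_pow_iff_modEq.2 (hm1.of_dvd (orderOf_dvd_of_pow_eq_one hg))).trans (pow_one _)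
  · rw [← pow_mul, mul_comm, pow_mul]
    obtain ⟨c, hc⟩ := Nat.modEq_zero_iff_dvd.1 hm0
    rw [hc, pow_mul]
    have hmem : x ^ ℓ ∈ π.ker := by rw [MonoidHom.mem_ker, map_pow, hg]
    have h1 : (⟨x ^ ℓ, hmem⟩ : π.ker) ^ Nat.card π.ker = 1 := pow_card_eq_one'
    rw [show (x ^ ℓ) ^ Nat.card π.ker = 1 from congrArg Subtype.val h1, one_pow]

/-- Two lifts of the same order are conjugate over the cyclic group below. -/
theorem conj_lift (hℓ : ℓ.Prime) (hK : ¬ ℓ ∣ Nat.card π.ker) {x y : L} (hx : x ^ ℓ = 1) (hy : y ^ ℓ = 1)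
    (e : π y = π x) : ∃ h, π h ∈ Subgroup.zpowers (π x) ∧ h * y * h⁻¹ = x := by
  classical
  have := Fact.mk hℓ
  set P := (Subgroup.zpowers (π x)).comap π with hP
  let x' : P := ⟨x, Subgroup.mem_zpowers _⟩
  let y' : P := ⟨y, show π y ∈ Subgroup.zpowers (π x) by rw [e]; exact Subgroup.mem_zpowers _⟩
  have hpg : ∀ z : P, z.1 ^ ℓ = 1 → IsPGroup ℓ (Subgroup.zpowers z) := fun z hz => by
    refine IsPGroup.of_card_dvd_pow (n := 1) ?_
    rw [Nat.card_zpowers, pow_one]
    exact orderOf_dvd_of_pow_eq_one (Subtype.ext (by rw [Subgroup.coe_pow, hz]; rfl))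
  obtain ⟨Sx, hSx⟩ := (hpg x' hx).exists_le_sylow
  obtain ⟨Sy, hSy⟩ := (hpg y' hy).exists_le_sylow
  obtain ⟨h, hh⟩ := MulAction.exists_smul_eq P Sy Sx
  refine ⟨h.1, h.2, ?_⟩
  have hz : h * y' * h⁻¹ ∈ Sx := by
    rw [← hh, Sylow.smul_def]
    exact Subgroup.smul_mem_pointwise_smul _ (MulAut.conj h) (Sy : Subgroup P)
      (hSy (Subgroup.mem_zpowers y'))
  have hd : h * y' * h⁻¹ * x'⁻¹ ∈ Sx := mul_mem hz (inv_mem (hSx (Subgroup.mem_zpowers x')))
  set d := h * y' * h⁻¹ * x'⁻¹ with hd'
  have hker : d.1 ∈ π.ker := by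
    obtain ⟨j, hj⟩ := Subgroup.mem_zpowers_iff.1 (show π h.1 ∈ Subgroup.zpowers (π x) from h.2)
    rw [MonoidHom.mem_ker]
    show π (h.1 * y * h.1⁻¹ * x⁻¹) = 1
    rw [map_mul, map_mul, map_mul, map_inv, map_inv, e, ← hj,
      ((Commute.refl (π x)).zpow_left j).eq, mul_inv_cancel_right, mul_inv_cancel]
  obtain ⟨k, hk⟩ := Sx.isPGroup' ⟨d, hd⟩
  have hk' : d.1 ^ ℓ ^ k = 1 := congrArg (fun z : Sx => z.1.1) hk
  have hcard : d.1 ^ Nat.card π.ker = 1 :=
    congrArg Subtype.val (pow_card_eq_one' (x := (⟨d.1, hker⟩ : π.ker)))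
  have h1 : d.1 = 1 := by
    have := pow_gcd_eq_one.2 ⟨hk', hcard⟩
    rwa [Nat.Coprime.gcd_eq_one (((hℓ.coprime_iff_not_dvd).2 hK).pow_left k), pow_one] at this
  exact mul_inv_eq_one.1 h1

end lifts

/-! ### Embeddings -/

theorem exists_alt_embedding {r q : ℕ} (T : Finset (Fin r)) (hT : T.card = q) :
    ∃ f : alternatingGroup (Fin q) →* alternatingGroup (Fin r), Function.Injective f ∧
      (∀ h, In T (f h)) ∧ ∀ g, In T g → g ∈ f.range := by
  classical
  let e : Fin q ≃ {x // x ∈ T} := (T.equivFinOfCardEq hT).symm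
  let E : Perm (Fin q) →* Perm (Fin r) := Equiv.Perm.extendDomainHom e
  let f : alternatingGroup (Fin q) →* alternatingGroup (Fin r) :=
    (E.comp (alternatingGroup (Fin q)).subtype).codRestrict _ fun v => by
      rw [Perm.mem_alternatingGroup]
      show Perm.sign (Perm.extendDomain v.1 e) = 1
      rw [Perm.sign_extendDomain]
      exact Perm.mem_alternatingGroup.1 v.2
  refine ⟨f, fun v w h => Subtype.ext (Equiv.Perm.extendDomainHom_injective e (congrArg Subtype.val h)),
    fun h i hi => Perm.extendDomain_apply_not_subtype h.1 e hi, fun g hg => ?_⟩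
  have hmem : ∀ x, (g : Perm (Fin r)) x ∈ T ↔ x ∈ T := fun x => by
    by_cases hx : x ∈ T
    · refine iff_of_true ?_ hx
      by_contra hn
      exact hn (((g : Perm (Fin r)).injective (hg _ hn)).symm ▸ hx)
    · rw [hg x hx]
  let h : Perm (Fin q) := e.symm.permCongr (Perm.subtypePerm (g : Perm (Fin r)) hmem)
  have heq : Perm.extendDomain h e = (g : Perm (Fin r)) := Equiv.ext fun i => by
    by_cases hi : i ∈ T
    · rw [Perm.extendDomain_apply_subtype h e hi]
      simp [h, Equiv.permCongr_apply]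
    · rw [Perm.extendDomain_apply_not_subtype h e hi, hg i hi]
  refine ⟨⟨h, ?_⟩, Subtype.ext heq⟩
  have := congrArg Perm.sign heq
  rw [Perm.sign_extendDomain] at this
  rw [Perm.mem_alternatingGroup, this]
  exact Perm.mem_alternatingGroup.1 g.2

/-! ### Moved spaces in an extension -/

section extension

variable {k : Type} [Field k] {V : Type} [AddCommGroup V] [Module k V] [FiniteDimensional k V]
variable {H : Type} [Group H] [Finite H] {ρ : H →* Module.End k V}

theorem moved_le_add {x : H} {ℓ : ℕ} (hx : x ^ ℓ = 1) (hℓ : (ℓ : k) ≠ 0) (U : Submodule k V)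
    (hU : ∀ γ, ∀ u ∈ U, ρ γ u ∈ U) (ρU : H →* Module.End k U) (ρQ : H →* Module.End k (V ⧸ U))
    (eU : ∀ γ (u : U), ((ρU γ u : U) : V) = ρ γ u.1)
    (eQ : ∀ γ v, ρQ γ (Submodule.Quotient.mk v) = Submodule.Quotient.mk (ρ γ v)) :
    Module.finrank k (moved ρ x) ≤ Module.finrank k (moved ρU x) + Module.finrank k (moved ρQ x) := by
  classical
  have hq : (fixd ρQ x : Submodule k (V ⧸ U)) ≤ LinearMap.range (U.mkQ.comp (fixd ρ x).subtype) := by
    intro q hq
    rw [mem_fixd] at hq
    obtain ⟨v, rfl⟩ := Submodule.Quotient.mk_surjective U q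
    set w : V := ∑ i ∈ Finset.range ℓ, ρ (x ^ i) v with hw
    have hwfix : ρ x w = w := by
      rw [hw, map_sum]
      simp only [← rho_mul_apply, ← pow_succ']
      have h1 := Finset.sum_range_succ (fun i => ρ (x ^ i) v) ℓ
      rw [Finset.sum_range_succ', hx] at h1
      simpa using h1
    refine ⟨⟨(ℓ : k)⁻¹ • w, by rw [mem_fixd, map_smul, hwfix]⟩, ?_⟩
    show Submodule.Quotient.mk ((ℓ : k)⁻¹ • w) = Submodule.Quotient.mk v
    have hi : ∀ i : ℕ, Submodule.Quotient.mk (ρ (x ^ i) v) = (Submodule.Quotient.mk v : V ⧸ U) := fun i => by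
      rw [← eQ]
      exact mem_fixd_pow hq i
    rw [Submodule.Quotient.mk_smul, hw, ← Submodule.mkQ_apply, map_sum]
    simp only [Submodule.mkQ_apply, hi, Finset.sum_const, Finset.card_range]
    rw [← Nat.cast_smul_eq_nsmul k, smul_smul, inv_mul_cancel₀ hℓ, one_smul]
  have hk : Module.finrank k (fixd ρU x) ≤
      Module.finrank k (LinearMap.ker (U.mkQ.comp (fixd ρ x).subtype)) := by
    have hm : ∀ u : fixd ρU x, (u.1.1 : V) ∈ fixd ρ x := fun u => by
      rw [mem_fixd, ← eU, mem_fixd.1 u.2]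
    let j : fixd ρU x →ₗ[k] fixd ρ x :=
      LinearMap.codRestrict _ (U.subtype.comp (fixd ρU x).subtype) hm
    refine LinearMap.finrank_le_finrank_of_injective (f := LinearMap.codRestrict _ j fun u => ?_) fun u v huv => ?_
    · rw [LinearMap.mem_ker]
      show Submodule.Quotient.mk (u.1.1 : V) = 0
      rw [Submodule.Quotient.mk_eq_zero]
      exact u.1.2
    · exact Subtype.ext (Subtype.ext (congrArg (fun z => (z.1.1 : V)) huv))
  have h0 := LinearMap.finrank_range_add_finrank_ker (U.mkQ.comp (fixd ρ x).subtype)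
  have h1 : Module.finrank k (moved ρ x) + Module.finrank k (fixd ρ x) = Module.finrank k V :=
    LinearMap.finrank_range_add_finrank_ker (ρ x - 1)
  have h2 : Module.finrank k (moved ρU x) + Module.finrank k (fixd ρU x) = Module.finrank k U :=
    LinearMap.finrank_range_add_finrank_ker (ρU x - 1)
  have h3 : Module.finrank k (moved ρQ x) + Module.finrank k (fixd ρQ x) = Module.finrank k (V ⧸ U) :=
    LinearMap.finrank_range_add_finrank_ker (ρQ x - 1)
  have h4 := Submodule.finrank_quotient_add_finrank U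
  have h5 := Submodule.finrank_mono hq
  omega

end extension

/-! ### Kernels which are not central -/

section noncentral

variable {H : Type} [Group H] [Finite H] {π : H →* alternatingGroup (Fin 12)}
variable {k : Type} [Field k] [IsAlgClosed k] {V : Type} [AddCommGroup V] [Module k V]
  [FiniteDimensional k V] [Nontrivial V] {ρ : H →* Module.End k V}

/-- In degree at most twenty-seven some abelian normal subgroup is not central unless the kernel is. -/
theorem ker_central (hπ : Function.Surjective π)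
    (hmin : ∀ L : Subgroup H, L.map π = ⊤ → L = ⊤) (hinj : Function.Injective ρ)
    (hirr : ∀ U : Submodule k V, (∀ γ, ∀ u ∈ U, ρ γ u ∈ U) → U = ⊥ ∨ U = ⊤)
    (hn : Module.finrank k V ≤ 27)
    (hA : ∀ A : Subgroup H, A.Normal → (∀ a ∈ A, ∀ b ∈ A, a * b = b * a) → A ≤ Subgroup.center H) :
    π.ker ≤ Subgroup.center H := by
  classical
  by_contra hK
  have hr : 9 ≤ 12 := by norm_num
  haveI := ker_nilpotent π hmin hπ
  set K := π.ker
  set Z₀ := K ⊓ Subgroup.center H
  haveI : Z₀.Normal := Subgroup.normal_inf_normal K _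
  let q := QuotientGroup.mk' Z₀
  set Kb := K.map q
  haveI hKbn : Kb.Normal := (MonoidHom.normal_ker π).map q (QuotientGroup.mk'_surjective Z₀)
  haveI : Group.IsNilpotent Kb :=
    nilpotent_of_surjective (q.subgroupMap K) (MonoidHom.subgroupMap_surjective q K)
  haveI : Nontrivial Kb := by
    rw [Subgroup.nontrivial_iff_ne_bot]
    intro e
    refine hK fun g hg => ?_
    have : q g ∈ Kb := ⟨g, hg, rfl⟩
    rw [e, Subgroup.mem_bot] at this
    exact ((QuotientGroup.eq_one_iff g).1 this).2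
  haveI : Nontrivial (Subgroup.center Kb) := by
    rw [Subgroup.nontrivial_iff_ne_bot]
    exact Group.IsNilpotent.center_ne_bot _
  obtain ⟨s, hs, hsdvd⟩ := Nat.exists_prime_and_dvd (n := Nat.card (Subgroup.center Kb))
    (fun e => by have := Finite.one_lt_card (α := Subgroup.center Kb); omega)
  haveI : Fact s.Prime := ⟨hs⟩
  obtain ⟨z, hz⟩ := exists_prime_orderOf_dvd_card' s hsdvd
  let M : Subgroup H :=
    { carrier := {g | g ∈ K ∧ q g ^ s = 1 ∧ ∀ x ∈ K, Commute (q g) (q x)}
      one_mem' := ⟨one_mem K, by simp, fun x _ => by simp⟩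
      mul_mem' := fun {a b} ha hb => ⟨mul_mem ha.1 hb.1, by
          rw [map_mul, (ha.2.2 b hb.1).mul_pow, ha.2.1, hb.2.1, one_mul],
        fun x hx => by rw [map_mul]; exact (ha.2.2 x hx).mul_left (hb.2.2 x hx)⟩
      inv_mem' := fun {a} ha => ⟨inv_mem ha.1, by rw [map_inv, inv_pow, ha.2.1, inv_one],
        fun x hx => by rw [map_inv]; exact (ha.2.2 x hx).inv_left⟩ }
  haveI hMn : M.Normal := ⟨fun g hg h => ⟨(MonoidHom.normal_ker π).conj_mem g hg.1 h, by
      rw [map_mul, map_mul, map_inv, conj_pow, hg.2.1, mul_one, mul_inv_cancel], fun x hx => by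
      have h1 := (hg.2.2 _ ((MonoidHom.normal_ker π).conj_mem x hx h⁻¹)).map (MulAut.conj (q h)).toMonoidHom
      simpa [mul_assoc] using h1⟩⟩
  have hMcomm : ∀ a ∈ M, ∀ b ∈ M, ⁅a, b⁆ ∈ Z₀ := fun a ha b hb => by
    rw [← QuotientGroup.eq_one_iff]
    show q ⁅a, b⁆ = 1
    rw [map_commutatorElement]
    exact commutatorElement_eq_one_iff_commute.2 (ha.2.2 b hb.1)
  have hMnc : ¬ M ≤ Subgroup.center H := by
    intro hle
    obtain ⟨g, hg, e⟩ := (z : Kb).2
    have hgM : g ∈ M := ⟨hg, by
      rw [e, ← hz, ← Subgroup.coe_pow, ← Subgroup.coe_pow, pow_orderOf_eq_one]; rfl, fun x hx => by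
      rw [e]
      exact (congrArg Subtype.val (Subgroup.mem_center_iff.1 z.2 ⟨q x, x, hx, rfl⟩)).symm⟩
    have h1 : q g = 1 := (QuotientGroup.eq_one_iff g).2 ⟨hg, hle hgM⟩
    have hz1 : z = 1 := Subtype.ext (Subtype.ext (e.symm.trans h1))
    rw [hz1, orderOf_one] at hz
    exact hs.ne_one hz.symm
  have hcenM : ∀ g ∈ M, (∀ x ∈ M, x * g = g * x) → g ∈ Z₀ := by
    let A : Subgroup H := M ⊓ Subgroup.centralizer (M : Set H)
    intro g hg hcom
    refine ⟨hg.1, hA A (Subgroup.normal_inf_normal M _) (fun a ha b hb => ?_) ?_⟩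
    · exact (Subgroup.mem_centralizer_iff.1 hb.2 a ha.1)
    · exact ⟨hg, Subgroup.mem_centralizer_iff.2 hcom⟩
  set Mb := M.map q
  haveI : Mb.Normal := hMn.map q (QuotientGroup.mk'_surjective Z₀)
  haveI : IsMulCommutative Mb := ⟨⟨fun x y => by
    obtain ⟨_, a, ha, rfl⟩ := x
    obtain ⟨_, b, hb, rfl⟩ := y
    exact Subtype.ext (ha.2.2 b hb.1)⟩⟩
  letI : CommGroup Mb := { (inferInstance : Group Mb) with mul_comm := fun a b => mul_comm' a b }
  obtain ⟨d, hcardM, mat, hmat⟩ := exists_matrix (A := Mb) (s := s) fun w => by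
    obtain ⟨_, a, ha, rfl⟩ := w
    exact Subtype.ext ha.2.1
  let conjH : H →* MulAut Mb := MulAut.conjNormal.comp q
  let φ : H →* Matrix (Fin d) (Fin d) (ZMod s) := mat.comp conjH
  have hφ : φ.ker ≠ ⊤ := by
    intro htop
    refine hMnc fun g hg => Subgroup.mem_center_iff.2 fun h => ?_
    have hc : ∀ h : H, ⁅h, g⁆ ∈ Z₀ := fun h => by
      have h1 : conjH h = 1 := hmat (by
        rw [map_one]; exact MonoidHom.mem_ker.1 (htop ▸ Subgroup.mem_top h : h ∈ φ.ker))
      have h2 : ((conjH h ⟨q g, g, hg, rfl⟩ : Mb) : H ⧸ Z₀) = q g := by rw [h1]; rfl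
      rw [← QuotientGroup.eq_one_iff]
      show q ⁅h, g⁆ = 1
      rw [map_commutatorElement, commutatorElement_def]
      have h3 : q h * q g * (q h)⁻¹ = q g := by simpa [conjH] using h2
      rw [h3, mul_inv_cancel]
    let f : H →* Z₀ :=
      { toFun := fun h => ⟨⁅h, g⁆, hc h⟩
        map_one' := Subtype.ext (commutatorElement_one_left g)
        map_mul' := fun a b => Subtype.ext (by
          show ⁅a * b, g⁆ = ⁅a, g⁆ * ⁅b, g⁆
          rw [show ⁅a * b, g⁆ = a * ⁅b, g⁆ * a⁻¹ * ⁅a, g⁆ by simp only [commutatorElement_def]; group,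
            Subgroup.mem_center_iff.1 (hc b).2 a, mul_inv_cancel_right,
            ← Subgroup.mem_center_iff.1 (hc b).2 ⁅a, g⁆]) }
    have hker : commutator H ≤ f.ker := by
      rw [commutator_def, Subgroup.commutator_le]
      intro a _ b _
      rw [MonoidHom.mem_ker, map_commutatorElement, commutatorElement_eq_one_iff_mul_comm]
      exact Subtype.ext (Subgroup.mem_center_iff.1 (f b).2.2 (f a).1)
    rw [commutator_eq_top π hr hπ hmin] at hker
    exact commutatorElement_eq_one_iff_mul_comm.1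
      (congrArg Subtype.val (MonoidHom.mem_ker.1 (hker (Subgroup.mem_top h))))
  have hsq : Nat.card Mb ≤ 27 * 27 := by
    choose rep hrep hrepq using fun m : Mb => m.2
    have hsc : ∀ (m : Mb) (x : M), ∃ c : k, ρ ⁅x.1, rep m⁆ = c • 1 :=
      fun m x => scalar_of_central hirr (hMcomm x.1 x.2 (rep m) (hrep m)).2
    choose c hc using hsc
    let T : M → Module.End k (Module.End k V) := fun x =>
      (LinearMap.mulLeft k (ρ x.1)).comp (LinearMap.mulRight k (ρ x.1⁻¹))
    have hli : LinearIndependent k (fun m : Mb => ρ (rep m)) := by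
      refine linearIndependent_labels T c ?_ _ (fun m e => ?_) fun m x => ?_
      · intro m m' e
        have key : ∀ x : M, ⁅x.1, rep m⁆ = ⁅x.1, rep m'⁆ := fun x => hinj (by rw [hc, hc, e])
        have hmem : (rep m)⁻¹ * rep m' ∈ Z₀ := by
          refine hcenM _ (mul_mem (inv_mem (hrep m)) (hrep m')) fun x hx => ?_
          have h1 := key ⟨x, hx⟩
          simp only [commutatorElement_def] at h1
          have h5 : x * rep m' * x⁻¹ = x * rep m * x⁻¹ * (rep m)⁻¹ * rep m' := by
            rw [h1]; group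
          calc x * ((rep m)⁻¹ * rep m') = (x * rep m * x⁻¹)⁻¹ * (x * rep m' * x⁻¹) * x := by group
            _ = (rep m)⁻¹ * rep m' * x := by rw [h5]; group
        refine Subtype.ext ?_
        rw [← hrepq m, ← hrepq m']
        exact (QuotientGroup.eq).2 hmem
      · obtain ⟨v, hv⟩ := exists_ne (0 : V)
        refine hv (rho_injective (ρ := ρ) (rep m) ?_)
        rw [show ρ (rep m) = 0 from e]; simp
      · show ρ x.1 * (ρ (rep m) * ρ x.1⁻¹) = _
        rw [← map_mul, ← map_mul, show x.1 * (rep m * x.1⁻¹) = ⁅x.1, rep m⁆ * rep m by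
          rw [commutatorElement_def]; group, map_mul, hc, smul_mul_assoc, one_mul]
    haveI := Fintype.ofFinite Mb
    have := hli.fintype_card_le_finrank
    rw [Module.finrank_linearMap] at this
    rw [Nat.card_eq_fintype_card]
    exact this.trans (Nat.mul_le_mul hn hn)
  rw [hcardM] at hsq
  have hd : d ≤ 9 := by
    by_contra hlt
    have h1 : 2 ^ 10 ≤ 2 ^ d := Nat.pow_le_pow_right two_pos (by omega)
    have h2 : 2 ^ d ≤ s ^ d := Nat.pow_le_pow_left hs.two_le d
    norm_num at h1
    omega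
  let K' := AlgebraicClosure (ZMod s)
  let ψ : Matrix (Fin d) (Fin d) (ZMod s) →* Module.End K' (Fin d → K') :=
    (Matrix.toLinAlgEquiv' (R := K') (n := Fin d)).toRingEquiv.toMonoidHom.comp
      (RingHom.mapMatrix (algebraMap (ZMod s) K')).toMonoidHom
  have hψ : Function.Injective ψ := (Matrix.toLinAlgEquiv' (R := K') (n := Fin d)).injective.comp
    (Matrix.map_injective (algebraMap (ZMod s) K').injective)
  refine noSection hr d K' (Fin d → K') H π (ψ.comp φ) hπ (fun h hh => ?_) (Module.finrank_fin_fun K')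
    ⟨?_, fun _ => ?_⟩
  · refine ((normal_cases π hr hπ hmin φ.ker).resolve_left hφ) (MonoidHom.mem_ker.2 (hψ ?_))
    rw [map_one]; exact MonoidHom.mem_ker.1 hh
  all_goals rw [Module.finrank_fin_fun]
  · omega
  · omega

end noncentral

end CfsgLib.Classical.AltSection.Twelve
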