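import Cfsg.Agent.Lib.Classical.AltSection.E7Sylow
import Cfsg.Agent.Lib.Classical.AltSection.TwelveTools
import Cfsg.Agent.Lib.Classical.AltSection.ChevSection
import Cfsg.Agent.Lib.Coprime.Action

/-!
Lifts of commuting elements of prime order, and minimal covers of alternating sections of a group of type
E7 inside the pairs of matrices: their kernels have order prime to three, five and seven.
-/

set_option autoImplicit false
set_option maxRecDepth 100000
set_option maxHeartbeats 1000000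
set_option linter.unusedSectionVars false

namespace CfsgLib.Classical.AltSection.E7Lifts

open Cfsg.Lie CfsgLib.Chev
open scoped commutatorElement

/-! ### Fusion of commuting lifts -/

section generic

variable {L : Type*} [Group L] [Finite L] {Q : Type*} [Group Q] {π : L →* Q} {ℓ : ℕ} [Fact ℓ.Prime]
variable {ι : Type*}

theorem commute_closure {G : Type*} [Group G] {s : Set G} (h : ∀ a ∈ s, ∀ b ∈ s, Commute a b) :
    ∀ x ∈ Subgroup.closure s, ∀ y ∈ Subgroup.closure s, Commute x y := by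
  intro x hx y hy
  induction hx, hy using Subgroup.closure_induction₂ with
  | mem x y hx hy => exact h x hx y hy
  | one_left x _ => exact Commute.one_left x
  | one_right x _ => exact Commute.one_right x
  | mul_left x y z _ _ _ h1 h2 => exact h1.mul_left h2
  | mul_right y z x _ _ _ h1 h2 => exact h1.mul_right h2
  | inv_left x y _ _ h1 => exact h1.inv_left
  | inv_right x y _ _ h1 => exact h1.inv_right

theorem pow_closure {G : Type*} [Group G] {s : Set G} (h : ∀ a ∈ s, ∀ b ∈ s, Commute a b)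
    (hs : ∀ a ∈ s, a ^ ℓ = 1) : ∀ x ∈ Subgroup.closure s, x ^ ℓ = 1 := by
  intro x hx
  induction hx using Subgroup.closure_induction with
  | mem x hx => exact hs x hx
  | one => exact one_pow _
  | mul x y hx hy h1 h2 => rw [(commute_closure h x hx y hy).mul_pow, h1, h2, one_mul]
  | inv x _ h1 => rw [inv_pow, h1, inv_one]

theorem isPGroup_closure {G : Type*} [Group G] {s : Set G} (h : ∀ a ∈ s, ∀ b ∈ s, Commute a b)
    (hs : ∀ a ∈ s, a ^ ℓ = 1) : IsPGroup ℓ (Subgroup.closure s) := fun x =>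
  ⟨1, Subtype.ext (by rw [SubmonoidClass.coe_pow, pow_one]; exact pow_closure h hs x x.2)⟩

theorem eq_one_of_lift (hK : ¬ ℓ ∣ Nat.card π.ker) {z : L} (hz : z ^ ℓ = 1) (hπ : π z = 1) : z = 1 := by
  have h1 : (⟨z, hπ⟩ : π.ker) ^ Nat.card π.ker = 1 := pow_card_eq_one'
  have h2 := pow_gcd_eq_one.2 ⟨hz, show z ^ Nat.card π.ker = 1 from congrArg Subtype.val h1⟩
  rwa [Nat.Coprime.gcd_eq_one ((Fact.out : ℓ.Prime).coprime_iff_not_dvd.2 hK), pow_one] at h2

variable {xs ys : ι → L}

/-- Two lifts of a commuting family are conjugate over the group below. -/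
theorem conj_family (hK : ¬ ℓ ∣ Nat.card π.ker) (hx : ∀ i, xs i ^ ℓ = 1) (hy : ∀ i, ys i ^ ℓ = 1)
    (hxc : ∀ i j, Commute (xs i) (xs j)) (hyc : ∀ i j, Commute (ys i) (ys j))
    (e : ∀ i, π (xs i) = π (ys i)) :
    ∃ h, π h ∈ Subgroup.closure (Set.range fun i => π (ys i)) ∧ ∀ i, h * xs i * h⁻¹ = ys i := by
  classical
  set A := Subgroup.closure (Set.range fun i => π (ys i))
  set X := Subgroup.closure (Set.range ys)
  set Y := Subgroup.closure (Set.range xs)
  set P := A.comap π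
  have hXA : X.map π = A := by
    rw [MonoidHom.map_closure, ← Set.range_comp]; rfl
  have hYA : Y.map π = A := by
    rw [MonoidHom.map_closure, ← Set.range_comp, show (⇑π ∘ xs) = fun i => π (ys i) from funext e]
  have hXP : X ≤ P := Subgroup.map_le_iff_le_comap.1 hXA.le
  have hYP : Y ≤ P := Subgroup.map_le_iff_le_comap.1 hYA.le
  have hXc : ∀ a ∈ Set.range ys, ∀ b ∈ Set.range ys, Commute a b := by
    rintro _ ⟨i, rfl⟩ _ ⟨j, rfl⟩; exact hyc i j
  have hYc : ∀ a ∈ Set.range xs, ∀ b ∈ Set.range xs, Commute a b := by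
    rintro _ ⟨i, rfl⟩ _ ⟨j, rfl⟩; exact hxc i j
  have hXpow := pow_closure (ℓ := ℓ) hXc (by rintro _ ⟨i, rfl⟩; exact hy i)
  have hinj : ∀ a ∈ X, ∀ b ∈ X, π a = π b → a = b := fun a ha b hb h =>
    eq_of_mul_inv_eq_one (eq_one_of_lift hK (hXpow _ (mul_mem ha (inv_mem hb))) (by
      rw [map_mul, map_inv, h, mul_inv_cancel]))
  have hidx : ¬ ℓ ∣ X.relIndex P := by
    let f : P →* Q := π.comp P.subtype
    have hf : f.range = A := by
      rw [MonoidHom.range_comp, Subgroup.range_subtype]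
      exact le_antisymm (Subgroup.map_comap_le _ _) (hXA.ge.trans (Subgroup.map_mono hXP))
    have hker : Nat.card f.ker = Nat.card π.ker := Nat.card_congr
      { toFun := fun z => ⟨z.1.1, z.2⟩
        invFun := fun z => ⟨⟨z.1, show π z.1 ∈ A by rw [show π z.1 = 1 from z.2]; exact one_mem _⟩, z.2⟩
        left_inv := fun z => rfl
        right_inv := fun z => rfl }
    have hcX : Nat.card X = Nat.card A := by
      rw [← hXA]
      exact Nat.card_congr (Equiv.ofBijective (fun a : X => (⟨π a.1, a.1, a.2, rfl⟩ : X.map π))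
        ⟨fun a b h => Subtype.ext (hinj _ a.2 _ b.2 (congrArg Subtype.val h)),
          fun ⟨_, a, ha, h⟩ => ⟨⟨a, ha⟩, Subtype.ext h⟩⟩)
    have h1 := Subgroup.card_mul_index f.ker
    rw [Subgroup.index_ker, hf, hker] at h1
    have h2 := Subgroup.card_mul_index (X.subgroupOf P)
    rw [Nat.card_congr (Subgroup.subgroupOfEquivOfLe hXP).toEquiv, hcX, ← h1, mul_comm (Nat.card π.ker)] at h2
    rw [Subgroup.relIndex, Nat.eq_of_mul_eq_mul_left (Nat.pos_of_ne_zero fun h0 => ?_) h2]
    · exact hK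
    · rw [← hcX] at h0; exact absurd h0 Nat.card_pos.ne'
  obtain ⟨h, hhP, hh⟩ := CfsgLib.Transfer.exists_conj_le_of_not_dvd_relIndex hXP
    (isPGroup_closure hXc (by rintro _ ⟨i, rfl⟩; exact hy i)) hidx hYP
    (isPGroup_closure hYc (by rintro _ ⟨i, rfl⟩; exact hx i))
  refine ⟨h, hhP, fun i => hinj _ (hh ⟨xs i, Subgroup.subset_closure ⟨i, rfl⟩, rfl⟩) _
    (Subgroup.subset_closure ⟨i, rfl⟩) ?_⟩
  have hA : ∀ a ∈ Set.range (fun i => π (ys i)), ∀ b ∈ Set.range (fun i => π (ys i)), Commute a b := by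
    rintro _ ⟨a, rfl⟩ _ ⟨b, rfl⟩; exact (hyc a b).map π
  rw [MulEquiv.coe_toMonoidHom, MulAut.conj_apply, map_mul, map_mul, map_inv, e, (commute_closure hA (π h) hhP _ (Subgroup.subset_closure ⟨i, rfl⟩)).eq,
    mul_inv_cancel_right]

/-- Fusion of lifts: the image of the conjugating element is prescribed. -/
theorem fusion (hπ : Function.Surjective π) (hK : ¬ ℓ ∣ Nat.card π.ker) (hx : ∀ i, xs i ^ ℓ = 1)
    (hy : ∀ i, ys i ^ ℓ = 1) (hxc : ∀ i j, Commute (xs i) (xs j)) (hyc : ∀ i j, Commute (ys i) (ys j))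
    (g : Q) (hg : ∀ i, g * π (xs i) * g⁻¹ = π (ys i)) :
    ∃ h, π h = g ∧ ∀ i, h * xs i * h⁻¹ = ys i := by
  obtain ⟨h₀, rfl⟩ := hπ g
  obtain ⟨h₁, hh₁, hc⟩ := conj_family (π := π) (xs := fun i => h₀ * xs i * h₀⁻¹) hK
    (fun i => by rw [conj_pow, hx i, mul_one, mul_inv_cancel]) hy
    (fun i j => (hxc i j).map (MulAut.conj h₀).toMonoidHom) hyc
    (fun i => by rw [map_mul, map_mul, map_inv]; exact hg i)
  obtain ⟨u, hu, hue⟩ : π h₁ ∈ (Subgroup.closure (Set.range ys)).map π := by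
    rw [MonoidHom.map_closure, ← Set.range_comp]; exact hh₁
  have huc : ∀ i, u⁻¹ * ys i * u = ys i := fun i => by
    have hc' : ∀ a ∈ Set.range ys, ∀ b ∈ Set.range ys, Commute a b := by
      rintro _ ⟨a, rfl⟩ _ ⟨b, rfl⟩; exact hyc a b
    rw [mul_assoc, ← (commute_closure hc' u hu _ (Subgroup.subset_closure ⟨i, rfl⟩)).eq,
      inv_mul_cancel_left]
  refine ⟨u⁻¹ * h₁ * h₀, by rw [map_mul, map_mul, map_inv, hue, inv_mul_cancel, one_mul], fun i => ?_⟩
  calc u⁻¹ * h₁ * h₀ * xs i * (u⁻¹ * h₁ * h₀)⁻¹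
      = u⁻¹ * (h₁ * (h₀ * xs i * h₀⁻¹) * h₁⁻¹) * u := by group
    _ = ys i := by rw [hc, huc]

end generic

/-! ### Minimal covers inside the pairs -/

/-- A minimal cover of an alternating group inside the pairs. -/
structure Cover (F : Type*) [Field F] (r : ℕ) where
  /-- The group. -/
  L : Type
  [grp : Group L]
  [fin : Finite L]
  /-- The projection. -/
  π : L →* alternatingGroup (Fin r)
  surj : Function.Surjective π
  hmin : ∀ M : Subgroup L, M.map π = ⊤ → M = ⊤
  /-- The pairs. -/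
  emb : L →* GL (Fin 56) F × GL chevE7.Idx F
  inj : Function.Injective emb
  mem : ∀ x, emb x ∈ E7Rep.pairs F

attribute [instance] Cover.grp Cover.fin

theorem exists_cover {F : Type*} [Field F] [Fintype F] {r : ℕ} {H : Subgroup ↥(chevE7.group F)}
    (π : H →* alternatingGroup (Fin r)) (hπ : Function.Surjective π) : Nonempty (Cover F r) := by
  classical
  let Hadj : Subgroup (GL chevE7.Idx F) := H.map (chevE7.group F).subtype
  let HP : Subgroup (GL (Fin 56) F × GL chevE7.Idx F) :=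
    E7Rep.pairs F ⊓ Hadj.comap (MonoidHom.snd _ _)
  let eH : H ≃* Hadj := H.equivMapOfInjective _ (chevE7.group F).subtype_injective
  let p2 : HP →* Hadj :=
    ((MonoidHom.snd _ _).comp HP.subtype).codRestrict Hadj fun v => v.2.2
  let π56 : HP →* alternatingGroup (Fin r) := π.comp (eH.symm.toMonoidHom.comp p2)
  have hπ56 : Function.Surjective π56 := fun g => by
    obtain ⟨v, rfl⟩ := hπ g
    obtain ⟨p, hp, hpv⟩ := E7Rep.exists_pair (K := F) v.1.2
    refine ⟨⟨p, hp, show p.2 ∈ Hadj from hpv ▸ ⟨v.1, v.2, rfl⟩⟩, ?_⟩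
    show π _ = π v
    congr 1
    apply eH.injective
    rw [MonoidHom.comp_apply, MulEquiv.coe_toMonoidHom, MulEquiv.apply_symm_apply]
    exact Subtype.ext hpv
  haveI : _root_.Small.{0} ↥HP := _root_.Small.mk' (Finite.equivFin ↥HP)
  let e : Shrink.{0} ↥HP ≃* HP := Shrink.mulEquiv
  haveI : Finite (Shrink.{0} ↥HP) := Finite.of_equiv _ (equivShrink.{0} ↥HP)
  let π₀ : Shrink.{0} ↥HP →* alternatingGroup (Fin r) := π56.comp e.toMonoidHom
  have hπ₀ : Function.Surjective π₀ := hπ56.comp e.surjective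
  obtain ⟨L, hL, hLmin⟩ := (Set.toFinite {L : Subgroup (Shrink.{0} ↥HP) | L.map π₀ = ⊤}).exists_minimal
    ⟨⊤, Subgroup.map_top_of_surjective π₀ hπ₀⟩
  refine ⟨{ L := L, π := π₀.comp L.subtype, surj := fun g => ?_, hmin := fun M hM => ?_,
            emb := HP.subtype.comp (e.toMonoidHom.comp L.subtype),
            inj := Subtype.val_injective.comp (e.injective.comp Subtype.val_injective),
            mem := fun x => (e.toMonoidHom (L.subtype x)).2.1 }⟩
  · obtain ⟨h, hh, rfl⟩ : g ∈ L.map π₀ := by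
      rw [show L.map π₀ = ⊤ from hL]; exact Subgroup.mem_top g
    exact ⟨⟨h, hh⟩, rfl⟩
  · have h1 : M.map L.subtype ≤ L := Subgroup.map_subtype_le M
    have h2 : (M.map L.subtype).map π₀ = ⊤ := by rw [Subgroup.map_map]; exact hM
    have h3 : L ≤ M.map L.subtype := hLmin h2 h1
    refine eq_top_iff.2 fun x _ => ?_
    obtain ⟨w, hw, e⟩ := h3 x.2
    rwa [← Subtype.ext (show (w : Shrink.{0} ↥HP) = x from e)]

/-- A subgroup of the group with an action trivial on an elementary quotient of small rank. -/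
theorem mulAut_trivial {r : ℕ} (hr : 14 ≤ r) {ℓ : ℕ} [Fact ℓ.Prime] {L : Type} [Group L] [Finite L]
    (π : L →* alternatingGroup (Fin r)) (hπ : Function.Surjective π)
    (hmin : ∀ M : Subgroup L, M.map π = ⊤ → M = ⊤)
    {A : Type} [CommGroup A] [Finite A] (hA : ∀ a : A, a ^ ℓ = 1) (hcard : Nat.card A ≤ ℓ ^ 11)
    (act : L →* MulAut A) : act.ker = ⊤ := by
  classical
  obtain ⟨d, hd, f, hf⟩ := exists_matrix (A := A) hA
  have hd11 : d ≤ 11 := (Nat.pow_le_pow_iff_right (Fact.out : ℓ.Prime).one_lt).1 (hd ▸ hcard)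
  let k := AlgebraicClosure (ZMod ℓ)
  let m : Matrix (Fin d) (Fin d) (ZMod ℓ) →* Module.End k (Fin d → k) :=
    (Matrix.toLinAlgEquiv' (R := k) (n := Fin d)).toRingEquiv.toMonoidHom.comp
      ((algebraMap (ZMod ℓ) k).mapMatrix).toMonoidHom
  let ρ : L →* Module.End k (Fin d → k) := m.comp (f.comp act)
  have hm : Function.Injective m :=
    (Matrix.toLinAlgEquiv' (R := k) (n := Fin d)).injective.comp
      (Matrix.map_injective (algebraMap (ZMod ℓ) k).injective)
  have hker : ρ.ker = act.ker := by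
    ext x
    simp only [MonoidHom.mem_ker, ρ, MonoidHom.comp_apply]
    rw [← map_one m, hm.eq_iff, ← map_one f, hf.eq_iff]
  by_contra hne
  refine noSection (r := r) (by omega) d k (Fin d → k) L π ρ hπ ?_ (Module.finrank_fin_fun k)
    ⟨by rw [Module.finrank_fin_fun]; omega, fun _ => by rw [Module.finrank_fin_fun]; omega⟩
  rw [hker]
  exact (normal_cases π (by omega) hπ hmin _).resolve_left hne

variable {F : Type*} [Field F] [Fintype F] {r : ℕ} (C : Cover F r)

/-- The kernel of a minimal cover has order prime to three, five and seven. -/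
theorem ker_coprime (hr : 14 ≤ r) {ℓ : ℕ} [Fact ℓ.Prime] (hℓ2 : ℓ ≠ 2) (hℓ5 : ¬ ℓ ^ 5 ∣ 2903040)
    (hℓq : ¬ ℓ ∣ Fintype.card F) : ¬ ℓ ∣ Nat.card C.π.ker := by
  classical
  have hℓ : ℓ.Prime := Fact.out
  have hr9 : 9 ≤ r := by omega
  haveI := ker_nilpotent C.π C.hmin C.surj
  obtain ⟨S⟩ : Nonempty (Sylow ℓ C.π.ker) := inferInstance
  haveI hSn : (S : Subgroup C.π.ker).Normal := Sylow.normal_of_normalizerCondition
    Group.normalizerCondition_of_isNilpotent S
  haveI := Sylow.characteristic_of_normal S hSn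
  set Q := (S : Subgroup C.π.ker).map C.π.ker.subtype with hQ
  haveI hQn : Q.Normal := ConjAct.normal_of_characteristic_of_normal
  have hQp : IsPGroup ℓ Q := S.isPGroup'.map _
  -- the action on the Frattini quotient
  obtain ⟨hcomm, hpow⟩ := CfsgLib.PSolvable.commutator_le_frattini hQp
  let E := Q ⧸ frattini Q
  letI : CommGroup E :=
    { (inferInstance : Group E) with
      mul_comm := fun a b => by
        obtain ⟨a, rfl⟩ := QuotientGroup.mk_surjective a
        obtain ⟨b, rfl⟩ := QuotientGroup.mk_surjective b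
        rw [← QuotientGroup.mk_mul, ← QuotientGroup.mk_mul, QuotientGroup.eq]
        refine hcomm ?_
        rw [show (a * b)⁻¹ * (b * a) = ⁅b⁻¹, a⁻¹⁆ by rw [commutatorElement_def]; group]
        exact Subgroup.commutator_mem_commutator (Subgroup.mem_top _) (Subgroup.mem_top _) }
  have hE : ∀ e : E, e ^ ℓ = 1 := fun e => by
    obtain ⟨a, rfl⟩ := QuotientGroup.mk_surjective e
    exact (QuotientGroup.eq_one_iff (a ^ ℓ)).2 (hpow a)
  have hcard : Nat.card E ≤ ℓ ^ 11 :=
    E7Sylow.card_quotient_le hℓ2 hℓ5 hℓq hQp (C.emb.comp Q.subtype)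
      (C.inj.comp Q.subtype_injective) (fun x => C.mem _) hE (QuotientGroup.mk' (frattini Q))
      (QuotientGroup.mk'_surjective _)
  let φ : C.L →* MulAut Q := MulAut.conjNormal
  have hchar : ∀ g : C.L, (frattini Q).map (φ g).toMonoidHom = frattini Q := fun g =>
    Subgroup.characteristic_iff_map_eq.1 inferInstance (φ g)
  let act : C.L →* MulAut E :=
    { toFun := fun g => QuotientGroup.congr (frattini Q) (frattini Q) (φ g) (hchar g)
      map_one' := MulEquiv.ext fun e => by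
        obtain ⟨a, rfl⟩ := QuotientGroup.mk_surjective e
        show ((φ 1 a : Q) : E) = _
        rw [map_one]; rfl
      map_mul' := fun g h => MulEquiv.ext fun e => by
        obtain ⟨a, rfl⟩ := QuotientGroup.mk_surjective e
        show ((φ (g * h) a : Q) : E) = _
        rw [map_mul]; rfl }
  have htop := mulAut_trivial hr C.π C.surj C.hmin hE hcard act
  -- an element of order prime to the prime outside the kernel
  obtain ⟨g, hg, hgc⟩ : ∃ g : C.L, C.π g ≠ 1 ∧ (orderOf g).Coprime ℓ := by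
    haveI : Fact (Nat.Prime 2) := ⟨Nat.prime_two⟩
    haveI : Nontrivial (Fin r) := Fin.nontrivial_iff_two_le.2 (by omega)
    obtain ⟨t, ht⟩ := exists_prime_orderOf_dvd_card' (G := alternatingGroup (Fin r)) 2 (by
      have h := two_mul_nat_card_alternatingGroup (α := Fin r)
      rw [Nat.card_perm, Nat.card_fin] at h
      have h4 : 4 ∣ r.factorial := Nat.dvd_factorial (by norm_num) (by omega)
      omega)
    obtain ⟨x, rfl⟩ := C.surj t
    set o := orderOf x
    refine ⟨x ^ ℓ ^ o.factorization ℓ, fun h => ?_, ?_⟩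
    · rw [map_pow, ← orderOf_dvd_iff_pow_eq_one, ht] at h
      exact hℓ2 ((Nat.prime_dvd_prime_iff_eq Nat.prime_two hℓ).1 (Nat.prime_two.dvd_of_dvd_pow h)).symm
    · rw [orderOf_pow' _ (pow_ne_zero _ hℓ.ne_zero), Nat.gcd_eq_right (Nat.ordProj_dvd o ℓ)]
      exact (hℓ.coprime_iff_not_dvd.2 (Nat.not_dvd_ordCompl hℓ (orderOf_pos x).ne')).symm
  have hfix : φ g = 1 := by
    refine CfsgLib.Coprime.mulAut_eq_one_of_frattini _ ?_ fun q => ?_
    · obtain ⟨n, hn⟩ := IsPGroup.iff_card.1 (hQp.to_subgroup (frattini Q))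
      rw [hn]
      exact (hgc.coprime_dvd_left (orderOf_map_dvd φ g)).pow_right n
    · have h1 : act g (QuotientGroup.mk q) = QuotientGroup.mk q := by
        rw [show act g = 1 from (htop ▸ Subgroup.mem_top g : g ∈ act.ker)]; rfl
      exact QuotientGroup.eq.1 (h1.symm : (q : E) = ((φ g q : Q) : E))
  have hgC : g ∈ Subgroup.centralizer (Q : Set C.L) := Subgroup.mem_centralizer_iff.2 fun q hq => by
    have h1 : g * q * g⁻¹ = q := congrArg Subtype.val (show φ g ⟨q, hq⟩ = ⟨q, hq⟩ by rw [hfix]; rfl)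
    exact (mul_inv_eq_iff_eq_mul.1 h1).symm
  have hC : Subgroup.centralizer (Q : Set C.L) = ⊤ :=
    (normal_cases C.π hr9 C.surj C.hmin _).resolve_right fun h => hg (h hgC)
  -- the normal complement in the kernel
  have hSc : ∀ a : C.π.ker, a ∈ (S : Subgroup C.π.ker) → ∀ b : C.π.ker, a * b = b * a := fun a ha b =>
    Subtype.ext ((Subgroup.mem_centralizer_iff.1 (show b.1 ∈ Subgroup.centralizer (Q : Set C.L) by rw [hC]; exact Subgroup.mem_top _)) a.1 (show a.1 ∈ Q from ⟨a, ha, rfl⟩))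
  have hSN : Subgroup.normalizer ((S : Subgroup C.π.ker) : Set C.π.ker) ≤
      Subgroup.centralizer ((S : Subgroup C.π.ker) : Set C.π.ker) :=
    fun b _ => Subgroup.mem_centralizer_iff.2 fun a ha => hSc a ha b
  set τ := MonoidHom.transferSylow S hSN
  have hcompl := MonoidHom.ker_transferSylow_isComplement' S hSN
  have hRcard : ¬ ℓ ∣ Nat.card τ.ker := fun hd => S.not_dvd_index (by
    rwa [← hcompl.index_eq_card] at hd)
  have hmem : ∀ z : C.π.ker, z ∈ τ.ker ↔ ¬ ℓ ∣ orderOf z := fun z => by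
    constructor
    · intro hz hd
      exact hRcard (hd.trans (Subgroup.orderOf_dvd_natCard τ.ker hz))
    · intro hz
      obtain ⟨n, hn⟩ := IsPGroup.iff_orderOf.1 S.isPGroup' (τ z)
      have h1 : orderOf (τ z) ∣ orderOf z := orderOf_map_dvd τ z
      have h2 : n = 0 := by
        by_contra h0
        exact hz ((dvd_pow_self ℓ h0).trans (hn ▸ h1))
      rw [MonoidHom.mem_ker, ← orderOf_eq_one_iff, hn, h2, pow_zero]
  set R := τ.ker.map C.π.ker.subtype with hR
  haveI hRn : R.Normal := ⟨fun x hx g => by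
    obtain ⟨z, hz, rfl⟩ := hx
    refine ⟨⟨g * z.1 * g⁻¹, (MonoidHom.normal_ker C.π).conj_mem z.1 z.2 g⟩, (hmem _).2 ?_, rfl⟩
    rw [← Subgroup.orderOf_coe]
    show ¬ ℓ ∣ orderOf (g * z.1 * g⁻¹)
    rw [show g * z.1 * g⁻¹ = (MulAut.conj g).toMonoidHom z.1 from rfl,
      orderOf_injective (MulAut.conj g).toMonoidHom (MulAut.conj g).injective, Subgroup.orderOf_coe]
    exact (hmem z).1 hz⟩
  have hRK : R ≤ C.π.ker := Subgroup.map_subtype_le _
  let πb : C.L ⧸ R →* alternatingGroup (Fin r) := QuotientGroup.lift R C.π hRK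
  have hπb : Function.Surjective πb := fun a => by
    obtain ⟨x, rfl⟩ := C.surj a; exact ⟨x, rfl⟩
  have hdec : ∀ z : C.π.ker, ∃ a ∈ (S : Subgroup C.π.ker), a⁻¹ * z ∈ τ.ker := fun z => by
    obtain ⟨⟨⟨b, hb⟩, ⟨a, ha⟩⟩, hab⟩ := hcompl.2 z
    refine ⟨a, ha, ?_⟩
    rw [← show b * a = z from hab, hSc a ha b |>.symm, inv_mul_cancel_left]
    exact hb
  have hcentral : πb.ker ≤ Subgroup.center (C.L ⧸ R) := by
    intro v hv
    obtain ⟨x, rfl⟩ := QuotientGroup.mk_surjective v
    obtain ⟨a, ha, har⟩ := hdec ⟨x, hv⟩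
    have hx : (x : C.L ⧸ R) = ((a : C.L) : C.L ⧸ R) :=
      ((QuotientGroup.eq (a := (a : C.L)) (b := x)).2 (show (a : C.L)⁻¹ * x ∈ R from ⟨_, har, rfl⟩)).symm
    rw [hx, Subgroup.mem_center_iff]
    intro w
    obtain ⟨y, rfl⟩ := QuotientGroup.mk_surjective w
    rw [← QuotientGroup.mk_mul, ← QuotientGroup.mk_mul]
    exact congrArg QuotientGroup.mk
      (Subgroup.mem_centralizer_iff.1 (show y ∈ Subgroup.centralizer (Q : Set C.L) by rw [hC]; exact Subgroup.mem_top _) a.1 (show a.1 ∈ Q from ⟨a, ha, rfl⟩)).symm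
  have hperf : commutator (C.L ⧸ R) = ⊤ := by
    rw [commutator_def, ← Subgroup.map_top_of_surjective (QuotientGroup.mk' R)
      (QuotientGroup.mk'_surjective R), ← Subgroup.map_commutator, ← commutator_def,
      commutator_eq_top C.π hr9 C.surj C.hmin]
  have h2 : Nat.card πb.ker ≤ 2 := Cfsg.Agent.S0892.result r (by omega) (by omega) (by omega) πb.ker
    hcentral (by rw [hperf]; exact le_top) (QuotientGroup.quotientKerEquivOfSurjective πb hπb)
  intro hd
  obtain ⟨z, hz⟩ := exists_prime_orderOf_dvd_card' ℓ hd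
  obtain ⟨a, ha, har⟩ := hdec z
  have hzv : ((z : C.L) : C.L ⧸ R) ∈ πb.ker := z.2
  have hord : orderOf (⟨_, hzv⟩ : πb.ker) = ℓ := by
    refine orderOf_eq_prime ?_ fun h1 => ?_
    · refine Subtype.ext ?_
      rw [SubmonoidClass.coe_pow, ← QuotientGroup.mk_pow,
        show ((z : C.L) ^ ℓ) = 1 by rw [← SubmonoidClass.coe_pow, ← hz, pow_orderOf_eq_one]; rfl]
      rfl
    · obtain ⟨w, hw, hwe⟩ := (QuotientGroup.eq_one_iff _).1 (congrArg Subtype.val h1)
      exact (hmem z).1 (Subtype.ext (show (w : C.L) = z from hwe) ▸ hw) (hz ▸ dvd_rfl)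
  have h3 := orderOf_le_card (G := πb.ker) (x := ⟨_, hzv⟩)
  rw [hord] at h3
  have := hℓ.two_le
  omega

end CfsgLib.Classical.AltSection.E7Lifts
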