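import Cfsg.Agent.Lib.Classical.AltSection.E7Weights
import Cfsg.Agent.Lib.Chev.StMinE7
import Cfsg.Agent.Lib.Chev.CertE7
import Cfsg.Agent.Lib.Chev.GTorus.Weyl
import Mathlib.LinearAlgebra.Matrix.Charpoly.Coeff
import Mathlib.RingTheory.Nilpotent.Basic

/-!
The action of the Weyl group on the fifty-six weights of type E7: the number of orbits of an element of
order five or seven, and the space fixed by a monomial matrix along such an element.
-/

set_option autoImplicit false
set_option maxRecDepth 100000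
set_option maxHeartbeats 1000000
set_option linter.unusedSectionVars false

namespace CfsgLib.Classical.AltSection.E7Monomial

open Matrix CfsgLib.Chev CfsgLib.Chev.GTorus
open E7Weights (wt val)

/-- The seven nodes. -/
noncomputable def e7 : Fin 7 ≃ Fin tabE7.l := finCongr (by rfl)

/-- The matrix of a simple reflection on seven coordinates. -/
noncomputable def refl7 (i : ℕ) : Matrix (Fin 7) (Fin 7) ℤ := (reflMat tabE7 i).submatrix e7 e7

/-- The permutation of the weights by a simple reflection. -/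
def wperm (i : ℕ) (a : Fin 56) : Fin 56 := (minE7.rowOf i a).1

theorem wperm_ok : ∀ i : Fin 7, ((List.finRange 56).map (wperm i)).Nodup ∧
    ∀ (a : Fin 56) (j : Fin 7), (refl7 i *ᵥ wt a) j = wt (wperm i a) j := by
  decide +kernel

/-- The permutation of the weights by a simple reflection. -/
noncomputable def wpE (i : ℕ) : Equiv.Perm (Fin 56) :=
  if h : i < 7 then Equiv.ofBijective (wperm i) (Finite.injective_iff_bijective.1 fun a b e =>
    List.inj_on_of_nodup_map (wperm_ok ⟨i, h⟩).1 (List.mem_finRange a) (List.mem_finRange b) e)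
  else 1

theorem wpE_apply {i : ℕ} (hi : i < 7) (a : Fin 56) : wpE i a = wperm i a := by
  rw [wpE, dif_pos hi]; rfl

/-- The doubled form. -/
def qM : Matrix (Fin 7) (Fin 7) ℤ := fun i j =>
  (([[4, 4, 6, 8, 6, 4, 2], [4, 7, 8, 12, 9, 6, 3], [6, 8, 12, 16, 12, 8, 4],
    [8, 12, 16, 24, 18, 12, 6], [6, 9, 12, 18, 15, 10, 5], [4, 6, 8, 12, 10, 8, 4],
    [2, 3, 4, 6, 5, 4, 3]] : List (List ℤ)).getD i.val []).getD j.val 0

/-- The Cartan matrix. -/
def cM : Matrix (Fin 7) (Fin 7) ℤ := fun i j =>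
  (([[2, 0, -1, 0, 0, 0, 0], [0, 2, 0, -1, 0, 0, 0], [-1, 0, 2, -1, 0, 0, 0],
    [0, -1, -1, 2, -1, 0, 0], [0, 0, 0, -1, 2, -1, 0], [0, 0, 0, 0, -1, 2, -1],
    [0, 0, 0, 0, 0, -1, 2]] : List (List ℤ)).getD i.val []).getD j.val 0

theorem qM_cM : qM * cM = (2 : ℤ) • 1 := by decide +kernel

theorem cM_qM : cM * qM = (2 : ℤ) • 1 := by decide +kernel

theorem qM_symm : qMᵀ = qM := by decide +kernel

theorem cM_symm : cMᵀ = cM := by decide +kernel

theorem sum_wt_mul : ∀ i j : Fin 7, ∑ a, wt a i * wt a j = 12 * cM i j := by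
  decide +kernel

theorem refl7_qM : ∀ i : Fin 7, (refl7 i)ᵀ * qM * refl7 i = qM := by
  decide +kernel

/-- The doubled product of two weights. -/
def G2 (a b : Fin 56) : ℤ := wt a ⬝ᵥ (qM *ᵥ wt b)

theorem G2_values : ∀ a b : Fin 56, (a = b ∧ G2 a b = 3) ∨ (a ≠ b ∧ (G2 a b = 1 ∨ G2 a b = -1 ∨
    (G2 a b = -3 ∧ ∀ i, wt b i = -wt a i))) := by
  decide +kernel

theorem G2_self (a : Fin 56) : G2 a a = 3 := by
  rcases G2_values a a with h | h
  · exact h.2
  · exact absurd rfl h.1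

theorem G2_le (a b : Fin 56) : G2 a b ≤ 3 := by
  rcases G2_values a b with h | ⟨-, h | h | h⟩ <;> omega

theorem G2_lt {a b : Fin 56} (h : a ≠ b) : G2 a b ≤ 1 := by
  rcases G2_values a b with ⟨e, -⟩ | ⟨-, h' | h' | h'⟩
  · exact absurd e h
  all_goals omega

theorem wt_injective : Function.Injective wt := fun a b e => by
  by_contra h
  have h1 := G2_lt h
  rw [G2, ← e, ← G2] at h1
  rw [G2_self] at h1
  omega

theorem G2_comm (a b : Fin 56) : G2 a b = G2 b a := by
  rw [G2, G2, dotProduct_mulVec, ← Matrix.mulVec_transpose, qM_symm, dotProduct_comm]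

/-- A permutation of the weights given by an isometry. -/
structure Weyl (τ : Equiv.Perm (Fin 56)) (N : Matrix (Fin 7) (Fin 7) ℤ) : Prop where
  act : ∀ a, N *ᵥ wt a = wt (τ a)
  iso : Nᵀ * qM * N = qM

theorem weyl_one : Weyl 1 1 := ⟨fun a => by simp, by simp⟩

theorem Weyl.mul {τ τ' : Equiv.Perm (Fin 56)} {N N' : Matrix (Fin 7) (Fin 7) ℤ} (h : Weyl τ N)
    (h' : Weyl τ' N') : Weyl (τ * τ') (N * N') :=
  ⟨fun a => by rw [← Matrix.mulVec_mulVec, h'.act, h.act]; rfl,
    by rw [Matrix.transpose_mul, show N'ᵀ * Nᵀ * qM * (N * N') = N'ᵀ * (Nᵀ * qM * N) * N' by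
      simp only [Matrix.mul_assoc], h.iso, h'.iso]⟩

theorem Weyl.pow {τ : Equiv.Perm (Fin 56)} {N : Matrix (Fin 7) (Fin 7) ℤ} (h : Weyl τ N) :
    ∀ k : ℕ, Weyl (τ ^ k) (N ^ k) := by
  intro k
  induction k with
  | zero => simpa using weyl_one
  | succ k ih => rw [pow_succ, pow_succ]; exact ih.mul h

/-- The permutation of a word. -/
noncomputable def sig (w : List ℕ) : Equiv.Perm (Fin 56) := (w.map wpE).prod

/-- The matrix of a word. -/
noncomputable def mW (w : List ℕ) : Matrix (Fin 7) (Fin 7) ℤ := (w.map refl7).prod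

theorem weyl_word : ∀ w : List ℕ, (∀ i ∈ w, i < 7) → Weyl (sig w) (mW w) := by
  intro w
  induction w with
  | nil => intro _; exact weyl_one
  | cons i w ih =>
    intro hw
    have hi := hw i List.mem_cons_self
    have h1 : Weyl (wpE i) (refl7 i) :=
      ⟨fun a => funext fun j => by rw [wpE_apply hi]; exact (wperm_ok ⟨i, hi⟩).2 a j,
        refl7_qM ⟨i, hi⟩⟩
    simpa [sig, mW] using h1.mul (ih fun k hk => hw k (List.mem_cons_of_mem _ hk))

theorem sum_outer (M : Matrix (Fin 7) (Fin 7) ℤ) :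
    ∑ a, wt a ⬝ᵥ (M *ᵥ wt a) = 12 * (M * cM).trace := by
  calc ∑ a, wt a ⬝ᵥ (M *ᵥ wt a) = ∑ a, ∑ i, ∑ j, M i j * (wt a i * wt a j) := by
        refine Finset.sum_congr rfl fun a _ => ?_
        simp only [dotProduct, Matrix.mulVec, Finset.mul_sum]
        exact Finset.sum_congr rfl fun i _ => Finset.sum_congr rfl fun j _ => by ring
    _ = ∑ i, ∑ j, M i j * (12 * cM i j) := by
        rw [Finset.sum_comm]
        refine Finset.sum_congr rfl fun i _ => ?_
        rw [Finset.sum_comm]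
        exact Finset.sum_congr rfl fun j _ => by rw [← Finset.mul_sum, sum_wt_mul]
    _ = 12 * (M * cM).trace := by
        simp only [Matrix.trace, Matrix.diag, Matrix.mul_apply, Finset.mul_sum]
        refine Finset.sum_congr rfl fun i _ => Finset.sum_congr rfl fun j _ => ?_
        rw [show cM j i = cM i j from congrFun (congrFun cM_symm i) j]
        ring

/-- The products along a permutation add up to the trace. -/
theorem sum_G2 {τ : Equiv.Perm (Fin 56)} {N : Matrix (Fin 7) (Fin 7) ℤ} (h : Weyl τ N) :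
    ∑ a, G2 a (τ a) = 24 * N.trace := by
  have e : ∀ a, G2 a (τ a) = wt a ⬝ᵥ ((qM * N) *ᵥ wt a) := fun a => by
    rw [G2, ← h.act, Matrix.mulVec_mulVec]
  rw [Finset.sum_congr rfl fun a _ => e a, sum_outer, Matrix.trace_mul_comm, ← Matrix.mul_assoc, cM_qM,
    Matrix.smul_mul, Matrix.one_mul, Matrix.trace_smul, smul_eq_mul]
  ring

/-- The matrix is determined by the permutation. -/
theorem Weyl.unique {τ : Equiv.Perm (Fin 56)} {N N' : Matrix (Fin 7) (Fin 7) ℤ} (h : Weyl τ N)
    (h' : Weyl τ N') : N = N' := by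
  have e : N * ((12 : ℤ) • cM) = N' * ((12 : ℤ) • cM) := by
    ext i j
    simp only [Matrix.mul_apply, Matrix.smul_apply, smul_eq_mul, ← sum_wt_mul, Finset.mul_sum]
    rw [Finset.sum_comm, Finset.sum_comm (f := fun k a => N' i k * (wt a k * wt a j))]
    refine Finset.sum_congr rfl fun a _ => ?_
    have ha := congrFun ((h.act a).trans (h'.act a).symm) i
    simp only [Matrix.mulVec, dotProduct] at ha
    simp only [← mul_assoc, ← Finset.sum_mul, ha]
  have e2 := congrArg (fun X => X * qM) e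
  simp only [Matrix.mul_assoc, Matrix.smul_mul, cM_qM, Matrix.mul_smul, Matrix.mul_one, smul_smul] at e2
  exact smul_right_injective _ (by norm_num) e2

theorem Weyl.eq_one {τ : Equiv.Perm (Fin 56)} (h : Weyl τ 1) : τ = 1 :=
  Equiv.ext fun a => wt_injective (by rw [← h.act, Matrix.one_mulVec]; rfl)

/-- The doubled form is positive semidefinite. -/
theorem qM_nonneg (v : Fin 7 → ℤ) : 0 ≤ v ⬝ᵥ (qM *ᵥ v) := by
  have h : ∑ a, wt a ⬝ᵥ (vecMulVec (qM *ᵥ v) (qM *ᵥ v) *ᵥ wt a) = 24 * (v ⬝ᵥ (qM *ᵥ v)) := by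
    rw [sum_outer, Matrix.vecMulVec_mul, Matrix.trace_vecMulVec, Matrix.vecMul_mulVec,
      ← Matrix.mulVec_transpose, Matrix.transpose_mul, Matrix.transpose_transpose, cM_symm, cM_qM,
      Matrix.smul_mulVec, Matrix.one_mulVec, dotProduct_smul, dotProduct_comm, smul_eq_mul]
    ring
  have h0 : (0 : ℤ) ≤ ∑ a, wt a ⬝ᵥ (vecMulVec (qM *ᵥ v) (qM *ᵥ v) *ᵥ wt a) := by
    refine Finset.sum_nonneg fun a _ => ?_
    rw [Matrix.vecMulVec_mulVec, op_smul_eq_smul, dotProduct_smul, smul_eq_mul,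
      dotProduct_comm (wt a)]
    exact mul_self_nonneg _
  omega

section order

variable {τ : Equiv.Perm (Fin 56)} {N : Matrix (Fin 7) (Fin 7) ℤ} {ℓ : ℕ} [Fact ℓ.Prime]

theorem trace_lt (h : Weyl τ N) (hne : τ ≠ 1) : N.trace < 7 := by
  obtain ⟨a, ha⟩ : ∃ a, τ a ≠ a := by
    by_contra hc
    push Not at hc
    exact hne (Equiv.ext hc)
  have h1 : ∑ b, G2 b (τ b) < ∑ _b : Fin 56, (3 : ℤ) :=
    Finset.sum_lt_sum (fun b _ => G2_le _ _) ⟨a, Finset.mem_univ a, by
      have := G2_lt (Ne.symm ha); omega⟩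
  rw [sum_G2 h] at h1
  simp at h1
  omega

/-- The trace is congruent to seven. -/
theorem trace_dvd (h : Weyl τ N) (hτ : τ ^ ℓ = 1) : (ℓ : ℤ) ∣ N.trace - 7 := by
  have hN : N ^ ℓ = 1 := (h.pow ℓ).unique (hτ.symm ▸ weyl_one)
  set B : Matrix (Fin 7) (Fin 7) (ZMod ℓ) := (Int.castRingHom (ZMod ℓ)).mapMatrix N
  have hB : IsNilpotent (B - 1) := by
    refine ⟨ℓ, ?_⟩
    rw [sub_pow_char_of_commute (p := ℓ) (Commute.one_right B), one_pow, ← map_pow, hN, map_one, sub_self]
  have htr := (Matrix.isNilpotent_trace_of_isNilpotent hB).eq_zero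
  rw [← ZMod.intCast_zmod_eq_zero_iff_dvd, Int.cast_sub]
  rw [Matrix.trace_sub, Matrix.trace_one, Fintype.card_fin] at htr
  convert htr using 2
  · simp [B, Matrix.trace, Matrix.diag]
  · norm_num

theorem trace_le (h : Weyl τ N) (hτ : τ ^ ℓ = 1) (hne : τ ≠ 1) : N.trace ≤ 7 - (ℓ : ℤ) := by
  obtain ⟨m, hm⟩ := trace_dvd h hτ
  have := trace_lt h hne
  have hm0 : m ≤ -1 := by
    by_contra hc
    push Not at hc
    have : (0 : ℤ) ≤ ℓ * m := mul_nonneg (by omega) (by omega)
    omega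
  have : (ℓ : ℤ) * m ≤ ℓ * (-1) := mul_le_mul_of_nonneg_left hm0 (by omega)
  omega

theorem eq_self_of_pow {k : ℕ} (hτ : τ ^ ℓ = 1) {a : Fin 56} (hk : ¬ ℓ ∣ k) (e : (τ ^ k) a = a) :
    τ a = a := by
  obtain ⟨m, -, hm⟩ := Nat.exists_mul_mod_eq_one_of_coprime
    (((Fact.out : ℓ.Prime).coprime_iff_not_dvd.2 hk).symm) (Fact.out : ℓ.Prime).one_lt
  have h1 : (τ ^ (k * m)) a = τ a := by
    rw [← Nat.div_add_mod (k * m) ℓ, pow_add, pow_mul, hτ, one_pow, one_mul, hm, pow_one]
  have h2 : ∀ n, ((τ ^ k) ^ n) a = a := by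
    intro n
    induction n with
    | zero => rfl
    | succ n ih => rw [pow_succ, Equiv.Perm.mul_apply, e, ih]
  rw [pow_mul, h2] at h1
  exact h1.symm

theorem pow_ne {k : ℕ} (hτ : τ ^ ℓ = 1) (hne : τ ≠ 1) (hk : ¬ ℓ ∣ k) : τ ^ k ≠ 1 := fun e =>
  hne (Equiv.ext fun _ => eq_self_of_pow hτ hk (by rw [e]; rfl))

/-- Along an odd orbit no product is minus three. -/
theorem G2_orbit (h : Weyl τ N) (hτ : τ ^ ℓ = 1) (hodd : ℓ ≠ 2) {a : Fin 56} (ha : τ a ≠ a) {k : ℕ}
    (hk : ¬ ℓ ∣ k) : G2 a ((τ ^ k) a) = 1 ∨ G2 a ((τ ^ k) a) = -1 := by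
  rcases G2_values a ((τ ^ k) a) with ⟨e, -⟩ | ⟨-, h' | h' | ⟨-, h'⟩⟩
  · exact absurd (eq_self_of_pow hτ hk e.symm) ha
  · exact Or.inl h'
  · exact Or.inr h'
  · refine absurd (eq_self_of_pow hτ (k := 2 * k) ?_ (wt_injective ?_)) ha
    · intro hd
      rcases (Fact.out : ℓ.Prime).dvd_mul.1 hd with hd | hd
      · exact hodd ((Nat.prime_dvd_prime_iff_eq Fact.out Nat.prime_two).1 hd)
      · exact hk hd
    · have e : wt ((τ ^ k) a) = -wt a := funext h'
      rw [two_mul, pow_add, Equiv.Perm.mul_apply, ← (h.pow k).act, e, Matrix.mulVec_neg, (h.pow k).act,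
        e, neg_neg]

theorem G2_shift (h : Weyl τ N) (a : Fin 56) (i d : ℕ) :
    G2 ((τ ^ i) a) ((τ ^ (i + d)) a) = G2 a ((τ ^ d) a) := by
  rw [pow_add, Equiv.Perm.mul_apply, G2, ← (h.pow i).act, ← (h.pow i).act, Matrix.mulVec_mulVec,
    dotProduct_mulVec, Matrix.vecMul_mulVec, ← Matrix.mul_assoc, (h.pow i).iso, ← dotProduct_mulVec]
  rfl

theorem orbit_nonneg (s : List (Fin 56)) : 0 ≤ (s.map fun x => (s.map (G2 x)).sum).sum := by
  have h := qM_nonneg (s.map wt).sum
  have e1 : ∀ u : Fin 7 → ℤ, (s.map wt).sum ⬝ᵥ u = (s.map fun x => wt x ⬝ᵥ u).sum := fun u => by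
    clear h
    induction s with
    | nil => simp
    | cons y ys ih => simp [add_dotProduct, ih]
  have e2 : ∀ x, wt x ⬝ᵥ (qM *ᵥ (s.map wt).sum) = (s.map (G2 x)).sum := fun x => by
    clear h e1
    induction s with
    | nil => simp
    | cons y ys ih => simp [Matrix.mulVec_add, dotProduct_add, ih, G2]
  rw [e1] at h
  simpa [e2] using h

/-- The fixed weights. -/
def fixedSet (τ : Equiv.Perm (Fin 56)) : Finset (Fin 56) := Finset.univ.filter fun a => τ a = a

/-- An element of order five fixes at most sixteen weights. -/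
theorem fixed_five [Fact (Nat.Prime 5)] (h : Weyl τ N) (hτ : τ ^ 5 = 1) (hne : τ ≠ 1) :
    (fixedSet τ).card ≤ 16 := by
  have t1 := trace_le (ℓ := 5) h hτ hne
  have t2 := trace_le (ℓ := 5) (h.pow 2) (by rw [← pow_mul, mul_comm, pow_mul, hτ, one_pow])
    (pow_ne (ℓ := 5) hτ hne (by norm_num))
  have hs : ∑ a, (G2 a (τ a) + G2 a ((τ ^ 2) a)) ≤ 96 := by
    rw [Finset.sum_add_distrib, sum_G2 h, sum_G2 (h.pow 2)]
    omega
  have key : ∀ a, (if τ a = a then (6 : ℤ) else 0) ≤ G2 a (τ a) + G2 a ((τ ^ 2) a) := fun a => by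
    split_ifs with ha
    · rw [pow_two, Equiv.Perm.mul_apply, ha, ha, G2_self]; norm_num
    have o1 := G2_orbit (ℓ := 5) h hτ (by norm_num) ha (k := 1) (by norm_num)
    have o2 := G2_orbit (ℓ := 5) h hτ (by norm_num) ha (k := 2) (by norm_num)
    rw [pow_one] at o1
    have hpsd := orbit_nonneg ((List.range 5).map fun i => (τ ^ i) a)
    have per : ∀ i d, G2 ((τ ^ i) a) ((τ ^ (i + d)) a) = G2 a ((τ ^ d) a) := G2_shift h a
    have e5 : ∀ m, (τ ^ (m + 5)) = τ ^ m := fun m => by rw [pow_add, hτ, mul_one]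
    have q := fun i j => G2_comm ((τ ^ i) a) ((τ ^ j) a)
    have a01 := per 0 1; have a02 := per 0 2; have a12 := per 1 1; have a13 := per 1 2
    have a23 := per 2 1; have a24 := per 2 2; have a34 := per 3 1; have a35 := per 3 2
    have a45 := per 4 1; have a46 := per 4 2
    have s0 := fun i => G2_self ((τ ^ i) a)
    norm_num only at a01 a02 a12 a13 a23 a24 a34 a35 a45 a46
    rw [e5 0] at a35 a45
    rw [e5 1] at a46
    simp only [List.range_succ, List.range_zero, List.nil_append, List.cons_append, List.map_cons,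
      List.map_nil, List.sum_cons, List.sum_nil, s0] at hpsd
    rw [q 1 0, q 2 0, q 2 1, q 3 0, q 3 1, q 3 2, q 4 0, q 4 1, q 4 2, q 4 3] at hpsd
    rw [q 3 0] at a35
    rw [q 4 0] at a45
    rw [q 4 1] at a46
    rw [pow_one] at a01 a12 a23 a34 a45
    simp only [pow_one] at hpsd a02 a13 a24 a35 a46
    omega
  have h6 := (Finset.sum_le_sum fun a (_ : a ∈ Finset.univ) => key a).trans hs
  rw [Finset.sum_ite, Finset.sum_const_zero, add_zero, Finset.sum_const, nsmul_eq_mul] at h6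
  rw [fixedSet]
  omega

/-- An element of order seven fixes at most five weights. -/
theorem fixed_seven [Fact (Nat.Prime 7)] (h : Weyl τ N) (hτ : τ ^ 7 = 1) (hne : τ ≠ 1) :
    (fixedSet τ).card ≤ 5 := by
  have hp : ∀ k : ℕ, (τ ^ k) ^ 7 = 1 := fun k => by rw [← pow_mul, mul_comm, pow_mul, hτ, one_pow]
  have t1 := trace_le (ℓ := 7) h hτ hne
  have t2 := trace_le (ℓ := 7) (h.pow 2) (hp 2) (pow_ne (ℓ := 7) hτ hne (by norm_num))
  have t3 := trace_le (ℓ := 7) (h.pow 3) (hp 3) (pow_ne (ℓ := 7) hτ hne (by norm_num))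
  have hs : ∑ a, (G2 a (τ a) + G2 a ((τ ^ 2) a) + G2 a ((τ ^ 3) a) + 1) ≤ 56 := by
    rw [Finset.sum_add_distrib, Finset.sum_add_distrib, Finset.sum_add_distrib, sum_G2 h,
      sum_G2 (h.pow 2), sum_G2 (h.pow 3)]
    simp only [Finset.sum_const, Finset.card_univ, Fintype.card_fin, nsmul_eq_mul]
    omega
  have key : ∀ a, (if τ a = a then (10 : ℤ) else 0) ≤
      G2 a (τ a) + G2 a ((τ ^ 2) a) + G2 a ((τ ^ 3) a) + 1 := fun a => by
    split_ifs with ha
    · simp only [pow_succ, pow_zero, one_mul, Equiv.Perm.mul_apply, ha, G2_self]; norm_num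
    have o1 := G2_orbit (ℓ := 7) h hτ (by norm_num) ha (k := 1) (by norm_num)
    have o2 := G2_orbit (ℓ := 7) h hτ (by norm_num) ha (k := 2) (by norm_num)
    have o3 := G2_orbit (ℓ := 7) h hτ (by norm_num) ha (k := 3) (by norm_num)
    rw [pow_one] at o1
    have hpsd := orbit_nonneg ((List.range 7).map fun i => (τ ^ i) a)
    have per : ∀ i d, G2 ((τ ^ i) a) ((τ ^ (i + d)) a) = G2 a ((τ ^ d) a) := G2_shift h a
    have e7 : ∀ m, (τ ^ (m + 7)) = τ ^ m := fun m => by rw [pow_add, hτ, mul_one]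
    have q := fun i j => G2_comm ((τ ^ i) a) ((τ ^ j) a)
    have a01 := per 0 1; have a12 := per 1 1; have a23 := per 2 1; have a34 := per 3 1
    have a45 := per 4 1; have a56 := per 5 1; have a60 := per 6 1
    have a02 := per 0 2; have a13 := per 1 2; have a24 := per 2 2; have a35 := per 3 2
    have a46 := per 4 2; have a50 := per 5 2; have a61 := per 6 2
    have a03 := per 0 3; have a14 := per 1 3; have a25 := per 2 3; have a36 := per 3 3
    have a40 := per 4 3; have a51 := per 5 3; have a62 := per 6 3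
    have s0 := fun i => G2_self ((τ ^ i) a)
    norm_num only at a01 a12 a23 a34 a45 a56 a60 a02 a13 a24 a35 a46 a50 a61 a03 a14 a25 a36 a40 a51 a62
    rw [e7 0, q 6 0] at a60
    rw [e7 0, q 5 0] at a50
    rw [e7 1, q 6 1] at a61
    rw [e7 0, q 4 0] at a40
    rw [e7 1, q 5 1] at a51
    rw [e7 2, q 6 2] at a62
    simp only [List.range_succ, List.range_zero, List.nil_append, List.cons_append, List.map_cons,
      List.map_nil, List.sum_cons, List.sum_nil, s0] at hpsd
    rw [q 1 0, q 2 0, q 2 1, q 3 0, q 3 1, q 3 2, q 4 0, q 4 1, q 4 2, q 4 3, q 5 0, q 5 1, q 5 2, q 5 3,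
      q 5 4, q 6 0, q 6 1, q 6 2, q 6 3, q 6 4, q 6 5] at hpsd
    simp only [pow_one] at hpsd a01 a12 a23 a34 a45 a56 a60 a02 a13 a24 a35 a46 a50 a61 a03 a14 a25 a36 a40 a51 a62
    omega
  have h9 := (Finset.sum_le_sum fun a (_ : a ∈ Finset.univ) => key a).trans hs
  rw [Finset.sum_ite, Finset.sum_const_zero, add_zero, Finset.sum_const, nsmul_eq_mul] at h9
  rw [fixedSet]
  omega

/-! ### Monomial matrices -/

variable {k : Type*} [Field k]

/-- A matrix carrying the line of each coordinate to that of its image. -/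
def MonAlong (u : Matrix (Fin 56) (Fin 56) k) (τ : Equiv.Perm (Fin 56)) : Prop :=
  ∀ a b, b ≠ τ a → u b a = 0

theorem MonAlong.mul {u v : Matrix (Fin 56) (Fin 56) k} {τ τ' : Equiv.Perm (Fin 56)}
    (hu : MonAlong u τ) (hv : MonAlong v τ') : MonAlong (u * v) (τ * τ') := fun a b hb => by
  rw [Matrix.mul_apply]
  refine Finset.sum_eq_zero fun c _ => ?_
  by_cases hc : c = τ' a
  · rw [hu c b (by subst hc; exact hb), zero_mul]
  · rw [hv a c hc, mul_zero]

theorem monAlong_one : MonAlong (1 : Matrix (Fin 56) (Fin 56) k) 1 := fun _ _ hb =>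
  Matrix.one_apply_ne hb

theorem monAlong_diagonal (d : Fin 56 → k) : MonAlong (Matrix.diagonal d) 1 := fun _ _ hb =>
  Matrix.diagonal_apply_ne _ hb

theorem MonAlong.pow {u : Matrix (Fin 56) (Fin 56) k} (hu : MonAlong u τ) :
    ∀ n : ℕ, MonAlong (u ^ n) (τ ^ n) := by
  intro n
  induction n with
  | zero => simpa using monAlong_one
  | succ n ih => rw [pow_succ, pow_succ]; exact ih.mul hu

theorem MonAlong.unique {u : GL (Fin 56) k} {τ' : Equiv.Perm (Fin 56)}
    (h : MonAlong (u : Matrix (Fin 56) (Fin 56) k) τ) (h' : MonAlong (u : Matrix (Fin 56) (Fin 56) k) τ') :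
    τ = τ' := Equiv.ext fun a => by
  by_contra hne
  have hz : ∀ b, (u : Matrix (Fin 56) (Fin 56) k) b a = 0 := fun b => by
    by_cases hb : b = τ a
    · exact h' a b (hb ▸ hne)
    · exact h a b hb
  have := congrFun (congrFun (Units.inv_mul u) a) a
  rw [Matrix.mul_apply, Matrix.one_apply_eq, Finset.sum_eq_zero fun b _ => by rw [hz b, mul_zero]] at this
  exact zero_ne_one this

/-- The least elements of the orbits. -/
noncomputable def reps (τ : Equiv.Perm (Fin 56)) (ℓ : ℕ) : Finset (Fin 56) :=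
  Finset.univ.filter fun a => ∀ n < ℓ, a ≤ (τ ^ n) a

theorem card_reps (hτ : τ ^ ℓ = 1) :
    ℓ * (reps τ ℓ).card ≤ (ℓ - 1) * (fixedSet τ).card + 56 := by
  have hℓ : ℓ.Prime := Fact.out
  set R := (reps τ ℓ).filter fun a => τ a ≠ a with hR
  have h1 : (reps τ ℓ).card ≤ R.card + (fixedSet τ).card := by
    refine (Finset.card_le_card fun a ha => ?_).trans (Finset.card_union_le R (fixedSet τ))
    by_cases h : τ a = a
    · exact Finset.mem_union_right _ (by simp [fixedSet, h])
    · exact Finset.mem_union_left _ (Finset.mem_filter.2 ⟨ha, h⟩)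
  have hper : ∀ n, τ ^ n = τ ^ (n % ℓ) := fun n => by
    conv_lhs => rw [← Nat.div_add_mod n ℓ, pow_add, pow_mul, hτ, one_pow, one_mul]
  have h2 : (R ×ˢ Finset.range ℓ).card ≤ (Finset.univ \ fixedSet τ).card := by
    refine Finset.card_le_card_of_injOn (fun q => (τ ^ q.2) q.1) ?_ ?_
    · intro q hq
      simp only [Finset.mem_coe, Finset.mem_product, hR, Finset.mem_filter] at hq
      simp only [Finset.mem_coe, Finset.mem_sdiff, Finset.mem_univ, true_and, fixedSet, Finset.mem_filter]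
      intro e
      refine hq.1.2 ((τ ^ q.2).injective ?_)
      rw [← Equiv.Perm.mul_apply, ← pow_succ, pow_succ', Equiv.Perm.mul_apply, e]
    · rintro ⟨x, i⟩ hx ⟨y, j⟩ hy e
      simp only [Finset.mem_coe, Finset.mem_product, hR, Finset.mem_filter, Finset.mem_range, reps,
        Finset.mem_univ, true_and] at hx hy
      simp only at e
      have ey : y = (τ ^ ((i + (ℓ - j)) % ℓ)) x := by
        rw [← hper, add_comm, pow_add, Equiv.Perm.mul_apply, e, ← Equiv.Perm.mul_apply, ← pow_add,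
          Nat.sub_add_cancel hy.2.le, hτ]
        rfl
      have ex : x = (τ ^ ((j + (ℓ - i)) % ℓ)) y := by
        rw [← hper, add_comm, pow_add, Equiv.Perm.mul_apply, ← e, ← Equiv.Perm.mul_apply, ← pow_add,
          Nat.sub_add_cancel hx.2.le, hτ]
        rfl
      have hxy : x = y := le_antisymm (ey ▸ hx.1.1 _ (Nat.mod_lt _ hℓ.pos))
        (ex ▸ hy.1.1 _ (Nat.mod_lt _ hℓ.pos))
      subst hxy
      by_contra hne
      have hij : i ≠ j := fun h => hne (by rw [h])
      refine hx.1.2 (eq_self_of_pow hτ ?_ ey.symm)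
      intro hd
      have h0 : (i + (ℓ - j)) % ℓ = 0 := Nat.eq_zero_of_dvd_of_lt hd (Nat.mod_lt _ hℓ.pos)
      obtain ⟨m, hm⟩ := Nat.dvd_of_mod_eq_zero h0
      rcases Nat.lt_or_ge m 1 with hm1 | hm1
      · have : m = 0 := by omega
        subst this; omega
      rcases Nat.lt_or_ge m 2 with hm2 | hm2
      · have : m = 1 := by omega
        subst this; omega
      · have : ℓ * 2 ≤ ℓ * m := Nat.mul_le_mul_left _ hm2
        omega
  rw [Finset.card_product, Finset.card_range, Finset.card_sdiff, Finset.inter_univ, Finset.card_univ,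
    Fintype.card_fin, mul_comm] at h2
  have h3 := Finset.card_le_univ (fixedSet τ)
  rw [Fintype.card_fin] at h3
  have : ℓ * (reps τ ℓ).card ≤ ℓ * R.card + ℓ * (fixedSet τ).card := by
    rw [← mul_add]; exact Nat.mul_le_mul_left _ h1
  have : (ℓ - 1) * (fixedSet τ).card + (fixedSet τ).card = ℓ * (fixedSet τ).card := by
    rw [← Nat.succ_mul, Nat.succ_eq_add_one, Nat.sub_add_cancel hℓ.pos]
  omega

/-- The fixed space of a monomial matrix is no larger than the number of orbits. -/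
theorem finrank_fixed {u : GL (Fin 56) k} (hu : MonAlong (u : Matrix (Fin 56) (Fin 56) k) τ)
    (hτ : τ ^ ℓ = 1) :
    Module.finrank k (LinearMap.ker (Matrix.toLin' (u : Matrix (Fin 56) (Fin 56) k) - 1)) ≤
      (reps τ ℓ).card := by
  have hℓ : ℓ.Prime := Fact.out
  set W := LinearMap.ker (Matrix.toLin' (u : Matrix (Fin 56) (Fin 56) k) - 1)
  let res : W →ₗ[k] (reps τ ℓ → k) :=
    LinearMap.pi fun a => (LinearMap.proj (R := k) (φ := fun _ : Fin 56 => k) a.1).comp W.subtype
  have hinj : Function.Injective res := by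
    rw [injective_iff_map_eq_zero]
    rintro ⟨v, hv⟩ h0
    have hv' : ∀ a, v (τ a) = (u : Matrix (Fin 56) (Fin 56) k) (τ a) a * v a := fun a => by
      have h1 : Matrix.toLin' (u : Matrix (Fin 56) (Fin 56) k) v = v := by
        rw [← sub_eq_zero]; exact hv
      conv_lhs => rw [← congrFun h1 (τ a), Matrix.toLin'_apply, Matrix.mulVec, dotProduct]
      rw [Finset.sum_eq_single a (fun b _ hb => by rw [hu b _ (fun e => hb (τ.injective e).symm), zero_mul])
        (fun h => absurd (Finset.mem_univ a) h)]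
    refine Subtype.ext (funext fun b => ?_)
    obtain ⟨a, ha, hmin⟩ := Finset.exists_min_image (Finset.range ℓ) (fun n => (τ ^ n) b)
      ⟨0, Finset.mem_range.2 hℓ.pos⟩
    have hrep : (τ ^ a) b ∈ reps τ ℓ := by
      refine Finset.mem_filter.2 ⟨Finset.mem_univ _, fun n _ => ?_⟩
      have := hmin ((n + a) % ℓ) (Finset.mem_range.2 (Nat.mod_lt _ hℓ.pos))
      rwa [show τ ^ ((n + a) % ℓ) = τ ^ (n + a) by
        conv_rhs => rw [← Nat.div_add_mod (n + a) ℓ, pow_add, pow_mul, hτ, one_pow, one_mul],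
        pow_add, Equiv.Perm.mul_apply] at this
    have hz : v ((τ ^ a) b) = 0 := congrFun h0 ⟨_, hrep⟩
    have hall : ∀ n, v ((τ ^ (n + a)) b) = 0 := by
      intro n
      induction n with
      | zero => rw [zero_add]; exact hz
      | succ n ih => rw [show n + 1 + a = (n + a) + 1 by omega, pow_succ', Equiv.Perm.mul_apply, hv', ih, mul_zero]
    have := hall (ℓ - a)
    rwa [Nat.sub_add_cancel (Finset.mem_range.1 ha).le, hτ, Equiv.Perm.one_apply] at this
  refine (LinearMap.finrank_le_finrank_of_injective hinj).trans ?_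
  rw [Module.finrank_fintype_fun_eq_card, Fintype.card_coe]

end order

/-- A monomial matrix along an element of order five fixes at most twenty-four dimensions. -/
theorem mon_five [Fact (Nat.Prime 5)] {k : Type*} [Field k] {u : GL (Fin 56) k}
    {τ : Equiv.Perm (Fin 56)} {N : Matrix (Fin 7) (Fin 7) ℤ} (h : Weyl τ N) (hτ : τ ^ 5 = 1) (hne : τ ≠ 1)
    (hu : MonAlong (u : Matrix (Fin 56) (Fin 56) k) τ) :
    Module.finrank k (LinearMap.ker (Matrix.toLin' (u : Matrix (Fin 56) (Fin 56) k) - 1)) ≤ 24 := by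
  have := finrank_fixed (ℓ := 5) hu hτ
  have := card_reps (ℓ := 5) hτ
  have := fixed_five h hτ hne
  omega

/-- A monomial matrix along an element of order seven fixes at most twelve dimensions. -/
theorem mon_seven [Fact (Nat.Prime 7)] {k : Type*} [Field k] {u : GL (Fin 56) k}
    {τ : Equiv.Perm (Fin 56)} {N : Matrix (Fin 7) (Fin 7) ℤ} (h : Weyl τ N) (hτ : τ ^ 7 = 1) (hne : τ ≠ 1)
    (hu : MonAlong (u : Matrix (Fin 56) (Fin 56) k) τ) :
    Module.finrank k (LinearMap.ker (Matrix.toLin' (u : Matrix (Fin 56) (Fin 56) k) - 1)) ≤ 12 := by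
  have := finrank_fixed (ℓ := 7) hu hτ
  have := card_reps (ℓ := 7) hτ
  have := fixed_seven h hτ hne
  omega

end CfsgLib.Classical.AltSection.E7Monomial
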