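import Cfsg.Agent.Lib.Classical.AltSection.E7Monomial
import Cfsg.Agent.Lib.Chev.StCenterE
import Cfsg.Agent.Lib.Chev.SylowTorus.Fusion
import Cfsg.Agent.Lib.Chev.StFinite
import Cfsg.Agent.Lib.Chev.StPresent

/-!
The pairs of matrices covering a group of type E7 by its representation of degree fifty-six, and the
shape of their monomial and diagonal elements.
-/

set_option autoImplicit false
set_option maxRecDepth 100000
set_option maxHeartbeats 1000000
set_option linter.unusedSectionVars false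

namespace CfsgLib.Classical.AltSection.E7Rep

open Cfsg.Lie Matrix CfsgLib.Chev CfsgLib.Chev.GTorus
open CfsgLib.ChevOrth (SM toM mulS sm toM_mulS toM_sm toM_append toM_eq_zero chkZero)
open E7Weights (wt)
open E7Monomial (e7 wperm wpE sig mW MonAlong)

variable {K : Type*} [Field K]

/-- The matrix of a root. -/
def A56 (r : ℕ) : SM (Fin 56) := minE7.mat r

/-- A root element in the representation. -/
noncomputable def xE7 (r : ℕ) (t : K) : GL (Fin 56) K := minE7.xR minE7_sq r t

/-- The element of a simple reflection in the representation. -/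
noncomputable def nE7 (i : ℕ) : GL (Fin 56) K := minE7.nR minE7_sq tabE7 i 1

/-- The pairs of root elements generate the covering group. -/
noncomputable def pairs (K : Type*) [Field K] : Subgroup (GL (Fin 56) K × GL chevE7.Idx K) :=
  Subgroup.closure {p | ∃ r, r < 126 ∧ ∃ t : K, p = (xE7 r t, X chevE7 r t)}

/-- The case of a column under a simple root and its negative. -/
noncomputable def colCase (i : ℕ) (a : Fin 56) (w : ℤ) : Bool :=
  let B : SM (Fin 56) := A56 (tabE7.simple i)
  let B' : SM (Fin 56) := A56 (tabE7.neg (tabE7.simple i))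
  let E : SM (Fin 56) := [(a, a, 1)]
  if w = 1 then
    chkZero (mulS B E) && chkZero (mulS B (mulS B' E) ++ sm (-1) E) &&
      chkZero (mulS B' (mulS B' E))
  else if w = -1 then
    chkZero (mulS B' E) && chkZero (mulS B' (mulS B E) ++ sm (-1) E) &&
      chkZero (mulS B (mulS B E))
  else decide (w = 0) && chkZero (mulS B E) && chkZero (mulS B' E)

theorem colCase_ok : ∀ (i : Fin 7) (a : Fin 56), colCase i a (wt a i) = true := by
  decide +kernel

/-- A torus element in the representation. -/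
noncomputable def tor56 : (Fin tabE7.l → Kˣ) →* GL (Fin 56) K where
  toFun c :=
    { val := Matrix.diagonal fun a => ((∏ i, c (e7 i) ^ wt a i : Kˣ) : K)
      inv := Matrix.diagonal fun a => ((∏ i, c (e7 i) ^ wt a i : Kˣ)⁻¹ : Kˣ).val
      val_inv := by
        rw [Matrix.diagonal_mul_diagonal, ← Matrix.diagonal_one]
        simp only [← Units.val_mul, mul_inv_cancel, Units.val_one]
      inv_val := by
        rw [Matrix.diagonal_mul_diagonal, ← Matrix.diagonal_one]
        simp only [← Units.val_mul, inv_mul_cancel, Units.val_one] }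
  map_one' := by
    refine Units.ext ?_
    show Matrix.diagonal _ = 1
    rw [← Matrix.diagonal_one]
    simp
  map_mul' c d := by
    refine Units.ext ?_
    show Matrix.diagonal _ = Matrix.diagonal _ * Matrix.diagonal _
    rw [Matrix.diagonal_mul_diagonal]
    simp [mul_zpow, Finset.prod_mul_distrib]

theorem coe_tor56 (c : Fin tabE7.l → Kˣ) :
    (tor56 c : Matrix (Fin 56) (Fin 56) K) =
      Matrix.diagonal fun a => ((∏ i, c (e7 i) ^ wt a i : Kˣ) : K) := rfl

theorem tor56_single (i : Fin tabE7.l) (t : Kˣ) :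
    (tor56 (Pi.mulSingle i t) : Matrix (Fin 56) (Fin 56) K) =
      Matrix.diagonal fun a => (t : K) ^ wt a (e7.symm i) := by
  rw [coe_tor56]
  congr 1
  funext a
  rw [Finset.prod_eq_single (e7.symm i)]
  · rw [Equiv.apply_symm_apply, Pi.mulSingle_eq_same, Units.val_zpow_eq_zpow_val]
  · intro j _ hj
    rw [Pi.mulSingle_eq_of_ne (fun e => hj (by rw [← e, Equiv.symm_apply_apply])), _root_.one_zpow]
  · exact fun h => absurd (Finset.mem_univ _) h

theorem prod_zpow_sum {G : Type*} [CommGroup G] (a : G) {ι : Type*} (s : Finset ι) (g : ι → ℤ) :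
    ∏ t ∈ s, a ^ g t = a ^ ∑ t ∈ s, g t := by
  induction s using Finset.cons_induction with
  | empty => simp
  | cons i s hi ih => rw [Finset.prod_cons, Finset.sum_cons, ih, _root_.zpow_add]

/-- The parameters are determined by the representation. -/
theorem eq_one_of_tor56 {c : Fin tabE7.l → Kˣ} (h : tor56 c = 1) : c = 1 := by
  have hv : ∀ a, ∏ i, c (e7 i) ^ wt a i = 1 := fun a => by
    have := congrFun (congrFun (congrArg (fun g : GL (Fin 56) K => (g : Matrix (Fin 56) (Fin 56) K)) h) a) a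
    simp only [coe_tor56, Matrix.diagonal_apply_eq, Units.val_one, Matrix.one_apply_eq] at this
    exact Units.ext this
  funext i
  have e : ∏ t, (∏ j, c (e7 j) ^ wt (E7Weights.recW t) j) ^
      (E7Weights.recData.getD (e7.symm i).val []).getD t.val 0 = c i := by
    simp only [← Finset.prod_zpow, ← _root_.zpow_mul]
    rw [Finset.prod_comm, Finset.prod_eq_single (e7.symm i)]
    · rw [prod_zpow_sum, Finset.sum_congr rfl fun t _ => mul_comm _ _, E7Weights.rec_ok,
        if_pos rfl, zpow_one, Equiv.apply_symm_apply]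
    · intro j _ hj
      rw [prod_zpow_sum, Finset.sum_congr rfl fun t _ => mul_comm _ _, E7Weights.rec_ok,
        if_neg (Ne.symm hj), zpow_zero]
    · exact fun h => absurd (Finset.mem_univ _) h
  simpa [hv] using e.symm

theorem toM_monAlong {τ : Equiv.Perm (Fin 56)} : ∀ S : SM (Fin 56), (∀ e ∈ S, e.1 = τ e.2.1) →
    MonAlong (toM K S) τ := by
  intro S
  induction S with
  | nil => intro _ a b _; simp [toM]
  | cons e S ih =>
    intro hS a b hb
    have h1 : toM K (e :: S) = Matrix.single e.1 e.2.1 (e.2.2 : K) + toM K S := by simp [toM]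
    rw [h1, Matrix.add_apply, ih (fun x hx => hS x (List.mem_cons_of_mem _ hx)) a b hb, add_zero]
    refine Matrix.single_apply_of_ne _ _ _ _ _ ?_
    rintro ⟨rfl, rfl⟩
    exact hb (hS e List.mem_cons_self)

theorem coe_nE7 {i : ℕ} (hi : i < tabE7.l) :
    (nE7 (K := K) i : Matrix (Fin 56) (Fin 56) K) = toM K (minE7.nList i) := by
  have h1 := toM_eq_zero (F := K)
    (Bool.and_eq_true_iff.1 (List.all_eq_true.1 minE7_n i (List.mem_range.2 hi))).2
  rw [toM_append, toM_sm, Int.cast_neg, Int.cast_one, neg_one_smul, add_neg_eq_zero] at h1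
  rw [h1, toM_mulS, toM_mulS, toM_append, toM_append, MinRep.one,
    CfsgLib.ChevOrth.toM_oneS (List.nodup_finRange _) List.mem_finRange, toM_sm, nE7, MinRep.nR,
    Units.val_mul, Units.val_mul, minE7.coe_xR, minE7.coe_xR, one_smul, inv_one, Int.cast_neg,
    Int.cast_one]
  rfl

theorem monAlong_nE7 {i : ℕ} (hi : i < tabE7.l) :
    MonAlong (nE7 (K := K) i : Matrix (Fin 56) (Fin 56) K) (wpE i) := by
  rw [coe_nE7 hi]
  refine toM_monAlong _ fun e he => ?_
  obtain ⟨j, -, rfl⟩ := List.mem_map.1 (show e ∈ (List.finRange 56).map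
    fun j => ((minE7.rowOf i j).1, j, (minE7.rowOf i j).2) from he)
  exact (E7Monomial.wpE_apply (show i < 7 from hi) j).symm

theorem monAlong_word : ∀ w : List ℕ, WordOK tabE7 w →
    MonAlong ((w.map (nE7 (K := K))).prod : Matrix (Fin 56) (Fin 56) K) (sig w) := by
  intro w
  induction w with
  | nil => intro _; simpa [sig] using E7Monomial.monAlong_one
  | cons i w ih =>
    intro hw
    simp only [List.map_cons, List.prod_cons, Units.val_mul, sig]
    exact (monAlong_nE7 hw.head).mul (ih hw.tail)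

theorem mW_eq : ∀ w : List ℕ, mW w = (w.map (reflMat tabE7)).prod.submatrix e7 e7 := by
  intro w
  induction w with
  | nil => simp [mW, Matrix.submatrix_one_equiv]
  | cons i w ih =>
    simp only [mW] at ih
    rw [mW, List.map_cons, List.prod_cons, ih, List.map_cons, List.prod_cons, E7Monomial.refl7,
      Matrix.submatrix_mul_equiv]

/-- A matrix inverting the Cartan matrix up to two. -/
noncomputable def adjE7 : Matrix (Fin tabE7.l) (Fin tabE7.l) ℤ :=
  E7Monomial.qM.submatrix e7.symm e7.symm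

theorem adjE7_mul : adjE7 * cartanT tabE7 = (2 : ℤ) • 1 := by decide +kernel

/-- Parameters killed in the adjoint group are killed by two. -/
theorem pow_two_of_ker {c : Fin tabE7.l → Kˣ}
    (hc : Cert.torusHom (D := chevE7) (T := tabE7) c = 1) : c ^ 2 = 1 := by
  rw [← MonoidHom.mem_ker, certE7.ker_torusHom, MonoidHom.mem_ker] at hc
  have h : matHom (adjE7 * cartanT tabE7) c = 1 := by rw [matHom_mul, hc, map_one]
  funext i
  have hi := congrFun h i
  rw [adjE7_mul, matHom_apply, Pi.one_apply] at hi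
  rw [Pi.pow_apply, Pi.one_apply, ← hi, Finset.prod_eq_single i]
  · simp [zpow_ofNat]
  · intro j _ hj; simp [Matrix.one_apply_ne hj.symm]
  · exact fun h => absurd (Finset.mem_univ _) h

variable [Fintype K]

theorem exists_cover :
    ∃ (Φ : chevE7.SteinbergCover K →* GL (Fin 56) K × GL chevE7.Idx K),
      Φ.range = pairs K ∧ (∀ v ∈ chevE7.group K, ∃ z, (Φ z).2 = v) ∧
      (∀ z, (Φ z).2 ∈ chevE7.group K) ∧
      (∀ z, (Φ z).2 = 1 → (Φ z).1 ^ 2 = 1 ∧ ∀ y, Commute (Φ z) (Φ y)) ∧
      (∀ z, (Φ z).2 ∈ chevE7.diagonalSubgroup K →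
        ∃ c : Fin tabE7.l → Kˣ, Φ z = (tor56 c, Cert.torusHom (D := chevE7) (T := tabE7) c)) ∧
      (∀ z, (Φ z).2 ∈ chevE7.monomialSubgroup K → ∃ w, WordOK tabE7 w ∧
        MonAlong ((Φ z).1 : Matrix (Fin 56) (Fin 56) K) (sig w) ∧
        Acts chevE7 tabE7 (Φ z).2 (w.map (reflMat tabE7)).prod) := by
  classical
  have hnb : Rel.Nbr tabE7 := by unfold Rel.Nbr; decide +kernel
  obtain ⟨ρ, hρ⟩ : ∃ ρ : chevE7.SteinbergCover K →* GL (Fin 56) K, ∀ r, r < tabE7.n → ∀ t : K,
      ρ ((certE7.relOf (R := chevE7.steinbergRelsAB K) le_rfl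
        (steinbergRelsAB_subset chevE7 K)).x r t) = xE7 r t :=
    minE7.exists_rep (K := K) minE7_sq certE7 minE7_n minE7_move minE7_base
  set L := certE7.relOf (R := chevE7.steinbergRelsAB K) le_rfl (steinbergRelsAB_subset chevE7 K)
  have hn : tabE7.n = 126 := by decide +kernel
  have hmul := L.mult_of_finite certE7 hnb
  have htor : ∀ c, ρ (L.torG certE7 hnb hmul c) = tor56 c := fun c => by
    show (ρ.comp (L.torG certE7 hnb hmul)) c = tor56 c
    congr 1
    refine MonoidHom.pi_ext fun i t => ?_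
    rw [MonoidHom.comp_apply, L.torG_single certE7 hnb hmul]
    refine Units.ext (Matrix.ext fun b a => ?_)
    rw [tor56_single]
    have hp := certE7.simple_lt i.2
    have hm := Cert.neg_lt (T := tabE7) hp
    have hc := colCase_ok (e7.symm i) a
    have hi7 : ((e7.symm i : Fin 7) : ℕ) = (i : ℕ) := rfl
    simp only [colCase, hi7] at hc
    set E : Matrix (Fin 56) (Fin 56) K := toM K [(a, a, 1)] with hE
    set B : Matrix (Fin 56) (Fin 56) K := toM K (A56 (tabE7.simple i)) with hA
    set B' : Matrix (Fin 56) (Fin 56) K := toM K (A56 (tabE7.neg (tabE7.simple i))) with hA'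
    have hxE : ∀ r (u : K), ((xE7 r u : GL (Fin 56) K) : Matrix (Fin 56) (Fin 56) K) =
        1 + u • toM K (A56 r) := fun r u => minE7.coe_xR minE7_sq r u
    have hz : ∀ S : SM (Fin 56), chkZero S = true → toM K S = 0 := fun S h => toM_eq_zero h
    have key : (ρ (L.hG (tabE7.simple i) (t : K)) : Matrix (Fin 56) (Fin 56) K) * E =
        ((t : K) ^ wt a (e7.symm i)) • E := by
      rw [Rel.hG, Rel.nG, Rel.nG, map_mul, map_mul, map_mul, map_mul, map_mul]
      simp only [hρ _ hp, hρ _ hm, Units.val_mul, hxE, inv_neg, inv_one,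
        _root_.neg_neg]
      rw [← hA, ← hA']
      simp only [mul_assoc]
      have ht : (t : K) ≠ 0 := t.ne_zero
      split_ifs at hc with h1 h2
      · simp only [Bool.and_eq_true] at hc
        obtain ⟨⟨c0, c1⟩, c2⟩ := hc
        have a0 : B * E = 0 := by rw [hA, hE, ← toM_mulS]; exact hz _ c0
        have a1 : B * (B' * E) = E := by
          have h := hz _ c1
          rw [toM_append, toM_sm, toM_mulS, toM_mulS, Int.cast_neg, Int.cast_one, neg_one_smul,
            add_neg_eq_zero] at h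
          exact h
        have a2 : B' * (B' * E) = 0 := by
          have h := hz _ c2
          rwa [toM_mulS, toM_mulS] at h
        simp only [add_mul, mul_add, one_mul, mul_one, smul_mul_assoc, mul_smul_comm, a0, a1, a2,
          smul_zero, add_zero, h1, zpow_one, mul_zero]
        match_scalars <;> field_simp <;> ring
      · simp only [Bool.and_eq_true] at hc
        obtain ⟨⟨c0, c1⟩, c2⟩ := hc
        have a0 : B' * E = 0 := by rw [hA', hE, ← toM_mulS]; exact hz _ c0
        have a1 : B' * (B * E) = E := by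
          have h := hz _ c1
          rw [toM_append, toM_sm, toM_mulS, toM_mulS, Int.cast_neg, Int.cast_one, neg_one_smul,
            add_neg_eq_zero] at h
          exact h
        have a2 : B * (B * E) = 0 := by
          have h := hz _ c2
          rwa [toM_mulS, toM_mulS] at h
        simp only [add_mul, mul_add, one_mul, mul_one, smul_mul_assoc, mul_smul_comm, a0, a1, a2,
          smul_zero, add_zero, h2, _root_.zpow_neg_one, mul_zero]
        match_scalars <;> field_simp <;> ring
      · simp only [Bool.and_eq_true, decide_eq_true_eq] at hc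
        obtain ⟨⟨h0, c0⟩, c1⟩ := hc
        have a0 : B * E = 0 := by rw [hA, hE, ← toM_mulS]; exact hz _ c0
        have a1 : B' * E = 0 := by rw [hA', hE, ← toM_mulS]; exact hz _ c1
        simp only [add_mul, one_mul, smul_mul_assoc, a0, a1, smul_zero, add_zero, h0, zpow_zero,
          one_smul]
    have hEs : E = Matrix.single a a 1 := by simp [hE, toM]
    rw [hEs] at key
    have hba := congrFun (congrFun key b) a
    rw [Matrix.mul_single_apply_same, mul_one, Matrix.smul_apply, smul_eq_mul] at hba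
    rw [hba, Matrix.diagonal_apply, Matrix.single_apply]
    by_cases hb : b = a
    · subst hb; simp
    · simp [hb, Ne.symm hb]
  have hwordπ : ∀ w : List ℕ, WordOK tabE7 w →
      L.π (w.map fun i => L.nG (tabE7.simple i) (1 : K)).prod = nW chevE7 K w ∧
      ρ (w.map fun i => L.nG (tabE7.simple i) (1 : K)).prod = (w.map (nE7 (K := K))).prod := by
    intro w
    induction w with
    | nil => intro _; exact ⟨by simp [nW], by simp⟩
    | cons i w ih =>
      intro hw
      obtain ⟨h1, h2⟩ := ih hw.tail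
      refine ⟨?_, ?_⟩
      · rw [List.map_cons, List.prod_cons, map_mul, h1, L.π_nG certE7 hw.head, nW_cons, nS,
          certE7.simple_eq hw.head]
      · rw [List.map_cons, List.prod_cons, map_mul, h2, List.map_cons, List.prod_cons]
        congr 1
        rw [Rel.nG, map_mul, map_mul, hρ _ (certE7.simple_lt hw.head),
          hρ _ (Cert.neg_lt (T := tabE7) (certE7.simple_lt hw.head))]
        rfl
  have hform : ∀ z (w : List ℕ) (c : Fin tabE7.l → Kˣ), WordOK tabE7 w →
      L.π z = nW chevE7 K w * Cert.torusHom (D := chevE7) (T := tabE7) c →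
      ∃ d, ρ z = (w.map (nE7 (K := K))).prod * tor56 d ∧
        L.π z = nW chevE7 K w * Cert.torusHom (D := chevE7) (T := tabE7) d := by
    intro z w c hw hz
    set z₀ := (w.map fun i => L.nG (tabE7.simple i) (1 : K)).prod * L.torG certE7 hnb hmul c with hz₀
    have hπ0 : L.π z₀ = L.π z := by
      rw [hz₀, map_mul, (hwordπ w hw).1, L.π_torG certE7 hnb hmul, hz]
    have hk : z₀⁻¹ * z ∈ L.π.ker := by rw [MonoidHom.mem_ker, map_mul, map_inv, hπ0, inv_mul_cancel]
    obtain ⟨d, -, hd⟩ := L.ker_le_map certE7 hnb hmul hk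
    have hzd : z = (w.map fun i => L.nG (tabE7.simple i) (1 : K)).prod *
        L.torG certE7 hnb hmul (c * d) := by
      rw [map_mul, hd, ← mul_assoc, ← hz₀, mul_inv_cancel_left]
    refine ⟨c * d, ?_, ?_⟩
    · rw [hzd, map_mul, (hwordπ w hw).2, htor]
    · rw [hzd, map_mul, (hwordπ w hw).1, L.π_torG certE7 hnb hmul]
  refine ⟨ρ.prod L.π, ?_, fun v hv => ?_, fun z => certE7.π_mem_group L z, fun z hz => ?_,
    fun z hz => ?_, fun z hz => ?_⟩
  · rw [MonoidHom.range_eq_map, ← L.generate, MonoidHom.map_closure]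
    refine congrArg Subgroup.closure (Set.ext fun g => ⟨?_, ?_⟩)
    · rintro ⟨_, ⟨r, hr, t, rfl⟩, rfl⟩
      exact ⟨r, hn ▸ hr, t, Prod.ext (hρ r hr t) (L.π_x r hr t)⟩
    · rintro ⟨r, hr, t, rfl⟩
      exact ⟨_, ⟨r, hn.symm ▸ hr, t, rfl⟩,
        Prod.ext (hρ r (hn.symm ▸ hr) t) (L.π_x r (hn.symm ▸ hr) t)⟩
  · obtain ⟨z, hz⟩ := certE7.stTheta_surjective (R := chevE7.steinbergRelsAB K) le_rfl
      (steinbergRelsAB_subset chevE7 K) ⟨v, hv⟩
    exact ⟨z, congrArg Subtype.val hz⟩
  · have hzk : z ∈ L.π.ker := hz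
    obtain ⟨c, hc, rfl⟩ := L.ker_le_map certE7 hnb hmul hzk
    refine ⟨?_, fun y => ?_⟩
    · show (ρ (L.torG certE7 hnb hmul c)) ^ 2 = 1
      rw [← map_pow, ← map_pow, pow_two_of_ker
        (by rw [← MonoidHom.mem_ker, certE7.ker_torusHom]; exact hc), map_one, map_one]
    · have hcz : L.torG certE7 hnb hmul c ∈ Subgroup.center _ := L.ker_eq_center certE7 hnb ▸ hzk
      exact (show Commute _ y from (Subgroup.mem_center_iff.1 hcz y).symm).map _
  · obtain ⟨c, hc⟩ := certE7.range_torusHom.ge (show L.π z ∈ chevE7.diagonalSubgroup K from hz)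
    obtain ⟨d, h1, h2⟩ := hform z [] c (fun _ h => absurd h List.not_mem_nil)
      (by simp [nW, hc])
    simp only [nW, List.map_nil, List.prod_nil, one_mul] at h1 h2
    exact ⟨d, Prod.ext h1 h2⟩
  · obtain ⟨w, hw, t, ht, he⟩ := certE7.exists_word_of_monomial
      (show L.π z ∈ chevE7.monomialSubgroup K from hz)
    obtain ⟨c, rfl⟩ := certE7.range_torusHom.ge ht
    obtain ⟨d, h1, h2⟩ := hform z w c hw he
    refine ⟨w, hw, ?_, ?_⟩
    · show MonAlong (ρ z : Matrix (Fin 56) (Fin 56) K) (sig w)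
      rw [h1, Units.val_mul]
      have := (monAlong_word (K := K) w hw).mul (E7Monomial.monAlong_diagonal
        fun a => ((∏ i, d (e7 i) ^ wt a i : Kˣ) : K))
      rwa [mul_one] at this
    · show Acts chevE7 tabE7 (L.π z) _
      rw [h2]
      refine fun r hr => ⟨rword tabE7 w r, certE7.rword_lt hw hr, Cert.Maps_mul
        (certE7.Maps_diagonal (certE7.range_torusHom.le ⟨d, rfl⟩) hr) (certE7.Maps_nW hw hr), ?_⟩
      clear h1 h2 he
      induction w with
      | nil => simp [rword]
      | cons i w ih =>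
        rw [rword_cons, carV_refl certE7 hw.head (certE7.rword_lt hw.tail hr), ih hw.tail,
          List.map_cons, List.prod_cons, Matrix.mulVec_mulVec]

/-- An element above the group. -/
theorem mem_group {p : GL (Fin 56) K × GL chevE7.Idx K} (hp : p ∈ pairs K) : p.2 ∈ chevE7.group K := by
  obtain ⟨Φ, hΦ, -, hmem, -⟩ := exists_cover (K := K)
  obtain ⟨z, rfl⟩ := hΦ.ge hp
  exact hmem z

theorem exists_pair {v : GL chevE7.Idx K} (hv : v ∈ chevE7.group K) : ∃ p ∈ pairs K, p.2 = v := by
  obtain ⟨Φ, hΦ, hsur, -⟩ := exists_cover (K := K)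
  obtain ⟨z, hz⟩ := hsur v hv
  exact ⟨Φ z, hΦ.le ⟨z, rfl⟩, hz⟩

theorem kernel_form {p : GL (Fin 56) K × GL chevE7.Idx K} (hp : p ∈ pairs K) (h1 : p.2 = 1) :
    p ^ 2 = 1 ∧ ∀ y ∈ pairs K, Commute p y := by
  obtain ⟨Φ, hΦ, -, -, hker, -⟩ := exists_cover (K := K)
  obtain ⟨z, rfl⟩ := hΦ.ge hp
  obtain ⟨h2, hc⟩ := hker z h1
  refine ⟨Prod.ext h2 (by rw [Prod.pow_snd, h1, one_pow]; rfl), fun y hy => ?_⟩
  obtain ⟨x, rfl⟩ := hΦ.ge hy
  exact hc x

theorem diag_form {p : GL (Fin 56) K × GL chevE7.Idx K} (hp : p ∈ pairs K)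
    (hd : p.2 ∈ chevE7.diagonalSubgroup K) :
    ∃ c : Fin tabE7.l → Kˣ, p = (tor56 c, Cert.torusHom (D := chevE7) (T := tabE7) c) := by
  obtain ⟨Φ, hΦ, -, -, -, hdiag, -⟩ := exists_cover (K := K)
  obtain ⟨z, rfl⟩ := hΦ.ge hp
  exact hdiag z hd

theorem mon_form {p : GL (Fin 56) K × GL chevE7.Idx K} (hp : p ∈ pairs K)
    (hd : p.2 ∈ chevE7.monomialSubgroup K) :
    ∃ (τ : Equiv.Perm (Fin 56)) (N : Matrix (Fin 7) (Fin 7) ℤ), E7Monomial.Weyl τ N ∧
      MonAlong (p.1 : Matrix (Fin 56) (Fin 56) K) τ ∧ (τ = 1 → p.2 ∈ chevE7.diagonalSubgroup K) := by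
  obtain ⟨Φ, hΦ, -, -, -, -, hmon⟩ := exists_cover (K := K)
  obtain ⟨z, rfl⟩ := hΦ.ge hp
  obtain ⟨w, hw, h1, h2⟩ := hmon z hd
  have hwe := E7Monomial.weyl_word w fun i hi => (hw i hi : i < tabE7.l)
  refine ⟨sig w, mW w, hwe, h1, fun h0 => mem_diagonal_of_acts certE7 hd ?_⟩
  have e : mW w = 1 := hwe.unique (h0 ▸ E7Monomial.weyl_one)
  rw [mW_eq] at e
  convert h2
  funext i j
  have := congrFun (congrFun e (e7.symm i)) (e7.symm j)
  simp only [Matrix.submatrix_apply, Equiv.apply_symm_apply] at this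
  rw [this, Matrix.one_apply, Matrix.one_apply]
  exact if_congr e7.symm.injective.eq_iff.symm rfl rfl

theorem map_pairs {F L : Type*} [Field F] [Field L] (f : F →+* L)
    {p : GL (Fin 56) F × GL chevE7.Idx F} (hp : p ∈ pairs F) :
    (Units.map (f.mapMatrix : Matrix (Fin 56) (Fin 56) F →+* _).toMonoidHom p.1,
      mapGL chevE7 f p.2) ∈ pairs L := by
  let φ := ((Units.map (f.mapMatrix : Matrix (Fin 56) (Fin 56) F →+* Matrix (Fin 56) (Fin 56) L).toMonoidHom).prodMap
    (mapGL chevE7 f))
  have h : (pairs F).map φ ≤ pairs L := by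
    rw [pairs, MonoidHom.map_closure, Subgroup.closure_le]
    rintro _ ⟨_, ⟨r, hr, t, rfl⟩, rfl⟩
    refine Subgroup.subset_closure ⟨r, hr, f t, Prod.ext (Units.ext ?_) (certE7.X_map f r t)⟩
    show ((xE7 r t : GL (Fin 56) F) : Matrix (Fin 56) (Fin 56) F).map f = _
    rw [xE7, xE7, minE7.coe_xR, minE7.coe_xR]
    ext i j
    simp only [Matrix.map_apply, Matrix.add_apply, Matrix.smul_apply, Matrix.one_apply, smul_eq_mul,
      map_add, map_mul, MinRep.mK]
    show f ((1 + t • toM F (A56 r) : Matrix (Fin 56) (Fin 56) F) i j) =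
      (1 + f t • toM L (A56 r) : Matrix (Fin 56) (Fin 56) L) i j
    simp [Matrix.one_apply, apply_ite f, CfsgLib.ChevOrth.toM_apply, map_intCast]
  exact h ⟨p, hp, rfl⟩

end CfsgLib.Classical.AltSection.E7Rep
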