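import Cfsg.Agent.Lib.Classical.AltSection.E7Lifts
import Cfsg.Agent.Lib.Classical.AltSection.Eigen

/-!
A minimal cover of an alternating section of a group of type E7 acting on fifty-six dimensions over an
algebraically closed field: eigenspaces, their conjugates, and subgroups over alternating groups of subsets.
-/

set_option autoImplicit false
set_option maxRecDepth 100000
set_option maxHeartbeats 1000000
set_option linter.unusedSectionVars false

namespace CfsgLib.Classical.AltSection.E7Rho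

open Cfsg.Lie CfsgLib.Chev
open E7Lifts (Cover)
open Eigen (E mem_E)

/-! ### Eigenspaces -/

section eigen

variable {k : Type} [Field k] {V : Type} [AddCommGroup V] [Module k V] [FiniteDimensional k V]
variable {q : ℕ} [Fact q.Prime] {ζ : k} (hζ : IsPrimitiveRoot ζ q) (hq : (q : k) ≠ 0)
include hζ hq

/-- An invariant space is the sum of its eigenspaces. -/
theorem finrank_split {x : Module.End k V} (hx : x ^ q = 1) {U : Submodule k V}
    (hU : ∀ u ∈ U, x u ∈ U) :
    Module.finrank k U = ∑ j : ZMod q, Module.finrank k ↥(U ⊓ E ζ x j) := by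
  set y := x.restrict hU with hy
  have hpow : ∀ (n : ℕ) (v : U), (((y ^ n) v : U) : V) = (x ^ n) v := fun n v => by
    induction n with
    | zero => rfl
    | succ n ih => rw [pow_succ', pow_succ', Module.End.mul_apply, Module.End.mul_apply, ← ih]; rfl
  have hy' : y ^ q = 1 := LinearMap.ext fun v => Subtype.ext (by rw [hpow, hx]; rfl)
  have htop : (⨆ j ∈ (Finset.univ : Finset (ZMod q)), E ζ y j) = ⊤ := eq_top_iff.2 fun v _ => by
    simpa using Eigen.mem_iSup_E hζ hq hy' v
  rw [← finrank_top k U, ← htop, Eigen.finrank_iSup_E hζ y Finset.univ]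
  refine Finset.sum_congr rfl fun j _ => ?_
  have e : E ζ y j = (U ⊓ E ζ x j).comap U.subtype := by
    ext v
    rw [Submodule.mem_comap, Submodule.mem_inf, mem_E, mem_E, Subtype.ext_iff]
    exact ⟨fun h => ⟨v.2, h⟩, fun h => h.2⟩
  rw [e]
  exact LinearEquiv.finrank_eq (Submodule.comapSubtypeEquivOfLe inf_le_left)

omit hq in
/-- The eigenspaces of a power. -/
theorem E_pow {x : Module.End k V} (hx : x ^ q = 1) {a : ℕ} (ha : (a : ZMod q) ≠ 0) (j : ZMod q) :
    E ζ (x ^ a) ((a : ZMod q) * j) = E ζ x j := by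
  have key : ∀ (y : Module.End k V) (i : ZMod q) (v : V) (b : ℕ), y v = ζ ^ i.val • v →
      (y ^ b) v = ζ ^ ((b : ZMod q) * i).val • v := by
    intro y i v b h
    induction b with
    | zero => simp
    | succ b ih =>
      rw [pow_succ', Module.End.mul_apply, ih, map_smul, h, smul_smul, ← Eigen.pow_val_add hζ]
      congr 3
      push_cast; ring
  ext v
  rw [mem_E, mem_E]
  refine ⟨fun h => ?_, key x j v a⟩
  set b := ((a : ZMod q)⁻¹).val with hb
  have hab : (b : ZMod q) * (a : ZMod q) = 1 := by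
    rw [hb, ZMod.natCast_zmod_val, inv_mul_cancel₀ ha]
  have h1 := key (x ^ a) _ v b h
  rw [← mul_assoc, hab, one_mul, ← pow_mul] at h1
  have hm : a * b % q = 1 := by
    have : ((a * b : ℕ) : ZMod q) = ((1 : ℕ) : ZMod q) := by push_cast; rw [mul_comm]; exact hab
    rw [ZMod.natCast_eq_natCast_iff', Nat.mod_eq_of_lt (Fact.out : q.Prime).one_lt] at this
    exact this
  rwa [← Nat.div_add_mod (a * b) q, hm, pow_add, pow_mul, hx, one_pow, one_mul, pow_one] at h1

end eigen

/-! ### The representation -/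

variable {F : Type*} [Field F] [Fintype F] {r : ℕ} (C : Cover F r) {k : Type} [Field k] (j₀ : F →+* k)

/-- The representation of degree fifty-six of a cover. -/
noncomputable def rho : C.L →* Module.End k (Fin 56 → k) :=
  (Matrix.toLinAlgEquiv' (R := k) (n := Fin 56)).toRingEquiv.toMonoidHom.comp
    ((RingHom.mapMatrix j₀).toMonoidHom.comp
      ((Units.coeHom _).comp ((MonoidHom.fst _ _).comp C.emb)))

variable {C j₀}

theorem rho_fix (u : C.L) :
    Module.finrank k (LinearMap.ker (rho C j₀ u - 1)) =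
      E7Sylow.fixDim (((C.emb u).1 : Matrix (Fin 56) (Fin 56) F).map j₀) := rfl

theorem rho_apply_inv (g : C.L) (v : Fin 56 → k) : rho C j₀ g⁻¹ (rho C j₀ g v) = v := by
  rw [← Module.End.mul_apply, ← map_mul, inv_mul_cancel, map_one]; rfl

theorem rho_injective (g : C.L) : Function.Injective (rho C j₀ g) :=
  Function.LeftInverse.injective (rho_apply_inv g)

theorem rho_mul_apply (g h : C.L) (v : Fin 56 → k) :
    rho C j₀ (g * h) v = rho C j₀ g (rho C j₀ h v) := by
  rw [map_mul]; rfl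

theorem finrank_map (h : C.L) (U : Submodule k (Fin 56 → k)) :
    Module.finrank k ↥(U.map (rho C j₀ h)) = Module.finrank k U :=
  (Submodule.equivMapOfInjective _ (rho_injective h) U).finrank_eq.symm

theorem map_comm {h u : C.L} (hc : Commute h u) {v : Fin 56 → k} :
    rho C j₀ u (rho C j₀ h v) = rho C j₀ h (rho C j₀ u v) := by
  rw [← rho_mul_apply, ← rho_mul_apply, hc.eq]

/-- Invariance of an eigenspace under the centraliser. -/
theorem E_invariant {q : ℕ} [NeZero q] (ζ : k) {h u : C.L} (hc : Commute h u) (j : ZMod q) :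
    ∀ v ∈ E ζ (rho C j₀ u) j, rho C j₀ h v ∈ E ζ (rho C j₀ u) j := fun v hv => by
  rw [mem_E] at hv ⊢
  rw [map_comm hc, hv, map_smul]

/-- The image of an eigenspace. -/
theorem map_E {q : ℕ} [NeZero q] (ζ : k) (h u : C.L) (j : ZMod q) :
    (E ζ (rho C j₀ u) j).map (rho C j₀ h) = E ζ (rho C j₀ (h * u * h⁻¹)) j := by
  ext v
  constructor
  · rintro ⟨w, hw, rfl⟩
    rw [SetLike.mem_coe, mem_E] at hw
    rw [mem_E, rho_mul_apply, rho_mul_apply, rho_apply_inv, hw, map_smul]
  · intro hv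
    refine ⟨rho C j₀ h⁻¹ v, ?_, ?_⟩
    · rw [mem_E] at hv
      rw [SetLike.mem_coe, mem_E, ← rho_mul_apply, show u * h⁻¹ = h⁻¹ * (h * u * h⁻¹) by group,
        rho_mul_apply, hv, map_smul]
    · rw [← rho_mul_apply, mul_inv_cancel, map_one]; rfl

theorem map_invariant (h : C.L) {U : Submodule k (Fin 56 → k)}
    (hU : ∀ v ∈ U, rho C j₀ h v ∈ U) : U.map (rho C j₀ h) = U := by
  refine Submodule.eq_of_le_of_finrank_eq ?_ (finrank_map h U)
  rintro _ ⟨v, hv, rfl⟩
  exact hU v hv

section prime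

variable {q : ℕ} [Fact q.Prime] {ζ : k} (hζ : IsPrimitiveRoot ζ q) (hq : (q : k) ≠ 0)
include hζ hq

theorem rho_pow {u : C.L} (hu : u ^ q = 1) : rho C j₀ u ^ q = 1 := by rw [← map_pow, hu, map_one]

omit hq in
/-- An element fused to a power moves the eigenspaces. -/
theorem map_E_pow {h u : C.L} (hu : u ^ q = 1) {a : ℕ} (ha : (a : ZMod q) ≠ 0)
    (hh : h * u * h⁻¹ = u ^ a) (j : ZMod q) :
    (E ζ (rho C j₀ u) ((a : ZMod q) * j)).map (rho C j₀ h) = E ζ (rho C j₀ u) j := by
  have hu' : rho C j₀ u ^ q = 1 := by rw [← map_pow, hu, map_one]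
  rw [map_E, hh, map_pow, E_pow hζ hu' ha]

omit hq in
/-- The eigenspaces of an element fused to its powers in an invariant space have equal dimension. -/
theorem finrank_const {u : C.L} (hu : u ^ q = 1) {U : Submodule k (Fin 56 → k)}
    (hfus : ∀ a : ℕ, ¬ q ∣ a → ∃ h, h * u * h⁻¹ = u ^ a ∧ ∀ v ∈ U, rho C j₀ h v ∈ U)
    {j : ZMod q} (hj : j ≠ 0) :
    Module.finrank k ↥(U ⊓ E ζ (rho C j₀ u) j) =
      Module.finrank k ↥(U ⊓ E ζ (rho C j₀ u) (1 : ZMod q)) := by
  have hja : (j.val : ZMod q) = j := ZMod.natCast_zmod_val j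
  obtain ⟨h, hh, hU⟩ := hfus j.val fun hd => hj (by rw [← hja]; exact (ZMod.natCast_eq_zero_iff _ _).2 hd)
  have h1 := map_E_pow hζ hu (by rw [hja]; exact hj) hh (1 : ZMod q) (j₀ := j₀)
  rw [hja, mul_one] at h1
  rw [← finrank_map h (U ⊓ E ζ (rho C j₀ u) j), Submodule.map_inf _ (rho_injective h),
    map_invariant h hU, h1]

end prime

/-- An element of order five fixes at most twenty-four dimensions. -/
theorem fix_five [IsAlgClosed k] [Fact (Nat.Prime 5)] (hq : ¬ 5 ∣ Fintype.card F) {u : C.L}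
    (hu : u ^ 5 = 1) (hu1 : C.π u ≠ 1) (hfus : ∀ a : ℕ, ¬ 5 ∣ a → ∃ h, h * u * h⁻¹ = u ^ a) :
    Module.finrank k (LinearMap.ker (rho C j₀ u - 1)) ≤ 24 := by
  rw [rho_fix]
  refine E7Sylow.fix_five hq (C.mem u) (by rw [← map_pow, hu, map_one])
    (fun h => hu1 (by rw [show u = 1 from C.inj (h.trans (map_one C.emb).symm), map_one]))
    (fun a ha => ?_) j₀
  obtain ⟨h, hh⟩ := hfus a ha
  exact ⟨C.emb h, C.mem h, by rw [← map_inv, ← map_mul, ← map_mul, ← map_pow, hh]⟩

/-- An element of order seven fixes at most twenty dimensions, and not fourteen. -/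
theorem fix_seven [IsAlgClosed k] [Fact (Nat.Prime 7)] (hq : ¬ 7 ∣ Fintype.card F) {u : C.L}
    (hu : u ^ 7 = 1) (hu1 : C.π u ≠ 1) (hfus : ∀ a : ℕ, ¬ 7 ∣ a → ∃ h, h * u * h⁻¹ = u ^ a) :
    Module.finrank k (LinearMap.ker (rho C j₀ u - 1)) ≤ 20 ∧
      Module.finrank k (LinearMap.ker (rho C j₀ u - 1)) ≠ 14 := by
  rw [rho_fix]
  refine E7Sylow.fix_seven hq (C.mem u) (by rw [← map_pow, hu, map_one])
    (fun h => hu1 (by rw [show u = 1 from C.inj (h.trans (map_one C.emb).symm), map_one]))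
    (fun a ha => ?_) j₀
  obtain ⟨h, hh⟩ := hfus a ha
  exact ⟨C.emb h, C.mem h, by rw [← map_inv, ← map_mul, ← map_mul, ← map_pow, hh]⟩

/-! ### Subgroups over subsets -/

/-- A subgroup over the even permutations of a subset acts either faithfully modulo the kernel or trivially
on a cover of them. -/
theorem alt_dichotomy {L : Type} [Group L] (π : L →* alternatingGroup (Fin r)) {S : Finset (Fin r)} {n : ℕ}
    (hn : 5 ≤ n) (hS : S.card = n) (P : Subgroup L) (hPS : ∀ h ∈ P, In S (π h))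
    (hsur : ∀ g, In S g → ∃ h ∈ P, π h = g) {M : Type*} [Monoid M] (σ : P →* M) :
    (∀ g, In S g → ∃ h : P, π h.1 = g ∧ σ h = 1) ∨
      ∃ φ : P →* alternatingGroup (Fin n), Function.Surjective φ ∧ σ.ker ≤ φ.ker ∧
        ∀ h : P, φ h = 1 → π h.1 = 1 := by
  classical
  obtain ⟨f, hf, hfin, hfsur⟩ := Twelve.exists_alt_embedding S hS
  let q : P →* f.range := (π.comp P.subtype).codRestrict f.range fun h => hfsur _ (hPS h.1 h.2)
  let φ : P →* alternatingGroup (Fin n) := (MonoidHom.ofInjective hf).symm.toMonoidHom.comp q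
  have hφ : ∀ h : P, f (φ h) = π h.1 := fun h => by
    have := (MonoidHom.ofInjective hf).apply_symm_apply (q h)
    exact congrArg Subtype.val this
  have hφsur : Function.Surjective φ := fun a => by
    obtain ⟨h, hh, e⟩ := hsur (f a) (hfin a)
    exact ⟨⟨h, hh⟩, hf (by rw [hφ]; exact e)⟩
  haveI : IsSimpleGroup (alternatingGroup (Fin n)) := alternatingGroup.isSimpleGroup (by simpa using hn)
  rcases ((MonoidHom.normal_ker σ).map φ hφsur).eq_bot_or_eq_top with h | h
  · exact Or.inr ⟨φ, hφsur, (Subgroup.map_eq_bot_iff _).1 h,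
      fun x hx => by rw [← hφ, hx, map_one]⟩
  · refine Or.inl fun g hg => ?_
    obtain ⟨a, rfl⟩ := hfsur g hg
    obtain ⟨x, hx, rfl⟩ : a ∈ σ.ker.map φ := h ▸ Subgroup.mem_top a
    exact ⟨x, (hφ x).symm, hx⟩

/-- The action of a subgroup on an invariant space. -/
noncomputable def restr {P : Subgroup C.L} {U : Submodule k (Fin 56 → k)}
    (hU : ∀ h ∈ P, ∀ v ∈ U, rho C j₀ h v ∈ U) : P →* Module.End k U where
  toFun h := (rho C j₀ h.1).restrict (hU h.1 h.2)
  map_one' := LinearMap.ext fun v => Subtype.ext (by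
    show rho C j₀ (1 : C.L) (v : Fin 56 → k) = _
    rw [map_one]; rfl)
  map_mul' g h := LinearMap.ext fun v => Subtype.ext (by
    show rho C j₀ (g.1 * h.1) (v : Fin 56 → k) = _
    rw [rho_mul_apply]; rfl)

theorem restr_eq_one {P : Subgroup C.L} {U : Submodule k (Fin 56 → k)}
    (hU : ∀ h ∈ P, ∀ v ∈ U, rho C j₀ h v ∈ U) {h : P} (e : restr hU h = 1) :
    ∀ v ∈ U, rho C j₀ h.1 v = v := fun v hv =>
  congrArg Subtype.val (LinearMap.congr_fun e ⟨v, hv⟩)

/-- An element acting trivially on an invariant space passes this to its conjugate. -/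
theorem conj_trivial {U : Submodule k (Fin 56 → k)} {g u : C.L} (hg : ∀ v ∈ U, rho C j₀ g⁻¹ v ∈ U)
    (hu : ∀ v ∈ U, rho C j₀ u v = v) : ∀ v ∈ U, rho C j₀ (g * u * g⁻¹) v = v := fun v hv => by
  rw [rho_mul_apply, rho_mul_apply, hu _ (hg v hv), ← rho_mul_apply, mul_inv_cancel, map_one]
  rfl

end CfsgLib.Classical.AltSection.E7Rho
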