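import Cfsg.Agent.Lib.Classical.AltSection.E7Rep
import Cfsg.Agent.Lib.Chev.SylowTorus.Types
import Cfsg.Agent.Lib.Chev.WeylData
import Cfsg.Agent.Lib.Transfer.Sylow
import Mathlib.NumberTheory.Multiplicity

/-!
Subgroups of odd prime power order at most seven of the pairs of type E7: conjugacy into the monomial
pairs over an extension, the size of their elementary abelian quotients, and the space fixed by an element
of order five or seven.
-/

set_option autoImplicit false
set_option maxRecDepth 100000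
set_option maxHeartbeats 1000000
set_option linter.unusedSectionVars false

namespace CfsgLib.Classical.AltSection.E7Sylow

open Cfsg.Lie Matrix CfsgLib.Chev CfsgLib.Chev.SylowTorus
open E7Rep (pairs tor56)
open E7Monomial (e7)
open E7Weights (wt num val)

/-- The pairs over monomial elements. -/
noncomputable def monPairs (L : Type*) [Field L] : Subgroup (GL (Fin 56) L × GL chevE7.Idx L) :=
  pairs L ⊓ (chevE7.monomialSubgroup L).comap (MonoidHom.snd _ _)

/-- The pairs with entries in a larger field. -/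
noncomputable def mapHom {F L : Type*} [Field F] [Field L] (f : F →+* L) :
    GL (Fin 56) F × GL chevE7.Idx F →* GL (Fin 56) L × GL chevE7.Idx L :=
  (Units.map (f.mapMatrix : Matrix (Fin 56) (Fin 56) F →+* Matrix (Fin 56) (Fin 56) L).toMonoidHom).prodMap
    (mapGL chevE7 f)

theorem mapHom_injective {F L : Type*} [Field F] [Field L] (f : F →+* L) :
    Function.Injective (mapHom f) := by
  rintro ⟨a, b⟩ ⟨c, d⟩ e
  simp only [mapHom, MonoidHom.coe_prodMap, Prod.map_apply, Prod.mk.injEq] at e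
  refine Prod.ext (Units.ext ?_) (mapGL_injective chevE7 f e.2)
  exact Matrix.map_injective f.injective
    (congrArg (fun g : GL (Fin 56) L => (g : Matrix (Fin 56) (Fin 56) L)) e.1)

theorem card_weyl (L : Type*) [Field L] :
    (chevE7.diagonalSubgroup L).relIndex (chevE7.monomialSubgroup L) = 2903040 := by
  obtain ⟨φ, hsurj, hker, -⟩ := exists_monomial_weylE7 L
  rw [Subgroup.relIndex, ← hker, Subgroup.index_ker, MonoidHom.range_eq_top.2 hsurj, Subgroup.card_top,
    card_coxeterE7]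

theorem val_geom {ℓ Q : ℕ} [Fact ℓ.Prime] (hℓ2 : ℓ ≠ 2) (hQ : 1 < Q) (hQ1 : ℓ ∣ Q - 1) :
    ∀ ds : List ℕ, (∀ d ∈ ds, d ≠ 0) → padicValNat ℓ ((ds.map fun d => Q ^ d - 1).prod) =
      ds.length * padicValNat ℓ (Q - 1) + padicValNat ℓ ds.prod := by
  have hℓ : ℓ.Prime := Fact.out
  have hne : ¬ ℓ ∣ Q := fun h => by
    have := Nat.dvd_sub h hQ1
    rw [Nat.sub_sub_self hQ.le] at this
    exact hℓ.ne_one (Nat.dvd_one.1 this)
  intro ds
  induction ds with
  | nil => simp
  | cons d ds ih =>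
    intro h0
    have hd := h0 d List.mem_cons_self
    have h1 : Q ^ d - 1 ≠ 0 := Nat.sub_ne_zero_of_lt (Nat.one_lt_pow hd hQ)
    have h2 : (ds.map fun d => Q ^ d - 1).prod ≠ 0 := List.prod_ne_zero fun hm => by
      obtain ⟨e, he, h⟩ := List.mem_map.1 hm
      exact absurd h (Nat.sub_ne_zero_of_lt (Nat.one_lt_pow (h0 e (List.mem_cons_of_mem _ he)) hQ))
    have h3 : ds.prod ≠ 0 := List.prod_ne_zero fun hm => h0 0 (List.mem_cons_of_mem _ hm) rfl
    have h4 := padicValNat.pow_sub_pow (hℓ.odd_of_ne_two hℓ2) hQ hQ1 hne hd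
    rw [one_pow] at h4
    rw [List.map_cons, List.prod_cons, List.prod_cons, padicValNat.mul h1 h2, padicValNat.mul hd h3,
      h4, ih fun e he => h0 e (List.mem_cons_of_mem _ he), List.length_cons, Nat.succ_mul]
    omega

/-- The monomial pairs contain a Sylow subgroup. -/
theorem not_dvd_relIndex {ℓ : ℕ} [Fact ℓ.Prime] (hℓ2 : ℓ ≠ 2) {L : Type*} [Field L] [Fintype L]
    (hQ1 : ℓ ∣ Fintype.card L - 1) :
    ¬ ℓ ∣ (monPairs L).relIndex (pairs L) := by
  classical
  have hℓ : ℓ.Prime := Fact.out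
  set T := chevE7.diagonalSubgroup L
  set N := chevE7.monomialSubgroup L
  set G := chevE7.group L
  have hTN : T ≤ N := Cert.diagonal_le_monomial
  have hNG : N ≤ G := certE7.monomial_le_group
  have hrel : (monPairs L).relIndex (pairs L) = N.relIndex G := by
    rw [monPairs, Subgroup.inf_relIndex_left, Subgroup.relIndex_comap]
    congr 1
    refine le_antisymm ?_ fun v hv => ?_
    · rintro _ ⟨p, hp, rfl⟩
      exact E7Rep.mem_group hp
    · obtain ⟨p, hp, rfl⟩ := E7Rep.exists_pair hv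
      exact ⟨p, hp, rfl⟩
  rw [hrel]
  obtain ⟨g, -, eG, eD⟩ := (orderOK_E7 (F := L)).ex
  set Q := Fintype.card L with hQdef
  have hQ : 1 < Q := Fintype.one_lt_card
  have hg : 0 < g := by
    rcases Nat.eq_zero_or_pos g with h | h
    · subst h
      rw [zero_mul] at eD
      exact absurd eD.symm (pow_ne_zero _ (Nat.sub_ne_zero_of_lt hQ))
    · exact h
  have hcard : Nat.card T * T.relIndex G = Nat.card G := by
    rw [Subgroup.relIndex, ← Nat.card_congr (Subgroup.subgroupOfEquivOfLe (hTN.trans hNG)).toEquiv]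
    exact Subgroup.card_mul_index _
  have e1 : T.relIndex G * (Q - 1) ^ 7 = Q ^ 63 * (([2, 6, 8, 10, 12, 14, 18] : List ℕ).map fun d => Q ^ d - 1).prod := by
    have eD' : g * Nat.card T = (Q - 1) ^ 7 := eD
    rw [← eG, ← eD', ← hcard]
    ring
  have hQ0 : Q - 1 ≠ 0 := Nat.sub_ne_zero_of_lt hQ
  have hne : ¬ ℓ ∣ Q := fun h => by
    have := Nat.dvd_sub h hQ1
    rw [Nat.sub_sub_self hQ.le] at this
    exact hℓ.ne_one (Nat.dvd_one.1 this)
  have hT0 : T.relIndex G ≠ 0 := by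
    intro h
    rw [h, mul_zero] at hcard
    exact Nat.card_pos.ne' hcard.symm
  have hP0 : (([2, 6, 8, 10, 12, 14, 18] : List ℕ).map fun d => Q ^ d - 1).prod ≠ 0 := by
    intro h
    rw [h, mul_zero] at e1
    exact mul_ne_zero hT0 (pow_ne_zero _ hQ0) e1
  have e2 := congrArg (padicValNat ℓ) e1
  rw [padicValNat.mul hT0 (pow_ne_zero _ hQ0), padicValNat.mul (pow_ne_zero _ (by omega)) hP0,
    padicValNat.pow _ _, padicValNat.pow _ _, padicValNat.eq_zero_of_not_dvd hne,
    val_geom hℓ2 hQ hQ1 _ (by decide), mul_zero, zero_add] at e2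
  simp only [List.length_cons, List.length_nil, List.prod_cons, List.prod_nil] at e2
  norm_num only at e2
  have h3 : T.relIndex N * N.relIndex G = T.relIndex G := Subgroup.relIndex_mul_relIndex T N G hTN hNG
  have hN0 : N.relIndex G ≠ 0 := fun h => hT0 (by rw [← h3, h, mul_zero])
  rw [← h3, padicValNat.mul (by rw [card_weyl]; norm_num) hN0, card_weyl] at e2
  have h4 : padicValNat ℓ (N.relIndex G) = 0 := by omega
  intro hd
  exact absurd h4 (Nat.one_le_iff_ne_zero.1 (one_le_padicValNat_of_dvd hN0 hd))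

variable {F : Type*} [Field F] [Fintype F]

/-- A subgroup of odd prime power order becomes monomial after extending the field. -/
theorem exists_conj {ℓ : ℕ} [Fact ℓ.Prime] (hℓ2 : ℓ ≠ 2) (hℓq : ¬ ℓ ∣ Fintype.card F)
    {P : Subgroup (GL (Fin 56) F × GL chevE7.Idx F)} (hP : P ≤ pairs F) (hp : IsPGroup ℓ P)
    {k : Type} [Field k] [IsAlgClosed k] (j₀ : F →+* k) :
    ∃ (L : Type) (_ : Field L) (_ : Fintype L) (f : F →+* L) (jk : L →+* k)
      (g : GL (Fin 56) L × GL chevE7.Idx L), jk.comp f = j₀ ∧ ℓ ∣ Fintype.card L - 1 ∧ g ∈ pairs L ∧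
      ∀ p ∈ P, g * mapHom f p * g⁻¹ ∈ monPairs L := by
  classical
  have hℓ : ℓ.Prime := Fact.out
  obtain ⟨p, hpc⟩ := CharP.exists F
  obtain ⟨e', hpp, -⟩ := FiniteField.card F p
  have := Fact.mk hpp
  have : NeZero (ℓ - 1) := ⟨Nat.sub_ne_zero_of_lt hℓ.one_lt⟩
  let L := FiniteField.Extension F p (ℓ - 1)
  let : Fintype L := Fintype.ofFinite L
  have hQ1 : ℓ ∣ Fintype.card L - 1 := by
    rw [← ZMod.natCast_eq_zero_iff, Nat.cast_sub Fintype.card_pos, Nat.cast_one, sub_eq_zero,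
      ← Nat.card_eq_fintype_card, FiniteField.natCard_extension, Nat.card_eq_fintype_card,
      Nat.cast_pow, ZMod.pow_card_sub_one_eq_one fun h0 => hℓq ((ZMod.natCast_eq_zero_iff _ _).1 h0)]
  let f : F →+* L := algebraMap F L
  letI : Algebra F k := j₀.toAlgebra
  haveI : Module.Finite F L := Module.Finite.of_finite
  let jk : L →ₐ[F] k := IsAlgClosed.lift
  have hidx := not_dvd_relIndex (L := L) hℓ2 hQ1
  set D := monPairs L
  obtain ⟨S⟩ : Nonempty (Sylow ℓ D) := inferInstance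
  set X := (S : Subgroup D).map D.subtype with hX
  have hXD : X ≤ D := Subgroup.map_subtype_le _
  have hDP : D ≤ pairs L := inf_le_left
  have hidx' : ¬ ℓ ∣ X.relIndex (pairs L) := by
    rw [← Subgroup.relIndex_mul_relIndex X D _ hXD hDP]
    refine hℓ.not_dvd_mul ?_ hidx
    rw [Subgroup.relIndex, hX, ← Subgroup.comap_subtype,
      Subgroup.comap_map_eq_self_of_injective D.subtype_injective]
    exact S.not_dvd_index
  obtain ⟨g, hg, hh⟩ := CfsgLib.Transfer.exists_conj_le_of_not_dvd_relIndex (hXD.trans hDP)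
    (S.isPGroup'.map _) hidx' (Y := P.map (mapHom f)) (by
      rintro _ ⟨v, hv, rfl⟩
      exact E7Rep.map_pairs f (hP hv)) (hp.map _)
  exact ⟨L, inferInstance, inferInstance, f, jk.toRingHom, g, RingHom.ext fun x => jk.commutes x, hQ1, hg,
    fun v hv => hXD (hh ⟨_, ⟨v, hv, rfl⟩, rfl⟩)⟩

/-- An elementary abelian quotient of a subgroup of odd prime power order is generated by eleven elements. -/
theorem card_quotient_le {ℓ : ℕ} [Fact ℓ.Prime] (hℓ2 : ℓ ≠ 2) (hℓ5 : ¬ ℓ ^ 5 ∣ 2903040)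
    (hℓq : ¬ ℓ ∣ Fintype.card F) {P : Type*} [Group P] [Finite P] (hp : IsPGroup ℓ P)
    (ι : P →* GL (Fin 56) F × GL chevE7.Idx F) (hι : Function.Injective ι) (hmem : ∀ x, ι x ∈ pairs F)
    {E : Type*} [CommGroup E] [Finite E] (hE : ∀ e : E, e ^ ℓ = 1) (θ : P →* E)
    (hθ : Function.Surjective θ) : Nat.card E ≤ ℓ ^ 11 := by
  classical
  have hℓ : ℓ.Prime := Fact.out
  obtain ⟨p, hpc⟩ := CharP.exists F
  obtain ⟨e', hpp, -⟩ := FiniteField.card F p
  have := Fact.mk hpp
  letI : Algebra (ZMod p) F := ZMod.algebra _ _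
  obtain ⟨L, _, _, f, jk, g, -, -, hg, hconj⟩ := exists_conj hℓ2 hℓq
    (P := ι.range) (by rintro _ ⟨x, rfl⟩; exact hmem x)
    (hp.of_surjective ι.rangeRestrict ι.rangeRestrict_surjective)
    ((IsAlgClosed.lift : F →ₐ[ZMod p] AlgebraicClosure (ZMod p)).toRingHom)
  let κ : P →* GL (Fin 56) L × GL chevE7.Idx L :=
    (MulAut.conj g).toMonoidHom.comp ((mapHom f).comp ι)
  have hκ : Function.Injective κ := (MulAut.conj g).injective.comp ((mapHom_injective f).comp hι)
  have hκm : ∀ x, κ x ∈ monPairs L := fun x => hconj _ ⟨x, rfl⟩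
  let q : P →* chevE7.monomialSubgroup L :=
    ((MonoidHom.snd _ _).comp κ).codRestrict _ fun x => (hκm x).2
  obtain ⟨φ, -, hker, -⟩ := exists_monomial_weylE7 L
  set T : Subgroup P := ((chevE7.diagonalSubgroup L).subgroupOf (chevE7.monomialSubgroup L)).comap q with hT
  -- the index of the diagonal part
  have hidx : T.index ≤ ℓ ^ 4 := by
    have e : T = (φ.comp q).ker := by rw [hT, ← hker, MonoidHom.comap_ker]
    rw [e, Subgroup.index_ker]
    haveI : Finite (CoxeterMatrix.Group CoxeterMatrix.E₇) :=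
      Nat.finite_of_card_ne_zero (by rw [card_coxeterE7]; norm_num)
    obtain ⟨m, hm⟩ := IsPGroup.iff_card.1 (hp.of_surjective (φ.comp q).rangeRestrict
      (φ.comp q).rangeRestrict_surjective)
    have hd : ℓ ^ m ∣ 2903040 := by
      rw [← hm, ← card_coxeterE7]
      exact Subgroup.card_subgroup_dvd_card _
    rw [hm]
    refine Nat.pow_le_pow_right hℓ.pos ?_
    by_contra hc
    exact hℓ5 ((pow_dvd_pow ℓ (by omega)).trans hd)
  -- the diagonal part
  have hdiag : ∀ x : T, ∃ c : Fin tabE7.l → Lˣ,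
      κ x.1 = (tor56 c, Cert.torusHom (D := chevE7) (T := tabE7) c) := fun x =>
    E7Rep.diag_form (hκm x.1).1 x.2
  choose cf hcf using hdiag
  letI : CommGroup T :=
    { (inferInstance : Group T) with
      mul_comm := fun a b => Subtype.ext (hκ (by
        rw [Subgroup.coe_mul, Subgroup.coe_mul, map_mul, map_mul, hcf a, hcf b, Prod.mk_mul_mk,
          Prod.mk_mul_mk, ← map_mul, ← map_mul, ← map_mul, ← map_mul, mul_comm (cf a)])) }
  let pw : T →* T := powMonoidHom ℓ
  have h7 : Nat.card pw.ker ≤ ℓ ^ 7 := by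
    have hroot : ∀ (x : pw.ker) i, cf x.1 i ∈ rootsOfUnity ℓ L := fun x i => by
      have h1 : x.1 ^ ℓ = 1 := x.2
      have h2 := congrArg (fun y : T => (κ y.1).1) h1
      simp only [SubgroupClass.coe_pow, map_pow, hcf, Prod.pow_fst, OneMemClass.coe_one, map_one,
        Prod.fst_one] at h2
      rw [← map_pow] at h2
      rw [mem_rootsOfUnity, ← Pi.pow_apply, E7Rep.eq_one_of_tor56 h2]
      rfl
    have hinj : Function.Injective fun (x : pw.ker) (i : Fin tabE7.l) =>
        (⟨cf x.1 i, hroot x i⟩ : rootsOfUnity ℓ L) := fun x y e => by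
      refine Subtype.ext (Subtype.ext (hκ ?_))
      rw [hcf, hcf, show cf x.1 = cf y.1 from funext fun i => congrArg Subtype.val (congrFun e i)]
    refine (Nat.card_le_card_of_injective _ hinj).trans ?_
    rw [Nat.card_fun, Nat.card_fin, show tabE7.l = 7 from rfl]
    exact Nat.pow_le_pow_left (card_rootsOfUnity L ℓ) 7
  have hT7 : Nat.card (θ.comp T.subtype).range ≤ ℓ ^ 7 := by
    have hle : pw.range ≤ (θ.comp T.subtype).ker := by
      rintro _ ⟨x, rfl⟩
      rw [MonoidHom.mem_ker]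
      show (θ.comp T.subtype) (x ^ ℓ) = 1
      rw [map_pow, hE]
    have h1 : Nat.card (θ.comp T.subtype).range ∣ pw.range.index := by
      rw [← Subgroup.index_ker]; exact Subgroup.index_dvd_of_le hle
    have h2 : pw.range.index = Nat.card pw.ker := by
      have a := Subgroup.card_mul_index pw.range
      have b := Subgroup.card_mul_index pw.ker
      rw [Subgroup.index_ker] at b
      have hpos : 0 < Nat.card pw.range := Nat.card_pos
      exact Nat.eq_of_mul_eq_mul_left hpos (by rw [a, ← b, mul_comm])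
    exact (Nat.le_of_dvd (by rw [h2]; exact Nat.card_pos) h1).trans (h2 ▸ h7)
  have hTr : (θ.comp T.subtype).range = T.map θ := by
    rw [MonoidHom.range_comp, Subgroup.range_subtype]
  rw [hTr] at hT7
  have h4 : (T.map θ).index ≤ ℓ ^ 4 :=
    (Nat.le_of_dvd (Nat.pos_of_ne_zero Subgroup.index_ne_zero_of_finite)
      (T.index_map_dvd hθ)).trans hidx
  calc Nat.card E = Nat.card (T.map θ) * (T.map θ).index := (Subgroup.card_mul_index _).symm
    _ ≤ ℓ ^ 7 * ℓ ^ 4 := Nat.mul_le_mul hT7 h4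
    _ = ℓ ^ 11 := by rw [← pow_add]

/-- The space fixed by an element. -/
noncomputable def fixDim {k : Type} [Field k] (M : Matrix (Fin 56) (Fin 56) k) : ℕ :=
  Module.finrank k (LinearMap.ker (Matrix.toLin' M - 1))

theorem fixDim_eq {k : Type} [Field k] (M : Matrix (Fin 56) (Fin 56) k) :
    fixDim M + (M - 1).rank = 56 := by
  have h := LinearMap.finrank_range_add_finrank_ker (Matrix.toLin' (M - 1))
  rw [Module.finrank_fin_fun] at h
  rw [fixDim, show (1 : (Fin 56 → k) →ₗ[k] (Fin 56 → k)) = Matrix.toLin' 1 from Matrix.toLin'_one.symm,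
    ← map_sub, Matrix.rank, ← Matrix.toLin'_apply', add_comm]
  exact h

theorem rank_conj {k : Type} [Field k] (G : GL (Fin 56) k) (M : Matrix (Fin 56) (Fin 56) k) :
    ((G : Matrix (Fin 56) (Fin 56) k) * M * ((G⁻¹ : GL (Fin 56) k) : Matrix (Fin 56) (Fin 56) k)).rank =
      M.rank := by
  rw [Matrix.rank_mul_eq_left_of_isUnit_det _ _ (Matrix.isUnit_iff_isUnit_det _ |>.1 G⁻¹.isUnit),
    Matrix.rank_mul_eq_right_of_isUnit_det _ _ (Matrix.isUnit_iff_isUnit_det _ |>.1 G.isUnit)]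

/-- Either the element is monomial along a nontrivial permutation or it has an invariant vector. -/
theorem fix_cases {ℓ : ℕ} [Fact ℓ.Prime] (hℓ2 : ℓ ≠ 2) (hℓq : ¬ ℓ ∣ Fintype.card F)
    {u : GL (Fin 56) F × GL chevE7.Idx F} (hu : u ∈ pairs F) (huℓ : u ^ ℓ = 1) (hu1 : u ≠ 1)
    (hfus : ∀ a : ℕ, ¬ ℓ ∣ a → ∃ h ∈ pairs F, h * u * h⁻¹ = u ^ a)
    {k : Type} [Field k] [IsAlgClosed k] (j₀ : F →+* k) :
    (∃ (w : GL (Fin 56) k) (τ : Equiv.Perm (Fin 56)) (N : Matrix (Fin 7) (Fin 7) ℤ),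
      E7Monomial.Weyl τ N ∧ τ ^ ℓ = 1 ∧ τ ≠ 1 ∧
      E7Monomial.MonAlong (w : Matrix (Fin 56) (Fin 56) k) τ ∧
      fixDim ((u.1 : Matrix (Fin 56) (Fin 56) F).map j₀) = fixDim (w : Matrix (Fin 56) (Fin 56) k)) ∨
    ∃ c : Fin 7 → ZMod ℓ, c ≠ 0 ∧ (∀ j, j ≠ 0 → num c j = num c 1) ∧
      fixDim ((u.1 : Matrix (Fin 56) (Fin 56) F).map j₀) = num c 0 := by
  classical
  have hℓ : ℓ.Prime := Fact.out
  obtain ⟨L, _, _, f, jk, g, hjk, hQ1, hg, hconj⟩ := exists_conj hℓ2 hℓq
    (P := Subgroup.zpowers u) (Subgroup.zpowers_le.2 hu)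
    (IsPGroup.of_card_dvd_pow (n := 1) (by
      rw [Nat.card_zpowers, pow_one]; exact orderOf_dvd_of_pow_eq_one huℓ)) j₀
  set d := g * mapHom f u * g⁻¹ with hd
  have hdm : d ∈ monPairs L := hconj u (Subgroup.mem_zpowers u)
  have hdℓ : d ^ ℓ = 1 := by rw [hd, conj_pow, ← map_pow, huℓ, map_one, mul_one, mul_inv_cancel]
  have hd1 : d ≠ 1 := fun h => hu1 (mapHom_injective f (by rw [map_one]; exact conj_eq_one_iff.1 h))
  obtain ⟨τ, N, hW, hmon, hτd⟩ := E7Rep.mon_form hdm.1 hdm.2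
  let M : GL (Fin 56) L →* GL (Fin 56) k :=
    Units.map (jk.mapMatrix : Matrix (Fin 56) (Fin 56) L →+* _).toMonoidHom
  have hU : (M ((mapHom f u).1) : Matrix (Fin 56) (Fin 56) k) =
      (u.1 : Matrix (Fin 56) (Fin 56) F).map j₀ := by
    rw [← hjk]
    simp [M, mapHom, Matrix.map_map, Function.comp_def]
  have hfix : fixDim ((u.1 : Matrix (Fin 56) (Fin 56) F).map j₀) =
      fixDim (M d.1 : Matrix (Fin 56) (Fin 56) k) := by
    have h1 := fixDim_eq ((u.1 : Matrix (Fin 56) (Fin 56) F).map j₀)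
    have h2 := fixDim_eq (M d.1 : Matrix (Fin 56) (Fin 56) k)
    have h3 : (M d.1 : Matrix (Fin 56) (Fin 56) k) - 1 = (M g.1 : Matrix (Fin 56) (Fin 56) k) *
        ((u.1 : Matrix (Fin 56) (Fin 56) F).map j₀ - 1) * ((M g.1)⁻¹ : GL (Fin 56) k) := by
      rw [mul_sub, sub_mul, mul_one, ← hU, hd]
      simp only [Prod.fst_mul, Prod.fst_inv, map_mul, map_inv, Units.val_mul]
      rw [← Units.val_mul (M g.1) (M g.1)⁻¹, mul_inv_cancel, Units.val_one]
    rw [h3, rank_conj] at h2
    omega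
  have hMmon : E7Monomial.MonAlong (M d.1 : Matrix (Fin 56) (Fin 56) k) τ := fun a b hb => by
    show jk ((d.1 : Matrix (Fin 56) (Fin 56) L) b a) = 0
    rw [hmon a b hb, map_zero]
  by_cases hτ1 : τ = 1
  swap
  · refine Or.inl ⟨M d.1, τ, N, hW, ?_, hτ1, hMmon, hfix⟩
    have h1 := hmon.pow (τ := τ) ℓ
    rw [← Units.val_pow_eq_pow_val, show d.1 ^ ℓ = 1 from congrArg Prod.fst hdℓ, Units.val_one] at h1
    exact E7Monomial.MonAlong.unique (u := (1 : GL (Fin 56) L)) (by simpa using h1)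
      (by simpa using E7Monomial.monAlong_one)
  refine Or.inr ?_
  obtain ⟨c, hc⟩ := E7Rep.diag_form hdm.1 (hτd hτ1)
  have hcℓ : c ^ ℓ = 1 := E7Rep.eq_one_of_tor56 (by
    rw [map_pow, show tor56 c = d.1 from (congrArg Prod.fst hc).symm]; exact congrArg Prod.fst hdℓ)
  obtain ⟨ω, hω⟩ := exists_prime_orderOf_dvd_card' (G := Lˣ) ℓ (by
    rwa [Nat.card_units, Nat.card_eq_fintype_card])
  have hω' : IsPrimitiveRoot (ω : L) ℓ := by
    rw [IsPrimitiveRoot.iff_orderOf, orderOf_units, hω]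
  have hXi : ∀ i, ∃ n : ℕ, ω ^ n = c i := fun i => by
    obtain ⟨n, -, hn⟩ := hω'.eq_pow_of_pow_eq_one (ξ := (c i : L))
      (by rw [← Units.val_pow_eq_pow_val, show c i ^ ℓ = 1 from congrFun hcℓ i, Units.val_one])
    exact ⟨n, Units.ext (by rw [Units.val_pow_eq_pow_val, hn])⟩
  choose X hX using hXi
  set x : Fin 7 → ZMod ℓ := fun i => (X (e7 i) : ZMod ℓ) with hx
  set ζ : k := jk (ω : L) with hζdef
  have hζ : IsPrimitiveRoot ζ ℓ := hω'.map_of_injective jk.injective
  have hval : ∀ b, jk ((∏ i, c (e7 i) ^ wt b i : Lˣ) : L) = ζ ^ (val x b).val := fun b => by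
    have h1 : (∏ i, c (e7 i) ^ wt b i : Lˣ) = ω ^ ∑ i, (X (e7 i) : ℤ) * wt b i := by
      rw [← E7Rep.prod_zpow_sum]
      exact Finset.prod_congr rfl fun i _ => by rw [← hX, _root_.zpow_mul, zpow_natCast]
    have h2 : (∏ i, c (e7 i) ^ wt b i : Lˣ) = ω ^ (val x b).val := by
      rw [h1, ← zpow_natCast, zpow_eq_zpow_iff_modEq, hω, ← ZMod.intCast_eq_intCast_iff]
      push_cast
      rw [ZMod.natCast_zmod_val]
      rfl
    rw [h2, Units.val_pow_eq_pow_val, map_pow]
  have hMd : (M d.1 : Matrix (Fin 56) (Fin 56) k) = Matrix.diagonal fun b => ζ ^ (val x b).val := by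
    rw [show d.1 = tor56 c from congrArg Prod.fst hc]
    show (Matrix.diagonal _).map jk = _
    rw [Matrix.diagonal_map (map_zero jk)]
    exact congrArg Matrix.diagonal (funext hval)
  have hpow : ∀ i : ℕ, ∀ z : ZMod ℓ, ζ ^ i = ζ ^ z.val ↔ (i : ZMod ℓ) = z := fun i z => by
    constructor
    · intro h
      have h' : ζ ^ (i % ℓ) = ζ ^ z.val := by
        rw [← h]
        conv_rhs => rw [← Nat.mod_add_div i ℓ, pow_add, pow_mul, hζ.pow_eq_one, one_pow, mul_one]
      have := hζ.pow_inj (Nat.mod_lt _ hℓ.pos) (ZMod.val_lt z) h'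
      rw [← ZMod.natCast_mod, this, ZMod.natCast_zmod_val]
    · rintro rfl
      rw [ZMod.val_natCast]
      conv_lhs => rw [← Nat.mod_add_div i ℓ, pow_add, pow_mul, hζ.pow_eq_one, one_pow, mul_one]
  have hrank : ∀ (a : ℕ) (j : ZMod ℓ),
      ((M d.1 : Matrix (Fin 56) (Fin 56) k) ^ a - ζ ^ j.val • 1).rank =
        56 - (Finset.univ.filter fun b => (a : ZMod ℓ) * val x b = j).card := fun a j => by
    rw [hMd, Matrix.diagonal_pow, Matrix.smul_one_eq_diagonal, Matrix.diagonal_sub, Matrix.rank_diagonal,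
      Fintype.card_subtype]
    have h56 := Finset.card_filter_add_card_filter_not (s := (Finset.univ : Finset (Fin 56)))
      (fun b => (a : ZMod ℓ) * val x b = j)
    rw [Finset.card_univ, Fintype.card_fin] at h56
    rw [Finset.filter_congr (q := fun b => ¬ (a : ZMod ℓ) * val x b = j) fun b _ => ?_]
    · omega
    · rw [not_iff_not, Pi.pow_apply, sub_eq_zero, ← pow_mul, hpow]
      push_cast
      rw [ZMod.natCast_zmod_val, mul_comm]
  have hx0 : x ≠ 0 := fun h0 => hd1 (by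
    have : c = 1 := funext fun i => by
      have h1 : (X i : ZMod ℓ) = 0 := by
        have := congrFun h0 (e7.symm i)
        simpa [hx] using this
      obtain ⟨m, hm⟩ := (ZMod.natCast_eq_zero_iff _ _).1 h1
      rw [← hX, hm, pow_mul, ← hω, pow_orderOf_eq_one, one_pow]
      rfl
    rw [hc, this, map_one, map_one]
    rfl)
  refine ⟨x, hx0, fun j hj => ?_, ?_⟩
  · set a := j.val
    have hja : (a : ZMod ℓ) = j := ZMod.natCast_zmod_val j
    obtain ⟨h, hh, he⟩ := hfus a (fun hd => hj (by rw [← hja]; exact (ZMod.natCast_eq_zero_iff _ _).2 hd))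
    set G := M (g * mapHom f h * g⁻¹).1
    have hG : (G : Matrix (Fin 56) (Fin 56) k) * (M d.1 : Matrix (Fin 56) (Fin 56) k) *
        ((G⁻¹ : GL (Fin 56) k) : Matrix (Fin 56) (Fin 56) k) =
          (M d.1 : Matrix (Fin 56) (Fin 56) k) ^ a := by
      have h1 : g * mapHom f h * g⁻¹ * d * (g * mapHom f h * g⁻¹)⁻¹ = d ^ a := by
        rw [hd, conj_pow, ← map_pow, ← he, map_mul, map_mul, map_inv]; group
      have h2 := congrArg (fun p => (M p.1 : Matrix (Fin 56) (Fin 56) k)) h1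
      simp only [Prod.fst_mul, Prod.fst_inv, Prod.pow_fst, map_mul, map_inv, map_pow, Units.val_mul,
        Units.val_pow_eq_pow_val] at h2
      simp only [G, Prod.fst_mul, Prod.fst_inv, map_mul, map_inv, Units.val_mul]
      exact h2
    have h1 := rank_conj G ((M d.1 : Matrix (Fin 56) (Fin 56) k) ^ 1 - ζ ^ j.val • 1)
    rw [mul_sub, sub_mul, pow_one, hG, mul_smul_comm, smul_mul_assoc, mul_one, ← Units.val_mul,
      mul_inv_cancel, Units.val_one, hrank] at h1
    conv at h1 => rhs; rw [← pow_one (M d.1 : Matrix (Fin 56) (Fin 56) k)]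
    rw [hrank, Nat.cast_one] at h1
    have e1 : (Finset.univ.filter fun b => (a : ZMod ℓ) * val x b = j).card = num x 1 := by
      rw [num, hja]
      congr 1
      refine Finset.filter_congr fun b _ => ?_
      exact mul_right_eq_self₀.trans ⟨fun h => h.resolve_right hj, Or.inl⟩
    have e2 : (Finset.univ.filter fun b => (1 : ZMod ℓ) * val x b = j).card = num x j := by
      rw [num]; simp
    rw [e1, e2] at h1
    have b1 := Finset.card_le_univ (Finset.univ.filter fun b => val x b = j)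
    have b2 := Finset.card_le_univ (Finset.univ.filter fun b => val x b = (1 : ZMod ℓ))
    rw [Fintype.card_fin] at b1 b2
    simp only [num] at h1 ⊢
    omega
  · rw [hfix]
    have h1 := fixDim_eq (M d.1 : Matrix (Fin 56) (Fin 56) k)
    have h2 := hrank 1 0
    rw [pow_one, ZMod.val_zero, pow_zero, one_smul] at h2
    have e : (Finset.univ.filter fun b => ((1 : ℕ) : ZMod ℓ) * val x b = 0).card = num x 0 := by
      rw [num]; simp
    have b1 := Finset.card_le_univ (Finset.univ.filter fun b => val x b = 0)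
    rw [Fintype.card_fin] at b1
    rw [e] at h2
    simp only [num] at h1 h2 ⊢
    omega

/-- An element of order five fused to its powers fixes at most twenty-four dimensions. -/
theorem fix_five [Fact (Nat.Prime 5)] (hq : ¬ 5 ∣ Fintype.card F)
    {u : GL (Fin 56) F × GL chevE7.Idx F} (hu : u ∈ pairs F) (hu5 : u ^ 5 = 1) (hu1 : u ≠ 1)
    (hfus : ∀ a : ℕ, ¬ 5 ∣ a → ∃ h ∈ pairs F, h * u * h⁻¹ = u ^ a)
    {k : Type} [Field k] [IsAlgClosed k] (j₀ : F →+* k) :
    fixDim ((u.1 : Matrix (Fin 56) (Fin 56) F).map j₀) ≤ 24 := by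
  rcases fix_cases (by norm_num) hq hu hu5 hu1 hfus j₀ with
    ⟨w, τ, N, hW, hτ, hne, hmon, e⟩ | ⟨c, hc, hb, e⟩ <;> rw [e]
  · exact E7Monomial.mon_five hW hτ hne hmon
  · exact E7Weights.num_five hc hb

/-- An element of order seven fused to its powers fixes at most twenty dimensions, and not fourteen. -/
theorem fix_seven [Fact (Nat.Prime 7)] (hq : ¬ 7 ∣ Fintype.card F)
    {u : GL (Fin 56) F × GL chevE7.Idx F} (hu : u ∈ pairs F) (hu7 : u ^ 7 = 1) (hu1 : u ≠ 1)
    (hfus : ∀ a : ℕ, ¬ 7 ∣ a → ∃ h ∈ pairs F, h * u * h⁻¹ = u ^ a)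
    {k : Type} [Field k] [IsAlgClosed k] (j₀ : F →+* k) :
    fixDim ((u.1 : Matrix (Fin 56) (Fin 56) F).map j₀) ≤ 20 ∧
      fixDim ((u.1 : Matrix (Fin 56) (Fin 56) F).map j₀) ≠ 14 := by
  rcases fix_cases (by norm_num) hq hu hu7 hu1 hfus j₀ with
    ⟨w, τ, N, hW, hτ, hne, hmon, e⟩ | ⟨c, hc, hb, e⟩ <;> rw [e]
  · have := E7Monomial.mon_seven hW hτ hne hmon
    show Module.finrank _ _ ≤ 20 ∧ Module.finrank _ _ ≠ 14
    omega
  · exact E7Weights.num_seven hc hb

end CfsgLib.Classical.AltSection.E7Sylow
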