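import Mathlib.Data.ZMod.Basic
import Mathlib.Algebra.BigOperators.Fin
import Mathlib.Algebra.Field.ZMod
import Mathlib.Data.Matrix.Mul
import Mathlib.Tactic

/-!
The fifty-six weights of type E7, their form, and the number of weights vanishing at a vector modulo five
or seven whose nonzero values are equally frequent.
-/

set_option autoImplicit false
set_option maxRecDepth 100000
set_option linter.unusedSectionVars false

namespace CfsgLib.Classical.AltSection.E7Weights

/-- Half of the weights, shifted by one. -/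
def wtData : List (List ℕ) :=
  [[1, 1, 1, 1, 1, 1, 2], [1, 1, 1, 1, 1, 2, 0], [1, 1, 1, 1, 2, 0, 1], [1, 1, 1, 2, 0, 1, 1],
    [1, 2, 2, 0, 1, 1, 1], [1, 0, 2, 1, 1, 1, 1], [2, 2, 0, 1, 1, 1, 1], [2, 0, 0, 2, 1, 1, 1],
    [0, 2, 1, 1, 1, 1, 1], [0, 0, 1, 2, 1, 1, 1], [2, 1, 1, 0, 2, 1, 1], [0, 1, 2, 0, 2, 1, 1],
    [2, 1, 1, 1, 0, 2, 1], [1, 1, 0, 1, 2, 1, 1], [0, 1, 2, 1, 0, 2, 1], [2, 1, 1, 1, 1, 0, 2],
    [1, 1, 0, 2, 0, 2, 1], [0, 1, 2, 1, 1, 0, 2], [2, 1, 1, 1, 1, 1, 0], [1, 2, 1, 0, 1, 2, 1],
    [1, 1, 0, 2, 1, 0, 2], [0, 1, 2, 1, 1, 1, 0], [1, 0, 1, 1, 1, 2, 1], [1, 2, 1, 0, 2, 0, 2],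
    [1, 1, 0, 2, 1, 1, 0], [1, 0, 1, 1, 2, 0, 2], [1, 2, 1, 1, 0, 1, 2], [1, 2, 1, 0, 2, 1, 0]]

/-- The opposite weight. -/
def negData : List ℕ :=
  [55, 54, 53, 52, 51, 50, 49, 47, 48, 46, 45, 44, 43, 42, 41, 40, 39, 38, 37, 36, 35, 34, 33, 32,
    31, 30, 29, 28]

/-- The opposite weight. -/
def opp (a : Fin 28) : Fin 56 := ⟨negData.getD a.val 0 % 56, Nat.mod_lt _ (by omega)⟩

/-- A weight in the first half. -/
def pos (a : Fin 28) : Fin 56 := Fin.castLE (by omega) a

/-- The representatives of both signs. -/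
def both (p : Fin 28 ⊕ Fin 28) : Fin 56 := Sum.elim pos opp p

theorem both_bijective : Function.Bijective both := by
  refine (Fintype.bijective_iff_injective_and_card both).2 ⟨?_, by simp⟩
  have h : ((List.finRange 28).map pos ++ (List.finRange 28).map opp).Nodup := by decide +kernel
  have h1 := List.nodup_append.1 h
  rintro (a | a) (b | b) e
  · exact congrArg Sum.inl (Fin.castLE_injective (show 28 ≤ 56 by omega) e)
  · exact absurd e (h1.2.2 _ (List.mem_map_of_mem (List.mem_finRange a)) _
      (List.mem_map_of_mem (List.mem_finRange b)))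
  · exact absurd e.symm (h1.2.2 _ (List.mem_map_of_mem (List.mem_finRange b)) _
      (List.mem_map_of_mem (List.mem_finRange a)))
  · exact congrArg Sum.inr (List.inj_on_of_nodup_map h1.2.1 (List.mem_finRange a) (List.mem_finRange b) e)

/-- A weight in the first half. -/
def wt28 (a : Fin 28) (i : Fin 7) : ℤ := ((wtData.getD a.val []).getD i.val 1 : ℤ) - 1

/-- The weight of a coordinate. -/
def wt (a : Fin 56) (i : Fin 7) : ℤ :=
  if h : a.val < 28 then wt28 ⟨a.val, h⟩ i
  else -wt28 ⟨(negData.idxOf a.val) % 28, Nat.mod_lt _ (by omega)⟩ i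

theorem wt_pos (a : Fin 28) (i : Fin 7) : wt (pos a) i = wt28 a i := by
  rw [wt, dif_pos (show (pos a).val < 28 from a.2)]; rfl

theorem wt_opp : ∀ (a : Fin 28) (i : Fin 7), wt (opp a) i = -wt28 a i := by
  decide +kernel

variable {R : Type*} [CommRing R]

/-- The value of a weight. -/
def val (c : Fin 7 → R) (a : Fin 56) : R := ∑ i, c i * (wt a i : R)

/-- The value of a weight in the first half. -/
def val28 (c : Fin 7 → R) (a : Fin 28) : R := ∑ i, c i * (wt28 a i : R)

/-- The number of weights with a given value. -/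
def num [DecidableEq R] (c : Fin 7 → R) (j : R) : ℕ :=
  (Finset.univ.filter fun a => val c a = j).card

theorem val_pos (c : Fin 7 → R) (a : Fin 28) : val c (pos a) = val28 c a := by
  simp [val, val28, wt_pos]

theorem val_opp (c : Fin 7 → R) (a : Fin 28) : val c (opp a) = -val28 c a := by
  simp [val, val28, wt_opp]

theorem num_eq [DecidableEq R] (c : Fin 7 → R) (j : R) :
    num c j = (Finset.univ.filter fun a => val28 c a = j).card +
      (Finset.univ.filter fun a => -val28 c a = j).card := by
  rw [num, Finset.card_filter, ← Fintype.sum_equiv (Equiv.ofBijective both both_bijective)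
    (fun p => if val c (both p) = j then 1 else 0) _ (fun p => rfl), Fintype.sum_sum_type,
    Finset.card_filter, Finset.card_filter]
  simp [both, val_pos, val_opp]

/-! ### Eight coordinates -/

/-- Twice the eight coordinates. -/
def uData : List (List ℤ) :=
  [[0, 1, 0, 0, 0, 0, 0], [0, -1, 0, 0, 0, 0, 2], [0, -1, 0, 0, 0, 2, -2], [0, -1, 0, 0, 2, -2, 0],
    [0, -1, 0, 2, -2, 0, 0], [0, 1, 2, -2, 0, 0, 0], [2, 1, -2, 0, 0, 0, 0], [-2, 1, 0, 0, 0, 0, 0]]

/-- An entry of the coordinates. -/
def ue (i : Fin 8) (t : Fin 7) : ℤ := (uData.getD i.val []).getD t.val 0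

/-- The weights as signed sums of two coordinates. -/
def tabData : List (ℕ × ℕ × ℤ) :=
  [(0, 1, 1), (0, 2, 1), (0, 3, 1), (0, 4, 1), (0, 5, 1), (6, 7, -1), (0, 6, 1), (5, 7, -1), (0, 7, 1),
    (5, 6, -1), (4, 7, -1), (4, 6, -1), (3, 7, -1), (4, 5, -1), (3, 6, -1), (2, 7, -1), (3, 5, -1),
    (2, 6, -1), (1, 7, -1), (3, 4, -1), (2, 5, -1), (1, 6, -1), (1, 2, 1), (2, 4, -1), (1, 5, -1),
    (1, 3, 1), (2, 3, -1), (1, 4, -1)]

/-- The two coordinates of a weight. -/
def pairOf (a : Fin 28) : Fin 8 × Fin 8 :=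
  (⟨(tabData.getD a.val (0, 0, 0)).1 % 8, Nat.mod_lt _ (by omega)⟩,
    ⟨(tabData.getD a.val (0, 0, 0)).2.1 % 8, Nat.mod_lt _ (by omega)⟩)

/-- The sign of a weight. -/
def sgnOf (a : Fin 28) : ℤ := (tabData.getD a.val (0, 0, 0)).2.2

theorem two_wt : ∀ (a : Fin 28) (t : Fin 7),
    2 * wt28 a t = sgnOf a * (ue (pairOf a).1 t + ue (pairOf a).2 t) := by
  decide +kernel

theorem sgn_cases : ∀ a : Fin 28, sgnOf a = 1 ∨ sgnOf a = -1 := by
  decide +kernel

/-- The unordered pairs of entries of a list. -/
def pairs {α : Type*} : List α → List (α × α)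
  | [] => []
  | x :: v => v.map (fun y => (x, y)) ++ pairs v

theorem pairs_map {α β : Type*} (f : α → β) : ∀ v : List α,
    pairs (v.map f) = (pairs v).map fun q => (f q.1, f q.2) := by
  intro v
  induction v with
  | nil => rfl
  | cons x v ih => simp [pairs, ih, Function.comp_def]

theorem perm_pairs : ((List.finRange 28).map pairOf).Perm (pairs (List.finRange 8)) := by
  decide +kernel

theorem uData_sum : ∀ t : Fin 7, ∑ i, ue i t = 0 := by
  decide +kernel

/-- Integral combinations of the weights recovering the coordinates. -/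
def recData : List (List ℤ) :=
  [[0, -1, 0, -1, 0, 1, -1], [1, -2, 0, -2, 0, 1, -1], [0, -2, -1, -3, 1, 0, -1],
    [1, -3, -1, -4, 0, 1, -2], [0, -2, -1, -3, 0, 0, -1], [0, -1, -1, -2, 0, 0, 0],
    [0, -1, -1, -1, 0, 0, 0]]

/-- The weights used. -/
def recW (t : Fin 7) : Fin 56 := ([45, 32, 27, 54, 42, 12, 19] : List (Fin 56)).getD t.val 0

theorem rec_ok : ∀ i j : Fin 7,
    ∑ t, (recData.getD i.val []).getD t.val 0 * wt (recW t) j = if i = j then 1 else 0 := by
  decide +kernel

/-- A vector is determined by its values. -/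
theorem eq_zero_of_val {c : Fin 7 → R} (h : ∀ a, val c a = 0) : c = 0 := by
  funext i
  have e : ∑ t, ((recData.getD i.val []).getD t.val 0 : R) * val c (recW t) = c i := by
    simp only [val, Finset.mul_sum]
    rw [Finset.sum_comm, Finset.sum_eq_single i]
    · rw [Finset.sum_congr rfl fun t _ => show _ = c i * (((recData.getD i.val []).getD t.val 0 *
        wt (recW t) i : ℤ) : R) by push_cast; ring, ← Finset.mul_sum, ← Int.cast_sum, rec_ok, if_pos rfl]
      simp
    · intro j _ hj
      rw [Finset.sum_congr rfl fun t _ => show _ = c j * (((recData.getD i.val []).getD t.val 0 *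
        wt (recW t) j : ℤ) : R) by push_cast; ring, ← Finset.mul_sum, ← Int.cast_sum, rec_ok,
        if_neg (Ne.symm hj)]
      simp
    · simp
  simpa [h] using e.symm

/-- The eight coordinates. -/
def uvec (c : Fin 7 → R) (i : Fin 8) : R := ∑ t, c t * (ue i t : R)

theorem two_val (c : Fin 7 → R) (a : Fin 28) :
    2 * val28 c a = (sgnOf a : R) * (uvec c (pairOf a).1 + uvec c (pairOf a).2) := by
  simp only [val28, uvec, ← Finset.sum_add_distrib, Finset.mul_sum]
  refine Finset.sum_congr rfl fun t _ => ?_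
  have h := congrArg (fun z : ℤ => (z : R)) (two_wt a t)
  push_cast at h
  linear_combination (c t) * h

theorem sum_uvec (c : Fin 7 → R) : ∑ i, uvec c i = 0 := by
  simp only [uvec]
  rw [Finset.sum_comm]
  refine Finset.sum_eq_zero fun t _ => ?_
  rw [← Finset.mul_sum, ← Int.cast_sum, uData_sum]
  simp

/-- The sum over unordered pairs. -/
def pairSum (φ : R → ℕ) (v : List R) : ℕ := ((pairs v).map fun q => φ (q.1 + q.2)).sum

theorem pairSum_cons (φ : R → ℕ) (x : R) (v : List R) :
    pairSum φ (x :: v) = (v.map fun y => φ (x + y)).sum + pairSum φ v := by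
  simp [pairSum, pairs, Function.comp_def]

theorem pairSum_perm (φ : R → ℕ) {v w : List R} (h : v.Perm w) : pairSum φ v = pairSum φ w := by
  induction h with
  | nil => rfl
  | cons x h ih => rw [pairSum_cons, pairSum_cons, ih, (h.map _).sum_eq]
  | swap x y l =>
    simp only [pairSum_cons, List.map_cons, List.sum_cons]
    rw [add_comm y x]
    omega
  | trans _ _ h1 h2 => exact h1.trans h2

/-- The values in terms of the eight coordinates. -/
theorem num_pairSum {p : ℕ} [Fact p.Prime] (h2 : (2 : ZMod p) ≠ 0) (c : Fin 7 → ZMod p) (j : ZMod p) :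
    num c j = pairSum (fun x => if x = 2 * j then 1 else 0) (List.ofFn (uvec c)) +
      pairSum (fun x => if x = -(2 * j) then 1 else 0) (List.ofFn (uvec c)) := by
  have key : ∀ φ : ZMod p → ℕ, pairSum φ (List.ofFn (uvec c)) =
      ∑ a, φ (uvec c (pairOf a).1 + uvec c (pairOf a).2) := fun φ => by
    rw [pairSum, List.ofFn_eq_map, pairs_map, List.map_map, ← (perm_pairs.map _).sum_eq,
      List.map_map, ← List.ofFn_eq_map, List.sum_ofFn]
    rfl
  rw [key, key, num_eq, Finset.card_filter, Finset.card_filter, ← Finset.sum_add_distrib,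
    ← Finset.sum_add_distrib]
  refine Finset.sum_congr rfl fun a _ => ?_
  have hv := two_val c a
  set s := uvec c (pairOf a).1 + uvec c (pairOf a).2
  have e1 : val28 c a = j ↔ 2 * val28 c a = 2 * j := (mul_right_inj' h2).symm
  have e2 : -val28 c a = j ↔ 2 * val28 c a = -(2 * j) := by
    rw [neg_eq_iff_eq_neg, ← mul_neg]; exact (mul_right_inj' h2).symm
  rw [if_congr e1 rfl rfl, if_congr e2 rfl rfl, hv]
  rcases sgn_cases a with e | e <;> rw [e] <;> push_cast
  · simp
  · simp only [neg_mul, one_mul, neg_eq_iff_eq_neg, _root_.neg_neg]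
    exact add_comm _ _

/-! ### The search -/

/-- A test at every residue. -/
noncomputable def allBelow (f : ℕ → Bool) (l : ℕ) : Bool :=
  Nat.rec (motive := fun _ => Bool) true (fun k ih => bif f k then ih else false) l

theorem allBelow_spec {f : ℕ → Bool} : ∀ {l : ℕ}, allBelow f l = true → ∀ x < l, f x = true := by
  intro l
  induction l with
  | zero => intro _ x hx; omega
  | succ k ih =>
    intro h x hx
    have h' : (bif f k then allBelow f k else false) = true := h
    cases hk : f k
    · simp [hk] at h'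
    · rw [hk, cond_true] at h'
      rcases Nat.lt_succ_iff_lt_or_eq.1 hx with h1 | rfl
      · exact ih h' x h1
      · exact hk

/-- All weakly decreasing completions. -/
noncomputable def srch (t : List ℕ → Bool) (m : ℕ) : ℕ → List ℕ → Bool :=
  Nat.rec (motive := fun _ => ℕ → List ℕ → Bool) (fun _ acc => t acc)
    (fun _ ih b acc => allBelow (fun x => ih (Nat.succ x) (x :: acc)) b) m

theorem srch_spec {t : List ℕ → Bool} : ∀ (w acc : List ℕ) (b : ℕ), srch t w.length b acc = true →
    (∀ x ∈ w, x < b) → w.Pairwise (fun x y => y ≤ x) → t (w.reverse ++ acc) = true := by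
  intro w
  induction w with
  | nil => intro acc b h _ _; simpa using (show t acc = true from h)
  | cons x w ih =>
    intro acc b h hb hp
    have h1 := allBelow_spec (show allBelow (fun x => srch t w.length (Nat.succ x) (x :: acc)) b = true
      from h) x (hb x List.mem_cons_self)
    rw [List.pairwise_cons] at hp
    rw [List.reverse_cons, List.append_assoc, List.singleton_append]
    exact ih (x :: acc) _ h1 (fun y hy => Nat.lt_succ_of_le (hp.1 y hy)) hp.2

/-- The number of values in each class, packed in fields of six bits. -/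
noncomputable def hist (l : ℕ) (v : List ℕ) : ℕ :=
  List.rec (motive := fun _ => ℕ) 0
    (fun x _ ih => Nat.add ih (Nat.pow 64 (Nat.mod x l))) v

/-- The sums of unordered pairs. -/
noncomputable def sums (v : List ℕ) : List ℕ :=
  List.rec (motive := fun _ => List ℕ) []
    (fun x v ih => v.map (Nat.add x) ++ ih) v

/-- A field. -/
noncomputable def fld (h j : ℕ) : ℕ := Nat.mod (Nat.div h (Nat.pow 64 j)) 64

/-- The coordinates sum to zero and are not all zero. -/
noncomputable def admissible (l : ℕ) (v : List ℕ) : Bool :=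
  Nat.beq (Nat.mod v.sum l) 0 && !Nat.beq v.sum 0

/-- The test modulo five. -/
noncomputable def testFive (v : List ℕ) : Bool :=
  bif admissible 5 v then
    let h := hist 5 (sums v)
    bif Nat.beq (Nat.add (fld h 1) (fld h 4)) (Nat.add (fld h 2) (fld h 3)) then
      Nat.ble (fld h 0) 12
    else true
  else true

/-- The test modulo seven. -/
noncomputable def testSeven (v : List ℕ) : Bool :=
  bif admissible 7 v then
    let h := hist 7 (sums v)
    bif Nat.beq (Nat.add (fld h 1) (fld h 6)) (Nat.add (fld h 2) (fld h 5)) &&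
        Nat.beq (Nat.add (fld h 1) (fld h 6)) (Nat.add (fld h 3) (fld h 4)) then
      Nat.ble (fld h 0) 10 && !Nat.beq (fld h 0) 7
    else true
  else true

theorem five_all : srch testFive 8 5 [] = true := by
  decide +kernel

theorem seven_all : srch testSeven 8 7 [] = true := by
  decide +kernel

theorem fld_hist {l : ℕ} [NeZero l] (v : List ℕ) (hv : v.length < 64) {j : ℕ} (hj : j < l) :
    fld (hist l v) j = (v.map fun x : ℕ => (x : ZMod l)).count (j : ZMod l) := by
  have key : ∀ v : List ℕ, v.length < 64 → ∃ a b, b < 64 ^ j ∧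
      hist l v = a * 64 ^ (j + 1) + (v.map fun x : ℕ => (x : ZMod l)).count (j : ZMod l) * 64 ^ j + b ∧
      b ≤ v.length * 64 ^ (j - 1) := by
    intro v
    induction v with
    | nil => intro _; exact ⟨0, 0, by positivity, by simp [hist], by simp⟩
    | cons x v ih =>
      intro hv
      rw [List.length_cons] at hv
      obtain ⟨a, b, hb, he, hb'⟩ := ih (by omega)
      have hx : hist l (x :: v) = hist l v + 64 ^ (x % l) := rfl
      rw [List.map_cons, List.count_cons, hx, he]
      have hiff : ((x : ZMod l) == (j : ZMod l)) = decide (x % l = j) := by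
        rw [beq_eq_decide]
        congr 1
        rw [ZMod.natCast_eq_natCast_iff', Nat.mod_eq_of_lt hj]
      rw [hiff]
      rcases lt_trichotomy (x % l) j with h | h | h
      · refine ⟨a, b + 64 ^ (x % l), ?_, ?_, ?_⟩
        · have h1 : 64 ^ (x % l) ≤ 64 ^ (j - 1) := Nat.pow_le_pow_right (by omega) (by omega)
          have h2 : (v.length + 1) * 64 ^ (j - 1) < 64 * 64 ^ (j - 1) :=
            Nat.mul_lt_mul_of_pos_right hv (by positivity)
          rw [← pow_succ', Nat.sub_add_cancel (by omega)] at h2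
          rw [add_mul, one_mul] at h2
          omega
        · simp [h.ne]; ring
        · have h1 : 64 ^ (x % l) ≤ 64 ^ (j - 1) := Nat.pow_le_pow_right (by omega) (by omega)
          rw [List.length_cons, Nat.succ_mul]; exact add_le_add hb' h1
      · refine ⟨a, b, hb, ?_, ?_⟩
        · simp [h]; ring
        · rw [List.length_cons]; exact hb'.trans (Nat.mul_le_mul_right _ (Nat.le_succ _))
      · obtain ⟨d, hd⟩ := Nat.exists_eq_add_of_le (show j + 1 ≤ x % l by omega)
        refine ⟨a + 64 ^ d, b, hb, ?_, ?_⟩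
        · simp [h.ne']; rw [hd]; ring
        · rw [List.length_cons]; exact hb'.trans (Nat.mul_le_mul_right _ (Nat.le_succ _))
  obtain ⟨a, b, hb, he, -⟩ := key v hv
  have hc : (v.map fun x : ℕ => (x : ZMod l)).count (j : ZMod l) < 64 := by
    have := List.count_le_length (l := v.map fun x : ℕ => (x : ZMod l)) (a := (j : ZMod l))
    rw [List.length_map] at this
    omega
  show hist l v / 64 ^ j % 64 = _
  rw [he, show a * 64 ^ (j + 1) + (v.map fun x : ℕ => (x : ZMod l)).count (j : ZMod l) * 64 ^ j + b =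
      b + 64 ^ j * (a * 64 + (v.map fun x : ℕ => (x : ZMod l)).count (j : ZMod l)) by ring,
    Nat.add_mul_div_left _ _ (by positivity), Nat.div_eq_of_lt hb, zero_add,
    add_comm, Nat.add_mul_mod_self_right, Nat.mod_eq_of_lt hc]

section prime

variable {p : ℕ} [Fact p.Prime]

variable (h2 : (2 : ZMod p) ≠ 0)
include h2

/-- A list of sorted coordinates passing a test. -/
theorem exists_list {t : List ℕ → Bool} (hall : srch t 8 p [] = true) {c : Fin 7 → ZMod p} (hc : c ≠ 0) :
    ∃ v : List ℕ, t v = true ∧ admissible p v = true ∧ v.length = 8 ∧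
      (v.map fun x : ℕ => (x : ZMod p)).Perm (List.ofFn (uvec c)) := by
  let u : List ℕ := List.ofFn fun i => (uvec c i).val
  set w := u.mergeSort (fun x y => decide (y ≤ x)) with hw
  have hperm : w.Perm u := List.mergeSort_perm _ _
  have hlen : w.length = 8 := by rw [hperm.length_eq]; simp [u]
  have hsorted : w.Pairwise fun x y => y ≤ x := by
    have := List.pairwise_mergeSort (le := fun x y : ℕ => decide (y ≤ x))
      (fun a b c h1 h2 => by simp only [decide_eq_true_eq] at h1 h2 ⊢; omega)
      (fun a b => by simp only [Bool.or_eq_true, decide_eq_true_eq]; omega) u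
    simpa [hw] using this
  have hlt : ∀ x ∈ w, x < p := fun x hx => by
    have := hperm.mem_iff.1 hx
    simp only [u, List.mem_ofFn] at this
    obtain ⟨i, rfl⟩ := this
    exact ZMod.val_lt _
  have ht := srch_spec (t := t) w [] p (by rw [hlen]; exact hall) hlt hsorted
  rw [List.append_nil] at ht
  have hv : w.reverse.Perm u := (List.reverse_perm w).trans hperm
  have hcast : (w.reverse.map fun x : ℕ => (x : ZMod p)).Perm (List.ofFn (uvec c)) := by
    have := hv.map (fun x : ℕ => (x : ZMod p))
    simpa [u, List.map_ofFn, Function.comp_def] using this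
  refine ⟨w.reverse, ht, ?_, by simp [hlen], hcast⟩
  rw [admissible, Bool.and_eq_true, Bool.not_eq_true']
  constructor
  · refine (Nat.beq_eq ..).mpr ?_
    refine Nat.mod_eq_zero_of_dvd ((ZMod.natCast_eq_zero_iff _ _).1 ?_)
    rw [Nat.cast_list_sum]
    rw [hcast.sum_eq, List.sum_ofFn, sum_uvec]
  · refine Bool.eq_false_iff.2 fun h0 => hc (eq_zero_of_val fun a => ?_)
    rw [Nat.beq_eq, List.sum_eq_zero_iff] at h0
    have hu : ∀ i, uvec c i = 0 := fun i => by
      have hm : uvec c i ∈ w.reverse.map fun x : ℕ => (x : ZMod p) :=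
        hcast.mem_iff.2 (List.mem_ofFn.2 ⟨i, rfl⟩)
      obtain ⟨x, hx, e⟩ := List.mem_map.1 hm
      rw [← e, h0 x hx, Nat.cast_zero]
    obtain ⟨q, rfl⟩ := both_bijective.2 a
    have h28 : ∀ b, val28 c b = 0 := fun b => by
      have := two_val c b
      rw [hu, hu, add_zero, mul_zero] at this
      exact (mul_eq_zero.1 this).resolve_left h2
    rcases q with b | b
    · exact (val_pos c b).trans (h28 b)
    · exact (val_opp c b).trans (by rw [h28, neg_zero])

omit h2 in
theorem sums_map : ∀ v : List ℕ, ((sums v).map fun x : ℕ => (x : ZMod p)) =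
    (pairs (v.map fun x : ℕ => (x : ZMod p))).map fun q => q.1 + q.2 := by
  intro v
  induction v with
  | nil => rfl
  | cons x v ih =>
    show ((v.map (Nat.add x) ++ sums v).map fun x : ℕ => (x : ZMod p)) = _
    rw [List.map_append, ih]
    simp [pairs, Function.comp_def]

omit h2 in
theorem count_eq_sum {α : Type*} [DecidableEq α] (l : List α) (x : α) :
    l.count x = (l.map fun y => if y = x then 1 else 0).sum := by
  induction l with
  | nil => rfl
  | cons y ys ih => simp [List.count_cons, ih, add_comm]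

omit h2 in
theorem sums_length {v : List ℕ} (hv : v.length = 8) : (sums v).length = 28 := by
  match v, hv with
  | [_, _, _, _, _, _, _, _], _ => rfl

theorem num_count (c : Fin 7 → ZMod p) (v : List ℕ) (hlen : v.length = 8)
    (hv : (v.map fun x : ℕ => (x : ZMod p)).Perm (List.ofFn (uvec c))) {j : ℕ} (hj : j < p)
    (hj0 : 0 < j) :
    num c ((j : ZMod p) / 2) = fld (hist p (sums v)) j + fld (hist p (sums v)) (p - j) := by
  have hl : (sums v).length < 64 := by rw [sums_length hlen]; omega
  rw [fld_hist _ hl hj, fld_hist _ hl (by omega), num_pairSum h2, sums_map, count_eq_sum, count_eq_sum,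
    mul_div_cancel₀ _ h2, Nat.cast_sub hj.le, ZMod.natCast_self, zero_sub,
    ← pairSum_perm _ hv, ← pairSum_perm _ hv]
  simp [pairSum, Function.comp_def]

theorem num_count_zero (c : Fin 7 → ZMod p) (v : List ℕ) (hlen : v.length = 8)
    (hv : (v.map fun x : ℕ => (x : ZMod p)).Perm (List.ofFn (uvec c))) :
    num c 0 = 2 * fld (hist p (sums v)) 0 := by
  have hl : (sums v).length < 64 := by rw [sums_length hlen]; omega
  rw [fld_hist _ hl (NeZero.pos p), num_pairSum h2, sums_map, count_eq_sum, Nat.cast_zero,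
    mul_zero, neg_zero, ← pairSum_perm _ hv]
  simp [pairSum, Function.comp_def, two_mul]

end prime

theorem two_ne_five : (2 : ZMod 5) ≠ 0 := by decide

theorem two_ne_seven : (2 : ZMod 7) ≠ 0 := by decide

/-- Modulo five at most twenty-four values vanish if the others are equally frequent. -/
theorem num_five [Fact (Nat.Prime 5)] {c : Fin 7 → ZMod 5} (hc : c ≠ 0)
    (h : ∀ j, j ≠ 0 → num c j = num c 1) : num c 0 ≤ 24 := by
  have h2 := two_ne_five
  obtain ⟨v, ht, had, hlen, hv⟩ := exists_list h2 five_all hc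
  have hn : ∀ j : ℕ, 0 < j → j < 5 → num c ((j : ZMod 5) / 2) = num c 1 := fun j h0 h5 => by
    refine h _ (div_ne_zero (fun e => ?_) h2)
    have := Nat.le_of_dvd h0 ((ZMod.natCast_eq_zero_iff _ _).1 e)
    omega
  have a1 := (num_count h2 c v hlen hv (j := 1) (by omega) (by omega)).symm.trans (hn 1 (by omega) (by omega))
  have a2 := (num_count h2 c v hlen hv (j := 2) (by omega) (by omega)).symm.trans (hn 2 (by omega) (by omega))
  have a0 := num_count_zero h2 c v hlen hv
  simp only [show 5 - 1 = 4 from rfl, show 5 - 2 = 3 from rfl] at a1 a2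
  simp only [testFive, had, cond_true, Nat.add_eq, a1, a2, Nat.beq_refl, Nat.ble_eq] at ht
  omega

/-- Modulo seven at most twenty values vanish, and not fourteen. -/
theorem num_seven [Fact (Nat.Prime 7)] {c : Fin 7 → ZMod 7} (hc : c ≠ 0)
    (h : ∀ j, j ≠ 0 → num c j = num c 1) : num c 0 ≤ 20 ∧ num c 0 ≠ 14 := by
  have h2 := two_ne_seven
  obtain ⟨v, ht, had, hlen, hv⟩ := exists_list h2 seven_all hc
  have hn : ∀ j : ℕ, 0 < j → j < 7 → num c ((j : ZMod 7) / 2) = num c 1 := fun j h0 h5 => by
    refine h _ (div_ne_zero (fun e => ?_) h2)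
    have := Nat.le_of_dvd h0 ((ZMod.natCast_eq_zero_iff _ _).1 e)
    omega
  have a1 := (num_count h2 c v hlen hv (j := 1) (by omega) (by omega)).symm.trans (hn 1 (by omega) (by omega))
  have a2 := (num_count h2 c v hlen hv (j := 2) (by omega) (by omega)).symm.trans (hn 2 (by omega) (by omega))
  have a3 := (num_count h2 c v hlen hv (j := 3) (by omega) (by omega)).symm.trans (hn 3 (by omega) (by omega))
  have a0 := num_count_zero h2 c v hlen hv
  simp only [show 7 - 1 = 6 from rfl, show 7 - 2 = 5 from rfl, show 7 - 3 = 4 from rfl] at a1 a2 a3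
  simp only [testSeven, had, Nat.add_eq, a1, a2, a3, Nat.beq_refl, Bool.and_self, cond_true,
    Bool.and_eq_true, Bool.not_eq_true', Nat.ble_eq] at ht
  obtain ⟨t1, t2⟩ := ht
  refine ⟨by omega, fun e => ?_⟩
  rw [show fld (hist 7 (sums v)) 0 = 7 by omega] at t2
  exact Bool.noConfusion t2

end CfsgLib.Classical.AltSection.E7Weights
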