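import Cfsg.Agent.Lib.Classical.AltSection.Lift

/-!
Groups with the alternating group of degree 8 as a quotient and no elementary abelian subgroup of
order 16.
-/

set_option autoImplicit false
set_option maxRecDepth 100000

namespace CfsgLib.Classical.AltSection.EightSection

/-- Four commuting transpositions' worth of translations of two blocks of four points. -/
def block (v : (ZMod 2 × ZMod 2) × (ZMod 2 × ZMod 2)) : Fin 8 → Fin 8 := fun i =>
  Fin.ofNat 8 (if (i : ℕ) < 4 then ((i : ℕ) ^^^ (v.1.1.val + 2 * v.1.2.val))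
    else ((i : ℕ) ^^^ (v.2.1.val + 2 * v.2.2.val)))

theorem block_block : ∀ v i, block v (block v i) = i := by decide +kernel

/-- The translations as permutations. -/
def blockPerm (v : (ZMod 2 × ZMod 2) × (ZMod 2 × ZMod 2)) : Equiv.Perm (Fin 8) :=
  ⟨block v, block v, block_block v, block_block v⟩

theorem block_add : ∀ v w i, block (v + w) i = block v (block w i) := by decide +kernel

theorem block_sign : ∀ v, Equiv.Perm.sign (blockPerm v) = 1 := by decide +kernel

theorem block_inj : ∀ v, (∀ i, block v i = i) → v = 0 := by decide +kernel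

theorem exists_sixteen : ∃ E : Subgroup ↥(alternatingGroup (Fin 8)), Nat.card E = 16 ∧ ∀ g ∈ E, g * g = 1 := by
  let f : Multiplicative ((ZMod 2 × ZMod 2) × (ZMod 2 × ZMod 2)) →* ↥(alternatingGroup (Fin 8)) :=
    MonoidHom.mk' (fun v => ⟨blockPerm v.toAdd, Equiv.Perm.mem_alternatingGroup.2 (block_sign _)⟩)
      (fun v w => Subtype.ext (Equiv.ext fun i => block_add v.toAdd w.toAdd i))
  have hf : Function.Injective f := (injective_iff_map_eq_one f).2 fun v hv => by
    have h := block_inj v.toAdd fun i => Equiv.ext_iff.1 (congrArg Subtype.val hv) i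
    exact h
  refine ⟨f.range, ?_, ?_⟩
  · rw [← Nat.card_congr (MonoidHom.ofInjective hf).toEquiv, Nat.card_eq_fintype_card]
    rfl
  · rintro _ ⟨v, rfl⟩
    rw [← map_mul, show v * v = 1 from by revert v; decide, map_one]

variable {Hg : Type*} [Group Hg] [Finite Hg] (π : Hg →* ↥(alternatingGroup (Fin 8)))

/-- An involution centralised by a subgroup which still covers the quotient. -/
theorem exists_central (hπ : Function.Surjective π)
    (h16 : ∀ A : Subgroup Hg, Nat.card A = 16 → (∀ g ∈ A, g * g = 1) → False) :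
    ∃ (z : Hg) (C : Subgroup Hg), z ≠ 1 ∧ z * z = 1 ∧ Function.Surjective (π.comp C.subtype) ∧
      ∀ u ∈ C, u * z = z * u := by
  classical
  haveI := Fact.mk Nat.prime_two
  obtain ⟨T⟩ : Nonempty (Sylow 2 π.ker) := inferInstance
  by_cases hT : (T : Subgroup π.ker) = ⊥
  · -- the kernel is odd
    have hk : ¬ 2 ∣ Nat.card π.ker := fun hd => by
      have := T.ne_bot_of_dvd_card hd
      exact this hT
    obtain ⟨E, hE, hEexp⟩ := exists_sixteen
    set B := E.comap π with hB
    have hker : π.ker ≤ B := fun v hv => by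
      rw [hB, Subgroup.mem_comap, MonoidHom.mem_ker.1 hv]; exact E.one_mem
    have hcB : Nat.card B = Nat.card π.ker * 16 := by
      have h1 := Subgroup.card_mul_index B
      have h2 := Subgroup.card_mul_index π.ker
      rw [Subgroup.index_comap_of_surjective E hπ] at h1
      rw [Subgroup.index_ker, MonoidHom.range_eq_top.2 hπ, Subgroup.card_top, ← Subgroup.card_mul_index E, hE,
        ← h1, ← mul_assoc] at h2
      exact (Nat.eq_of_mul_eq_mul_right (Nat.pos_of_ne_zero Subgroup.index_ne_zero_of_finite) h2).symm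
    obtain ⟨S, hS⟩ := Sylow.exists_subgroup_card_pow_prime (G := ↥B) 2 (n := 4)
      (by rw [hcB]; exact dvd_mul_left _ _)
    refine (h16 (S.map B.subtype) (by rw [Subgroup.card_subtype, hS]; rfl) ?_).elim
    rintro _ ⟨g, hg, rfl⟩
    have h1 : π ((g * g : ↥B) : Hg) = 1 := by
      rw [Subgroup.coe_mul, map_mul]; exact hEexp _ g.2
    have h2 : orderOf ((g * g : ↥B) : Hg) = 1 := by
      refine Nat.eq_one_of_dvd_coprimes (a := 2 ^ 4) (b := Nat.card π.ker) ?_ ?_ ?_
      · exact (Nat.prime_two.coprime_iff_not_dvd.2 hk).pow_left 4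
      · rw [Subgroup.orderOf_coe, ← hS, ← Subgroup.orderOf_mk (g * g) (S.mul_mem hg hg)]
        exact orderOf_dvd_natCard _
      · exact Subgroup.orderOf_dvd_natCard _ (MonoidHom.mem_ker.2 h1)
    exact orderOf_eq_one_iff.1 h2
  · -- an elementary abelian subgroup of the kernel
    set P : Subgroup Hg := (T : Subgroup π.ker).map π.ker.subtype with hP
    have hPp : IsPGroup 2 P := T.isPGroup'.map _
    have hPne : P ≠ ⊥ := fun h => hT ((Subgroup.map_eq_bot_iff_of_injective _ π.ker.subtype_injective).1 h)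
    set Nz := Subgroup.normalizer (P : Set Hg) with hNz
    let A : Subgroup Hg :=
      { carrier := {x | x ∈ P ∧ x * x = 1 ∧ ∀ v ∈ P, x * v = v * x}
        one_mem' := ⟨P.one_mem, mul_one 1, fun v _ => by rw [one_mul, mul_one]⟩
        mul_mem' := fun {a b} ha hb => ⟨P.mul_mem ha.1 hb.1, by
          rw [mul_assoc a b, ← mul_assoc b a b, ← ha.2.2 b hb.1, mul_assoc a b b, hb.2.1, mul_one, ha.2.1],
          fun v hv => by rw [mul_assoc, hb.2.2 v hv, ← mul_assoc, ha.2.2 v hv, mul_assoc]⟩
        inv_mem' := fun {a} ha => by rw [inv_eq_of_mul_eq_one_right ha.2.1]; exact ha }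
    haveI : Nontrivial P := (Subgroup.nontrivial_iff_ne_bot P).2 hPne
    obtain ⟨z₀, hz₀⟩ : ∃ z : Subgroup.center P, orderOf z = 2 :=
      exists_prime_orderOf_dvd_card' 2 (by
        haveI := hPp.center_nontrivial
        obtain ⟨k, hk⟩ := (hPp.to_subgroup (Subgroup.center P)).exists_card_eq
        rw [hk]
        refine dvd_pow_self 2 fun h0 => ?_
        rw [h0, pow_zero, Subgroup.card_eq_one] at hk
        exact (Subgroup.nontrivial_iff_ne_bot _).1 inferInstance hk)
    have hz₁ : ((z₀ : ↥P) : Hg) ∈ A := by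
      refine ⟨(z₀ : ↥P).2, ?_, fun v hv => ?_⟩
      · have h := pow_orderOf_eq_one z₀
        rw [hz₀, pow_two] at h
        exact congrArg (fun u : Subgroup.center P => ((u : ↥P) : Hg)) h
      · exact congrArg Subtype.val (Subgroup.mem_center_iff.1 z₀.2 ⟨v, hv⟩).symm
    have hzne : ((z₀ : ↥P) : Hg) ≠ 1 := fun h => by
      rw [show z₀ = 1 from Subtype.ext (Subtype.ext h), orderOf_one] at hz₀
      omega
    have hA8 : Nat.card A ≤ 8 := by
      by_contra hA
      obtain ⟨k, hk⟩ := (hPp.to_le (show A ≤ P from fun x hx => hx.1)).exists_card_eq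
      have hk4 : 4 ≤ k := by
        by_contra hk4
        have : 2 ^ k ≤ 2 ^ 3 := Nat.pow_le_pow_right (by norm_num) (by omega)
        omega
      obtain ⟨S, hS⟩ := Sylow.exists_subgroup_card_pow_prime (G := ↥A) 2 (n := 4)
        (by rw [hk]; exact pow_dvd_pow _ hk4)
      exact h16 (S.map A.subtype) (by rw [Subgroup.card_subtype, hS]; rfl)
        (by rintro _ ⟨g, -, rfl⟩; exact g.2.2.1)
    have hAN : ∀ n ∈ Nz, ∀ a ∈ A, n * a * n⁻¹ ∈ A := by
      intro n hn a ha
      refine ⟨(Subgroup.mem_normalizer_iff.1 hn a).1 ha.1, ?_, fun v hv => ?_⟩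
      · rw [show n * a * n⁻¹ * (n * a * n⁻¹) = n * (a * a) * n⁻¹ by group, ha.2.1, mul_one, mul_inv_cancel]
      · have h := ha.2.2 _ ((Subgroup.mem_normalizer_iff''.1 hn v).1 hv)
        calc n * a * n⁻¹ * v = n * (a * (n⁻¹ * v * n)) * n⁻¹ := by group
          _ = n * (n⁻¹ * v * n * a) * n⁻¹ := by rw [h]
          _ = v * (n * a * n⁻¹) := by group
    let π' : ↥Nz →* ↥(alternatingGroup (Fin 8)) := π.comp Nz.subtype
    have hπ' : Function.Surjective π' := by
      intro a
      obtain ⟨u, rfl⟩ := hπ a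
      obtain ⟨n, hn, k, hk, e⟩ := (Subgroup.mem_sup_of_normal_right (t := π.ker)).1
        (Sylow.normalizer_sup_eq_top T ▸ Subgroup.mem_top u :
          u ∈ Subgroup.normalizer ((T : Subgroup π.ker).map π.ker.subtype : Set Hg) ⊔ π.ker)
      exact ⟨⟨n, hn⟩, by rw [← e, map_mul, MonoidHom.mem_ker.1 hk, mul_one]; rfl⟩
    let act : ↥Nz →* Equiv.Perm {a : ↥A // a ≠ 1} :=
      MonoidHom.mk' (fun n =>
        { toFun := fun a => ⟨⟨n * a.1.1 * (n : Hg)⁻¹, hAN n n.2 _ a.1.2⟩, fun h => a.2 (Subtype.ext (by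
            have h' := congrArg Subtype.val h
            exact conj_eq_one_iff.1 h'))⟩
          invFun := fun a => ⟨⟨(n : Hg)⁻¹ * a.1.1 * n, by
              have := hAN _ (n⁻¹).2 _ a.1.2
              rwa [Subgroup.coe_inv, inv_inv] at this⟩, fun h => a.2 (Subtype.ext (by
            have h' : (n : Hg)⁻¹ * a.1.1 * (n : Hg)⁻¹⁻¹ = 1 := by rw [inv_inv]; exact congrArg Subtype.val h
            exact conj_eq_one_iff.1 h'))⟩
          left_inv := fun a => Subtype.ext (Subtype.ext (by show (n : Hg)⁻¹ * (n * a.1.1 * (n : Hg)⁻¹) * n = _; group))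
          right_inv := fun a => Subtype.ext (Subtype.ext (by show (n : Hg) * ((n : Hg)⁻¹ * a.1.1 * n) * (n : Hg)⁻¹ = _; group)) })
        (fun m n => Equiv.ext fun a => Subtype.ext (Subtype.ext (by
          show (m : Hg) * n * a.1.1 * ((m : Hg) * n)⁻¹ = m * (n * a.1.1 * (n : Hg)⁻¹) * (m : Hg)⁻¹
          group)))
    have hcomm : ∀ c ∈ act.ker, ∀ a ∈ A, (c : Hg) * a = a * c := by
      intro c hc a ha
      by_cases ha1 : a = 1
      · rw [ha1, mul_one, one_mul]
      have := congrArg (fun u : {a : ↥A // a ≠ 1} => u.1.1)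
        (Equiv.ext_iff.1 (MonoidHom.mem_ker.1 hc) ⟨⟨a, ha⟩, fun h => ha1 (congrArg Subtype.val h)⟩)
      exact mul_inv_eq_iff_eq_mul.1 this
    haveI hn' : (act.ker.map π').Normal := Subgroup.Normal.map inferInstance π' hπ'
    haveI : IsSimpleGroup ↥(alternatingGroup (Fin 8)) := alternatingGroup.isSimpleGroup (by norm_num)
    rcases hn'.eq_bot_or_eq_top with h | h
    · have hle : act.ker ≤ π'.ker := by
        intro c hc
        have : π' c ∈ act.ker.map π' := ⟨c, hc, rfl⟩
        rwa [h, Subgroup.mem_bot] at this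
      have h1 := Subgroup.index_dvd_of_le hle
      rw [Subgroup.index_ker, Subgroup.index_ker, MonoidHom.range_eq_top.2 hπ', Subgroup.card_top] at h1
      have h2 : Nat.card act.range ≤ Nat.card (Equiv.Perm {a : ↥A // a ≠ 1}) := Subgroup.card_le_card_group _
      have h3 : Nat.card (Equiv.Perm {a : ↥A // a ≠ 1}) ≤ 5040 := by
        rw [Nat.card_perm]
        refine le_trans (Nat.factorial_le (?_ : _ ≤ 7)) (le_of_eq rfl)
        haveI := Fintype.ofFinite ↥A
        rw [Nat.card_eq_fintype_card, Fintype.card_subtype_compl, Fintype.card_subtype_eq, ← Nat.card_eq_fintype_card]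
        omega
      have h4 : Nat.card ↥(alternatingGroup (Fin 8)) = 20160 := by
        rw [nat_card_alternatingGroup, Nat.card_fin]; decide
      have := Nat.le_of_dvd Nat.card_pos h1
      omega
    · let σ : ↥act.ker →* ↥(alternatingGroup (Fin 8)) := π'.comp act.ker.subtype
      have hσ : Function.Surjective σ := fun a => by
        obtain ⟨c, hc, e⟩ : a ∈ act.ker.map π' := h ▸ Subgroup.mem_top a
        exact ⟨⟨c, hc⟩, e⟩
      refine ⟨((z₀ : ↥P) : Hg), act.ker.map Nz.subtype, hzne, hz₁.2.1, fun a => ?_, ?_⟩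
      · obtain ⟨c, hc⟩ := hσ a
        exact ⟨⟨_, ⟨c.1, c.2, rfl⟩⟩, hc⟩
      · rintro _ ⟨c, hc, rfl⟩
        exact hcomm c hc _ hz₁

/-- An element of order 7 fused to its square. -/
theorem exists_seven (C : Subgroup Hg) (hC : Function.Surjective (π.comp C.subtype)) :
    ∃ x y, x ∈ C ∧ y ∈ C ∧ orderOf x = 7 ∧ y * x * y⁻¹ = x ^ 2 := by
  let x : ↥(alternatingGroup (Fin 8)) := ⟨([0, 1, 2, 3, 4, 5, 6] : List (Fin 8)).formPerm,
    Equiv.Perm.mem_alternatingGroup.2 (by decide +kernel)⟩
  let y : ↥(alternatingGroup (Fin 8)) :=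
    ⟨([1, 2, 4] : List (Fin 8)).formPerm * ([3, 6, 5] : List (Fin 8)).formPerm,
      Equiv.Perm.mem_alternatingGroup.2 (by decide +kernel)⟩
  haveI := Fact.mk (show Nat.Prime 7 by norm_num)
  obtain ⟨xs', y', ho, -, hy'⟩ := Lift.exists_lift hC (fun _ : Unit => x) (fun _ => 7)
    (fun _ => by norm_num) (fun _ _ _ => Subsingleton.elim _ _)
    (fun _ => orderOf_eq_prime (by decide +kernel) (by decide +kernel))
    (fun _ _ => Commute.refl x) y (fun _ => 2) (fun _ => by decide +kernel)
    (fun _ hd => by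
      have : (7 : ℕ) ∣ 3 := hd.trans (orderOf_dvd_of_pow_eq_one (by decide +kernel : y ^ 3 = 1))
      omega)
  exact ⟨_, _, (xs' ()).2, y'.2, (Subgroup.orderOf_coe _).trans (ho ()),
    congrArg Subtype.val (hy' ())⟩

end CfsgLib.Classical.AltSection.EightSection
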