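import Cfsg.Agent.Lib.Classical.AltSection.Dich

/-!
Embeddings of blocks, and the three-cycles as block cycles.
-/

set_option autoImplicit false
set_option linter.unusedSectionVars false

namespace CfsgLib.Classical.AltSection

open Equiv Finset

variable {r K q : ℕ} [NeZero q]

theorem exists_extend {α β : Type*} [Fintype α] [Fintype β] [DecidableEq α] (f : α ↪ Fin r) (i : α ↪ β)
    (h : Fintype.card β ≤ r) : ∃ ι : β ↪ Fin r, ∀ a, ι (i a) = f a := by
  classical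
  obtain ⟨g0⟩ : Nonempty (β ↪ Fin r) := Function.Embedding.nonempty_of_card_le (by simpa using h)
  set g1 := i.trans g0
  let p := ((Equiv.ofInjective g1 g1.injective).symm.trans (Equiv.ofInjective f f.injective)).extendSubtype
  refine ⟨g0.trans p.toEmbedding, fun a => ?_⟩
  show p (g1 a) = f a
  rw [Equiv.extendSubtype_apply_of_mem _ _ ⟨a, rfl⟩]
  simp

theorem xB_sub {K' : ℕ} (hodd : Odd q) (ι : Fin K × ZMod q ↪ Fin r) (ι' : Fin K' × ZMod q ↪ Fin r)
    (i : Fin K) (i' : Fin K') (h : ∀ u, ι' (i', u) = ι (i, u)) :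
    xB hodd ι' i' = xB hodd ι i := by
  refine Subtype.ext (Equiv.ext fun y => ?_)
  by_cases hy : ∃ u, ι (i, u) = y
  · obtain ⟨u, rfl⟩ := hy
    rw [xB_apply, if_pos rfl, ← h, xB_apply, if_pos rfl, h]
  · push Not at hy
    have e1 : (xB hodd ι i : Perm (Fin r)) y = y := by
      by_cases hm : y ∈ Set.range ι
      · obtain ⟨⟨j, u⟩, rfl⟩ := hm
        rw [xB_apply, if_neg fun e => hy u (by rw [e])]
      · exact xB_apply_notMem hodd ι i hm
    have e2 : (xB hodd ι' i' : Perm (Fin r)) y = y := by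
      by_cases hm : y ∈ Set.range ι'
      · obtain ⟨⟨j, u⟩, rfl⟩ := hm
        rw [xB_apply, if_neg fun e => hy u (by rw [← h, e])]
      · exact xB_apply_notMem hodd ι' i' hm
    rw [e1, e2]

/-- The embedding of one block. -/
def single (q : ℕ) {K : ℕ} (i : Fin K) : Fin 1 × ZMod q ↪ Fin K × ZMod q :=
  ⟨fun z => (i, z.2), fun z z' h => Prod.ext (Subsingleton.elim _ _) (congrArg Prod.snd h : _)⟩

theorem xB_single (hodd : Odd q) (ι : Fin K × ZMod q ↪ Fin r) (i : Fin K) :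
    xB hodd ((single q i).trans ι) 0 = xB hodd ι i :=
  xB_sub hodd ι _ i 0 fun _ => rfl

/-- A block of three points. -/
theorem exists_three {a b c : Fin r} (hab : a ≠ b) (hbc : b ≠ c) (hac : a ≠ c) :
    ∃ ι : Fin 1 × ZMod 3 ↪ Fin r, ι (0, 0) = a ∧ ι (0, 1) = b ∧ ι (0, 2) = c := by
  let v : ZMod 3 → Fin r := ![a, b, c]
  have hv : Function.Injective v := fun i j h => by
    fin_cases i <;> fin_cases j <;> first | rfl | (simp [v, hab, hbc, hac, hab.symm, hbc.symm, hac.symm] at h)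
  exact ⟨⟨fun z => v z.2, fun z z' h => Prod.ext (Subsingleton.elim _ _) (hv h)⟩, rfl, rfl, rfl⟩

theorem xB_eq_c3 (hodd : Odd 3) (ι : Fin K × ZMod 3 ↪ Fin r) (i : Fin K) :
    xB hodd ι i = c3 (ι (i, 0)) (ι (i, 1)) (ι (i, 2)) := by
  have h01 : ι (i, (0 : ZMod 3)) ≠ ι (i, 1) := ι.injective.ne (by simp)
  have h12 : ι (i, (1 : ZMod 3)) ≠ ι (i, 2) := ι.injective.ne (fun e => absurd (congrArg Prod.snd e) (by decide : (1 : ZMod 3) ≠ 2))
  have h02 : ι (i, (0 : ZMod 3)) ≠ ι (i, 2) := ι.injective.ne (fun e => absurd (congrArg Prod.snd e) (by decide : (0 : ZMod 3) ≠ 2))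
  refine Subtype.ext (Equiv.ext fun y => ?_)
  by_cases hy : ∃ u, ι (i, u) = y
  · obtain ⟨u, rfl⟩ := hy
    rw [xB_apply, if_pos rfl]
    have hu : u = 0 ∨ u = 1 ∨ u = 2 := by revert u; decide
    rcases hu with rfl | rfl | rfl
    · rw [c3_apply_left h01 h12 h02]; rfl
    · rw [c3_apply_mid h01 h12 h02]; rfl
    · rw [c3_apply_right h01 h12 h02]; rfl
  · push Not at hy
    rw [c3_apply_other (Ne.symm (hy 0)) (Ne.symm (hy 1)) (Ne.symm (hy 2))]
    by_cases hm : y ∈ Set.range ι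
    · obtain ⟨⟨j, u⟩, rfl⟩ := hm
      rw [xB_apply, if_neg fun e => hy u (by rw [e])]
    · exact xB_apply_notMem hodd ι i hm

theorem c3_order {a b c : Fin r} (hab : a ≠ b) (hbc : b ≠ c) (hac : a ≠ c) :
    c3 a b c ^ 3 = 1 := by
  obtain ⟨ι, ha, hb, hc⟩ := exists_three hab hbc hac
  have hodd : Odd 3 := ⟨1, rfl⟩
  have h := xB_pow_card hodd ι 0
  rwa [xB_eq_c3, ha, hb, hc] at h

theorem c3_odd {a b c : Fin r} (hab : a ≠ b) (hbc : b ≠ c) (hac : a ≠ c) :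
    Odd (orderOf (c3 a b c)) :=
  Odd.of_dvd_nat (⟨1, rfl⟩ : Odd 3) (orderOf_dvd_of_pow_eq_one (c3_order hab hbc hac))

theorem c3_commute {a b c d e f : Fin r} (hd : d ≠ a ∧ d ≠ b ∧ d ≠ c) (he : e ≠ a ∧ e ≠ b ∧ e ≠ c)
    (hf : f ≠ a ∧ f ≠ b ∧ f ≠ c) (hde : d ≠ e) (hef : e ≠ f) : Commute (c3 a b c) (c3 d e f) := by
  show c3 a b c * c3 d e f = c3 d e f * c3 a b c
  have := c3_conj (c3 a b c) (c := f) hde hef
  rw [c3_apply_other hd.1 hd.2.1 hd.2.2, c3_apply_other he.1 he.2.1 he.2.2,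
    c3_apply_other hf.1 hf.2.1 hf.2.2, mul_inv_eq_iff_eq_mul] at this
  exact this

/-- A three-cycle as a product of two five-cycles. -/
theorem c3_eq_five (hodd : Odd 5) {a b c d e : Fin r} (hinj : Function.Injective ![a, b, c, d, e]) :
    ∃ ι₁ ι₂ : Fin 1 × ZMod 5 ↪ Fin r, Set.range ι₁ ⊆ Set.range ![a, b, c, d, e] ∧
      Set.range ι₂ ⊆ Set.range ![a, b, c, d, e] ∧
      xB hodd ι₁ 0 * xB hodd ι₂ 0 = c3 a b c := by
  let v : ZMod 5 → Fin r := ![a, b, c, d, e]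
  have hv : Function.Injective v := hinj
  let p₁ : ZMod 5 → ZMod 5 := fun u => if u = 1 then 2 else if u = 2 then 1 else u
  let p₂ : ZMod 5 → ZMod 5 := fun u => if u = 1 then 2 else if u = 2 then 4 else if u = 4 then 1 else u
  have hp₁ : Function.Injective p₁ := by decide
  have hp₂ : Function.Injective p₂ := by decide
  let ι₁ : Fin 1 × ZMod 5 ↪ Fin r :=
    ⟨fun z => v (p₁ z.2), fun z z' h => Prod.ext (Subsingleton.elim _ _) (hp₁ (hv h))⟩
  let ι₂ : Fin 1 × ZMod 5 ↪ Fin r :=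
    ⟨fun z => v (p₂ z.2), fun z z' h => Prod.ext (Subsingleton.elim _ _) (hp₂ (hv h))⟩
  refine ⟨ι₁, ι₂, by rintro _ ⟨z, rfl⟩; exact ⟨p₁ z.2, rfl⟩, by rintro _ ⟨z, rfl⟩; exact ⟨p₂ z.2, rfl⟩,
    Subtype.ext (Equiv.ext fun y => ?_)⟩
  have hab : a ≠ b := hinj.ne (show (0 : Fin 5) ≠ 1 by decide)
  have hbc : b ≠ c := hinj.ne (show (1 : Fin 5) ≠ 2 by decide)
  have hac : a ≠ c := hinj.ne (show (0 : Fin 5) ≠ 2 by decide)
  rw [Subgroup.coe_mul, Perm.mul_apply]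
  have h1 : ∀ u, (xB hodd ι₁ 0 : Perm (Fin r)) (v (p₁ u)) = v (p₁ (u + 1)) := fun u => by
    have := xB_apply hodd ι₁ 0 0 u
    rwa [if_pos rfl] at this
  have h2 : ∀ u, (xB hodd ι₂ 0 : Perm (Fin r)) (v (p₂ u)) = v (p₂ (u + 1)) := fun u => by
    have := xB_apply hodd ι₂ 0 0 u
    rwa [if_pos rfl] at this
  by_cases hy : ∃ u, v u = y
  · obtain ⟨u, rfl⟩ := hy
    obtain ⟨s, hs⟩ : ∃ s, p₂ s = u := Finite.surjective_of_injective hp₂ u
    obtain ⟨t, ht⟩ : ∃ t, p₁ t = p₂ (s + 1) := Finite.surjective_of_injective hp₁ _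
    subst hs
    rw [h2, ← ht, h1]
    have key : ∀ s t : ZMod 5, p₁ t = p₂ (s + 1) →
        p₁ (t + 1) = (fun u : ZMod 5 => if u = 0 then 1 else if u = 1 then 2 else if u = 2 then 0 else u) (p₂ s) := by decide
    rw [key s t ht]
    generalize p₂ s = u
    have hu : u = 0 ∨ u = 1 ∨ u = 2 ∨ u = 3 ∨ u = 4 := by revert u; decide
    rcases hu with rfl | rfl | rfl | rfl | rfl
    · exact (c3_apply_left hab hbc hac).symm
    · exact (c3_apply_mid hab hbc hac).symm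
    · exact (c3_apply_right hab hbc hac).symm
    · exact (c3_apply_other (hinj.ne (show (3 : Fin 5) ≠ 0 by decide))
        (hinj.ne (show (3 : Fin 5) ≠ 1 by decide)) (hinj.ne (show (3 : Fin 5) ≠ 2 by decide))).symm
    · exact (c3_apply_other (hinj.ne (show (4 : Fin 5) ≠ 0 by decide))
        (hinj.ne (show (4 : Fin 5) ≠ 1 by decide)) (hinj.ne (show (4 : Fin 5) ≠ 2 by decide))).symm
  · push Not at hy
    rw [xB_apply_notMem hodd ι₂ 0 (by rintro ⟨z, hz⟩; exact hy _ hz),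
      xB_apply_notMem hodd ι₁ 0 (by rintro ⟨z, hz⟩; exact hy _ hz)]
    exact (c3_apply_other (Ne.symm (hy 0)) (Ne.symm (hy 1)) (Ne.symm (hy 2))).symm

end CfsgLib.Classical.AltSection
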