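import Cfsg.Agent.Lib.Classical.AltSection.Pairs
import Cfsg.Agent.Lib.Classical.AltSection.Emb

/-!
When every three-cycle lift is fixed point free the dimension is exponential in the degree: the lifts
of the three-cycles through two fixed points generate a Clifford algebra.
-/

set_option autoImplicit false
set_option linter.unusedSectionVars false

namespace CfsgLib.Classical.AltSection

open Equiv Finset Module

variable {k : Type*} [Field k] [IsAlgClosed k] {V : Type*} [AddCommGroup V] [Module k V]
  [FiniteDimensional k V]
variable {Γ : Type*} [Group Γ] [Finite Γ] {r : ℕ}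
variable {π : Γ →* alternatingGroup (Fin r)} {ρ : Γ →* Module.End k V}

/-- The operator of a three-cycle. -/
noncomputable def Y (π : Γ →* alternatingGroup (Fin r)) (ρ : Γ →* Module.End k V) (a b c : Fin r) :
    Module.End k V :=
  ρ (lft π (c3 a b c))

/-- The smallness assumption. -/
structure Small (k : Type*) [Field k] (V : Type*) [AddCommGroup V] [Module k V] (r : ℕ) : Prop where
  le : Module.finrank k V + 2 ≤ r
  le' : (r : k) = 0 → Module.finrank k V + 3 ≤ r

theorem Y_pow (C : Cov π ρ) {a b c : Fin r} (hab : a ≠ b) (hbc : b ≠ c) (hac : a ≠ c) :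
    Y π ρ a b c ^ 3 = 1 := by
  rw [Y, ← map_pow, ← C.lft_pow (c3_odd hab hbc hac), c3_order hab hbc hac, lft_one C, map_one]

/-- Two three-cycles through a common pair multiply to an involution. -/
theorem c3_mul_sq {a b i j : Fin r} (hab : a ≠ b) (hia : i ≠ a) (hib : i ≠ b) (hja : j ≠ a)
    (hjb : j ≠ b) (hij : i ≠ j) :
    c3 a b i * c3 a b j * (c3 a b i * c3 a b j) = 1 := by
  refine Subtype.ext (Equiv.ext fun p => ?_)
  simp only [Subgroup.coe_mul, Perm.mul_apply, Subgroup.coe_one, Perm.one_apply]
  have L := fun (x : Fin r) (hx : x ≠ a) (hx' : x ≠ b) => c3_apply_left hab hx'.symm hx.symm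
  have M := fun (x : Fin r) (hx : x ≠ a) (hx' : x ≠ b) => c3_apply_mid hab hx'.symm hx.symm
  have R := fun (x : Fin r) (hx : x ≠ a) (hx' : x ≠ b) => c3_apply_right hab hx'.symm hx.symm
  have Oj : ((c3 a b i : alternatingGroup (Fin r)) : Perm (Fin r)) j = j :=
    c3_apply_other hja hjb hij.symm
  have Oi : ((c3 a b j : alternatingGroup (Fin r)) : Perm (Fin r)) i = i :=
    c3_apply_other hia hib hij
  by_cases pa : p = a
  · subst pa
    rw [L j hja hjb, M i hia hib, Oi, R i hia hib]
  by_cases pb : p = b
  · subst pb
    rw [M j hja hjb, Oj, R j hja hjb, L i hia hib]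
  by_cases pi : p = i
  · subst pi
    rw [Oi, R p hia hib, L j hja hjb, M p hia hib]
  by_cases pj : p = j
  · subst pj
    rw [R p hja hjb, L i hia hib, M p hja hjb, Oj]
  rw [c3_apply_other pa pb pj, c3_apply_other pa pb pi, c3_apply_other pa pb pj,
    c3_apply_other pa pb pi]

theorem bound_exp : ∀ r, 11 ≤ r → r - 2 < 2 ^ ((r - 3) / 2) := by
  intro r
  induction r using Nat.strong_induction_on with
  | _ r ih =>
    intro hr
    by_cases h : 13 ≤ r
    · have := ih (r - 2) (by omega) (by omega)
      rw [show (r - 3) / 2 = (r - 2 - 3) / 2 + 1 by omega, pow_succ]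
      omega
    · interval_cases r <;> norm_num

/-- A quadratic relation between two lifts through a common pair. -/
theorem pair_rel (C : Cov π ρ) [Nontrivial V] {a b i j : Fin r} (hab : a ≠ b) (hia : i ≠ a)
    (hib : i ≠ b) (hja : j ≠ a) (hjb : j ≠ b) (hij : i ≠ j)
    (hfpf : ∀ a b c : Fin r, a ≠ b → b ≠ c → a ≠ c →
      Y π ρ a b c * Y π ρ a b c + Y π ρ a b c + 1 = 0) :
    Y π ρ a b i * Y π ρ a b j + Y π ρ a b j * Y π ρ a b i + Y π ρ a b i + Y π ρ a b j + 1 = 0 := by
  set z := lft π (c3 a b i) * lft π (c3 a b j) * (lft π (c3 a b i) * lft π (c3 a b j)) with hz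
  have hzk : π z = 1 := by
    simp only [hz, map_mul, C.map_lft]; exact c3_mul_sq hab hia hib hja hjb hij
  obtain ⟨ε, hε⟩ := C.exists_scalar hzk
  set x := Y π ρ a b i
  set y := Y π ρ a b j
  have hx := hfpf a b i hab hib.symm hia.symm
  have hy := hfpf a b j hab hjb.symm hja.symm
  have hρz : x * y * (x * y) = ρ z := by simp only [x, y, Y, hz, map_mul]
  have hzε : ρ z = ε • (1 : Module.End k V) := LinearMap.ext fun v => by simp [hε]
  have hεsq : ε * ε = 1 := by
    have h := congrArg ρ (C.ker_sq hzk)
    rw [map_mul, map_one, hzε, smul_mul_assoc, one_mul, smul_smul] at h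
    obtain ⟨v, hv⟩ := exists_ne (0 : V)
    have := LinearMap.congr_fun h v
    rw [LinearMap.smul_apply, Module.End.one_apply] at this
    exact smul_left_injective k hv (by simpa using this)
  have hxx : x * x = -x - 1 := by linear_combination (norm := noncomm_ring) hx
  have hyy : y * y = -y - 1 := by linear_combination (norm := noncomm_ring) hy
  have hx3 : x * (x * x) = 1 := by
    rw [hxx, mul_sub, mul_neg, mul_one, hxx]; abel
  have hy3 : y * (y * y) = 1 := by
    rw [hyy, mul_sub, mul_neg, mul_one, hyy]; abel
  have h4 : x * y = ε • ((y + 1) * (x + 1)) := by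
    have h1 : x * y * (x * y) * (y * y * (x * x)) = ε • (y * y * (x * x)) := by
      rw [hρz, hzε, smul_mul_assoc, one_mul]
    rw [show x * y * (x * y) * (y * y * (x * x)) = x * y * (x * (y * (y * y)) * (x * x)) by noncomm_ring,
      hy3, mul_one, hx3, mul_one] at h1
    rw [h1, hxx, hyy]
    congr 1
    noncomm_ring
  rcases mul_self_eq_one_iff.1 hεsq with e | e
  · subst e
    rw [one_smul] at h4
    by_cases h2 : (2 : k) = 0
    · have e2 : ∀ u : Module.End k V, u + u = 0 := fun u => by rw [← two_smul k u, h2, zero_smul]
      have : x * y + y * x + x + y + 1 = (y * x + y * x) + (x + x) + (y + y) + ((1 : Module.End k V) + 1) := by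
        rw [h4]; noncomm_ring
      rw [this]; simp [e2]
    · exfalso
      have hz1 : z = 1 := C.inj (by rw [hzε, one_smul, map_one])
      have h5 : y * x = (x + 1) * (y + 1) := by
        have h1 : y * x * (y * x) * (x * x * (y * y)) = x * x * (y * y) := by
          have hc : y * x * (y * x) = 1 := by
            have h0 : x * y * (x * y) = 1 := by rw [hρz, hz1, map_one]
            calc y * x * (y * x) = (x * (x * x)) * (y * x * (y * x)) := by rw [hx3, one_mul]
              _ = x * x * (x * y * (x * y)) * x := by noncomm_ring
              _ = 1 := by rw [h0, mul_one, mul_assoc, hx3]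
          rw [hc, one_mul]
        rw [show y * x * (y * x) * (x * x * (y * y)) = y * x * (y * (x * (x * x)) * (y * y)) by noncomm_ring,
          hx3, mul_one, hy3, mul_one] at h1
        rw [h1, hxx, hyy]
        noncomm_ring
      have hsum : (2 : k) • (x + y + 1) = 0 := by
        rw [two_smul]
        linear_combination (norm := noncomm_ring) -h4 - h5
      have hxy : x + y + 1 = 0 := by
        have := congrArg (fun u => (2 : k)⁻¹ • u) hsum
        simpa [smul_smul, inv_mul_cancel₀ h2] using this
      have hy2 : y = x * x := by linear_combination (norm := noncomm_ring) hxy - hxx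
      have hg : c3 a b j = c3 a b i * c3 a b i := by
        have : lft π (c3 a b j) = lft π (c3 a b i) * lft π (c3 a b i) :=
          C.inj (by rw [map_mul]; exact hy2)
        have := congrArg π this
        rwa [map_mul, C.map_lft, C.map_lft] at this
      have := congrArg (fun g : alternatingGroup (Fin r) => (g : Perm (Fin r)) a) hg
      simp only [Subgroup.coe_mul, Perm.mul_apply, c3_apply_left hab hjb.symm hja.symm,
        c3_apply_left hab hib.symm hia.symm, c3_apply_mid hab hib.symm hia.symm] at this
      exact hib this.symm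
  · subst e
    rw [neg_smul, one_smul] at h4
    rw [h4]
    noncomm_ring

/-- No small representation has all three-cycles fixed point free. -/
theorem not_fpf (C : Cov π ρ) [Nontrivial V] (hs : Small k V r)
    (hfpf : ∀ a b c : Fin r, a ≠ b → b ≠ c → a ≠ c →
      Y π ρ a b c * Y π ρ a b c + Y π ρ a b c + 1 = 0) : False := by
  classical
  have hr := C.hr
  let a : Fin r := ⟨0, by omega⟩
  let b : Fin r := ⟨1, by omega⟩
  have hab : a ≠ b := Fin.ne_of_val_ne (by simp [a, b])
  let p : Fin (r - 2) → Fin r := fun i => ⟨i.1 + 2, by omega⟩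
  have hpa : ∀ i, p i ≠ a := fun i => Fin.ne_of_val_ne (by simp [p, a])
  have hpb : ∀ i, p i ≠ b := fun i => Fin.ne_of_val_ne (by simp [p, b])
  have hp : Function.Injective p := fun i j h => Fin.ext (by
    have := congrArg Fin.val h; simp only [p] at this; omega)
  let x : Fin (r - 2) → Module.End k V := fun i => Y π ρ a b (p i)
  have hxx : ∀ i, x i * x i + x i + 1 = 0 := fun i => hfpf _ _ _ hab (hpb i).symm (hpa i).symm
  have hxy : ∀ i j, i ≠ j → x i * x j + x j * x i + x i + x j + 1 = 0 := fun i j h =>
    pair_rel C hab (hpa i) (hpb i) (hpa j) (hpb j) (hp.ne h) hfpf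
  by_cases h2 : (2 : k) = 0
  · obtain ⟨w, hw⟩ := IsAlgClosed.exists_root (Polynomial.X ^ 2 + Polynomial.X + 1 : Polynomial k) (by
      have : (Polynomial.X ^ 2 + Polynomial.X + 1 : Polynomial k).degree = 2 := by compute_degree!
      rw [this]; decide)
    simp only [Polynomial.IsRoot, Polynomial.eval_add, Polynomial.eval_pow, Polynomial.eval_X,
      Polynomial.eval_one] at hw
    have e2 : ∀ u : Module.End k V, u + u = 0 := fun u => by rw [← two_smul k u, h2, zero_smul]
    let y : Fin (r - 2) → Module.End k V := fun i => x i + w • 1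
    have hyy : ∀ i, y i * y i = y i := fun i => by
      have h := hxx i
      simp only [y, add_mul, mul_add, smul_mul_assoc, mul_smul_comm, one_mul, mul_one, smul_smul]
      linear_combination (norm := skip) h
      match_scalars
      all_goals first | ring1 | linear_combination w * h2 | linear_combination hw | linear_combination hw - h2 | linear_combination hw - w * h2 | linear_combination hw - (w + 1) * h2 | linear_combination (w - 1) * h2
    have hyij : ∀ i j, i ≠ j → y i * y j + y j * y i = y i + y j + 1 := fun i j h => by
      have h' := hxy i j h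
      simp only [y, add_mul, mul_add, smul_mul_assoc, mul_smul_comm, one_mul, mul_one, smul_smul]
      linear_combination (norm := skip) h'
      match_scalars
      all_goals first | ring1 | linear_combination w * h2 | linear_combination (-1 : k) * h2 | linear_combination h2 | linear_combination (w * w - w) * h2 | linear_combination (w - 1) * h2 | linear_combination (w * w - w - 1) * h2
    let i0 : Fin (r - 2) := ⟨0, by omega⟩
    let f : Fin (r - 3) → Module.End k V := fun i => y ⟨i.1 + 1, by omega⟩ + y i0
    have hne : ∀ i : Fin (r - 3), (⟨i.1 + 1, by omega⟩ : Fin (r - 2)) ≠ i0 := fun i =>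
      Fin.ne_of_val_ne (by simp [i0])
    have hf : ∀ i, f i * f i = 1 := fun i => by
      simp only [f]
      rw [show (y ⟨i.1 + 1, by omega⟩ + y i0) * (y ⟨i.1 + 1, by omega⟩ + y i0) =
        y ⟨i.1 + 1, by omega⟩ * y ⟨i.1 + 1, by omega⟩ + y i0 * y i0 +
          (y ⟨i.1 + 1, by omega⟩ * y i0 + y i0 * y ⟨i.1 + 1, by omega⟩) by noncomm_ring,
        hyy, hyy, hyij _ _ (hne i), ← add_assoc, e2, zero_add]
    have hfij : ∀ i j, i ≠ j → f i * f j + f j * f i = 1 := fun i j h => by
      simp only [f]
      set u := y ⟨i.1 + 1, by omega⟩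
      set v := y ⟨j.1 + 1, by omega⟩
      rw [show (u + y i0) * (v + y i0) + (v + y i0) * (u + y i0) =
        (u * v + v * u) + (u * y i0 + y i0 * u) + (v * y i0 + y i0 * v) + (y i0 * y i0 + y i0 * y i0) by
        noncomm_ring, hyij _ _ (fun e => h (Fin.ext (by simpa using congrArg Fin.val e))),
        hyij _ _ (hne i), hyij _ _ (hne j), e2,
        show u + v + 1 + (u + y i0 + 1) + (v + y i0 + 1) + 0 =
          (u + u) + (v + v) + (y i0 + y i0) + ((1 : Module.End k V) + 1) + 1 by abel,
        e2 u, e2 v, e2 (y i0), e2 1]
      simp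
    have hle := Pairs.two_pow_le_of_char_two h2 f hf hfij
    have := hs.le
    rcases Nat.lt_or_ge r 11 with h | h
    · interval_cases r
      · norm_num at hle; omega
      · norm_num at hle
        have := hs.le' (by
          show ((10 : ℕ) : k) = 0
          rw [show (10 : ℕ) = 2 * 5 from rfl, Nat.cast_mul, show ((2 : ℕ) : k) = 0 from by simpa using h2,
            zero_mul])
        omega
    · have := bound_exp r h
      omega
  · let B : LinearMap.BilinForm k (Fin (r - 2) → k) :=
      LinearMap.mk₂ k (fun c d => -(2 * ∑ i, c i * d i + (∑ i, c i) * ∑ i, d i))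
        (fun c c' d => by simp only [Pi.add_apply, add_mul, Finset.sum_add_distrib]; ring)
        (fun t c d => by simp only [Pi.smul_apply, smul_eq_mul, ← Finset.mul_sum, mul_assoc]; ring)
        (fun c d d' => by simp only [Pi.add_apply, mul_add, Finset.sum_add_distrib]; ring)
        (fun t c d => by
          simp only [Pi.smul_apply, smul_eq_mul, mul_left_comm _ t, ← Finset.mul_sum]; ring)
    have hB : ∀ c d, B c d = -(2 * ∑ i, c i * d i + (∑ i, c i) * ∑ i, d i) := fun _ _ => rfl
    haveI : Invertible (2 : k) := invertibleOfNonzero h2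
    obtain ⟨bas, hbas⟩ := LinearMap.BilinForm.exists_orthogonal_basis (B := B) ⟨fun c d => by
      show B c d = B d c
      rw [hB, hB, mul_comm (∑ i, c i), Finset.sum_congr rfl fun i _ => mul_comm (c i) (d i)]⟩
    let qq : Fin (r - 2) → Module.End k V := fun i => (2 : k) • x i + 1
    let F : (Fin (r - 2) → k) → Module.End k V := fun c => ∑ i, c i • qq i
    have hqq : ∀ i j, qq i * qq j + qq j * qq i =
        (if i = j then (-6 : k) else -2) • (1 : Module.End k V) := fun i j => by
      by_cases h : i = j
      · subst h
        have h' := congrArg (fun u => (8 : k) • u) (hxx i)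
        simp only [smul_zero] at h'
        simp only [qq, if_true, add_mul, mul_add, smul_mul_assoc, mul_smul_comm, one_mul, mul_one, smul_smul]
        linear_combination (norm := module) h'
      · have h' := congrArg (fun u => (4 : k) • u) (hxy i j h)
        simp only [smul_zero] at h'
        simp only [qq, if_neg h, add_mul, mul_add, smul_mul_assoc, mul_smul_comm, one_mul, mul_one, smul_smul]
        linear_combination (norm := module) h'
    have hF : ∀ c d, F c * F d + F d * F c = (2 * B c d) • (1 : Module.End k V) := fun c d => by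
      simp only [F, Finset.sum_mul, Finset.mul_sum, smul_mul_assoc, mul_smul_comm, Finset.smul_sum, smul_smul]
      conv_lhs => arg 2; rw [Finset.sum_comm]
      rw [← Finset.sum_add_distrib]
      simp only [← Finset.sum_add_distrib, mul_comm (d _) (c _), ← smul_add, hqq, smul_smul,
        ← Finset.sum_smul]
      congr 1
      rw [hB]
      have : ∀ i j : Fin (r - 2), c i * d j * (if i = j then (-6 : k) else -2) =
          -2 * (c i * d j) + (if i = j then -4 * (c i * d j) else 0) := fun i j => by
        split_ifs <;> ring
      simp only [this, Finset.sum_add_distrib, Finset.sum_ite_eq, Finset.sum_ite_eq', Finset.mem_univ,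
        if_true, ← Finset.mul_sum, ← Finset.sum_mul]
      ring
    have hn : Module.finrank k (Fin (r - 2) → k) = r - 2 := Module.finrank_fin_fun k
    set S := univ.filter fun i => B (bas i) (bas i) ≠ 0
    have hiso : ∀ i, B (bas i) (bas i) = 0 →
        ∃ t : k, bas i = (fun _ => t) ∧ t * (r : k) = 0 := fun i hi => by
      have h0 : B (bas i) = 0 := bas.ext fun j => by
        by_cases h : i = j
        · subst h; simpa using hi
        · simpa using hbas h
      have hl : ∀ l, 2 * bas i l + ∑ m, bas i m = 0 := fun l => by
        have h := LinearMap.congr_fun h0 (Pi.single l 1)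
        rw [hB, LinearMap.zero_apply, neg_eq_zero] at h
        simpa [Pi.single_apply] using h
      refine ⟨-(∑ m, bas i m) / 2, funext fun l => ?_, ?_⟩
      · field_simp
        linear_combination hl l
      · have hsum : ∑ l, (2 * bas i l + ∑ m, bas i m) = 0 := Finset.sum_eq_zero fun l _ => hl l
        rw [Finset.sum_add_distrib, ← Finset.mul_sum, Finset.sum_const, Finset.card_univ,
          Fintype.card_fin, nsmul_eq_mul, Nat.cast_sub (by omega : 2 ≤ r)] at hsum
        field_simp
        push_cast at hsum
        linear_combination -hsum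
    have hS : r - 2 ≤ S.card + 1 ∧ ((r : k) ≠ 0 → r - 2 ≤ S.card) := by
      have hcard : S.card + Sᶜ.card = r - 2 := by rw [card_add_card_compl, Fintype.card_fin, hn]
      have hle1 : Sᶜ.card ≤ 1 := card_le_one.2 fun i hi j hj => by
        simp only [S, mem_compl, mem_filter, mem_univ, true_and, not_not] at hi hj
        obtain ⟨s, hs', -⟩ := hiso i hi
        obtain ⟨t, ht, -⟩ := hiso j hj
        by_contra hne
        have hs0 : s ≠ 0 := fun e => bas.ne_zero i (by rw [hs', e]; rfl)
        have h := (linearIndependent_iff'.1 bas.linearIndependent {i, j} (fun l => if l = i then t else -s) (by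
          rw [Finset.sum_pair hne, if_pos rfl, if_neg (Ne.symm hne), hs', ht]
          funext l; simp [mul_comm]) j (by simp))
        rw [if_neg (Ne.symm hne)] at h
        exact hs0 (neg_eq_zero.1 h)
      refine ⟨by omega, fun hr0 => ?_⟩
      have : Sᶜ.card = 0 := card_eq_zero.2 (eq_empty_of_forall_notMem fun i hi => by
        simp only [S, mem_compl, mem_filter, mem_univ, true_and, not_not] at hi
        obtain ⟨t, ht, ht0⟩ := hiso i hi
        exact bas.ne_zero i (by rw [ht, (mul_eq_zero.1 ht0).resolve_right hr0]; rfl))
      omega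
    let e := S.equivFin.symm
    have hle := Pairs.two_pow_le_of_anticomm (k := k) (V := V) h2 (fun l => F (bas (e l).1))
      (fun l => B (bas (e l).1) (bas (e l).1)) (fun l => (mem_filter.1 (e l).2).2)
      (fun l => by
        have h := congrArg (fun u => (2 : k)⁻¹ • u) (hF (bas (e l).1) (bas (e l).1))
        simp only [← two_smul k, smul_smul, ← mul_assoc, inv_mul_cancel₀ h2, one_smul, one_mul] at h
        exact h)
      (fun l l' hll => by
        have h := hF (bas (e l).1) (bas (e l').1)
        rw [show B (bas (e l).1) (bas (e l').1) = 0 from hbas (fun he => hll (e.injective (Subtype.ext he))),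
          mul_zero, zero_smul] at h
        exact eq_neg_of_add_eq_zero_right h)
    have := hs.le
    rcases Nat.lt_or_ge r 11 with h | h
    · by_cases hr0 : (r : k) = 0
      · have := hs.le' hr0
        have h3 : 2 ^ 3 ≤ 2 ^ (S.card / 2) := Nat.pow_le_pow_right two_pos (by omega)
        omega
      · have := hS.2 hr0
        rcases (by omega : r = 9 ∨ r = 10) with e | e
        · have h3 : 2 ^ 3 ≤ 2 ^ (S.card / 2) := Nat.pow_le_pow_right two_pos (by omega)
          omega
        · have h3 : 2 ^ 4 ≤ 2 ^ (S.card / 2) := Nat.pow_le_pow_right two_pos (by omega)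
          omega
    · have := bound_exp r h
      have h3 : 2 ^ ((r - 3) / 2) ≤ 2 ^ (S.card / 2) := Nat.pow_le_pow_right two_pos (by omega)
      omega

end CfsgLib.Classical.AltSection
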