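import Cfsg.Agent.Lib.PSolvable.Omega

/-!
Lifting commuting elements of prime order, together with an element acting on them through powers,
along a surjective homomorphism of finite groups.
-/

set_option autoImplicit false
set_option linter.unusedSectionVars false

namespace CfsgLib.Classical.AltSection.Lift

open Subgroup
open scoped commutatorElement

variable {H Q : Type*} [Group H] [Group Q] [Finite H] {π : H →* Q}

theorem conj_pow_iter {G : Type*} [Group G] {x y : G} {a : ℕ} (h : y * x * y⁻¹ = x ^ a) :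
    ∀ i : ℕ, y ^ i * x * (y ^ i)⁻¹ = x ^ a ^ i
  | 0 => by simp
  | i + 1 => by
    rw [pow_succ' y, show y * y ^ i * x * (y * y ^ i)⁻¹ = y * (y ^ i * x * (y ^ i)⁻¹) * y⁻¹ by group,
      conj_pow_iter h i, ← conj_pow, h, ← pow_mul, pow_succ' a]

theorem pow_modEq_one_pow {ℓ c : ℕ} (hc : c ≡ 1 [MOD ℓ]) : ∀ K : ℕ, c ^ ℓ ^ K ≡ 1 [MOD ℓ ^ (K + 1)]
  | 0 => by simpa using hc
  | K + 1 => by
    rw [pow_succ ℓ K, pow_mul]
    have hd : ∀ d : ℕ, d ≡ 1 [MOD ℓ ^ (K + 1)] → d ^ ℓ ≡ 1 [MOD ℓ ^ (K + 2)] := by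
      intro d hd
      rw [← Int.natCast_modEq_iff, Int.modEq_iff_dvd] at hd ⊢
      push_cast at hd ⊢
      obtain ⟨t, ht⟩ := hd
      have hdiv : (ℓ : ℤ) ^ (K + 2) ∣ (d : ℤ) ^ ℓ - 1 := by
        have h1 : (ℓ : ℤ) ∣ (d : ℤ) - 1 := ⟨-(ℓ : ℤ) ^ K * t, by
          rw [show (d : ℤ) - 1 = -(1 - d) by ring, ht, pow_succ]; ring⟩
        have h2 := dvd_geom_sum₂_self h1
        simp only [one_pow, mul_one] at h2
        have h3 : ((ℓ : ℤ) ^ (K + 1)) ∣ (d : ℤ) - 1 := ⟨-t, by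
          rw [show (d : ℤ) - 1 = -(1 - d) by ring, ht]; ring⟩
        rw [pow_succ, ← geom_sum_mul (d : ℤ) ℓ, mul_comm ((ℓ : ℤ) ^ (K + 1))]
        exact mul_dvd_mul h2 h3
      simpa [dvd_sub_comm] using hdiv
    exact hd _ (pow_modEq_one_pow hc K)

/-- A normalised subgroup of prime power order carrying an element of order `ℓ` in its image, the
normaliser acting on the image through a power, contains such an element. -/
theorem exists_eigen {ℓ : ℕ} [hℓ : Fact ℓ.Prime] {x₀ : Q} (hx₀ : orderOf x₀ = ℓ) {y : H} {a : ℕ}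
    (hy : π y * x₀ * (π y)⁻¹ = x₀ ^ a) (hcop : ¬ ℓ ∣ orderOf y) (P : Subgroup H) (hP : IsPGroup ℓ P)
    (hnorm : ∀ v ∈ P, y * v * y⁻¹ ∈ P) (hx : x₀ ∈ P.map π) (himg : P.map π ≤ zpowers x₀) :
    ∃ x ∈ P, orderOf x = ℓ ∧ y * x * y⁻¹ = x ^ a := by
  classical
  obtain ⟨R, ⟨hRP, hRn, hRx⟩, hmin⟩ :=
    (Set.toFinite {R : Subgroup H | R ≤ P ∧ (∀ v ∈ R, y * v * y⁻¹ ∈ R) ∧ x₀ ∈ R.map π}).exists_minimal
      ⟨P, le_rfl, hnorm, hx⟩
  have hR : IsPGroup ℓ R := hP.to_le hRP
  obtain ⟨K, hK⟩ := hR.exists_card_eq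
  set m := orderOf y with hm
  have ha1 : a ^ m ≡ 1 [MOD ℓ] := by
    have h := conj_pow_iter hy m
    rw [← map_pow, hm, pow_orderOf_eq_one, map_one, one_mul, inv_one, mul_one] at h
    exact hx₀ ▸ pow_eq_pow_iff_modEq.1 (h.symm.trans (pow_one x₀).symm)
  set b := a ^ ℓ ^ K with hb
  have hb1 : b ^ m ≡ 1 [MOD ℓ ^ K] := by
    rw [hb, ← pow_mul, mul_comm, pow_mul]
    exact (pow_modEq_one_pow ha1 K).of_dvd ⟨ℓ, by rw [pow_succ]⟩
  -- the abelianisation with the action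
  let σ₀ : R →* R :=
    { toFun := fun v => ⟨y * v.1 * y⁻¹, hRn v.1 v.2⟩
      map_one' := Subtype.ext (by simp)
      map_mul' := fun u v => Subtype.ext (by simp [mul_assoc]) }
  let σ := Abelianization.map σ₀
  have hσ : ∀ v : R, σ (Abelianization.of v) = Abelianization.of (σ₀ v) := fun v => Abelianization.map_of σ₀ v
  obtain ⟨u, huR, hu⟩ := hRx
  let u' : R := ⟨u, huR⟩
  have hit : ∀ i : ℕ, ∀ v : R, ((σ₀^[i] v : R) : H) = y ^ i * v.1 * (y ^ i)⁻¹ := by
    intro i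
    induction i with
    | zero => simp
    | succ i ih =>
      intro v
      rw [Function.iterate_succ_apply']
      show y * (σ₀^[i] v).1 * y⁻¹ = _
      rw [ih, pow_succ']; group
  let A := Abelianization R
  let e : A := ∏ i ∈ Finset.range m, Abelianization.of (σ₀^[i] u') ^ b ^ (m - 1 - i)
  obtain ⟨e₀, he₀⟩ : ∃ e₀ : R, Abelianization.of e₀ = e := QuotientGroup.mk_surjective e
  have hm0 : 0 < m := orderOf_pos y
  have heig : σ e = e ^ b := by
    simp only [e, map_prod, map_pow, hσ, ← Finset.prod_pow, ← pow_mul, ← pow_succ]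
    simp only [← Function.iterate_succ_apply' σ₀]
    obtain ⟨m', hm'⟩ := Nat.exists_eq_succ_of_ne_zero hm0.ne'
    rw [hm', Finset.prod_range_succ, Finset.prod_range_succ']
    congr 1
    · refine Finset.prod_congr rfl fun i hi => ?_
      have := Finset.mem_range.1 hi
      congr 2; omega
    · have hlast : σ₀^[m' + 1] u' = u' := Subtype.ext (by rw [hit, ← Nat.succ_eq_add_one, ← hm', pow_orderOf_eq_one]; group)
      rw [hlast]
      show Abelianization.of u' ^ b ^ (m' + 1 - 1 - m') = Abelianization.of u' ^ b ^ (m' + 1 - 1 - 0 + 1)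
      rw [Nat.add_sub_cancel, Nat.sub_self, pow_zero, pow_one, Nat.sub_zero, ← Nat.succ_eq_add_one, ← hm']
      refine (pow_one _).symm.trans (pow_eq_pow_iff_modEq.2 ?_)
      refine hb1.symm.of_dvd ((orderOf_map_dvd Abelianization.of u').trans ?_)
      exact hK ▸ orderOf_dvd_natCard u'
  -- its image
  have himgR : ∀ v : R, π v.1 ∈ zpowers x₀ := fun v => himg ⟨v.1, hRP v.2, rfl⟩
  let f : R →* zpowers x₀ := (π.comp R.subtype).codRestrict _ himgR
  letI : CommGroup (zpowers x₀) := IsCyclic.commGroup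
  let g : A →* zpowers x₀ := Abelianization.lift f
  have hge : ((g e : zpowers x₀) : Q) = x₀ ^ (m * a ^ (m - 1)) := by
    have h1 : ∀ i, ((g (Abelianization.of (σ₀^[i] u') ^ b ^ (m - 1 - i)) : zpowers x₀) : Q) =
        x₀ ^ (a ^ i * b ^ (m - 1 - i)) := fun i => by
      rw [map_pow, Abelianization.lift_apply_of, SubgroupClass.coe_pow, pow_mul]
      congr 1
      show π (σ₀^[i] u' : H) = _
      rw [hit, map_mul, map_mul, map_inv, map_pow, show π (u' : H) = x₀ from hu, conj_pow_iter hy]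
    have h2 : ((g e : zpowers x₀) : Q) = x₀ ^ ∑ i ∈ Finset.range m, a ^ i * b ^ (m - 1 - i) := by
      simp only [e]
      induction Finset.range m using Finset.induction_on with
      | empty => simp
      | insert i s his ih =>
        rw [Finset.prod_insert his, Finset.sum_insert his, map_mul, Subgroup.coe_mul, h1, ih, pow_add]
    rw [h2, pow_eq_pow_iff_modEq, hx₀, ← ZMod.natCast_eq_natCast_iff]
    push_cast
    have hbz : (b : ZMod ℓ) = a := by rw [hb, Nat.cast_pow, ZMod.pow_card_pow]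
    rw [Finset.sum_congr rfl fun i hi => by
      rw [hbz, ← pow_add, show i + (m - 1 - i) = m - 1 by have := Finset.mem_range.1 hi; omega],
      Finset.sum_const, Finset.card_range, nsmul_eq_mul]
  have hne : ((g e : zpowers x₀) : Q) ≠ 1 := by
    rw [hge, Ne, ← orderOf_dvd_iff_pow_eq_one, hx₀]
    intro hd
    rcases hℓ.out.dvd_mul.1 hd with h | h
    · exact hcop h
    · have h3 : (a : ℕ) ^ m ≡ 0 [MOD ℓ] :=
        Nat.modEq_zero_iff_dvd.2 (h.trans (pow_dvd_pow a (Nat.sub_le _ _)))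
      exact hℓ.out.not_dvd_one (Nat.modEq_zero_iff_dvd.1 ((ha1.symm.trans h3)))
  -- minimality
  let B : Subgroup H := ((zpowers e).comap (Abelianization.of (G := R))).map R.subtype
  have hBle : B ≤ R := by rintro _ ⟨v, -, rfl⟩; exact v.2
  have hBR : R ≤ B := hmin ⟨hBle.trans hRP, ?_, ?_⟩ hBle
  · -- the group is cyclic
    have htop : (zpowers e₀ : Subgroup R) = ⊤ := by
      refine frattini_nongenerating (eq_top_iff.2 fun v _ => ?_)
      obtain ⟨v', hv', hvv⟩ := hBR v.2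
      obtain ⟨k, hk⟩ := Subgroup.mem_zpowers_iff.1 (show Abelianization.of v' ∈ zpowers e from hv')
      have hvv' : v' = v := Subtype.ext hvv
      subst hvv'
      have hc : (e₀ ^ k)⁻¹ * v' ∈ commutator R := by
        rw [← QuotientGroup.eq]
        show Abelianization.of (e₀ ^ k) = Abelianization.of v'
        rw [map_zpow, he₀, hk]
      rw [show v' = e₀ ^ k * ((e₀ ^ k)⁻¹ * v') by group]
      exact mul_mem (Subgroup.mem_sup_left (Subgroup.zpow_mem _ (Subgroup.mem_zpowers e₀) k))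
        (Subgroup.mem_sup_right ((PSolvable.commutator_le_frattini hR).1 hc))
    obtain ⟨c, hc⟩ : ∃ c : ℕ, e₀ ^ c = σ₀ e₀ :=
      (mem_powers_iff_mem_zpowers).2 (htop ▸ Subgroup.mem_top (σ₀ e₀))
    have hcy : y * e₀.1 * y⁻¹ = e₀.1 ^ c := (congrArg Subtype.val hc.symm).trans (SubgroupClass.coe_pow _ _)
    -- the exponent agrees with `a`
    have hca : c ≡ a [MOD ℓ] := by
      obtain ⟨j, hj⟩ := mem_zpowers_iff.1 (himgR e₀)
      have h1 : x₀ ^ (j * c) = x₀ ^ ((a : ℤ) * j) := by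
        rw [zpow_mul, hj, zpow_natCast, ← map_pow, ← hcy, map_mul, map_mul, map_inv, ← hj,
          ← conj_zpow, hy, ← zpow_natCast x₀ a, ← zpow_mul]
      rw [zpow_eq_zpow_iff_modEq, hx₀, ← ZMod.intCast_eq_intCast_iff] at h1
      push_cast at h1
      rw [← ZMod.natCast_eq_natCast_iff]
      have hj0 : (j : ZMod ℓ) ≠ 0 := fun h0 => hne (by
        have hge0 : ((g e : zpowers x₀) : Q) = π e₀.1 := by rw [← he₀, Abelianization.lift_apply_of]; rfl
        rw [hge0, ← hj, ← orderOf_dvd_iff_zpow_eq_one, hx₀]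
        exact (ZMod.intCast_zmod_eq_zero_iff_dvd _ _).1 h0)
      exact mul_left_cancel₀ hj0 (h1.trans (mul_comm _ _))
    have hne1 : e₀.1 ≠ 1 := fun h1 => hne (by
      rw [← he₀, show e₀ = 1 from Subtype.ext h1, map_one, map_one, OneMemClass.coe_one])
    obtain ⟨t, -, ht⟩ := (Nat.dvd_prime_pow hℓ.out).1
      (hK ▸ (orderOf_dvd_natCard e₀ : orderOf e₀ ∣ Nat.card R))
    have ht0 : t ≠ 0 := fun h0 => by
      rw [h0, pow_zero] at ht
      exact hne1 (congrArg Subtype.val (orderOf_eq_one_iff.1 ht))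
    have hoe : orderOf e₀.1 = ℓ ^ t := by rw [Subgroup.orderOf_coe, ht]
    refine ⟨e₀.1 ^ ℓ ^ (t - 1), hRP (pow_mem e₀.2 _), ?_, ?_⟩
    · rw [orderOf_pow' _ (pow_ne_zero _ hℓ.out.ne_zero), hoe,
        Nat.gcd_eq_right (pow_dvd_pow _ (Nat.sub_le _ _)), Nat.pow_div (Nat.sub_le _ _) hℓ.out.pos,
        show t - (t - 1) = 1 by omega, pow_one]
    · rw [← conj_pow, hcy, ← pow_mul, ← pow_mul, pow_eq_pow_iff_modEq, hoe, mul_comm (ℓ ^ (t - 1))]
      have := hca.mul_right' (ℓ ^ (t - 1))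
      rwa [← pow_succ', show t - 1 + 1 = t by omega] at this
  · rintro _ ⟨v, hv, rfl⟩
    refine ⟨σ₀ v, ?_, rfl⟩
    show Abelianization.of (σ₀ v) ∈ zpowers e
    obtain ⟨k, hk⟩ := Subgroup.mem_zpowers_iff.1 (show Abelianization.of v ∈ zpowers e from hv)
    rw [← hσ, ← hk, map_zpow, heig]
    exact Subgroup.zpow_mem _ (Subgroup.npow_mem_zpowers e b) k
  · obtain ⟨k, hk⟩ : ∃ k : ℕ, (((g e : zpowers x₀) : Q)) ^ k = x₀ := by
      have hz : ((g e : zpowers x₀) : Q) ∈ zpowers x₀ := (g e).2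
      have hcard : Nat.card (zpowers x₀) = ℓ := by rw [Nat.card_zpowers, hx₀]
      haveI : Finite (zpowers x₀) := Nat.finite_of_card_ne_zero (by rw [hcard]; exact hℓ.out.ne_zero)
      obtain ⟨k, hk⟩ := mem_powers_iff_mem_zpowers.2
        (mem_zpowers_of_prime_card hcard (g' := (⟨x₀, mem_zpowers x₀⟩ : zpowers x₀))
          (g := g e) (fun h => hne (by rw [h]; rfl)))
      exact ⟨k, congrArg Subtype.val hk⟩
    refine ⟨(e₀ ^ k : R).1, ⟨e₀ ^ k, ?_, rfl⟩, ?_⟩
    · show Abelianization.of (e₀ ^ k) ∈ zpowers e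
      rw [map_pow, he₀]; exact Subgroup.npow_mem_zpowers e k
    · rw [← hk, ← he₀, Abelianization.lift_apply_of, SubgroupClass.coe_pow, map_pow]
      rfl

/-- Commuting elements of prime order and an element acting on them through powers lift. -/
theorem exists_lift (hπ : Function.Surjective π) {ι : Type*} [Finite ι] (xs : ι → Q) (ℓ : ι → ℕ)
    (hℓ : ∀ i, (ℓ i).Prime) (hinj : Function.Injective ℓ) (ho : ∀ i, orderOf (xs i) = ℓ i)
    (hc : ∀ i j, Commute (xs i) (xs j)) (y : Q) (a : ι → ℕ) (hy : ∀ i, y * xs i * y⁻¹ = xs i ^ a i)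
    (hcop : ∀ i, ¬ ℓ i ∣ orderOf y) :
    ∃ (xs' : ι → H) (y' : H), (∀ i, orderOf (xs' i) = ℓ i) ∧ (∀ i j, Commute (xs' i) (xs' j)) ∧
      ∀ i, y' * xs' i * y'⁻¹ = xs' i ^ a i := by
  classical
  haveI : Finite Q := Finite.of_surjective π hπ
  haveI := Fintype.ofFinite ι
  -- a minimal subgroup covering the elements
  set R := Subgroup.closure (insert y (Set.range xs))
  obtain ⟨L, hLR, hLmin⟩ :=
    (Set.toFinite {L : Subgroup H | L.map π = R}).exists_minimal ⟨R.comap π,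
      Subgroup.map_comap_eq_self_of_surjective hπ R⟩
  -- a lift of coprime order
  obtain ⟨y₀, hy₀L, hy₀⟩ : y ∈ L.map π := hLR.symm ▸ Subgroup.subset_closure (Set.mem_insert _ _)
  set N := ∏ i, ℓ i with hN
  have hcopN : (orderOf y).Coprime N := Nat.Coprime.prod_right fun i _ =>
    ((hℓ i).coprime_iff_not_dvd.2 (hcop i)).symm
  set O := orderOf y₀ with hO
  have hO0 : O ≠ 0 := (orderOf_pos y₀).ne'
  set M := N ^ O with hM
  obtain ⟨s, hs0, hs1⟩ := Nat.chineseRemainder (hcopN.pow_right O) 1 0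
  set y' := y₀ ^ s with hy'
  have hy'π : π y' = y := by
    rw [map_pow, hy₀]
    exact (pow_eq_pow_iff_modEq.2 hs0).trans (pow_one y)
  have hy'o : ∀ i, ¬ ℓ i ∣ orderOf y' := by
    intro i hd
    rw [hy', orderOf_pow] at hd
    have h1 : ℓ i ^ O ∣ s := (pow_dvd_pow_of_dvd (Finset.dvd_prod_of_mem ℓ (Finset.mem_univ i)) O).trans
      (Nat.modEq_zero_iff_dvd.1 hs1)
    have hfac : O.factorization (ℓ i) ≤ O := (Nat.factorization_lt _ hO0).le
    have h2 : ℓ i ^ O.factorization (ℓ i) ∣ O.gcd s :=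
      Nat.dvd_gcd (Nat.ordProj_dvd O (ℓ i)) ((pow_dvd_pow _ hfac).trans h1)
    refine Nat.not_dvd_ordCompl (hℓ i) hO0 (hd.trans ?_)
    exact Nat.div_dvd_div_left (Nat.gcd_dvd_left _ _) h2
  have hyL : y' ∈ L := pow_mem hy₀L s
  have hxR : ∀ i, xs i ∈ R := fun i => Subgroup.subset_closure (Or.inr ⟨i, rfl⟩)
  have hzn : ∀ i, ∀ r ∈ R, r * xs i * r⁻¹ ∈ zpowers (xs i) := by
    intro i r hr
    have hRn : R ≤ normalizer ((zpowers (xs i) : Subgroup Q) : Set Q) := by
      refine (Subgroup.closure_le _).2 ?_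
      rintro r (rfl | ⟨j, rfl⟩)
      · refine Subgroup.mem_normalizer_iff_conj_image_eq.2 ?_
        refine Set.eq_of_subset_of_ncard_le ?_ (by rw [Set.ncard_image_of_injective _ (MulAut.conj r).injective]) (Set.toFinite _)
        rintro _ ⟨z, hz, rfl⟩
        obtain ⟨k, rfl⟩ := mem_zpowers_iff.1 hz
        show r * xs i ^ k * r⁻¹ ∈ zpowers (xs i)
        rw [← conj_zpow, hy i]
        exact zpow_mem (npow_mem_zpowers _ _) k
      · refine Subgroup.mem_normalizer_iff.2 fun z => ?_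
        have hj : ∀ z ∈ zpowers (xs i), xs j * z * (xs j)⁻¹ = z := fun z hz => by
          obtain ⟨k, rfl⟩ := mem_zpowers_iff.1 hz
          rw [((hc j i).zpow_right k).eq, mul_inv_cancel_right]
        refine ⟨fun hz => by rw [hj z hz]; exact hz, fun hz => ?_⟩
        have e : xs j * z * (xs j)⁻¹ = z := by
          have := hj _ hz
          exact mul_left_cancel (mul_right_cancel this)
        rwa [e] at hz
    exact (Subgroup.mem_normalizer_iff.1 (hRn hr) (xs i)).1 (mem_zpowers _)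
  -- the preimage of each generator
  have hX : ∀ i, ∃ x ∈ L, orderOf x = ℓ i ∧ y' * x * y'⁻¹ = x ^ a i ∧
      ∃ P : Subgroup H, x ∈ P ∧ IsPGroup (ℓ i) P ∧ ∀ l ∈ L, ∀ v ∈ P, l * v * l⁻¹ ∈ P := by
    intro i
    haveI := Fact.mk (hℓ i)
    set X : Subgroup L := (zpowers (xs i)).comap (π.comp L.subtype) with hXdef
    haveI : X.Normal := ⟨fun v hv l => by
      simp only [hXdef, Subgroup.mem_comap, MonoidHom.coe_comp, Function.comp_apply, map_mul, map_inv] at hv ⊢
      obtain ⟨k, hk⟩ := mem_zpowers_iff.1 hv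
      rw [← hk, ← conj_zpow]
      exact zpow_mem (hzn i _ (hLR ▸ ⟨l.1, l.2, rfl⟩)) k⟩
    let f : X →* zpowers (xs i) := ((π.comp L.subtype).comp X.subtype).codRestrict _ fun v => v.2
    have hf : Function.Surjective f := by
      rintro ⟨z, hz⟩
      obtain ⟨l, hl, hlz⟩ : z ∈ L.map π := hLR ▸ (zpowers_le.2 (hxR i)) hz
      exact ⟨⟨⟨l, hl⟩, show π l ∈ zpowers (xs i) from hlz ▸ hz⟩, Subtype.ext hlz⟩
    obtain ⟨P⟩ : Nonempty (Sylow (ℓ i) X) := inferInstance
    have hfP : (P : Subgroup X).map f = ⊤ := by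
      have h1 := (P.mapSurjective hf).card_eq_multiplicity
      rw [Nat.card_zpowers, ho, (hℓ i).factorization_self, pow_one] at h1
      refine Subgroup.eq_top_of_card_eq _ ?_
      rw [← Sylow.coe_mapSurjective hf P, h1, Nat.card_zpowers, ho]
    set PH : Subgroup H := ((P : Subgroup X).map X.subtype).map L.subtype
    have hPH : IsPGroup (ℓ i) PH := (P.isPGroup'.map _).map _
    have hPimg : xs i ∈ PH.map π := by
      obtain ⟨v, hv, e⟩ : (⟨xs i, mem_zpowers _⟩ : zpowers (xs i)) ∈ (P : Subgroup X).map f :=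
        hfP ▸ Subgroup.mem_top _
      exact ⟨v.1.1, ⟨v.1, ⟨v, hv, rfl⟩, rfl⟩, congrArg Subtype.val e⟩
    have hPle : PH.map π ≤ zpowers (xs i) := by
      rintro _ ⟨_, ⟨_, ⟨v, -, rfl⟩, rfl⟩, rfl⟩
      exact v.2
    have hsup := Sylow.normalizer_sup_eq_top P
    set Nr : Subgroup L := normalizer ((P : Subgroup X).map X.subtype : Set L)
    -- minimality makes the Sylow subgroup normal
    have hLN : Nr.map L.subtype = L := by
      refine le_antisymm (Subgroup.map_subtype_le _) (hLmin ?_ (Subgroup.map_subtype_le _))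
      refine le_antisymm ?_ ?_
      · rw [← hLR]; exact Subgroup.map_mono (Subgroup.map_subtype_le _)
      · intro r hr
        obtain ⟨l, hl, rfl⟩ : r ∈ L.map π := hLR.symm ▸ hr
        obtain ⟨n₁, hn₁, v, hv, e⟩ := (Subgroup.mem_sup_of_normal_right (t := X)).1
          (hsup ▸ Subgroup.mem_top (⟨l, hl⟩ : L) : (⟨l, hl⟩ : L) ∈ Nr ⊔ X)
        obtain ⟨w, hw, ew⟩ : (⟨π v.1, hv⟩ : zpowers (xs i)) ∈ (P : Subgroup X).map f :=
          hfP ▸ Subgroup.mem_top _
        refine ⟨n₁.1 * w.1.1, ⟨n₁ * w.1,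
          mul_mem hn₁ (Subgroup.le_normalizer ⟨w, hw, rfl⟩), rfl⟩, ?_⟩
        have el : l = n₁.1 * v.1 := (congrArg Subtype.val e).symm
        rw [el, map_mul, map_mul]
        exact congrArg (π n₁.1 * ·) (congrArg Subtype.val ew)
    have hNtop : Nr = ⊤ := by
      refine Subgroup.map_injective L.subtype_injective ?_
      rw [← MonoidHom.range_eq_map, Subgroup.range_subtype, hLN]
    have hnormal : ∀ l ∈ L, ∀ v ∈ PH, l * v * l⁻¹ ∈ PH := by
      rintro l hl _ ⟨v, hv, rfl⟩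
      exact ⟨(⟨l, hl⟩ : L) * v * (⟨l, hl⟩ : L)⁻¹,
        (Subgroup.mem_normalizer_iff.1 (hNtop ▸ Subgroup.mem_top (⟨l, hl⟩ : L) : (⟨l, hl⟩ : L) ∈ Nr) v).1 hv, rfl⟩
    obtain ⟨x, hxP, hox, hxy⟩ := exists_eigen (ho i) (y := y') (a := a i) (by rw [hy'π]; exact hy i)
      (hy'o i) PH hPH (hnormal y' hyL) hPimg hPle
    exact ⟨x, (Subgroup.map_subtype_le _) hxP, hox, hxy, PH, hxP, hPH, hnormal⟩
  choose x hxL hox hxy P hxP hPp hPn using hX
  refine ⟨x, y', hox, fun i j => ?_, hxy⟩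
  by_cases hij : i = j
  · subst hij; exact Commute.refl _
  haveI := Fact.mk (hℓ i)
  haveI := Fact.mk (hℓ j)
  have hd : P i ⊓ P j = ⊥ :=
    disjoint_iff.1 (IsPGroup.disjoint_of_ne (ℓ i) (ℓ j) (fun e => hij (hinj e)) (P i) (P j) (hPp i) (hPp j))
  have hmem : ⁅x i, x j⁆ ∈ P i ⊓ P j := by
    refine Subgroup.mem_inf.2 ⟨?_, ?_⟩
    · rw [commutatorElement_def, show x i * x j * (x i)⁻¹ * (x j)⁻¹ = x i * (x j * (x i)⁻¹ * (x j)⁻¹) by group]
      exact mul_mem (hxP i) (hPn i _ (hxL j) _ (inv_mem (hxP i)))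
    · rw [commutatorElement_def]
      exact mul_mem (hPn j _ (hxL i) _ (hxP j)) (inv_mem (hxP j))
  rw [hd, Subgroup.mem_bot] at hmem
  exact commutatorElement_eq_one_iff_commute.1 hmem

end CfsgLib.Classical.AltSection.Lift
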