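import Cfsg.Agent.Lib.Classical.AltSection.G2Rank
import Cfsg.Agent.Lib.Classical.AltSection.Lift

/-!
In characteristic 5 the alternating group of degree 8 is not a section of a group of type G2.
-/

set_option autoImplicit false
set_option maxRecDepth 100000

namespace CfsgLib.Classical.AltSection.G2Eight

open Cfsg.Lie Matrix CfsgLib.Chev CfsgLib.Chev.Cert CfsgLib.Chev.G2Invol
open scoped MatrixGroups

section SL2

variable {F : Type*} [Field F]

/-- In SL(2) an element of order 7 is not conjugate to its square, the characteristic being prime to 14. -/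
theorem sl_two_seven (h2 : (2 : F) ≠ 0) (h7 : (7 : F) ≠ 0) {a b : SL(2, F)} (ha : a ^ 7 = 1)
    (hab : b * a * b⁻¹ = a ^ 2) : a = 1 := by
  set A : Matrix (Fin 2) (Fin 2) F := a.1 with hA
  have hCH : A * A = A.trace • A - 1 := by
    have hdet : A 0 0 * A 1 1 - A 0 1 * A 1 0 = 1 := by
      rw [← Matrix.det_fin_two]; exact a.2
    ext i j
    fin_cases i <;> fin_cases j <;>
      simp [Matrix.mul_apply, Matrix.trace_fin_two, Fin.sum_univ_two] <;>
      first | ring1 | linear_combination hdet | linear_combination -hdet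
  have hA7 : A ^ 7 = 1 := by
    rw [hA, ← Matrix.SpecialLinearGroup.coe_pow, ha]; rfl
  have htr : (A * A).trace = A.trace := by
    have e : (b * a * b⁻¹).1.trace = A.trace := by
      rw [Matrix.SpecialLinearGroup.coe_mul, Matrix.SpecialLinearGroup.coe_mul, Matrix.trace_mul_comm,
        ← Matrix.mul_assoc, ← Matrix.SpecialLinearGroup.coe_mul, inv_mul_cancel]
      simp [hA]
    rwa [hab, Matrix.SpecialLinearGroup.coe_pow, pow_two, ← hA] at e
  have ht : (A.trace - 2) * (A.trace + 1) = 0 := by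
    rw [hCH, Matrix.trace_sub, Matrix.trace_smul, Matrix.trace_one, smul_eq_mul, Fintype.card_fin,
      Nat.cast_ofNat] at htr
    linear_combination htr
  refine Subtype.ext ?_
  show A = 1
  rcases mul_eq_zero.1 ht with h | h
  · rw [sub_eq_zero] at h
    have hsq : (A - 1) * (A - 1) = 0 := by
      rw [sub_mul, mul_sub, mul_sub, hCH, h, one_mul, mul_one, two_smul, one_mul]; abel
    have hn : ∀ n : ℕ, A ^ n = 1 + (n : F) • (A - 1) := fun n => by
      induction n with
      | zero => simp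
      | succ n ih =>
        rw [pow_succ, ih, Nat.cast_succ, add_smul, one_smul]
        conv_lhs => arg 2; rw [← add_sub_cancel 1 A]
        rw [add_mul, one_mul, Matrix.smul_mul, mul_add, mul_one, hsq, add_zero]
        abel
    have h70 := hn 7
    rw [hA7, Nat.cast_ofNat, left_eq_add, smul_eq_zero] at h70
    exact sub_eq_zero.1 (h70.resolve_left h7)
  · rw [eq_neg_of_add_eq_zero_left h, neg_smul, one_smul] at hCH
    have h3 : A ^ 3 = 1 := by
      rw [pow_succ, pow_two, hCH, sub_mul, neg_mul, one_mul, hCH]; abel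
    calc A = A ^ 7 := by rw [show 7 = 3 * 2 + 1 from rfl, pow_succ, pow_mul, h3, one_pow, one_mul]
      _ = 1 := hA7

/-- A central product of two copies of SL(2) has no 7-element fused to its square. -/
theorem sl_two_pair (h2 : (2 : F) ≠ 0) (h7 : (7 : F) ≠ 0) {G : Type*} [Group G]
    (L₁ L₂ : Subgroup G) (e₁ : L₁ ≃* SL(2, F)) (e₂ : L₂ ≃* SL(2, F))
    (hc : ∀ x ∈ L₁, ∀ y ∈ L₂, x * y = y * x) {z : G} (hz : z * z = 1)
    (hint : L₁ ⊓ L₂ = Subgroup.zpowers z)
    {x y : G} (hx : x ∈ L₁ ⊔ L₂) (hy : y ∈ L₁ ⊔ L₂) (hx7 : x ^ 7 = 1)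
    (hact : y * x * y⁻¹ = x ^ 2) : x = 1 := by
  let f₁ : SL(2, F) →* G := L₁.subtype.comp e₁.symm.toMonoidHom
  let f₂ : SL(2, F) →* G := L₂.subtype.comp e₂.symm.toMonoidHom
  have hcomm : ∀ a b, Commute (f₁ a) (f₂ b) := fun a b => hc _ (e₁.symm a).2 _ (e₂.symm b).2
  let f := f₁.noncommCoprod f₂ hcomm
  have hr₁ : f₁.range = L₁ := le_antisymm (by rintro _ ⟨a, rfl⟩; exact (e₁.symm a).2)
    fun v hv => ⟨e₁ ⟨v, hv⟩, by show ((e₁.symm (e₁ ⟨v, hv⟩) : L₁) : G) = v; rw [MulEquiv.symm_apply_apply]⟩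
  have hr₂ : f₂.range = L₂ := le_antisymm (by rintro _ ⟨a, rfl⟩; exact (e₂.symm a).2)
    fun v hv => ⟨e₂ ⟨v, hv⟩, by show ((e₂.symm (e₂ ⟨v, hv⟩) : L₂) : G) = v; rw [MulEquiv.symm_apply_apply]⟩
  have hrange : f.range = L₁ ⊔ L₂ := by
    rw [MonoidHom.noncommCoprod_range, hr₁, hr₂]
  have hi₁ : Function.Injective f₁ := Subtype.val_injective.comp e₁.symm.injective
  have hi₂ : Function.Injective f₂ := Subtype.val_injective.comp e₂.symm.injective
  have hker : ∀ k, f k = 1 → k * k = 1 ∧ ∀ v, Commute k v := by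
    rintro ⟨a, b⟩ hk
    have hk' : f₁ a * f₂ b = 1 := hk
    have hb : f₂ b = (f₁ a)⁻¹ := eq_inv_of_mul_eq_one_right hk'
    have ha2 : f₁ a ∈ L₁ ⊓ L₂ := by
      refine ⟨(e₁.symm a).2, ?_⟩
      rw [← inv_inv (f₁ a), ← hb]
      exact L₂.inv_mem (e₂.symm b).2
    have haz : f₁ a * f₁ a = 1 := by
      obtain ⟨n, hn⟩ : f₁ a ∈ Subgroup.zpowers z := hint ▸ ha2
      rw [← hn]
      show z ^ n * z ^ n = 1
      rw [← ((Commute.refl z).mul_zpow n), hz, _root_.one_zpow]
    have hbz : f₂ b * f₂ b = 1 := by rw [hb, ← _root_.mul_inv_rev, haz, inv_one]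
    refine ⟨Prod.ext (hi₁ (by simpa using haz)) (hi₂ (by simpa using hbz)), fun v => Prod.ext ?_ ?_⟩
    · refine hi₁ (by rw [Prod.fst_mul, Prod.fst_mul, map_mul, map_mul]; exact (hc _ (e₁.symm v.1).2 _ ha2.2).symm)
    · refine hi₂ (by
        rw [Prod.snd_mul, Prod.snd_mul, map_mul, map_mul]
        exact hc _ (by rw [hb]; exact L₁.inv_mem ha2.1) _ (e₂.symm v.2).2)
  obtain ⟨X₀, hX₀⟩ : x ∈ f.range := hrange.symm ▸ hx
  obtain ⟨Y, hY⟩ : y ∈ f.range := hrange.symm ▸ hy
  have hX14 : X₀ ^ 14 = 1 := by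
    rw [show 14 = 7 * 2 from rfl, pow_mul, pow_two]
    exact (hker (X₀ ^ 7) (by rw [map_pow, hX₀, hx7])).1
  set X := X₀ ^ 8 with hX
  have hfX : f X = x := by rw [hX, map_pow, hX₀, pow_succ, hx7, one_mul]
  have hX7 : X ^ 7 = 1 := by rw [hX, ← pow_mul, show 8 * 7 = 14 * 4 from rfl, pow_mul, hX14, one_pow]
  set k := (X ^ 2)⁻¹ * (Y * X * Y⁻¹) with hk
  obtain ⟨hk2, hkc⟩ := hker k (by rw [hk, map_mul, map_inv, map_pow, map_mul, map_mul, map_inv, hfX, hY, hact, inv_mul_cancel])
  have e : Y * X * Y⁻¹ = X ^ 2 * k := by rw [hk, mul_inv_cancel_left]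
  have hk7 : k ^ 7 = 1 := by
    have h := congrArg (fun v => v ^ 7) e
    simp only [conj_pow, (hkc _).symm.mul_pow, ← pow_mul] at h
    rw [mul_comm 2 7, pow_mul, hX7, one_pow, mul_one, mul_inv_cancel, one_mul] at h
    exact h.symm
  have hk1 : k = 1 := by
    rwa [show 7 = 2 * 3 + 1 from rfl, pow_succ, pow_mul, pow_two, hk2, one_pow, one_mul] at hk7
  rw [hk1, mul_one] at e
  have h1 := sl_two_seven h2 h7 (congrArg Prod.fst hX7 : X.1 ^ 7 = 1) (congrArg Prod.fst e)
  have h3 := sl_two_seven h2 h7 (congrArg Prod.snd hX7 : X.2 ^ 7 = 1) (congrArg Prod.snd e)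
  rw [← hfX, show X = 1 from Prod.ext h1 h3, map_one]

end SL2

/-- Four commuting transpositions' worth of translations of two blocks of four points. -/
def block (v : (ZMod 2 × ZMod 2) × (ZMod 2 × ZMod 2)) : Fin 8 → Fin 8 := fun i =>
  Fin.ofNat 8 (if (i : ℕ) < 4 then ((i : ℕ) ^^^ (v.1.1.val + 2 * v.1.2.val))
    else ((i : ℕ) ^^^ (v.2.1.val + 2 * v.2.2.val)))

theorem block_block : ∀ v i, block v (block v i) = i := by decide +kernel

/-- The translations as permutations. -/
def blockPerm (v : (ZMod 2 × ZMod 2) × (ZMod 2 × ZMod 2)) : Equiv.Perm (Fin 8) :=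
  ⟨block v, block v, block_block v, block_block v⟩

theorem block_add : ∀ v w i, block (v + w) i = block v (block w i) := by decide +kernel

theorem block_sign : ∀ v, Equiv.Perm.sign (blockPerm v) = 1 := by decide +kernel

theorem block_inj : ∀ v, (∀ i, block v i = i) → v = 0 := by decide +kernel

theorem exists_sixteen : ∃ E : Subgroup ↥(alternatingGroup (Fin 8)), Nat.card E = 16 ∧ ∀ g ∈ E, g * g = 1 := by
  let f : Multiplicative ((ZMod 2 × ZMod 2) × (ZMod 2 × ZMod 2)) →* ↥(alternatingGroup (Fin 8)) :=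
    MonoidHom.mk' (fun v => ⟨blockPerm v.toAdd, Equiv.Perm.mem_alternatingGroup.2 (block_sign _)⟩)
      (fun v w => Subtype.ext (Equiv.ext fun i => block_add v.toAdd w.toAdd i))
  have hf : Function.Injective f := (injective_iff_map_eq_one f).2 fun v hv => by
    have h := block_inj v.toAdd fun i => Equiv.ext_iff.1 (congrArg Subtype.val hv) i
    exact h
  refine ⟨f.range, ?_, ?_⟩
  · rw [← Nat.card_congr (MonoidHom.ofInjective hf).toEquiv, Nat.card_eq_fintype_card]
    rfl
  · rintro _ ⟨v, rfl⟩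
    rw [← map_mul, show v * v = 1 from by revert v; decide, map_one]

variable {F : Type*} [Field F] [Fintype F] [CharP F 5]

theorem no_section (hodd : Fintype.card F % 2 = 1) {Hg : Type*} [Group Hg]
    (ι : Hg →* ↥(chevG2.group F)) (hι : Function.Injective ι)
    (π : Hg →* ↥(alternatingGroup (Fin 8))) (hπ : Function.Surjective π) : False := by
  classical
  haveI : Finite Hg := Finite.of_injective ι hι
  haveI := Fact.mk Nat.prime_two
  have h16 : ∀ A : Subgroup Hg, Nat.card A = 16 → (∀ g ∈ A, g * g = 1) → False := fun A hA hexp =>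
    G2Rank.not_card_sixteen hodd (A.map ι) (by
      rintro _ ⟨g, hg, rfl⟩
      rw [← map_mul, hexp g hg, map_one]) (by
      rw [Subgroup.card_map_of_injective hι, hA])
  obtain ⟨T⟩ : Nonempty (Sylow 2 π.ker) := inferInstance
  by_cases hT : (T : Subgroup π.ker) = ⊥
  · -- the kernel is odd
    have hk : ¬ 2 ∣ Nat.card π.ker := fun hd => by
      have := T.ne_bot_of_dvd_card hd
      exact this hT
    obtain ⟨E, hE, hEexp⟩ := exists_sixteen
    set B := E.comap π with hB
    have hker : π.ker ≤ B := fun v hv => by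
      rw [hB, Subgroup.mem_comap, MonoidHom.mem_ker.1 hv]; exact E.one_mem
    have hcB : Nat.card B = Nat.card π.ker * 16 := by
      have h1 := Subgroup.card_mul_index B
      have h2 := Subgroup.card_mul_index π.ker
      rw [Subgroup.index_comap_of_surjective E hπ] at h1
      rw [Subgroup.index_ker, MonoidHom.range_eq_top.2 hπ, Subgroup.card_top, ← Subgroup.card_mul_index E, hE,
        ← h1, ← mul_assoc] at h2
      exact (Nat.eq_of_mul_eq_mul_right (Nat.pos_of_ne_zero Subgroup.index_ne_zero_of_finite) h2).symm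
    obtain ⟨S, hS⟩ := Sylow.exists_subgroup_card_pow_prime (G := ↥B) 2 (n := 4)
      (by rw [hcB]; exact dvd_mul_left _ _)
    refine h16 (S.map B.subtype) (by rw [Subgroup.card_subtype, hS]; rfl) ?_
    rintro _ ⟨g, hg, rfl⟩
    have h1 : π ((g * g : ↥B) : Hg) = 1 := by
      rw [Subgroup.coe_mul, map_mul]; exact hEexp _ g.2
    have h2 : orderOf ((g * g : ↥B) : Hg) = 1 := by
      refine Nat.eq_one_of_dvd_coprimes (a := 2 ^ 4) (b := Nat.card π.ker) ?_ ?_ ?_
      · exact (Nat.prime_two.coprime_iff_not_dvd.2 hk).pow_left 4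
      · rw [Subgroup.orderOf_coe, ← hS, ← Subgroup.orderOf_mk (g * g) (S.mul_mem hg hg)]
        exact orderOf_dvd_natCard _
      · exact Subgroup.orderOf_dvd_natCard _ (MonoidHom.mem_ker.2 h1)
    exact orderOf_eq_one_iff.1 h2
  · -- an elementary abelian subgroup of the kernel
    set P : Subgroup Hg := (T : Subgroup π.ker).map π.ker.subtype with hP
    have hPp : IsPGroup 2 P := T.isPGroup'.map _
    have hPne : P ≠ ⊥ := fun h => hT ((Subgroup.map_eq_bot_iff_of_injective _ π.ker.subtype_injective).1 h)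
    set Nz := Subgroup.normalizer (P : Set Hg) with hNz
    let A : Subgroup Hg :=
      { carrier := {x | x ∈ P ∧ x * x = 1 ∧ ∀ v ∈ P, x * v = v * x}
        one_mem' := ⟨P.one_mem, mul_one 1, fun v _ => by rw [one_mul, mul_one]⟩
        mul_mem' := fun {a b} ha hb => ⟨P.mul_mem ha.1 hb.1, by
          rw [mul_assoc a b, ← mul_assoc b a b, ← ha.2.2 b hb.1, mul_assoc a b b, hb.2.1, mul_one, ha.2.1],
          fun v hv => by rw [mul_assoc, hb.2.2 v hv, ← mul_assoc, ha.2.2 v hv, mul_assoc]⟩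
        inv_mem' := fun {a} ha => by rw [inv_eq_of_mul_eq_one_right ha.2.1]; exact ha }
    haveI : Nontrivial P := (Subgroup.nontrivial_iff_ne_bot P).2 hPne
    obtain ⟨z₀, hz₀⟩ : ∃ z : Subgroup.center P, orderOf z = 2 :=
      exists_prime_orderOf_dvd_card' 2 (by
        haveI := hPp.center_nontrivial
        obtain ⟨k, hk⟩ := (hPp.to_subgroup (Subgroup.center P)).exists_card_eq
        rw [hk]
        refine dvd_pow_self 2 fun h0 => ?_
        rw [h0, pow_zero, Subgroup.card_eq_one] at hk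
        exact (Subgroup.nontrivial_iff_ne_bot _).1 inferInstance hk)
    have hz₁ : ((z₀ : ↥P) : Hg) ∈ A := by
      refine ⟨(z₀ : ↥P).2, ?_, fun v hv => ?_⟩
      · have h := pow_orderOf_eq_one z₀
        rw [hz₀, pow_two] at h
        exact congrArg (fun u : Subgroup.center P => ((u : ↥P) : Hg)) h
      · exact congrArg Subtype.val (Subgroup.mem_center_iff.1 z₀.2 ⟨v, hv⟩).symm
    have hzne : ((z₀ : ↥P) : Hg) ≠ 1 := fun h => by
      rw [show z₀ = 1 from Subtype.ext (Subtype.ext h), orderOf_one] at hz₀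
      omega
    have hA8 : Nat.card A ≤ 8 := by
      by_contra hA
      obtain ⟨k, hk⟩ := (hPp.to_le (show A ≤ P from fun x hx => hx.1)).exists_card_eq
      have hk4 : 4 ≤ k := by
        by_contra hk4
        have : 2 ^ k ≤ 2 ^ 3 := Nat.pow_le_pow_right (by norm_num) (by omega)
        omega
      obtain ⟨S, hS⟩ := Sylow.exists_subgroup_card_pow_prime (G := ↥A) 2 (n := 4)
        (by rw [hk]; exact pow_dvd_pow _ hk4)
      exact h16 (S.map A.subtype) (by rw [Subgroup.card_subtype, hS]; rfl)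
        (by rintro _ ⟨g, -, rfl⟩; exact g.2.2.1)
    have hAN : ∀ n ∈ Nz, ∀ a ∈ A, n * a * n⁻¹ ∈ A := by
      intro n hn a ha
      refine ⟨(Subgroup.mem_normalizer_iff.1 hn a).1 ha.1, ?_, fun v hv => ?_⟩
      · rw [show n * a * n⁻¹ * (n * a * n⁻¹) = n * (a * a) * n⁻¹ by group, ha.2.1, mul_one, mul_inv_cancel]
      · have h := ha.2.2 _ ((Subgroup.mem_normalizer_iff''.1 hn v).1 hv)
        calc n * a * n⁻¹ * v = n * (a * (n⁻¹ * v * n)) * n⁻¹ := by group
          _ = n * (n⁻¹ * v * n * a) * n⁻¹ := by rw [h]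
          _ = v * (n * a * n⁻¹) := by group
    let π' : ↥Nz →* ↥(alternatingGroup (Fin 8)) := π.comp Nz.subtype
    have hπ' : Function.Surjective π' := by
      intro a
      obtain ⟨u, rfl⟩ := hπ a
      obtain ⟨n, hn, k, hk, e⟩ := (Subgroup.mem_sup_of_normal_right (t := π.ker)).1
        (Sylow.normalizer_sup_eq_top T ▸ Subgroup.mem_top u :
          u ∈ Subgroup.normalizer ((T : Subgroup π.ker).map π.ker.subtype : Set Hg) ⊔ π.ker)
      exact ⟨⟨n, hn⟩, by rw [← e, map_mul, MonoidHom.mem_ker.1 hk, mul_one]; rfl⟩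
    let act : ↥Nz →* Equiv.Perm {a : ↥A // a ≠ 1} :=
      MonoidHom.mk' (fun n =>
        { toFun := fun a => ⟨⟨n * a.1.1 * (n : Hg)⁻¹, hAN n n.2 _ a.1.2⟩, fun h => a.2 (Subtype.ext (by
            have h' := congrArg Subtype.val h
            exact conj_eq_one_iff.1 h'))⟩
          invFun := fun a => ⟨⟨(n : Hg)⁻¹ * a.1.1 * n, by
              have := hAN _ (n⁻¹).2 _ a.1.2
              rwa [Subgroup.coe_inv, inv_inv] at this⟩, fun h => a.2 (Subtype.ext (by
            have h' : (n : Hg)⁻¹ * a.1.1 * (n : Hg)⁻¹⁻¹ = 1 := by rw [inv_inv]; exact congrArg Subtype.val h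
            exact conj_eq_one_iff.1 h'))⟩
          left_inv := fun a => Subtype.ext (Subtype.ext (by show (n : Hg)⁻¹ * (n * a.1.1 * (n : Hg)⁻¹) * n = _; group))
          right_inv := fun a => Subtype.ext (Subtype.ext (by show (n : Hg) * ((n : Hg)⁻¹ * a.1.1 * n) * (n : Hg)⁻¹ = _; group)) })
        (fun m n => Equiv.ext fun a => Subtype.ext (Subtype.ext (by
          show (m : Hg) * n * a.1.1 * ((m : Hg) * n)⁻¹ = m * (n * a.1.1 * (n : Hg)⁻¹) * (m : Hg)⁻¹
          group)))
    have hcomm : ∀ c ∈ act.ker, ∀ a ∈ A, (c : Hg) * a = a * c := by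
      intro c hc a ha
      by_cases ha1 : a = 1
      · rw [ha1, mul_one, one_mul]
      have := congrArg (fun u : {a : ↥A // a ≠ 1} => u.1.1)
        (Equiv.ext_iff.1 (MonoidHom.mem_ker.1 hc) ⟨⟨a, ha⟩, fun h => ha1 (congrArg Subtype.val h)⟩)
      exact mul_inv_eq_iff_eq_mul.1 this
    haveI hn' : (act.ker.map π').Normal := Subgroup.Normal.map inferInstance π' hπ'
    haveI : IsSimpleGroup ↥(alternatingGroup (Fin 8)) := alternatingGroup.isSimpleGroup (by norm_num)
    rcases hn'.eq_bot_or_eq_top with h | h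
    · have hle : act.ker ≤ π'.ker := by
        intro c hc
        have : π' c ∈ act.ker.map π' := ⟨c, hc, rfl⟩
        rwa [h, Subgroup.mem_bot] at this
      have h1 := Subgroup.index_dvd_of_le hle
      rw [Subgroup.index_ker, Subgroup.index_ker, MonoidHom.range_eq_top.2 hπ', Subgroup.card_top] at h1
      have h2 : Nat.card act.range ≤ Nat.card (Equiv.Perm {a : ↥A // a ≠ 1}) := Subgroup.card_le_card_group _
      have h3 : Nat.card (Equiv.Perm {a : ↥A // a ≠ 1}) ≤ 5040 := by
        rw [Nat.card_perm]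
        refine le_trans (Nat.factorial_le (?_ : _ ≤ 7)) (le_of_eq rfl)
        haveI := Fintype.ofFinite ↥A
        rw [Nat.card_eq_fintype_card, Fintype.card_subtype_compl, Fintype.card_subtype_eq, ← Nat.card_eq_fintype_card]
        omega
      have h4 : Nat.card ↥(alternatingGroup (Fin 8)) = 20160 := by
        rw [nat_card_alternatingGroup, Nat.card_fin]; decide
      have := Nat.le_of_dvd Nat.card_pos h1
      omega
    · let σ : ↥act.ker →* ↥(alternatingGroup (Fin 8)) := π'.comp act.ker.subtype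
      have hσ : Function.Surjective σ := fun a => by
        obtain ⟨c, hc, e⟩ : a ∈ act.ker.map π' := h ▸ Subgroup.mem_top a
        exact ⟨⟨c, hc⟩, e⟩
      let x : ↥(alternatingGroup (Fin 8)) := ⟨([0, 1, 2, 3, 4, 5, 6] : List (Fin 8)).formPerm,
        Equiv.Perm.mem_alternatingGroup.2 (by decide +kernel)⟩
      let y : ↥(alternatingGroup (Fin 8)) :=
        ⟨([1, 2, 4] : List (Fin 8)).formPerm * ([3, 6, 5] : List (Fin 8)).formPerm,
          Equiv.Perm.mem_alternatingGroup.2 (by decide +kernel)⟩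
      haveI := Fact.mk (show Nat.Prime 7 by norm_num)
      obtain ⟨xs', y', ho, -, hy'⟩ := Lift.exists_lift hσ (fun _ : Unit => x) (fun _ => 7)
        (fun _ => by norm_num) (fun _ _ _ => Subsingleton.elim _ _)
        (fun _ => orderOf_eq_prime (by decide +kernel) (by decide +kernel))
        (fun _ _ => Commute.refl x) y (fun _ => 2) (fun _ => by decide +kernel)
        (fun _ hd => by
          have : (7 : ℕ) ∣ 3 := hd.trans (orderOf_dvd_of_pow_eq_one (by decide +kernel : y ^ 3 = 1))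
          omega)
      let c : ↥act.ker →* ↥(chevG2.group F) := ι.comp (Nz.subtype.comp act.ker.subtype)
      have hcinj : Function.Injective c := hι.comp (Subtype.val_injective.comp Subtype.val_injective)
      set z := ι ((z₀ : ↥P) : Hg) with hz
      have hzc : ∀ v, c v * z = z * c v := fun v => by
        show ι _ * ι _ = ι _ * ι _
        rw [← map_mul, ← map_mul]
        exact congrArg ι (hcomm v v.2 _ hz₁)
      have hzo : orderOf z = 2 := orderOf_eq_prime (by rw [pow_two, hz, ← map_mul, hz₁.2.1, map_one])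
        (fun h => hzne (hι (h.trans (map_one ι).symm)))
      obtain ⟨g, hg⟩ := isConj_iff.1 (conj_zI hodd G2Rank.two_ne z hzo)
      obtain ⟨-, L₁, L₂, ⟨e₁⟩, ⟨e₂⟩, hcc, hint, hle, hidx⟩ := main_zG (F := F) G2Rank.two_ne
      set x' := g * c (xs' ()) * g⁻¹ with hx'
      set w := g * c y' * g⁻¹ with hw
      have hcent : ∀ v, g * c v * g⁻¹ ∈ Subgroup.centralizer {zG F} := fun v => by
        rw [Subgroup.mem_centralizer_singleton_iff, show zG F = g * z * g⁻¹ from hg.symm]
        calc g * c v * g⁻¹ * (g * z * g⁻¹) = g * (c v * z) * g⁻¹ := by group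
          _ = g * z * g⁻¹ * (g * c v * g⁻¹) := by rw [hzc]; group
      have hx7 : x' ^ 7 = 1 := by
        rw [hx', conj_pow, ← map_pow, ← ho (), pow_orderOf_eq_one, map_one, mul_one, mul_inv_cancel]
      have hwx : w * x' * w⁻¹ = x' ^ 2 := by
        rw [hw, hx', conj_pow, ← map_pow, ← hy' ()]
        simp only [map_mul, map_inv]
        group
      have hsq : ∀ v ∈ Subgroup.centralizer {zG F}, v * v ∈ L₁ ⊔ L₂ := fun v hv => by
        have h := Subgroup.mul_self_mem_of_index_two (H := (L₁ ⊔ L₂).subgroupOf (Subgroup.centralizer {zG F}))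
          hidx ⟨v, hv⟩
        exact h
      have hxJ : x' ∈ L₁ ⊔ L₂ := by
        have h := pow_mem (hsq x' (hcent _)) 4
        rwa [← pow_two, ← pow_mul, show 2 * 4 = 7 + 1 from rfl, pow_succ, hx7, one_mul] at h
      have hwJ : w ^ 4 ∈ L₁ ⊔ L₂ := by
        have h := pow_mem (hsq w (hcent _)) 2
        rwa [← pow_two, ← pow_mul] at h
      have h7 : (7 : F) ≠ 0 := fun h => by
        have h' : ((7 : ℕ) : F) = 0 := by exact_mod_cast h
        have := (CharP.cast_eq_zero_iff F 5 7).1 h'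
        omega
      have := sl_two_pair G2Rank.two_ne h7 L₁ L₂ e₁ e₂ hcc (z := zG F) (Subtype.ext zI_mul_self) hint hxJ hwJ hx7 (by
        rw [Lift.conj_pow_iter hwx 4, show 2 ^ 4 = 7 * 2 + 2 from rfl, pow_add, pow_mul, hx7, one_pow, one_mul])
      rw [hx', conj_eq_one_iff] at this
      have h1 := hcinj (this.trans (map_one c).symm)
      have h2 := ho ()
      rw [h1, orderOf_one] at h2
      omega

end CfsgLib.Classical.AltSection.G2Eight
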