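import Cfsg.Agent.Lib.Chev.G2Invol.Main

/-!
In characteristic 5 a group of type G2 has no elementary abelian subgroup of order 16.
-/

set_option autoImplicit false
set_option maxRecDepth 100000

namespace CfsgLib.Classical.AltSection.G2Rank

open Cfsg.Lie Matrix CfsgLib.Chev CfsgLib.Chev.Cert CfsgLib.Chev.G2Invol

variable {F : Type*} [Field F] [CharP F 5]

theorem two_ne : (2 : F) ≠ 0 := fun h => by
  have h2 : ((2 : ℕ) : F) = 0 := by exact_mod_cast h
  have := (CharP.cast_eq_zero_iff F 5 2).1 h2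
  omega

/-- The trace of an idempotent matrix is its rank. -/
theorem trace_of_idem {n : Type*} [Fintype n] [DecidableEq n] {Q : Matrix n n F} (h : Q * Q = Q) :
    Q.trace = (Q.rank : F) := by
  have hp : LinearMap.IsProj (LinearMap.range (Matrix.toLin' Q)) (Matrix.toLin' Q) :=
    ⟨fun x => LinearMap.mem_range_self _ x, fun x hx => by
      obtain ⟨y, rfl⟩ := hx
      rw [← LinearMap.comp_apply, ← Matrix.toLin'_mul, h]⟩
  rw [← Matrix.trace_toLin'_eq, hp.trace]
  rfl

/-- The diagonal of the involution. -/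
theorem exists_diag : ∃ d : chevG2.Idx → F, (zI F : Matrix chevG2.Idx chevG2.Idx F) = Matrix.diagonal d ∧
    (∀ i, d i = 1 ∨ d i = -1) ∧ Nat.card {i // d i = 1} = 6 ∧ ∑ i, d i = (3 : F) := by
  classical
  have h11 : 11 < tabG2.n := by decide +kernel
  have hne : (-1 : F) ≠ 0 := neg_ne_zero.2 one_ne_zero
  let χ : ℕ → F := fun s => if s ∈ zRoots then 1 else -1
  have e : (zI F : Matrix chevG2.Idx chevG2.Idx F) = torus chevG2 χ := by
    rw [zI, certG2.hU_root h11 hne]
    refine torus_congr chevG2 fun s hs => ?_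
    have hs' : s < 12 := hs.trans_eq (by decide +kernel)
    rw [Cert.charOf_cor 11 hne]
    show _ = if s ∈ zRoots then (1 : F) else -1
    split_ifs with h
    · exact (even_pairing s hs' h).neg_one_zpow
    · exact (odd_pairing s hs' h).neg_one_zpow
  have h2 : (-1 : F) ≠ 1 := fun h => two_ne (F := F) (by linear_combination -h)
  set d : chevG2.Idx → F := Sum.elim (fun _ => 1) (fun s : Fin chevG2.nroots => χ s.val) with hd
  refine ⟨d, e, fun i => ?_, ?_, ?_⟩
  · rcases i with i | s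
    · exact Or.inl rfl
    · show χ _ = 1 ∨ χ _ = -1
      by_cases h : (s : ℕ) ∈ zRoots <;> simp [χ, h]
  · let S : Finset chevG2.Idx := Finset.univ.filter fun i =>
      Sum.elim (fun _ => true) (fun s : Fin chevG2.nroots => decide ((s : ℕ) ∈ zRoots)) i = true
    have hS : ∀ i, d i = 1 ↔ i ∈ S := fun i => by
      rcases i with i | s
      · simp [hd, S]
      · by_cases h : (s : ℕ) ∈ zRoots <;> simp [hd, χ, S, h, h2]
    rw [Nat.card_congr (Equiv.subtypeEquivRight hS), Nat.card_eq_finsetCard]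
    decide +kernel
  · rw [Fintype.sum_sum_type]
    show (∑ _i, (1 : F)) + ∑ s : Fin 12, χ (s : ℕ) = 3
    rw [Finset.sum_const, Finset.card_univ, Fintype.card_fin, show chevG2.rank = 2 from rfl,
      Finset.sum_fin_eq_sum_range]
    simp [χ, zRoots, Finset.sum_range_succ]
    have h5 : ((5 : ℕ) : F) = 0 := CharP.cast_eq_zero F 5
    push_cast at h5
    linear_combination (-1 : F) * h5

variable [Fintype F]

/-- The averaging idempotent of a subgroup. -/
noncomputable def avg (H : Subgroup ↥(chevG2.group F)) : Matrix chevG2.Idx chevG2.Idx F :=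
  ((Nat.card H : F))⁻¹ • ∑ g ∈ (H : Set ↥(chevG2.group F)).toFinite.toFinset,
    ((g : GL chevG2.Idx F) : Matrix chevG2.Idx chevG2.Idx F)

theorem mem_toFinset_iff {H : Subgroup ↥(chevG2.group F)} {g : ↥(chevG2.group F)} :
    g ∈ (H : Set ↥(chevG2.group F)).toFinite.toFinset ↔ g ∈ H := Set.Finite.mem_toFinset _

/-- A group of involutions acts with a rank computed by the trace. -/
theorem avg_spec (hodd : Fintype.card F % 2 = 1) (H : Subgroup ↥(chevG2.group F))
    (hexp : ∀ g ∈ H, g * g = 1) (hcard : (Nat.card H : F) ≠ 0) :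
    (∀ K ≤ H, (Nat.card K : F) ≠ 0 → (avg H).rank ≤ (avg K).rank) ∧
      ((avg H).rank : F) = (Nat.card H : F)⁻¹ * (14 + ((Nat.card H : F) - 1) * 3) := by
  classical
  have key : ∀ K ≤ H, ∀ g ∈ K, ((g : GL chevG2.Idx F) : Matrix chevG2.Idx chevG2.Idx F) * avg H = avg H := by
    intro K hK g hg
    rw [avg, Matrix.mul_smul, Finset.mul_sum]
    congr 1
    refine Finset.sum_nbij' (fun x => g * x) (fun x => g⁻¹ * x)
      (fun x hx => by rw [mem_toFinset_iff] at hx ⊢; exact H.mul_mem (hK hg) hx)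
      (fun x hx => by rw [mem_toFinset_iff] at hx ⊢; exact H.mul_mem (H.inv_mem (hK hg)) hx)
      (fun x _ => inv_mul_cancel_left g x) (fun x _ => mul_inv_cancel_left g x) (fun x _ => rfl)
  have hKH : ∀ K ≤ H, (Nat.card K : F) ≠ 0 → avg K * avg H = avg H := by
    intro K hK hK0
    conv_lhs => rw [avg, Matrix.smul_mul, Finset.sum_mul]
    rw [Finset.sum_congr rfl fun g hg => key K hK g (mem_toFinset_iff.1 hg), Finset.sum_const,
      ← Set.ncard_eq_toFinset_card (K : Set ↥(chevG2.group F)), ← Nat.card_coe_set_eq,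
      ← Nat.cast_smul_eq_nsmul F, smul_smul]
    show ((Nat.card K : F)⁻¹ * (Nat.card K : F)) • avg H = avg H
    rw [inv_mul_cancel₀ hK0, one_smul]
  refine ⟨fun K hK hK0 => (congrArg Matrix.rank (hKH K hK hK0)).symm.trans_le
    (Matrix.rank_mul_le_left _ _), ?_⟩
  rw [← trace_of_idem (hKH H le_rfl hcard), avg, Matrix.trace_smul, Matrix.trace_sum, smul_eq_mul]
  congr 1
  have htr : ∀ g ∈ H, ((g : GL chevG2.Idx F) : Matrix chevG2.Idx chevG2.Idx F).trace =
      if g = 1 then (14 : F) else 3 := by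
    intro g hg
    split_ifs with h1
    · subst h1
      show Matrix.trace (1 : Matrix chevG2.Idx chevG2.Idx F) = 14
      rw [Matrix.trace_one, show Fintype.card chevG2.Idx = 14 from rfl]
      norm_num
    · have ho : orderOf g = 2 := orderOf_eq_prime (by rw [pow_two]; exact hexp g hg) h1
      obtain ⟨c, hc⟩ := isConj_iff.1 (conj_zI hodd two_ne g ho)
      obtain ⟨d, hd, -, -, hsum⟩ := exists_diag (F := F)
      have e2 := congrArg (fun x : ↥(chevG2.group F) => ((x : GL chevG2.Idx F) : Matrix chevG2.Idx chevG2.Idx F).trace) hc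
      simp only [Subgroup.coe_mul, Subgroup.coe_inv, Units.val_mul] at e2
      rw [Matrix.trace_units_conj, hd, Matrix.trace_diagonal, hsum] at e2
      exact e2
  rw [Finset.sum_congr rfl fun g hg => htr g (mem_toFinset_iff.1 hg),
    ← Finset.add_sum_erase _ _ (mem_toFinset_iff.2 H.one_mem), if_pos rfl,
    Finset.sum_congr rfl fun g hg => if_neg (Finset.ne_of_mem_erase hg), Finset.sum_const,
    Finset.card_erase_of_mem (mem_toFinset_iff.2 H.one_mem),
    ← Set.ncard_eq_toFinset_card (H : Set ↥(chevG2.group F)), ← Nat.card_coe_set_eq, nsmul_eq_mul,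
    Nat.cast_sub Nat.card_pos, Nat.cast_one]
  rfl

/-- The rank for a subgroup of order two. -/
theorem rank_avg_two (hodd : Fintype.card F % 2 = 1) (K : Subgroup ↥(chevG2.group F))
    (hcard : Nat.card K = 2) : (avg K).rank ≤ 6 := by
  classical
  obtain ⟨g, hg, hne⟩ : ∃ g ∈ K, g ≠ 1 := by
    by_contra hh
    push Not at hh
    rw [Subgroup.card_eq_one.2 ((Subgroup.eq_bot_iff_forall _).2 hh)] at hcard
    omega
  have hK : (K : Set ↥(chevG2.group F)).toFinite.toFinset = {1, g} := by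
    refine (Finset.eq_of_subset_of_card_le ?_ ?_).symm
    · intro x hx
      rw [mem_toFinset_iff]
      rcases Finset.mem_insert.1 hx with rfl | hx
      · exact K.one_mem
      · rwa [Finset.mem_singleton.1 hx]
    · rw [← Set.ncard_eq_toFinset_card (K : Set ↥(chevG2.group F)), ← Nat.card_coe_set_eq,
        Finset.card_pair hne.symm]
      exact hcard.le
  have ho : orderOf g = 2 := by
    have h2 : orderOf (⟨g, hg⟩ : K) ∣ 2 := hcard ▸ orderOf_dvd_natCard _
    rw [Subgroup.orderOf_mk] at h2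
    exact ((Nat.dvd_prime Nat.prime_two).1 h2).resolve_left (fun e => hne (orderOf_eq_one_iff.1 e))
  obtain ⟨c, hc⟩ := isConj_iff.1 (conj_zI hodd two_ne g ho).symm
  obtain ⟨d, hd, hpm, hc6, -⟩ := exists_diag (F := F)
  set u : GL chevG2.Idx F := (c : GL chevG2.Idx F)
  have hg' : ((g : GL chevG2.Idx F) : Matrix chevG2.Idx chevG2.Idx F) =
      (u : Matrix chevG2.Idx chevG2.Idx F) * Matrix.diagonal d * (↑u⁻¹ : Matrix chevG2.Idx chevG2.Idx F) := by
    rw [← hd, ← hc]; rfl
  have e : avg K = (u : Matrix chevG2.Idx chevG2.Idx F) *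
      Matrix.diagonal (fun i => (2 : F)⁻¹ * (1 + d i)) * (↑u⁻¹ : Matrix chevG2.Idx chevG2.Idx F) := by
    rw [avg, hK, hcard, Finset.sum_pair hne.symm, hg',
      show (fun i => (2 : F)⁻¹ * (1 + d i)) = (2 : F)⁻¹ • (fun i => (fun _ => (1 : F)) i + d i) from rfl,
      Matrix.diagonal_smul, ← Matrix.diagonal_add, Matrix.diagonal_one, Matrix.mul_smul,
      Matrix.smul_mul, Matrix.mul_add, Matrix.mul_one, Matrix.add_mul, Units.mul_inv, Nat.cast_ofNat]
    rfl
  rw [e]
  refine ((Matrix.rank_mul_le_left _ _).trans (Matrix.rank_mul_le_right _ _)).trans ?_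
  rw [Matrix.rank_diagonal, ← hc6, ← Nat.card_eq_fintype_card]
  refine le_of_eq (Nat.card_congr (Equiv.subtypeEquivRight fun i => ?_))
  rcases hpm i with h | h <;> rw [h]
  · simp [two_ne (F := F), show (1 : F) + 1 = 2 by norm_num]
  · simp
    intro h
    exact two_ne (F := F) (by linear_combination -h)

/-- No elementary abelian subgroup of order 16. -/
theorem not_card_sixteen (hodd : Fintype.card F % 2 = 1) (E : Subgroup ↥(chevG2.group F))
    (hexp : ∀ g ∈ E, g * g = 1) : Nat.card E ≠ 16 := by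
  intro hcard
  haveI := Fact.mk Nat.prime_two
  have hchain : ∀ (B : Subgroup ↥(chevG2.group F)) (n : ℕ), Nat.card B = 2 ^ (n + 1) →
      ∃ A ≤ B, Nat.card A = 2 ^ n := by
    intro B n hB
    obtain ⟨A, hA⟩ := Sylow.exists_subgroup_card_pow_prime (G := ↥B) 2 (n := n)
      (by rw [hB]; exact pow_dvd_pow _ (Nat.le_succ n))
    exact ⟨A.map B.subtype, Subgroup.map_subtype_le _, by rw [Subgroup.card_subtype, hA]⟩
  obtain ⟨E₈, h8, c8⟩ := hchain E 3 (by rw [hcard]; rfl)
  obtain ⟨E₄, h4, c4⟩ := hchain E₈ 2 c8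
  obtain ⟨E₂, h2, c2⟩ := hchain E₄ 1 c4
  have hk : ∀ k : ℕ, ((2 ^ k : ℕ) : F) ≠ 0 := fun k => by
    push_cast; exact pow_ne_zero _ (two_ne (F := F))
  have hcast : ∀ a b : ℕ, (a : F) = b → a ≡ b [MOD 5] := fun a b => (CharP.natCast_eq_natCast F 5).1
  have h5 : ((5 : ℕ) : F) = 0 := CharP.cast_eq_zero F 5
  push_cast at h5
  have hrk : ∀ (H : Subgroup ↥(chevG2.group F)) (m : ℕ), H ≤ E → Nat.card H = m → (m : F) ≠ 0 →
      ∀ t : ℕ, (14 : F) + ((m : F) - 1) * 3 = (m : F) * t → (avg H).rank ≡ t [MOD 5] := by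
    intro H m hH hm hm0 t ht
    refine hcast _ _ ?_
    rw [(avg_spec hodd H (fun g hg => hexp g (hH hg)) (hm ▸ hm0)).2, hm, ht, inv_mul_cancel_left₀ hm0]
  have b2 : (avg E₂).rank ≤ 6 := rank_avg_two hodd E₂ c2
  have b4 := ((avg_spec hodd E₄ (fun g hg => hexp g (h8 (h4 hg))) (c4 ▸ hk 2)).1 E₂ h2 (c2 ▸ hk 1)).trans b2
  have e4 := hrk E₄ 4 (h4.trans h8) c4 (by exact_mod_cast hk 2) 2 (by linear_combination (3 : F) * h5)
  have r4 : (avg E₄).rank = 2 := by unfold Nat.ModEq at e4; omega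
  have b8 := ((avg_spec hodd E₈ (fun g hg => hexp g (h8 hg)) (c8 ▸ hk 3)).1 E₄ h4 (c4 ▸ hk 2)).trans r4.le
  have e8 := hrk E₈ 8 h8 c8 (by exact_mod_cast hk 3) 0 (by linear_combination (7 : F) * h5)
  have r8 : (avg E₈).rank = 0 := by unfold Nat.ModEq at e8; omega
  have b16 := ((avg_spec hodd E hexp (by rw [hcard]; exact_mod_cast hk 4)).1 E₈ h8 (c8 ▸ hk 3)).trans r8.le
  have e16 := hrk E 16 le_rfl hcard (by exact_mod_cast hk 4) 4 (by linear_combination (-1 : F) * h5)
  unfold Nat.ModEq at e16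
  omega

end CfsgLib.Classical.AltSection.G2Rank
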