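import Cfsg.Agent.Lib.Classical.AltSection.Chain

/-!
The lines attached to pairs of points, and the end of the central case.
-/

set_option autoImplicit false
set_option linter.unusedSectionVars false

namespace CfsgLib.Classical.AltSection

open Equiv Finset Module

variable {r : ℕ}
variable {k : Type*} [Field k] {V : Type*} [AddCommGroup V] [Module k V]
variable {Γ : Type*} [Group Γ] [Finite Γ]
variable {π : Γ →* alternatingGroup (Fin r)} {ρ : Γ →* Module.End k V}
variable [FiniteDimensional k V] [IsAlgClosed k] [Nontrivial V]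

theorem mem_P_gs (C : Cov π ρ) {S : Finset (Fin r)} {γ : Γ} (hγ : γ ∈ C.gs S) {v : V}
    (hv : v ∈ P π ρ S) : ρ γ v ∈ P π ρ S := by
  have : ρ γ v - v ∈ P π ρ S := moved_le_of_gs C hγ ⟨v, rfl⟩
  simpa using add_mem this hv

/-- The lift of `(a b)(c d)`. -/
noncomputable def H (π : Γ →* alternatingGroup (Fin r)) (a b c d : Fin r) : Γ :=
  lft π (c3 a b c) * lft π (c3 b c d)

/-- Four distinct points. -/
def D4 (a b c d : Fin r) : Prop := [a, b, c, d].Nodup

theorem D4.ne {a b c d : Fin r} (h : D4 a b c d) :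
    a ≠ b ∧ a ≠ c ∧ a ≠ d ∧ b ≠ c ∧ b ≠ d ∧ c ≠ d := by
  simp [D4, List.nodup_cons] at h; tauto

theorem D4.rot {a b c d : Fin r} (h : D4 a b c d) : D4 a c d b := by
  simp [D4, List.nodup_cons] at h ⊢
  obtain ⟨⟨h1, h2, h3⟩, ⟨h4, h5⟩, h6⟩ := h
  exact ⟨⟨h2, h3, h1⟩, ⟨h6, Ne.symm h4⟩, Ne.symm h5⟩

theorem pm_H (C : Cov π ρ) {a b c d : Fin r} (h : D4 a b c d) :
    pm π (H π a b c d) = swap a b * swap c d := by
  obtain ⟨hab, hac, had, hbc, hbd, hcd⟩ := h.ne
  show ((π (lft π (c3 a b c) * lft π (c3 b c d)) : alternatingGroup (Fin r)) : Perm (Fin r)) = _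
  rw [map_mul, C.map_lft, C.map_lft, Subgroup.coe_mul, c3_val hab hbc, c3_val hbc hcd, mul_assoc,
    ← mul_assoc (swap b c) (swap b c), swap_mul_self, one_mul]

theorem H_mem (C : Cov π ρ) {a b c d : Fin r} (h : D4 a b c d) {S : Finset (Fin r)}
    (hS : ({a, b, c, d} : Finset (Fin r)) ⊆ S) : H π a b c d ∈ C.gs S := by
  obtain ⟨hab, hac, had, hbc, hbd, hcd⟩ := h.ne
  simp only [insert_subset_iff, singleton_subset_iff] at hS
  obtain ⟨ha, hb, hc, hd⟩ := hS
  exact mul_mem (Subgroup.subset_closure ⟨a, ha, b, hb, c, hc, hab, hbc, hac, rfl⟩)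
    (Subgroup.subset_closure ⟨b, hb, c, hc, d, hd, hbc, hcd, hbd, rfl⟩)

theorem H_conj (C : Cov π ρ) {a b c d : Fin r} (h : D4 a b c d) (γ : Γ) :
    γ * H π a b c d * γ⁻¹ = H π (pm π γ a) (pm π γ b) (pm π γ c) (pm π γ d) := by
  obtain ⟨hab, hac, had, hbc, hbd, hcd⟩ := h.ne
  rw [H, H, ← lft_c3_conj C γ hab hbc hac, ← lft_c3_conj C γ hbc hcd hbd]
  group

theorem H_eq (C : Cov π ρ) (hs : Small k V r) {a b c d : Fin r} (h : D4 a b c d) {γ : Γ}
    (hγ : γ ∈ C.gs {a, b, c, d}) (e : pm π γ = swap a b * swap c d) : γ = H π a b c d := by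
  refine gs_inj C hs ?_ hγ (H_mem C h subset_rfl) (Subtype.ext (e.trans (pm_H C h).symm))
  have : ({a, b, c, d} : Finset (Fin r)).card ≤ 4 := Finset.card_le_four
  have := C.hr
  omega

theorem H_sq (C : Cov π ρ) (hs : Small k V r) {a b c d : Fin r} (h : D4 a b c d) :
    H π a b c d * H π a b c d = 1 := by
  obtain ⟨hab, hac, had, hbc, hbd, hcd⟩ := h.ne
  refine gs_inj C hs (S := {a, b, c, d}) ?_ (mul_mem (H_mem C h subset_rfl) (H_mem C h subset_rfl))
    (one_mem _) ?_
  · have : ({a, b, c, d} : Finset (Fin r)).card ≤ 4 := Finset.card_le_four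
    have := C.hr
    omega
  · refine Subtype.ext ?_
    rw [map_mul, Subgroup.coe_mul, map_one, Subgroup.coe_one]
    show pm π (H π a b c d) * pm π (H π a b c d) = 1
    rw [pm_H C h]
    refine Equiv.ext fun i => ?_
    simp only [Perm.mul_apply, Perm.one_apply, swap_apply_def]
    split_ifs <;> simp_all

theorem H_apply_sq (C : Cov π ρ) (hs : Small k V r) {a b c d : Fin r} (h : D4 a b c d) (v : V) :
    ρ (H π a b c d) (ρ (H π a b c d) v) = v := by
  rw [← rho_mul_apply, H_sq C hs h, map_one]; rfl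

theorem H_mul (C : Cov π ρ) (hs : Small k V r) {a b c d : Fin r} (h : D4 a b c d) :
    H π a b c d * H π a c d b = H π a d b c := by
  obtain ⟨hab, hac, had, hbc, hbd, hcd⟩ := h.ne
  refine H_eq C hs h.rot.rot (mul_mem (H_mem C h ?_) (H_mem C h.rot ?_)) ?_
  · simp [insert_subset_iff]
  · simp [insert_subset_iff]
  · show ((π (H π a b c d * H π a c d b) : alternatingGroup (Fin r)) : Perm (Fin r)) = _
    rw [map_mul, Subgroup.coe_mul]
    show pm π (H π a b c d) * pm π (H π a c d b) = _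
    rw [pm_H C h, pm_H C h.rot]
    refine Equiv.ext fun i => ?_
    by_cases ia : i = a
    · subst ia; simp [swap_apply_def, hab, hac, had, hbc, hbd, hcd, hab.symm, hac.symm, had.symm, hbc.symm, hbd.symm, hcd.symm]
    by_cases ib : i = b
    · subst ib; simp [swap_apply_def, hab, hac, had, hbc, hbd, hcd, hab.symm, hac.symm, had.symm, hbc.symm, hbd.symm, hcd.symm]
    by_cases ic : i = c
    · subst ic; simp [swap_apply_def, hab, hac, had, hbc, hbd, hcd, hab.symm, hac.symm, had.symm, hbc.symm, hbd.symm, hcd.symm]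
    by_cases id' : i = d
    · subst id'; simp [swap_apply_def, hab, hac, had, hbc, hbd, hcd, hab.symm, hac.symm, had.symm, hbc.symm, hbd.symm, hcd.symm]
    simp [swap_apply_def, ia, ib, ic, id']

/-- In odd characteristic the four-group has three lines. -/
theorem v4_lines (C : Cov π ρ) (hs : Small k V r) (h2 : (2 : k) ≠ 0) {a b c d : Fin r}
    (h : D4 a b c d) :
    ∃ v₁ v₂ v₃ : V, v₁ ∈ P π ρ {a, b, c, d} ∧
      v₂ = ρ (lft π (c3 b c d)) v₁ ∧ v₃ = ρ (lft π (c3 b c d)) v₂ ∧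
      ρ (H π a b c d) v₁ = v₁ ∧ LinearIndependent k ![v₁, v₂, v₃] ∧
      ∀ w ∈ P π ρ {a, b, c, d}, ρ (H π a b c d) w = w → ρ (H π a c d b) w = w → w = 0 := by
  obtain ⟨hab, hac, had, hbc, hbd, hcd⟩ := h.ne
  set Q := P π ρ {a, b, c, d}
  set h1 := ρ (H π a b c d) with hh1
  set h2' := ρ (H π a c d b) with hh2
  set h3' := ρ (H π a d b c) with hh3
  set γ := lft π (c3 b c d) with hγdef
  set x := ρ γ with hx
  have hγ : γ ∈ C.gs {a, b, c, d} := Subgroup.subset_closure
    ⟨b, by simp, c, by simp, d, by simp, hbc, hcd, hbd, rfl⟩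
  have hγ' : pm π γ = (c3 b c d : Perm (Fin r)) := by simp only [pm, γ, C.map_lft]
  have pa : pm π γ a = a := by rw [hγ']; exact c3_apply_other hab hac had
  have pb : pm π γ b = c := by rw [hγ']; exact c3_apply_left hbc hcd hbd
  have pc : pm π γ c = d := by rw [hγ']; exact c3_apply_mid hbc hcd hbd
  have pd : pm π γ d = b := by rw [hγ']; exact c3_apply_right hbc hcd hbd
  have conj : ∀ {a' b' c' d'}, D4 a' b' c' d' → ∀ v,
      ρ (H π (pm π γ a') (pm π γ b') (pm π γ c') (pm π γ d')) (x v) = x (ρ (H π a' b' c' d') v) :=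
    fun hd' v => by rw [← H_conj C hd' γ, rho_mul_apply, rho_mul_apply, rho_inv_apply]
  have c1 : ∀ v, h2' (x v) = x (h1 v) := fun v => by
    have := conj h v; rwa [pa, pb, pc, pd] at this
  have c2 : ∀ v, h3' (x v) = x (h2' v) := fun v => by
    have := conj h.rot v; rwa [pa, pb, pc, pd] at this
  have c3' : ∀ v, h1 (x v) = x (h3' v) := fun v => by
    have := conj h.rot.rot v; rwa [pa, pb, pc, pd] at this
  have s1 : ∀ v, h1 (h1 v) = v := H_apply_sq C hs h
  have s2 : ∀ v, h2' (h2' v) = v := H_apply_sq C hs h.rot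
  have m12 : ∀ v, h1 (h2' v) = h3' v := fun v => by
    rw [hh1, hh2, ← rho_mul_apply, H_mul C hs h]
  have m21 : ∀ v, h2' (h1 v) = h3' v := fun v => by
    have e := m12 (h2' (h1 v))
    rw [s2, s1] at e
    have s3 : ∀ u, h3' (h3' u) = u := H_apply_sq C hs h.rot.rot
    have := congrArg h3' e
    rw [s3] at this
    exact this.symm
  have hQx : ∀ v ∈ Q, x v ∈ Q := fun v hv => mem_P_gs C hγ hv
  -- a vector of the first type
  obtain ⟨v, hvQ, hv0, hv1, hv2, hv3⟩ : ∃ v ∈ Q, v ≠ 0 ∧ h1 v = v ∧ h2' v = -v ∧ h3' v = -v := by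
    have hne : moved ρ (H π a b c d) ≠ ⊥ := C.moved_ne_bot fun e => by
      have := congrArg (fun g => pm π g a) e
      simp only [pm_H C h, Perm.mul_apply] at this
      rw [swap_apply_of_ne_of_ne hac had, swap_apply_left] at this
      exact hab.symm (this.trans (by simp [pm]))
    obtain ⟨u, hu, hu0⟩ := Submodule.exists_mem_ne_zero_of_ne_bot hne
    have huQ : u ∈ Q := moved_le_of_gs C (H_mem C h subset_rfl) hu
    have hu1 : h1 u = -u := by
      obtain ⟨t, rfl⟩ := hu
      simp only [LinearMap.sub_apply, Module.End.one_apply, map_sub, ← hh1, s1, neg_sub]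
    have hQ2 : ∀ v ∈ Q, h2' v ∈ Q := fun v hv => mem_P_gs C (H_mem C h.rot (by simp [insert_subset_iff])) hv
    have hxinv : ∀ v, ρ γ⁻¹ v ∈ Q ↔ v ∈ Q := fun v =>
      ⟨fun hv => by rw [← rho_inv_apply' (ρ := ρ) γ v]; exact hQx _ hv, fun hv => mem_P_gs C (inv_mem hγ) hv⟩
    by_cases hw : u + h2' u = 0
    · have hu2 : h2' u = -u := (neg_eq_of_add_eq_zero_right hw).symm
      have hu3 : h3' u = u := by rw [← m21, hu1, map_neg, hu2, neg_neg]
      refine ⟨x u, hQx u huQ, fun e => hu0 (rho_injective γ (e.trans (map_zero _).symm)), ?_, ?_, ?_⟩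
      · rw [c3', hu3]
      · rw [c1, hu1, map_neg]
      · rw [c2, hu2, map_neg]
    · set w := u + h2' u
      have w1 : h1 w = -w := by
        simp only [w, map_add, hu1, m12]
        rw [← m21, hu1, map_neg]; abel
      have w2 : h2' w = w := by simp only [w, map_add, s2]; abel
      have w3 : h3' w = -w := by rw [← m12, w2, w1]
      refine ⟨ρ γ⁻¹ w, (hxinv w).2 (add_mem huQ (hQ2 u huQ)),
        fun e => hw (rho_injective (ρ := ρ) γ⁻¹ (e.trans (map_zero (ρ γ⁻¹)).symm)), rho_injective (ρ := ρ) γ ?_,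
        rho_injective (ρ := ρ) γ ?_, rho_injective (ρ := ρ) γ ?_⟩
      · show x (h1 _) = x _
        rw [← c1, hx, rho_inv_apply', w2]
      · show x (h2' _) = x (-_)
        rw [← c2, map_neg, hx, rho_inv_apply', w3]
      · show x (h3' _) = x (-_)
        rw [← c3', map_neg, hx, rho_inv_apply', w1]
  set v₂ := x v
  set v₃ := x v₂
  have a2 : h1 v₂ = -v₂ ∧ h2' v₂ = v₂ := ⟨by rw [c3', hv3, map_neg], by rw [c1, hv1]⟩
  have b2 : h3' v₂ = -v₂ := by rw [c2, hv2, map_neg]
  have a3 : h1 v₃ = -v₃ ∧ h2' v₃ = -v₃ := ⟨by rw [c3', b2, map_neg], by rw [c1, a2.1, map_neg]⟩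
  have hv20 : v₂ ≠ 0 := fun e => hv0 (rho_injective γ (e.trans (map_zero _).symm))
  have hv30 : v₃ ≠ 0 := fun e => hv20 (rho_injective γ (e.trans (map_zero _).symm))
  have hhalf : ∀ u : V, u + u = 0 → u = 0 := fun u hu => by
    have h : (2 : k) • u = 0 := by rw [two_smul, hu]
    exact (smul_eq_zero.1 h).resolve_left h2
  have hind : ∀ p q s : k, p • v + q • v₂ + s • v₃ = 0 → p = 0 ∧ q = 0 ∧ s = 0 := by
    intro p q s e
    have e1 := congrArg h1 e
    simp only [map_add, map_smul, hv1, a2.1, a3.1, map_zero, smul_neg] at e1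
    have hp : p = 0 := (smul_eq_zero.1 (hhalf (p • v) (by
      linear_combination (norm := module) e + e1))).resolve_right hv0
    subst hp
    rw [zero_smul, zero_add] at e
    have e2 := congrArg h2' e
    simp only [map_add, map_smul, a2.2, a3.2, map_zero, smul_neg] at e2
    have hq : q = 0 := (smul_eq_zero.1 (hhalf (q • v₂) (by
      linear_combination (norm := module) e + e2))).resolve_right hv20
    subst hq
    rw [zero_smul, zero_add] at e
    exact ⟨rfl, rfl, (smul_eq_zero.1 e).resolve_right hv30⟩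
  have hli : LinearIndependent k ![v, v₂, v₃] := by
    rw [Fintype.linearIndependent_iff]
    intro g hg
    rw [Fin.sum_univ_three] at hg
    obtain ⟨e0, e1, e2⟩ := hind (g 0) (g 1) (g 2) hg
    intro i; fin_cases i <;> assumption
  refine ⟨v, v₂, v₃, hvQ, rfl, rfl, hv1, hli, fun w hw w1 w2 => ?_⟩
  have hspan : Submodule.span k (Set.range ![v, v₂, v₃]) = Q := by
    refine Submodule.eq_of_le_of_finrank_le (Submodule.span_le.2 ?_) ?_
    · rintro _ ⟨i, rfl⟩
      fin_cases i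
      exacts [hvQ, hQx v hvQ, hQx _ (hQx v hvQ)]
    · rw [finrank_span_eq_card hli, Fintype.card_fin]
      have := (tight C hs).2.2 {a, b, c, d}
      have hcard : ({a, b, c, d} : Finset (Fin r)).card = 4 := by simp [hab, hac, had, hbc, hbd, hcd]
      show Module.finrank k (P π ρ {a, b, c, d}) ≤ 3
      omega
  rw [← hspan, Submodule.mem_span_range_iff_exists_fun] at hw
  obtain ⟨g, rfl⟩ := hw
  simp only [Fin.sum_univ_three] at w1 w2 ⊢
  change h1 (g 0 • v + g 1 • v₂ + g 2 • v₃) = g 0 • v + g 1 • v₂ + g 2 • v₃ at w1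
  change h2' (g 0 • v + g 1 • v₂ + g 2 • v₃) = g 0 • v + g 1 • v₂ + g 2 • v₃ at w2
  show g 0 • v + g 1 • v₂ + g 2 • v₃ = 0
  simp only [map_add, map_smul, hv1, hv2, a2.1, a2.2, a3.1, a3.2, smul_neg] at w1 w2
  have hA : g 1 • v₂ + g 2 • v₃ = 0 := hhalf _ (by linear_combination (norm := module) -(1 : k) • w1)
  obtain ⟨-, e1, e2⟩ := hind 0 (g 1) (g 2) (by rw [zero_smul, zero_add, hA])
  rw [e1, e2] at w2 ⊢
  simp only [zero_smul, add_zero, neg_zero] at w2 ⊢
  exact hhalf _ (by linear_combination (norm := module) -(1 : k) • w2)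

/-- The displacement of a three-cycle does not square to zero. -/
theorem sq_ne (C : Cov π ρ) (hs : Small k V r) {a b c : Fin r} (hab : a ≠ b) (hbc : b ≠ c)
    (hac : a ≠ c) : ∃ u, ρ (lft π (c3 a b c)) ((ρ (lft π (c3 a b c)) - 1) u) ≠
      (ρ (lft π (c3 a b c)) - 1) u := by
  by_contra hall
  push Not at hall
  by_cases h3 : (3 : k) = 0
  · have h2 : (2 : k) ≠ 0 := fun h2 => one_ne_zero (show (1 : k) = 0 by linear_combination h3 - h2)
    obtain ⟨d, hd⟩ : ∃ d, d ∉ ({a, b, c} : Finset (Fin r)) := by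
      obtain ⟨u, -, hu, -, -⟩ := exists_two_outside C (S := {a, b, c}) (by
        have : ({a, b, c} : Finset (Fin r)).card ≤ 3 := Finset.card_le_three
        have := C.hr
        omega)
      exact ⟨u, hu⟩
    simp only [mem_insert, mem_singleton, not_or] at hd
    have h4 : D4 d a b c := by
      simp [D4, List.nodup_cons, hd, hab, hbc, hac]
    obtain ⟨v₁, v₂, v₃, -, e2, e3, -, hli, -⟩ := v4_lines C hs h2 h4
    have h := hall v₁
    simp only [LinearMap.sub_apply, Module.End.one_apply, map_sub, ← e2, ← e3] at h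
    have := Fintype.linearIndependent_iff.1 hli ![1, -2, 1] (by
      rw [Fin.sum_univ_three]
      show (1 : k) • v₁ + (-2 : k) • v₂ + (1 : k) • v₃ = 0
      linear_combination (norm := module) h) 0
    exact one_ne_zero this
  · have h3k : ((3 : ℕ) : k) ≠ 0 := by exact_mod_cast h3
    haveI : NeZero ((3 : ℕ) : k) := ⟨h3k⟩
    obtain ⟨ζ, hζ⟩ := Eigen.exists_primitive (k := k) 3
    refine C.moved_ne_bot (c3_lift_ne_one C hab hbc hac) (le_bot_iff.1 ?_)
    calc moved ρ (lft π (c3 a b c))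
        ≤ LinearMap.range (ρ (lft π (c3 a b c)) - 1) ⊓ LinearMap.ker (ρ (lft π (c3 a b c)) - 1) :=
          le_inf le_rfl fun v hv => by
            obtain ⟨u, rfl⟩ := hv
            exact mem_fixd.2 (hall u)
      _ = ⊥ := Eigen.disjoint_range_ker hζ h3k (Y_pow C hab hbc hac)

theorem finrank_P3 (C : Cov π ρ) (hs : Small k V r) {a b c : Fin r} (hab : a ≠ b) (hbc : b ≠ c)
    (hac : a ≠ c) : Module.finrank k (P π ρ {a, b, c}) = 2 := by
  have := (tight C hs).2.2 {a, b, c}
  have hcard : ({a, b, c} : Finset (Fin r)).card = 3 := by simp [hab, hac, hbc]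
  omega

theorem image_three (g : Perm (Fin r)) (a b c : Fin r) :
    ({a, b, c} : Finset (Fin r)).image g = {g a, g b, g c} := by
  simp [image_insert]

/-- An element inverting a three-cycle displaces its space. -/
theorem exists_displaced (C : Cov π ρ) (hs : Small k V r) {a b c : Fin r} (hab : a ≠ b) (hbc : b ≠ c)
    (hac : a ≠ c) {γ : Γ} (ga : pm π γ a = b) (gb : pm π γ b = a) (gc : pm π γ c = c) :
    ∃ v ∈ P π ρ {a, b, c}, ρ γ v ≠ v := by
  by_contra hall
  push Not at hall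
  set x := lft π (c3 a b c)
  have hmem : x ∈ C.gs {a, b, c} := Subgroup.subset_closure
    ⟨a, by simp, b, by simp, c, by simp, hab, hbc, hac, rfl⟩
  have hinv : γ * x * γ⁻¹ = x⁻¹ := by
    rw [lft_c3_conj C γ hab hbc hac, ga, gb, gc, lft_c3_inv C hab hbc hac]
  obtain ⟨u, hu⟩ := sq_ne C hs hab hbc hac
  refine hu ?_
  set v := (ρ x - 1) u
  have hv : v ∈ P π ρ {a, b, c} := moved_le_of_gs C hmem ⟨u, rfl⟩
  have hg : ρ γ⁻¹ v = v := by
    nth_rw 1 [← hall v hv]
    exact rho_inv_apply γ v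
  have h1 : ρ x⁻¹ v = ρ x v := by
    rw [← hinv, rho_mul_apply, rho_mul_apply, hg, hall _ (mem_P_gs C hmem hv)]
  have h2 : ρ x (ρ x v) = v := by rw [← h1, rho_inv_apply']
  have h3 : ρ x (ρ x (ρ x v)) = v := by
    have := LinearMap.congr_fun (Y_pow C (ρ := ρ) hab hbc hac) v
    simpa [Y, pow_succ] using this
  rw [h2] at h3
  exact h3

/-- Five distinct points. -/
def D5 (a b c u v : Fin r) : Prop := [a, b, c, u, v].Nodup

theorem D5.ne {a b c u v : Fin r} (h : D5 a b c u v) :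
    (a ≠ b ∧ a ≠ c ∧ a ≠ u ∧ a ≠ v) ∧ (b ≠ c ∧ b ≠ u ∧ b ≠ v) ∧ (c ≠ u ∧ c ≠ v) ∧ u ≠ v := by
  simp [D5, List.nodup_cons] at h; tauto

theorem D5.four {a b c u v : Fin r} (h : D5 a b c u v) : D4 a b u v := by
  simp [D5, List.nodup_cons] at h; simp [D4, List.nodup_cons]; tauto

theorem D5.swap {a b c u v : Fin r} (h : D5 a b c u v) : D5 b a c u v := by
  obtain ⟨⟨h1, h2, h3, h4⟩, ⟨h5, h6, h7⟩, ⟨h8, h9⟩, h10⟩ := h.ne
  simp [D5, List.nodup_cons, Ne.symm h1, h2, h3, h4, h5, h6, h7, h8, h9, h10]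

/-- The image of a plane. -/
noncomputable def A (π : Γ →* alternatingGroup (Fin r)) (ρ : Γ →* Module.End k V) (a b c u v : Fin r) :
    Submodule k V :=
  (P π ρ {a, b, c}).map (ρ (H π a b u v) - 1)

theorem pm_H5 (C : Cov π ρ) {a b c u v : Fin r} (h : D5 a b c u v) :
    pm π (H π a b u v) a = b ∧ pm π (H π a b u v) b = a ∧ pm π (H π a b u v) c = c := by
  obtain ⟨⟨h1, h2, h3, h4⟩, ⟨h5, h6, h7⟩, ⟨h8, h9⟩, h10⟩ := h.ne
  rw [pm_H C h.four]
  refine ⟨?_, ?_, ?_⟩
  · rw [Perm.mul_apply, swap_apply_of_ne_of_ne h3 h4, swap_apply_left]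
  · rw [Perm.mul_apply, swap_apply_of_ne_of_ne h6 h7, swap_apply_right]
  · rw [Perm.mul_apply, swap_apply_of_ne_of_ne h8 h9, swap_apply_of_ne_of_ne h2.symm h5.symm]

theorem A_ne_bot (C : Cov π ρ) (hs : Small k V r) {a b c u v : Fin r} (h : D5 a b c u v) :
    A π ρ a b c u v ≠ ⊥ := by
  obtain ⟨⟨h1, h2, -, -⟩, ⟨h5, -, -⟩, -, -⟩ := h.ne
  obtain ⟨ga, gb, gc⟩ := pm_H5 C h
  obtain ⟨w, hw, hne⟩ := exists_displaced C hs h1 h5 h2 ga gb gc
  intro e
  refine hne (sub_eq_zero.1 ((Submodule.eq_bot_iff _).1 e _ ⟨w, hw, rfl⟩))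

theorem invariant_of_image (C : Cov π ρ) {γ : Γ} {S : Finset (Fin r)}
    (h : S.image (pm π γ) = S) {v : V} (hv : v ∈ P π ρ S) : ρ γ v ∈ P π ρ S := by
  have : ρ γ v ∈ (P π ρ S).map (ρ γ) := ⟨v, hv, rfl⟩
  rwa [P_map C, h] at this

theorem A_le (C : Cov π ρ) {a b c u v : Fin r} (h : D5 a b c u v) :
    A π ρ a b c u v ≤ P π ρ {a, b, c} := by
  rintro _ ⟨w, hw, rfl⟩
  obtain ⟨ga, gb, gc⟩ := pm_H5 C h
  refine Submodule.sub_mem _ (invariant_of_image C ?_ hw) hw
  rw [image_three, ga, gb, gc, Finset.insert_comm]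

theorem A_indep (C : Cov π ρ) (hs : Small k V r) {a b c u v u' v' : Fin r} (h : D5 a b c u v)
    (h' : D5 a b c u' v') : A π ρ a b c u v = A π ρ a b c u' v' := by
  obtain ⟨⟨h1, h2, h3, h4⟩, ⟨h5, h6, h7⟩, ⟨h8, h9⟩, h10⟩ := h.ne
  obtain ⟨⟨-, -, g3, g4⟩, ⟨-, g6, g7⟩, ⟨g8, g9⟩, g10⟩ := h'.ne
  set U : Finset (Fin r) := {u, v, u', v'}
  set δ := (H π a b u v)⁻¹ * H π a b u' v'
  have hIn : In U (π δ) := fun i hi => by
    simp only [U, mem_insert, mem_singleton, not_or] at hi
    obtain ⟨i1, i2, i3, i4⟩ := hi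
    rw [map_mul, map_inv, Subgroup.coe_mul, Subgroup.coe_inv, Perm.mul_apply, Perm.inv_eq_iff_eq]
    show pm π (H π a b u' v') i = pm π (H π a b u v) i
    rw [pm_H C h.four, pm_H C h'.four, Perm.mul_apply, Perm.mul_apply, swap_apply_of_ne_of_ne i1 i2,
      swap_apply_of_ne_of_ne i3 i4]
  obtain ⟨δ', hδ', he⟩ := C.exists_gs hIn
  have hcard : (insert a (insert b U)).card + 3 ≤ r := by
    have := card_insert_le a (insert b U)
    have := card_insert_le b U
    have : U.card ≤ 4 := Finset.card_le_four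
    have := C.hr
    omega
  have hmem : δ ∈ C.gs (insert a (insert b U)) :=
    mul_mem (inv_mem (H_mem C h.four (by simp [U, insert_subset_iff])))
      (H_mem C h'.four (by simp [U, insert_subset_iff]))
  have hδeq : δ = δ' := gs_inj C hs hcard hmem
    (C.gs_mono ((subset_insert b U).trans (subset_insert a _)) hδ') he.symm
  have hfix : ∀ w ∈ P π ρ {a, b, c}, ρ δ w = w := hδeq ▸ fix_P C hs (S := U) (by
    simp only [U, disjoint_insert_left, disjoint_singleton_left, mem_insert, mem_singleton, not_or]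
    exact ⟨⟨h3.symm, h6.symm, h8.symm⟩, ⟨h4.symm, h7.symm, h9.symm⟩, ⟨g3.symm, g6.symm, g8.symm⟩,
      g4.symm, g7.symm, g9.symm⟩) hδ'
  have key : ∀ w ∈ P π ρ {a, b, c}, ρ (H π a b u' v') w = ρ (H π a b u v) w := fun w hw => by
    conv_rhs => rw [← hfix w hw, ← rho_mul_apply, mul_inv_cancel_left]
  refine le_antisymm ?_ ?_
  · rintro _ ⟨w, hw, rfl⟩
    exact ⟨w, hw, by simp [key w hw]⟩
  · rintro _ ⟨w, hw, rfl⟩
    exact ⟨w, hw, by simp [key w hw]⟩

/-- The displacement space inside four points is a line. -/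
theorem finrank_four_le (C : Cov π ρ) (hs : Small k V r) {a b c d u v : Fin r} (h : D5 a b c u v)
    (hd : D5 a b d u v) (hcd : c ≠ d) :
    Module.finrank k ((P π ρ {a, b, c, d}).map (ρ (H π a b u v) - 1)) ≤ 1 := by
  obtain ⟨⟨h1, h2, h3, h4⟩, ⟨h5, h6, h7⟩, ⟨h8, h9⟩, h10⟩ := h.ne
  obtain ⟨⟨-, g2, -, -⟩, ⟨g5, -, -⟩, ⟨g8, g9⟩, -⟩ := hd.ne
  set Q := P π ρ {a, b, c, d}
  set D := ρ (H π a b u v) - 1
  have hQ : Module.finrank k Q = 3 := by
    have := (tight C hs).2.2 {a, b, c, d}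
    have hcard : ({a, b, c, d} : Finset (Fin r)).card = 4 := by simp [h1, h2, g2, h5, g5, hcd]
    show Module.finrank k (P π ρ {a, b, c, d}) = 3
    omega
  have hinv : ∀ w ∈ Q, D w ∈ Q := fun w hw => by
    obtain ⟨ga, gb, gc⟩ := pm_H5 C h
    refine Submodule.sub_mem _ (invariant_of_image C ?_ hw) hw
    rw [image_insert, image_three, ga, gb, gc, (pm_H5 C hd).2.2, Finset.insert_comm]
  by_cases h2k : (2 : k) = 0
  · have hker : Q.map D ≤ (LinearMap.ker (D.domRestrict Q)).map Q.subtype := by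
      rintro _ ⟨w, hw, rfl⟩
      refine ⟨⟨D w, hinv w hw⟩, ?_, rfl⟩
      rw [SetLike.mem_coe, LinearMap.mem_ker, LinearMap.domRestrict_apply]
      simp only [D, LinearMap.sub_apply, Module.End.one_apply, map_sub, H_apply_sq C hs h.four]
      have e2 : ∀ x : V, x + x = 0 := fun x => by rw [← two_smul k x, h2k, zero_smul]
      have := e2 w
      have := e2 (ρ (H π a b u v) w)
      linear_combination (norm := abel) e2 w - this
    have h1' := LinearMap.finrank_range_add_finrank_ker (D.domRestrict Q)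
    rw [LinearMap.range_domRestrict] at h1'
    have h2' := (Submodule.finrank_mono hker).trans
      (Submodule.finrank_map_le Q.subtype (LinearMap.ker (D.domRestrict Q)))
    omega
  · obtain ⟨w, hw⟩ : ∃ w, w ∉ ({a, b, c, d, u, v} : Finset (Fin r)) := by
      obtain ⟨w, -, hw, -, -⟩ := exists_two_outside C (S := {a, b, c, d, u, v}) (by
        have : ({a, b, c, d, u, v} : Finset (Fin r)).card ≤ 6 := Finset.card_le_six
        have := C.hr
        omega)
      exact ⟨w, hw⟩
    simp only [mem_insert, mem_singleton, not_or] at hw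
    obtain ⟨w1, w2, w3, w4, w5, w6⟩ := hw
    have g1 : pm π (H π a b u v) u = v ∧ pm π (H π a b u v) v = u ∧ pm π (H π a b u v) w = w := by
      rw [pm_H C h.four]
      refine ⟨?_, ?_, ?_⟩
      · rw [Perm.mul_apply, swap_apply_left, swap_apply_of_ne_of_ne h4.symm h7.symm]
      · rw [Perm.mul_apply, swap_apply_right, swap_apply_of_ne_of_ne h3.symm h6.symm]
      · rw [Perm.mul_apply, swap_apply_of_ne_of_ne w5 w6, swap_apply_of_ne_of_ne w1 w2]
    set B := (P π ρ {u, v, w}).map D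
    have hBne : B ≠ ⊥ := by
      obtain ⟨t, ht, hne⟩ := exists_displaced C hs h10 (Ne.symm w6) (Ne.symm w5) g1.1 g1.2.1 g1.2.2
      exact fun e => hne (sub_eq_zero.1 ((Submodule.eq_bot_iff _).1 e _ ⟨t, ht, rfl⟩))
    have hBle : B ≤ P π ρ {u, v, w} := by
      rintro _ ⟨t, ht, rfl⟩
      refine Submodule.sub_mem _ (invariant_of_image C ?_ ht) ht
      rw [image_three, g1.1, g1.2.1, g1.2.2, Finset.insert_comm]
    have hAle : Q.map D ≤ Q := by rintro _ ⟨t, ht, rfl⟩; exact hinv t ht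
    obtain ⟨s, hs'⟩ : ∃ s, s ∉ ({a, b, c, d, u, v, w} : Finset (Fin r)) := by
      by_contra hall
      push Not at hall
      have hc := card_le_card (show (univ : Finset (Fin r)) ⊆ {a, b, c, d, u, v, w} from fun i _ => hall i)
      rw [card_univ, Fintype.card_fin] at hc
      have := card_insert_le a ({b, c, d, u, v, w} : Finset (Fin r))
      have : ({b, c, d, u, v, w} : Finset (Fin r)).card ≤ 6 := Finset.card_le_six
      have := C.hr
      omega
    simp only [mem_insert, mem_singleton, not_or] at hs'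
    obtain ⟨s1, s2, s3, s4, s5, s6, s7⟩ := hs'
    have h4' : D4 u v w s := by
      simp [D4, List.nodup_cons, h10, Ne.symm w5, Ne.symm w6, Ne.symm s5, Ne.symm s6, Ne.symm s7]
    obtain ⟨-, -, -, -, -, -, -, -, hzero⟩ := v4_lines C hs h2k h4'
    have hdisj : Q.map D ⊓ B = ⊥ := by
      rw [Submodule.eq_bot_iff]
      intro x hx
      have hd' : Disjoint ({u, v, w, s} : Finset (Fin r)) {a, b, c, d} := by
        simp only [disjoint_insert_left, disjoint_singleton_left, mem_insert, mem_singleton, not_or]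
        exact ⟨⟨h3.symm, h6.symm, h8.symm, g8.symm⟩, ⟨h4.symm, h7.symm, h9.symm, g9.symm⟩,
          ⟨w1, w2, w3, w4⟩, s1, s2, s3, s4⟩
      refine hzero x (P_mono (by simp [insert_subset_iff]) (hBle hx.2)) ?_ ?_
      · exact fix_P C hs hd' (H_mem C h4' subset_rfl) x (hAle hx.1)
      · exact fix_P C hs hd' (H_mem C h4'.rot (by simp [insert_subset_iff])) x (hAle hx.1)
    obtain ⟨v₁, v₂, v₃, hv₁, -, -, hfix, hli, -⟩ := v4_lines C hs h2k h.four
    have hv₁0 : v₁ ≠ 0 := by simpa using hli.ne_zero (0 : Fin 3)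
    have hM : Module.finrank k (moved ρ (H π a b u v)) ≤ 2 := by
      have hlt : moved ρ (H π a b u v) < P π ρ {a, b, u, v} := by
        refine lt_of_le_of_ne (moved_le_of_gs C (H_mem C h.four subset_rfl)) fun e => hv₁0 ?_
        obtain ⟨t, ht⟩ : v₁ ∈ moved ρ (H π a b u v) := e ▸ hv₁
        have e1 := congrArg (ρ (H π a b u v)) ht
        simp only [LinearMap.sub_apply, Module.End.one_apply, map_sub, H_apply_sq C hs h.four, hfix] at e1 ht
        have e3 : (2 : k) • v₁ = 0 := by rw [two_smul]; linear_combination (norm := abel) -ht - e1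
        exact (smul_eq_zero.1 e3).resolve_left h2k
      have := Submodule.finrank_lt_finrank_of_lt hlt
      have := (tight C hs).2.2 {a, b, u, v}
      have hcard : ({a, b, u, v} : Finset (Fin r)).card = 4 := by simp [h1, h3, h4, h6, h7, h10]
      omega
    have hsup : Q.map D ⊔ B ≤ moved ρ (H π a b u v) :=
      sup_le (LinearMap.map_le_range) (LinearMap.map_le_range)
    have h1' := Submodule.finrank_sup_add_finrank_inf_eq (Q.map D) B
    rw [hdisj, finrank_bot, add_zero] at h1'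
    have := Submodule.finrank_mono hsup
    have : 0 < Module.finrank k B := Nat.pos_of_ne_zero fun e => hBne (Submodule.finrank_eq_zero.1 e)
    omega

theorem A_le_four {a b c d u v : Fin r} :
    A π ρ a b c u v ≤ (P π ρ {a, b, c, d}).map (ρ (H π a b u v) - 1) ∧
      A π ρ a b d u v ≤ (P π ρ {a, b, c, d}).map (ρ (H π a b u v) - 1) :=
  ⟨Submodule.map_mono (P_mono (by simp [insert_subset_iff])),
    Submodule.map_mono (P_mono (by simp [insert_subset_iff]))⟩

theorem exists_outside_two (C : Cov π ρ) (a b c d : Fin r) :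
    ∃ u v, u ∉ ({a, b, c, d} : Finset (Fin r)) ∧ v ∉ ({a, b, c, d} : Finset (Fin r)) ∧ u ≠ v :=
  exists_two_outside C (by
    have : ({a, b, c, d} : Finset (Fin r)).card ≤ 4 := Finset.card_le_four
    have := C.hr
    omega)

theorem finrank_A (C : Cov π ρ) (hs : Small k V r) {a b c u v : Fin r} (h : D5 a b c u v) :
    Module.finrank k (A π ρ a b c u v) = 1 := by
  obtain ⟨⟨h1, h2, h3, h4⟩, ⟨h5, h6, h7⟩, ⟨h8, h9⟩, h10⟩ := h.ne
  obtain ⟨d, hd⟩ : ∃ d, d ∉ ({a, b, c, u, v} : Finset (Fin r)) := by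
    obtain ⟨d, -, hd, -, -⟩ := exists_two_outside C (S := {a, b, c, u, v}) (by
      have : ({a, b, c, u, v} : Finset (Fin r)).card ≤ 5 := Finset.card_le_five
      have := C.hr
      omega)
    exact ⟨d, hd⟩
  simp only [mem_insert, mem_singleton, not_or] at hd
  obtain ⟨d1, d2, d3, d4, d5⟩ := hd
  have hd5 : D5 a b d u v := by
    simp [D5, List.nodup_cons, h1, h3, h4, h6, h7, h10, Ne.symm d1, Ne.symm d2, d4, d5]
  have := (Submodule.finrank_mono (A_le_four (π := π) (ρ := ρ) (a := a) (b := b) (c := c) (d := d) (u := u) (v := v)).1).trans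
    (finrank_four_le C hs h hd5 (Ne.symm d3))
  have : 0 < Module.finrank k (A π ρ a b c u v) :=
    Nat.pos_of_ne_zero fun e => A_ne_bot C hs h (Submodule.finrank_eq_zero.1 e)
  omega

theorem A_indep' (C : Cov π ρ) (hs : Small k V r) {a b c d u v u' v' : Fin r} (h : D5 a b c u v)
    (hd : D5 a b d u' v') : A π ρ a b c u v = A π ρ a b d u' v' := by
  by_cases hcd : c = d
  · subst hcd; exact A_indep C hs h hd
  obtain ⟨⟨h1, h2, -, -⟩, ⟨h5, -, -⟩, -, -⟩ := h.ne
  obtain ⟨⟨-, g2, -, -⟩, ⟨g5, -, -⟩, -, -⟩ := hd.ne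
  obtain ⟨p, q, hp, hq, hpq⟩ := exists_outside_two C a b c d
  simp only [mem_insert, mem_singleton, not_or] at hp hq
  obtain ⟨p1, p2, p3, p4⟩ := hp
  obtain ⟨q1, q2, q3, q4⟩ := hq
  have hc' : D5 a b c p q := by
    simp [D5, List.nodup_cons, h1, h2, h5, Ne.symm p1, Ne.symm p2, Ne.symm p3, Ne.symm q1, Ne.symm q2, Ne.symm q3, hpq]
  have hd' : D5 a b d p q := by
    simp [D5, List.nodup_cons, h1, g2, g5, Ne.symm p1, Ne.symm p2, Ne.symm p4, Ne.symm q1, Ne.symm q2, Ne.symm q4, hpq]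
  rw [A_indep C hs h hc', A_indep C hs hd hd']
  have hle := finrank_four_le C hs hc' hd' hcd
  obtain ⟨l1, l2⟩ := A_le_four (π := π) (ρ := ρ) (a := a) (b := b) (c := c) (d := d) (u := p) (v := q)
  rw [Submodule.eq_of_le_of_finrank_le l1 (hle.trans (finrank_A C hs hc').ge),
    Submodule.eq_of_le_of_finrank_le l2 (hle.trans (finrank_A C hs hd').ge)]

/-- The line of a pair. -/
noncomputable def line (π : Γ →* alternatingGroup (Fin r)) (ρ : Γ →* Module.End k V) (a b : Fin r) :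
    Submodule k V :=
  ⨆ (c : Fin r) (u : Fin r) (v : Fin r) (_ : D5 a b c u v), A π ρ a b c u v

theorem line_eq (C : Cov π ρ) (hs : Small k V r) {a b c u v : Fin r} (h : D5 a b c u v) :
    line π ρ a b = A π ρ a b c u v :=
  le_antisymm (iSup_le fun _ => iSup_le fun _ => iSup_le fun _ => iSup_le fun h' =>
    (A_indep' C hs h' h).le) (le_iSup_of_le c (le_iSup_of_le u (le_iSup_of_le v (le_iSup_of_le h le_rfl))))

theorem exists_D5 (C : Cov π ρ) {a b c : Fin r} (hab : a ≠ b) (hac : a ≠ c) (hbc : b ≠ c) :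
    ∃ u v, D5 a b c u v := by
  obtain ⟨u, v, hu, hv, huv⟩ := exists_outside_two C a b c c
  simp only [mem_insert, mem_singleton, not_or, or_self] at hu hv
  obtain ⟨u1, u2, u3⟩ := hu
  obtain ⟨v1, v2, v3⟩ := hv
  exact ⟨u, v, by
    simp [D5, List.nodup_cons, hab, hac, hbc, Ne.symm u1, Ne.symm u2, Ne.symm u3, Ne.symm v1,
      Ne.symm v2, Ne.symm v3, huv]⟩

theorem exists_D5' (C : Cov π ρ) {a b : Fin r} (hab : a ≠ b) : ∃ c u v, D5 a b c u v := by
  obtain ⟨c, -, hc, -, -⟩ := exists_two_outside C (S := {a, b}) (by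
    have : ({a, b} : Finset (Fin r)).card ≤ 2 := Finset.card_le_two
    have := C.hr
    omega)
  simp only [mem_insert, mem_singleton, not_or] at hc
  exact ⟨c, exists_D5 C hab (Ne.symm hc.1) (Ne.symm hc.2)⟩

theorem line_le (C : Cov π ρ) (hs : Small k V r) {a b c : Fin r} (hab : a ≠ b) (hac : a ≠ c)
    (hbc : b ≠ c) : line π ρ a b ≤ P π ρ {a, b, c} := by
  obtain ⟨u, v, h⟩ := exists_D5 C hab hac hbc
  rw [line_eq C hs h]
  exact A_le C h

theorem finrank_line (C : Cov π ρ) (hs : Small k V r) {a b : Fin r} (hab : a ≠ b) :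
    Module.finrank k (line π ρ a b) = 1 := by
  obtain ⟨c, u, v, h⟩ := exists_D5' C hab
  rw [line_eq C hs h]
  exact finrank_A C hs h

theorem line_symm (C : Cov π ρ) (hs : Small k V r) {a b : Fin r} (hab : a ≠ b) :
    line π ρ a b = line π ρ b a := by
  obtain ⟨c, u, v, h⟩ := exists_D5' C hab
  rw [line_eq C hs h, line_eq C hs h.swap, A, A, Finset.insert_comm]
  congr 2
  refine congrArg ρ (H_eq C hs h.swap.four (H_mem C h.four (by simp [insert_subset_iff])) ?_)
  rw [pm_H C h.four, swap_comm a b]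

theorem line_map (C : Cov π ρ) (hs : Small k V r) (γ : Γ) {a b : Fin r} (hab : a ≠ b) :
    (line π ρ a b).map (ρ γ) = line π ρ (pm π γ a) (pm π γ b) := by
  obtain ⟨c, u, v, h⟩ := exists_D5' C hab
  have h' : D5 (pm π γ a) (pm π γ b) (pm π γ c) (pm π γ u) (pm π γ v) := by
    simpa [D5] using List.Nodup.map (pm π γ).injective h
  rw [line_eq C hs h, line_eq C hs h', A, A, ← image_three, ← P_map C, ← H_conj C h.four γ,
    ← Submodule.map_comp, ← Submodule.map_comp]
  congr 1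
  refine LinearMap.ext fun w => ?_
  simp only [LinearMap.coe_comp, Function.comp_apply, LinearMap.sub_apply, Module.End.one_apply,
    map_sub, rho_mul_apply, rho_inv_apply]

theorem mem_line_map (C : Cov π ρ) (hs : Small k V r) (γ : Γ) {a b : Fin r} (hab : a ≠ b) {v : V}
    (hv : v ∈ line π ρ a b) : ρ γ v ∈ line π ρ (pm π γ a) (pm π γ b) := by
  rw [← line_map C hs γ hab]; exact ⟨v, hv, rfl⟩

theorem line_ne (C : Cov π ρ) (hs : Small k V r) {a b c : Fin r} (hab : a ≠ b) (hbc : b ≠ c)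
    (hac : a ≠ c) : line π ρ a b ≠ line π ρ a c := by
  intro heq
  have hr := C.hr
  have hall : ∀ a' b' c' : Fin r, a' ≠ b' → a' ≠ c' → line π ρ a' b' = line π ρ a' c' := by
    intro a' b' c' h1 h3
    by_cases h2 : b' = c'
    · rw [h2]
    obtain ⟨ι, ea, eb, ec⟩ := exists_three hab hbc hac
    obtain ⟨ι', fa, fb, fc⟩ := exists_three h1 h2 h3
    obtain ⟨g, hg⟩ := exists_conj ι ι' (by simp; omega)
    obtain ⟨γ, rfl⟩ := C.surj g
    have ga : pm π γ a = a' := by rw [← ea, ← fa]; exact hg _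
    have gb : pm π γ b = b' := by rw [← eb, ← fb]; exact hg _
    have gc : pm π γ c = c' := by rw [← ec, ← fc]; exact hg _
    have := congrArg (Submodule.map (ρ γ)) heq
    rwa [line_map C hs γ hab, line_map C hs γ hac, ga, gb, gc] at this
  have hconst : ∀ a' b' : Fin r, a' ≠ b' → line π ρ a' b' = line π ρ a b := by
    intro a' b' h
    by_cases ha : a' = a
    · subst ha; exact hall _ _ _ h hab
    · rw [hall a' b' a h ha, line_symm C hs ha, hall a a' b (Ne.symm ha) hab]
  have h1 := finrank_line C hs hab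
  have htop : line π ρ a b = ⊤ := by
    refine (C.irred _ fun γ u hu => ?_).resolve_left fun e => ?_
    · have := mem_line_map C hs γ hab hu
      rwa [hconst _ _ ((pm π γ).injective.ne hab)] at this
    · rw [e, finrank_bot] at h1; omega
  rw [htop, finrank_top] at h1
  have := (tight C hs).1
  omega

theorem line_eq_span (C : Cov π ρ) (hs : Small k V r) {a b : Fin r} (hab : a ≠ b) {x : V} (hx : x ≠ 0)
    (hxl : x ∈ line π ρ a b) : line π ρ a b = Submodule.span k {x} := by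
  refine (Submodule.eq_of_le_of_finrank_le ((Submodule.span_singleton_le_iff_mem _ _).2 hxl) ?_).symm
  rw [finrank_line C hs hab, finrank_span_singleton hx]

theorem eq_zero_of_mem_lines (C : Cov π ρ) (hs : Small k V r) {a b c : Fin r} (hab : a ≠ b)
    (hbc : b ≠ c) (hac : a ≠ c) {x : V} (h1 : x ∈ line π ρ a b) (h2 : x ∈ line π ρ a c) : x = 0 := by
  by_contra hx
  exact line_ne C hs hab hbc hac ((line_eq_span C hs hab hx h1).trans (line_eq_span C hs hac hx h2).symm)

theorem P3_eq (C : Cov π ρ) (hs : Small k V r) {a b c : Fin r} (hab : a ≠ b) (hbc : b ≠ c)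
    (hac : a ≠ c) : P π ρ {a, b, c} = line π ρ a b ⊔ line π ρ a c := by
  refine (Submodule.eq_of_le_of_finrank_le (sup_le (line_le C hs hab hac hbc) ?_) ?_).symm
  · rw [show ({a, b, c} : Finset (Fin r)) = {a, c, b} by rw [Finset.pair_comm b c]]
    exact line_le C hs hac hab hbc.symm
  · have h := Submodule.finrank_sup_add_finrank_inf_eq (line π ρ a b) (line π ρ a c)
    rw [finrank_line C hs hab, finrank_line C hs hac,
      (Submodule.eq_bot_iff _).2 (fun x hx => eq_zero_of_mem_lines C hs hab hbc hac (Submodule.mem_inf.1 hx).1 (Submodule.mem_inf.1 hx).2),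
      finrank_bot] at h
    rw [finrank_P3 C hs hab hbc hac]
    omega

end CfsgLib.Classical.AltSection
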