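import Mathlib

/-!
Lower bounds for the dimension of a space carrying a Clifford algebra: each pair of generators
doubles the dimension.
-/

set_option autoImplicit false

namespace CfsgLib.Classical.AltSection.Pairs

open Module

variable {k : Type*} [Field k] {V : Type*} [AddCommGroup V] [Module k V] [FiniteDimensional k V]

/-- An idempotent carried to its complement by an involution has rank half the dimension, also on
an invariant subspace. -/
theorem two_mul_le (U : Submodule k V) (P a : Module.End k V) (hP : P * P = P)
    (ha : IsUnit a) (haP : a * P = (1 - P) * a) (hUP : ∀ u ∈ U, P u ∈ U) (hUa : ∀ u ∈ U, a u ∈ U) :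
    Module.finrank k U = 2 * Module.finrank k (U.map P) := by
  obtain ⟨u, rfl⟩ := ha
  have hinj : Function.Injective (u : Module.End k V) :=
    (Module.End.isUnit_iff _).1 u.isUnit |>.1
  have hmapU : U.map (u : Module.End k V) = U := by
    refine Submodule.eq_of_le_of_finrank_le (Submodule.map_le_iff_le_comap.2 hUa) (le_of_eq ?_)
    exact (Submodule.equivMapOfInjective _ hinj U).finrank_eq
  have hmap : (U.map P).map (u : Module.End k V) = U.map (1 - P) := by
    rw [← Submodule.map_comp]
    conv_rhs => rw [← hmapU, ← Submodule.map_comp]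
    exact congrArg (fun f => Submodule.map f U) haP
  have h2 : Module.finrank k (U.map (1 - P)) = Module.finrank k (U.map P) := by
    rw [← hmap]
    exact (Submodule.equivMapOfInjective _ hinj _).finrank_eq.symm
  have hsup : U.map P ⊔ U.map (1 - P) = U := by
    refine le_antisymm (sup_le (Submodule.map_le_iff_le_comap.2 hUP)
      (Submodule.map_le_iff_le_comap.2 fun v hv => ?_)) fun v hv => ?_
    · show v - P v ∈ U
      exact U.sub_mem hv (hUP v hv)
    · rw [← add_sub_cancel (P v) v]
      exact Submodule.add_mem_sup ⟨v, hv, rfl⟩ ⟨v, hv, rfl⟩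
  have hinf : U.map P ⊓ U.map (1 - P) = ⊥ := by
    rw [Submodule.eq_bot_iff]
    rintro _ ⟨⟨x, -, rfl⟩, ⟨y, -, hy⟩⟩
    have h1 : P (y - P y) = P (P x) := congrArg P hy
    have hPy : P (P y) = P y := LinearMap.congr_fun hP y
    have hPx : P (P x) = P x := LinearMap.congr_fun hP x
    rw [map_sub, hPy, sub_self, hPx] at h1
    exact h1.symm
  have h := Submodule.finrank_sup_add_finrank_inf_eq (U.map P) (U.map (1 - P))
  rw [hsup, hinf, finrank_bot, add_zero, h2] at h
  omega

/-- A system of commuting idempotents, each flipped by an element commuting with the others. -/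
structure System (m : ℕ) (P a : Fin m → Module.End k V) : Prop where
  idem : ∀ l, P l * P l = P l
  unit : ∀ l, IsUnit (a l)
  flip : ∀ l, a l * P l = (1 - P l) * a l
  comm : ∀ l l', Commute (P l) (P l')
  comm' : ∀ l l', l ≠ l' → Commute (a l) (P l')

theorem System.two_pow_le {m : ℕ} {P a : Fin m → Module.End k V} (h : System m P a)
    [Nontrivial V] : 2 ^ m ≤ Module.finrank k V := by
  suffices key : ∀ j, j ≤ m → ∃ U : Submodule k V, 0 < Module.finrank k U ∧
      (∀ l : Fin m, j ≤ l → ∀ u ∈ U, P l u ∈ U ∧ a l u ∈ U) ∧
      2 ^ j * Module.finrank k U ≤ Module.finrank k V by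
    obtain ⟨U, hU, -, hle⟩ := key m le_rfl
    exact le_trans (Nat.le_mul_of_pos_right _ hU) hle
  intro j
  induction j with
  | zero =>
    intro _
    exact ⟨⊤, by rw [finrank_top]; exact Module.finrank_pos,
      fun l _ u _ => ⟨Submodule.mem_top, Submodule.mem_top⟩, by rw [finrank_top]; simp⟩
  | succ j ih =>
    intro hj
    obtain ⟨U, hU, hinv, hle⟩ := ih (by omega)
    let l : Fin m := ⟨j, by omega⟩
    have he := two_mul_le U (P l) (a l) (h.idem l) (h.unit l) (h.flip l)
      (fun u hu => (hinv l le_rfl u hu).1) fun u hu => (hinv l le_rfl u hu).2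
    refine ⟨U.map (P l), by omega, fun l' hl' => ?_, ?_⟩
    · have hne : l' ≠ l := fun e => by rw [e] at hl'; simp [l] at hl'
      rintro _ ⟨u, hu, rfl⟩
      obtain ⟨h1, h2⟩ := hinv l' (by omega) u hu
      exact ⟨⟨_, h1, (LinearMap.congr_fun (h.comm l' l).eq u).symm⟩,
        ⟨_, h2, (LinearMap.congr_fun (h.comm' l' l hne).eq u).symm⟩⟩
    · rw [pow_succ, mul_assoc, ← he]
      exact hle

/-- Anticommuting generators in odd characteristic. -/
theorem two_pow_le_of_anticomm [IsAlgClosed k] (h2 : (2 : k) ≠ 0) [Nontrivial V] {M : ℕ}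
    (Q : Fin M → Module.End k V) (c : Fin M → k) (hc : ∀ i, c i ≠ 0)
    (hsq : ∀ i, Q i * Q i = c i • (1 : Module.End k V))
    (hanti : ∀ i j, i ≠ j → Q j * Q i = -(Q i * Q j)) :
    2 ^ (M / 2) ≤ Module.finrank k V := by
  let e : Fin (M / 2) → Fin M := fun l => ⟨2 * l.1, by omega⟩
  let o : Fin (M / 2) → Fin M := fun l => ⟨2 * l.1 + 1, by omega⟩
  have heo : ∀ l l', e l ≠ o l' := fun l l' he => by
    have := congrArg Fin.val he; simp only [e, o] at this; omega
  have hee : ∀ l l', l ≠ l' → e l ≠ e l' := fun l l' hl he => hl (Fin.ext (by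
    have := congrArg Fin.val he; simp only [e] at this; omega))
  have hoo : ∀ l l', l ≠ l' → o l ≠ o l' := fun l l' hl he => hl (Fin.ext (by
    have := congrArg Fin.val he; simp only [o] at this; omega))
  choose s hs using fun l => IsAlgClosed.exists_eq_mul_self (-(c (e l) * c (o l)))
  have hs0 : ∀ l, s l ≠ 0 := fun l h0 => by
    have := hs l
    rw [h0, mul_zero] at this
    exact mul_ne_zero (hc _) (hc _) (neg_eq_zero.1 this)
  -- products of pairs
  have hmove : ∀ i j j', i ≠ j → i ≠ j' → Commute (Q i) (Q j * Q j') := by
    intro i j j' h1 h2'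
    show Q i * (Q j * Q j') = Q j * Q j' * Q i
    rw [mul_assoc (Q j), hanti i j' h2', mul_neg, ← mul_assoc (Q j), hanti i j h1, neg_mul, neg_neg,
      mul_assoc]
  have hsqp : ∀ l, (Q (e l) * Q (o l)) * (Q (e l) * Q (o l)) = (s l * s l) • (1 : Module.End k V) := by
    intro l
    rw [← hs l, mul_assoc, ← mul_assoc (Q (o l)), hanti (e l) (o l) (heo l l), neg_mul, mul_neg,
      mul_assoc, hsq, mul_smul_comm, mul_one, mul_smul_comm, hsq, smul_smul, ← neg_smul,
      mul_comm (c (o l))]
  let P : Fin (M / 2) → Module.End k V := fun l =>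
    (2 : k)⁻¹ • (1 + (s l)⁻¹ • (Q (e l) * Q (o l)))
  refine System.two_pow_le (P := P) (a := fun l => Q (e l)) ⟨fun l => ?_, fun l => ?_, fun l => ?_,
    fun l l' => ?_, fun l l' hl => ?_⟩
  · simp only [P, smul_mul_assoc, mul_smul_comm, add_mul, mul_add, one_mul, mul_one, hsqp,
      smul_smul, smul_add]
    have hc1 : (s l)⁻¹ * ((s l)⁻¹ * (s l * s l)) = 1 := by field_simp [hs0 l]
    match_scalars
    · field_simp [hs0 l]; ring
    · field_simp [hs0 l]; ring
  · exact IsUnit.of_mul_eq_one (a := Q (e l)) ((c (e l))⁻¹ • Q (e l))
      (by rw [mul_smul_comm, hsq, smul_smul, inv_mul_cancel₀ (hc _), one_smul])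
  · have h1 : Q (e l) * (Q (e l) * Q (o l)) = -(Q (e l) * Q (o l) * Q (e l)) := by
      rw [mul_assoc (Q (e l)) (Q (o l)), hanti (e l) (o l) (heo l l), mul_neg, neg_neg]
    simp only [P, mul_smul_comm, mul_add, mul_one, h1, sub_mul, one_mul, smul_mul_assoc, add_mul]
    match_scalars
    · field_simp; ring
    · ring
  · by_cases hl : l = l'
    · subst hl; exact Commute.refl _
    have : Commute (Q (e l) * Q (o l)) (Q (e l') * Q (o l')) :=
      Commute.mul_left (hmove _ _ _ (hee _ _ hl) (heo _ _))
        (hmove _ _ _ (heo _ _).symm (hoo _ _ hl))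
    exact ((Commute.one_left _).add_left (((Commute.one_right _).add_right
      (this.smul_right _)).smul_left _)).smul_right _ |>.smul_left _
  · exact (((Commute.one_right _).add_right ((hmove _ _ _ (hee _ _ hl) (heo _ _)).smul_right _))).smul_right _

/-- A pair in characteristic two. -/
theorem char_two_pair (h2 : (2 : k) = 0) (a b : Module.End k V) (ca cb t : k)
    (ha : a * a = ca • (1 : Module.End k V)) (hb : b * b = cb • (1 : Module.End k V))
    (hab : a * b + b * a = 1) (ht : t * t = t + ca * cb) :
    (a * b + t • (1 : Module.End k V)) * (a * b + t • (1 : Module.End k V)) = a * b + t • 1 ∧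
      (a + b) * (a * b + t • (1 : Module.End k V)) =
        (1 - (a * b + t • (1 : Module.End k V))) * (a + b) := by
  have add_self' : ∀ x : Module.End k V, x + x = 0 := fun x => by
    rw [← two_smul k x, h2, zero_smul]
  have hm : ∀ x : Module.End k V, 1 - x = 1 + x := fun x => by
    rw [sub_eq_add_neg, neg_eq_of_add_eq_zero_right (add_self' x)]
  have hba : b * a = 1 + a * b := by
    rw [← hab, add_comm (a * b + b * a), ← add_assoc, add_self', zero_add]
  have e1 : a * b * (a * b) = a * b + (ca * cb) • (1 : Module.End k V) := by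
    rw [mul_assoc, ← mul_assoc b, hba, add_mul, one_mul, mul_add, mul_assoc a b b, hb, mul_smul_comm,
      mul_one, mul_smul_comm, ha, smul_smul, mul_comm cb]
  have e2 : (a + b) * (a * b) = ca • b + b + cb • a := by
    rw [add_mul, ← mul_assoc a a, ha, smul_mul_assoc, one_mul, ← mul_assoc b, hba, add_mul, one_mul,
      mul_assoc a, hb, mul_smul_comm, mul_one, add_assoc]
  have e3 : a * b * (a + b) = a + ca • b + cb • a := by
    rw [mul_add, mul_assoc a b a, hba, mul_add, mul_one, ← mul_assoc a a, ha, smul_mul_assoc,
      one_mul, mul_assoc a b b, hb, mul_smul_comm, mul_one]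
  constructor
  · simp only [add_mul, mul_add, smul_mul_assoc, mul_smul_comm, one_mul, mul_one, e1, smul_smul, ht,
      smul_add, add_smul]
    match_scalars
    · linear_combination t * h2
    · linear_combination (ca * cb) * h2
  · rw [hm, mul_add, e2, add_mul (1 : Module.End k V), one_mul, add_mul (a * b), e3]
    simp only [mul_smul_comm, mul_one, smul_mul_assoc, one_mul]
    match_scalars
    all_goals first | ring1 | linear_combination (-1 : k) * h2 | linear_combination h2

/-- Generators with all mutual anticommutators one, in characteristic two. -/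
theorem two_pow_le_of_char_two [IsAlgClosed k] (h2 : (2 : k) = 0) [Nontrivial V] {N : ℕ}
    (f : Fin N → Module.End k V) (hsq : ∀ i, f i * f i = 1)
    (hanti : ∀ i j, i ≠ j → f i * f j + f j * f i = 1) :
    2 ^ (N / 2) ≤ Module.finrank k V := by
  have add_self' : ∀ x : Module.End k V, x + x = 0 := fun x => by
    rw [← two_smul k x, h2, zero_smul]
  -- the running sums
  let g : ℕ → Module.End k V := fun i => if h : i < N then f ⟨i, h⟩ else 0
  have gsq : ∀ i, i < N → g i * g i = 1 := fun i hi => by simp only [g, dif_pos hi, hsq]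
  have ganti : ∀ i j, i < N → j < N → i ≠ j → g i * g j + g j * g i = 1 := fun i j hi hj hij => by
    simp only [g, dif_pos hi, dif_pos hj]
    exact hanti _ _ fun e => hij (congrArg Fin.val e)
  let T : ℕ → Module.End k V := fun l => ∑ i ∈ Finset.range (2 * l), g i
  -- anticommutators with the running sums
  have hT : ∀ i l, i < N → 2 * l ≤ N → T l * g i + g i * T l = if i < 2 * l then 1 else 0 := by
    intro i l hi hl
    induction l with
    | zero => simp [T]
    | succ l ih =>
      have e : T (l + 1) = T l + g (2 * l) + g (2 * l + 1) := by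
        simp only [T, show 2 * (l + 1) = 2 * l + 1 + 1 by ring, Finset.sum_range_succ]
      rw [e, show (T l + g (2 * l) + g (2 * l + 1)) * g i + g i * (T l + g (2 * l) + g (2 * l + 1)) =
        (T l * g i + g i * T l) + (g (2 * l) * g i + g i * g (2 * l)) +
          (g (2 * l + 1) * g i + g i * g (2 * l + 1)) by noncomm_ring, ih (by omega)]
      rcases lt_trichotomy i (2 * l) with h | h | h
      · rw [if_pos h, if_pos (by omega), ganti _ _ (by omega) hi (by omega),
          ganti _ _ (by omega) hi (by omega), add_assoc, add_self', add_zero]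
      · subst h
        rw [if_neg (by omega), if_pos (by omega), gsq _ hi, ganti _ _ (by omega) hi (by omega),
          add_self', zero_add, zero_add]
      · by_cases h' : i = 2 * l + 1
        · subst h'
          rw [if_neg (by omega), if_pos (by omega), gsq _ hi, ganti _ _ (by omega) hi (by omega),
            add_self', zero_add, add_zero]
        · rw [if_neg (by omega), if_neg (by omega), ganti _ _ (by omega) hi (by omega),
            ganti _ _ (by omega) hi (by omega), zero_add, add_self']
  -- squares of running sums are scalars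
  have hTsq : ∀ l, 2 * l ≤ N → ∃ c : k, T l * T l = c • (1 : Module.End k V) := by
    intro l
    induction l with
    | zero => intro _; exact ⟨0, by simp [T]⟩
    | succ l ih =>
      intro hl
      obtain ⟨c, hc⟩ := ih (by omega)
      refine ⟨c + 1, ?_⟩
      have e : T (l + 1) = T l + g (2 * l) + g (2 * l + 1) := by
        simp only [T, show 2 * (l + 1) = 2 * l + 1 + 1 by ring, Finset.sum_range_succ]
      rw [e, show (T l + g (2 * l) + g (2 * l + 1)) * (T l + g (2 * l) + g (2 * l + 1)) =
        T l * T l + (T l * g (2 * l) + g (2 * l) * T l) + (T l * g (2 * l + 1) + g (2 * l + 1) * T l) +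
          (g (2 * l) * g (2 * l) + g (2 * l + 1) * g (2 * l + 1)) +
          (g (2 * l) * g (2 * l + 1) + g (2 * l + 1) * g (2 * l)) by noncomm_ring,
        hc, hT _ l (by omega) (by omega), hT _ l (by omega) (by omega), if_neg (by omega),
        if_neg (by omega), gsq _ (by omega), gsq _ (by omega),
        ganti _ _ (by omega) (by omega) (by omega), add_self', add_smul, one_smul]
      simp
  let A : ℕ → Module.End k V := fun l => T l + g (2 * l)
  let B : ℕ → Module.End k V := fun l => T l + g (2 * l + 1)
  have Asq : ∀ l, 2 * l + 1 < N → ∃ c : k, A l * A l = c • (1 : Module.End k V) := fun l hl => by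
    obtain ⟨c, hc⟩ := hTsq l (by omega)
    refine ⟨c + 1, ?_⟩
    rw [show A l * A l = T l * T l + (T l * g (2 * l) + g (2 * l) * T l) + g (2 * l) * g (2 * l) by
      simp only [A]; noncomm_ring, hc, hT _ l (by omega) (by omega), if_neg (by omega),
      gsq _ (by omega), add_zero, add_smul, one_smul]
  have Bsq : ∀ l, 2 * l + 1 < N → ∃ c : k, B l * B l = c • (1 : Module.End k V) := fun l hl => by
    obtain ⟨c, hc⟩ := hTsq l (by omega)
    refine ⟨c + 1, ?_⟩
    rw [show B l * B l = T l * T l + (T l * g (2 * l + 1) + g (2 * l + 1) * T l) +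
        g (2 * l + 1) * g (2 * l + 1) by simp only [B]; noncomm_ring, hc,
      hT _ l (by omega) (by omega), if_neg (by omega), gsq _ (by omega), add_zero, add_smul, one_smul]
  have AB : ∀ l, 2 * l + 1 < N → A l * B l + B l * A l = 1 := fun l hl => by
    rw [show A l * B l + B l * A l = (T l * T l + T l * T l) +
      (T l * g (2 * l) + g (2 * l) * T l) + (T l * g (2 * l + 1) + g (2 * l + 1) * T l) +
      (g (2 * l) * g (2 * l + 1) + g (2 * l + 1) * g (2 * l)) by simp only [A, B]; noncomm_ring,
      add_self', hT _ l (by omega) (by omega), hT _ l (by omega) (by omega), if_neg (by omega),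
      if_neg (by omega), ganti _ _ (by omega) (by omega) (by omega), zero_add, zero_add, zero_add]
  -- later sums commute with earlier ones
  have later : ∀ l i, 2 * l ≤ i → ∀ m, l < m → 2 * m + 1 < N → i ≤ 2 * l + 1 →
      (∀ x ∈ [A m, B m], Commute (T l + g i) x) := by
    intro l i hi m hlm hm hi' x hx
    have h1 : ∀ j, 2 * m ≤ j → j < N → (T l + g i) * g j + g j * (T l + g i) = 1 := fun j hj hjN => by
      rw [show (T l + g i) * g j + g j * (T l + g i) =
        (T l * g j + g j * T l) + (g i * g j + g j * g i) by noncomm_ring, hT j l hjN (by omega),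
        if_neg (by omega), ganti _ _ (by omega) hjN (by omega), zero_add]
    have hTT : T m * T l + T l * T m = 0 := by
      have : ∀ n, n ≤ l → T m * T n + T n * T m = 0 := by
        intro n hn
        induction n with
        | zero => simp [T]
        | succ n ih =>
          have e : T (n + 1) = T n + g (2 * n) + g (2 * n + 1) := by
            simp only [T, show 2 * (n + 1) = 2 * n + 1 + 1 by ring, Finset.sum_range_succ]
          rw [e, show T m * (T n + g (2 * n) + g (2 * n + 1)) +
            (T n + g (2 * n) + g (2 * n + 1)) * T m =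
            (T m * T n + T n * T m) + (T m * g (2 * n) + g (2 * n) * T m) +
              (T m * g (2 * n + 1) + g (2 * n + 1) * T m) by noncomm_ring, ih (by omega),
            hT _ m (by omega) (by omega), hT _ m (by omega) (by omega), if_pos (by omega),
            if_pos (by omega), zero_add, add_self']
      exact this l le_rfl
    have h2' : (T l + g i) * T m + T m * (T l + g i) = 1 := by
      rw [show (T l + g i) * T m + T m * (T l + g i) =
        (T m * T l + T l * T m) + (T m * g i + g i * T m) by noncomm_ring, hTT,
        hT i m (by omega) (by omega), if_pos (by omega), zero_add]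
    have fin : ∀ j, 2 * m ≤ j → j < N → Commute (T l + g i) (T m + g j) := fun j hj hjN => by
      have e0 : (T l + g i) * (T m + g j) + (T m + g j) * (T l + g i) = 0 := by
        rw [show (T l + g i) * (T m + g j) + (T m + g j) * (T l + g i) =
          ((T l + g i) * T m + T m * (T l + g i)) + ((T l + g i) * g j + g j * (T l + g i)) by
          noncomm_ring, h2', h1 j hj hjN, add_self']
      exact (add_eq_zero_iff_eq_neg.1 e0).trans (by
        rw [neg_eq_of_add_eq_zero_right (add_self' _)])
    simp only [List.mem_cons, List.not_mem_nil, or_false] at hx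
    rcases hx with rfl | rfl
    · exact fin _ le_rfl (by omega)
    · exact fin _ (by omega) (by omega)
  have cross : ∀ l m, l ≠ m → 2 * l + 1 < N → 2 * m + 1 < N →
      ∀ x ∈ [A l, B l], ∀ y ∈ [A m, B m], Commute x y := by
    intro l m hlm hl hm x hx y hy
    simp only [List.mem_cons, List.not_mem_nil, or_false] at hx hy
    rcases lt_or_gt_of_ne hlm with h | h
    · rcases hx with rfl | rfl
      · exact later l _ le_rfl m h hm (by omega) y (by simpa using hy)
      · exact later l _ (by omega) m h hm le_rfl y (by simpa using hy)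
    · rcases hy with rfl | rfl
      · exact (later m _ le_rfl l h hl (by omega) x (by simpa using hx)).symm
      · exact (later m _ (by omega) l h hl le_rfl x (by simpa using hx)).symm
  choose ca hca using fun l : Fin (N / 2) => Asq l (by omega)
  choose cb hcb using fun l : Fin (N / 2) => Bsq l (by omega)
  choose t ht using fun l : Fin (N / 2) => IsAlgClosed.exists_root
    (Polynomial.X ^ 2 + Polynomial.X + Polynomial.C (ca l * cb l)) (by
      have : (Polynomial.X ^ 2 + Polynomial.X + Polynomial.C (ca l * cb l)).degree = 2 := by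
        compute_degree!
      rw [this]; decide)
  have ht' : ∀ l, t l * t l = t l + ca l * cb l := fun l => by
    have := ht l
    simp only [Polynomial.IsRoot, Polynomial.eval_add, Polynomial.eval_pow, Polynomial.eval_X,
      Polynomial.eval_C] at this
    linear_combination this - (t l + ca l * cb l) * h2
  let P : Fin (N / 2) → Module.End k V := fun l => A l * B l + t l • 1
  refine System.two_pow_le (P := P) (a := fun l => A l + B l) ⟨fun l => ?_, fun l => ?_, fun l => ?_,
    fun l l' => ?_, fun l l' hl => ?_⟩
  · exact (char_two_pair h2 _ _ _ _ _ (hca l) (hcb l) (AB l (by omega)) (ht' l)).1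
  · have e : (A l.1 + B l.1) * (A l.1 + B l.1) = 1 := by
      rw [show (A l.1 + B l.1) * (A l.1 + B l.1) = A l.1 * A l.1 + B l.1 * B l.1 +
        (A l.1 * B l.1 + B l.1 * A l.1) by noncomm_ring, AB l (by omega)]
      have : A l.1 + B l.1 = g (2 * l) + g (2 * l + 1) := by
        simp only [A, B]
        rw [show T l.1 + g (2 * l) + (T l.1 + g (2 * l + 1)) =
          (T l.1 + T l.1) + (g (2 * l) + g (2 * l + 1)) by abel, add_self', zero_add]
      have h' : (A l.1 + B l.1) * (A l.1 + B l.1) = 1 := by
        rw [this, show (g (2 * l.1) + g (2 * l + 1)) * (g (2 * l.1) + g (2 * l + 1)) =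
          g (2 * l.1) * g (2 * l.1) + g (2 * l + 1) * g (2 * l + 1) +
            (g (2 * l.1) * g (2 * l + 1) + g (2 * l + 1) * g (2 * l.1)) by noncomm_ring,
          gsq _ (by omega), gsq _ (by omega), ganti _ _ (by omega) (by omega) (by omega), add_self',
          zero_add]
      rw [← AB l (by omega), ← show (A l.1 + B l.1) * (A l.1 + B l.1) = A l.1 * A l.1 + B l.1 * B l.1 +
        (A l.1 * B l.1 + B l.1 * A l.1) by noncomm_ring, h', AB l (by omega)]
    exact IsUnit.of_mul_eq_one (a := A l.1 + B l.1) (A l.1 + B l.1) e
  · exact (char_two_pair h2 _ _ _ _ _ (hca l) (hcb l) (AB l (by omega)) (ht' l)).2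
  · by_cases hl : l = l'
    · subst hl; exact Commute.refl _
    have hne : l.1 ≠ l'.1 := fun e => hl (Fin.ext e)
    have c := cross l l' hne (by omega) (by omega)
    exact Commute.add_left (Commute.add_right
      (Commute.mul_left (Commute.mul_right (c _ (by simp) _ (by simp)) (c _ (by simp) _ (by simp)))
        (Commute.mul_right (c _ (by simp) _ (by simp)) (c _ (by simp) _ (by simp))))
      ((Commute.one_right _).smul_right _)) ((Commute.one_left _).smul_left _)
  · have hne : l.1 ≠ l'.1 := fun e => hl (Fin.ext e)
    have c := cross l l' hne (by omega) (by omega)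
    exact Commute.add_right (Commute.add_left
      (Commute.mul_right (c _ (by simp) _ (by simp)) (c _ (by simp) _ (by simp)))
      (Commute.mul_right (c _ (by simp) _ (by simp)) (c _ (by simp) _ (by simp))))
      ((Commute.one_right _).smul_right _)

end CfsgLib.Classical.AltSection.Pairs
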