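import Mathlib

/-!
Joint eigenvectors of a family of operators, with the eigenvalues as labels.
-/

set_option autoImplicit false
set_option linter.unusedSectionVars false

namespace CfsgLib.Classical.AltSection

open Finset

variable {k : Type*} [Field k] {V : Type*} [AddCommGroup V] [Module k V]

theorem linearIndependent_labels {ι σ : Type*} (x : ι → Module.End k V) (a : σ → ι → k)
    (ha : Function.Injective a) (v : σ → V) (hv : ∀ s, v s ≠ 0)
    (he : ∀ s i, x i (v s) = a s i • v s) : LinearIndependent k v := by
  classical
  rw [linearIndependent_iff']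
  intro s
  induction s using Finset.induction_on with
  | empty => simp
  | @insert b s hb ih =>
    intro g hg
    have hs : ∀ c ∈ s, g c = 0 := by
      intro c hc
      obtain ⟨i, hi⟩ : ∃ i, a c i ≠ a b i := Function.ne_iff.1 fun e => hb (ha e ▸ hc)
      have h2 : ∑ d ∈ s, (g d * (a d i - a b i)) • v d = 0 := by
        have := congrArg (x i - a b i • (1 : Module.End k V)) hg
        rw [map_sum, map_zero, Finset.sum_insert hb] at this
        have e : ∀ d, (x i - a b i • (1 : Module.End k V)) (g d • v d) = (g d * (a d i - a b i)) • v d :=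
          fun d => by
            rw [map_smul, LinearMap.sub_apply, LinearMap.smul_apply, Module.End.one_apply, he, ← sub_smul,
              smul_smul]
        simp only [e, sub_self, mul_zero, zero_smul, zero_add] at this
        exact this
      exact (mul_eq_zero.1 (ih _ h2 c hc)).resolve_right (sub_ne_zero.2 hi)
    intro c hc
    rcases Finset.mem_insert.1 hc with rfl | hc'
    · rw [Finset.sum_insert hb, Finset.sum_eq_zero fun d hd => by rw [hs d hd, zero_smul], add_zero,
        smul_eq_zero] at hg
      exact hg.resolve_right (hv c)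
    · exact hs c hc'

/-- A finite commuting family has a joint eigenvector. -/
theorem exists_joint [IsAlgClosed k] [FiniteDimensional k V] [Nontrivial V] {ι : Type*} [Finite ι]
    (x : ι → Module.End k V) (hc : ∀ i j, Commute (x i) (x j)) :
    ∃ (a : ι → k) (v : V), v ≠ 0 ∧ ∀ i, x i v = a i • v := by
  classical
  haveI := Fintype.ofFinite ι
  have key : ∀ s : Finset ι, ∃ (a : ι → k) (U : Submodule k V), U ≠ ⊥ ∧
      (∀ i, ∀ u ∈ U, x i u ∈ U) ∧ ∀ i ∈ s, ∀ u ∈ U, x i u = a i • u := by
    intro s
    induction s using Finset.induction_on with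
    | empty => exact ⟨0, ⊤, top_ne_bot, fun _ _ _ => Submodule.mem_top, by simp⟩
    | @insert l s hl ih =>
      obtain ⟨a, U, hU, hinv, hs⟩ := ih
      haveI : Nontrivial U := Submodule.nontrivial_iff_ne_bot.2 hU
      obtain ⟨c, hc'⟩ := Module.End.exists_eigenvalue ((x l).restrict (hinv l))
      obtain ⟨v, hv⟩ := hc'.exists_hasEigenvector
      refine ⟨Function.update a l c, U ⊓ (x l).eigenspace c, ?_, fun i u hu => ?_, fun i hi u hu => ?_⟩
      · exact fun e => hv.2 (Subtype.ext ((Submodule.eq_bot_iff _).1 e v.1
          ⟨v.2, Module.End.mem_eigenspace_iff.2 (congrArg Subtype.val hv.apply_eq_smul)⟩))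
      · obtain ⟨h1, h2⟩ := Submodule.mem_inf.1 hu
        refine Submodule.mem_inf.2 ⟨hinv i u h1, ?_⟩
        rw [Module.End.mem_eigenspace_iff] at h2 ⊢
        rw [← Module.End.mul_apply, (hc l i).eq, Module.End.mul_apply, h2, map_smul]
      · obtain ⟨h1, h2⟩ := Submodule.mem_inf.1 hu
        rcases Finset.mem_insert.1 hi with rfl | hi
        · rw [Function.update_self]; exact Module.End.mem_eigenspace_iff.1 h2
        · rw [Function.update_of_ne (show i ≠ l from fun e => hl (by rw [← e]; exact hi))]
          exact hs i hi u h1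
  obtain ⟨a, U, hU, -, hs⟩ := key univ
  obtain ⟨v, hv, hv0⟩ := Submodule.exists_mem_ne_zero_of_ne_bot hU
  exact ⟨a, v, hv0, fun i => hs i (mem_univ i) v hv⟩

end CfsgLib.Classical.AltSection
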