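import Cfsg.Agent.Lib.Classical.AltSection.Central
import Cfsg.Agent.Lib.Classical.AltSection.Weights

/-!
Reduction of an alternating section of a linear group to the central case.
-/

set_option autoImplicit false
set_option linter.unusedSectionVars false

namespace CfsgLib.Classical.AltSection

open Module Finset
open scoped commutatorElement

variable {r : ℕ}

theorem card_alt_bound (hr : 9 ≤ r) :
    (r - 2).factorial < Nat.card (alternatingGroup (Fin r)) ∧ 65536 < Nat.card (alternatingGroup (Fin r)) := by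
  haveI : Nontrivial (Fin r) := Fin.nontrivial_iff_two_le.2 (by omega)
  have h := two_mul_nat_card_alternatingGroup (α := Fin r)
  rw [Nat.card_perm, Nat.card_fin] at h
  obtain ⟨m, rfl⟩ : ∃ m, r = m + 2 := ⟨r - 2, by omega⟩
  rw [show (m + 2).factorial = (m + 2) * ((m + 1) * m.factorial) from rfl] at h
  have h1 : 9 * 8 * m.factorial ≤ (m + 2) * ((m + 1) * m.factorial) := by
    rw [← mul_assoc (m + 2)]
    exact Nat.mul_le_mul_right _ (Nat.mul_le_mul (by omega) (by omega))
  have h2 : Nat.factorial 7 ≤ m.factorial := Nat.factorial_le (by omega)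
  rw [show Nat.factorial 7 = 5040 from rfl] at h2
  simp only [Nat.add_sub_cancel]
  omega

theorem alt_facts (hr : 9 ≤ r) :
    IsSimpleGroup (alternatingGroup (Fin r)) ∧ ∃ a b : alternatingGroup (Fin r), a * b ≠ b * a := by
  refine ⟨alternatingGroup.isSimpleGroup (by simpa using show 5 ≤ r by omega), ?_⟩
  let f : ℕ → Fin r := fun i => ⟨i % r, Nat.mod_lt _ (by omega)⟩
  have hne : ∀ i j, i < 9 → j < 9 → i ≠ j → f i ≠ f j := fun i j hi hj h e => h (by
    have := congrArg Fin.val e
    simpa [f, Nat.mod_eq_of_lt (show i < r by omega), Nat.mod_eq_of_lt (show j < r by omega)] using this)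
  refine ⟨c3 (f 0) (f 1) (f 2), c3 (f 2) (f 3) (f 4), fun e => ?_⟩
  have := congrArg (fun g : alternatingGroup (Fin r) => (g : Equiv.Perm (Fin r)) (f 1)) e
  simp only [Subgroup.coe_mul, Equiv.Perm.mul_apply] at this
  rw [c3_apply_other (hne 1 2 (by norm_num) (by norm_num) (by decide)) (hne 1 3 (by norm_num) (by norm_num) (by decide))
      (hne 1 4 (by norm_num) (by norm_num) (by decide)),
    c3_apply_mid (hne 0 1 (by norm_num) (by norm_num) (by decide)) (hne 1 2 (by norm_num) (by norm_num) (by decide))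
      (hne 0 2 (by norm_num) (by norm_num) (by decide)),
    c3_apply_left (hne 2 3 (by norm_num) (by norm_num) (by decide)) (hne 3 4 (by norm_num) (by norm_num) (by decide))
      (hne 2 4 (by norm_num) (by norm_num) (by decide))] at this
  exact hne 2 3 (by norm_num) (by norm_num) (by decide) this

/-- Below degree `n` there are no small sections. -/
def NoSection (r n : ℕ) : Prop :=
  ∀ (k : Type) [Field k] [IsAlgClosed k] (V : Type) [AddCommGroup V] [Module k V] [FiniteDimensional k V]
    (H : Type) [Group H] [Finite H] (π : H →* alternatingGroup (Fin r)) (ρ : H →* Module.End k V),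
    Function.Surjective π → ρ.ker ≤ π.ker → Module.finrank k V = n → Small k V r → False

section minimal

variable {H : Type} [Group H] [Finite H] (π : H →* alternatingGroup (Fin r))

/-- A normal subgroup of a minimal cover is everything or lies in the kernel. -/
theorem normal_cases (hr : 9 ≤ r) (hπ : Function.Surjective π)
    (hmin : ∀ L : Subgroup H, L.map π = ⊤ → L = ⊤) (N : Subgroup H) [hN : N.Normal] :
    N = ⊤ ∨ N ≤ π.ker := by
  haveI := (alt_facts hr).1
  rcases (hN.map π hπ).eq_bot_or_eq_top with h | h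
  · exact Or.inr ((Subgroup.map_eq_bot_iff N).1 h)
  · exact Or.inl (hmin N h)

theorem card_alt_le {M : Type} [MulOneClass M] [Finite M] (hr : 9 ≤ r) (hπ : Function.Surjective π)
    (hmin : ∀ L : Subgroup H, L.map π = ⊤ → L = ⊤) (f : H →* M) (hf : f.ker ≠ ⊤) :
    Nat.card (alternatingGroup (Fin r)) ≤ Nat.card M := by
  have hle := (normal_cases π hr hπ hmin f.ker).resolve_left hf
  refine Nat.card_le_card_of_injective (fun g => f (Function.invFun π g)) fun a b e => ?_
  have h1 : (Function.invFun π a)⁻¹ * Function.invFun π b ∈ f.ker := by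
    rw [MonoidHom.mem_ker, map_mul, ← (show f (Function.invFun π a) = f (Function.invFun π b) from e),
      ← map_mul, inv_mul_cancel, map_one]
  have h2 := hle h1
  rw [MonoidHom.mem_ker, map_mul, map_inv, Function.invFun_eq (hπ a), Function.invFun_eq (hπ b)] at h2
  exact inv_mul_eq_one.1 h2

theorem commutator_eq_top (hr : 9 ≤ r) (hπ : Function.Surjective π)
    (hmin : ∀ L : Subgroup H, L.map π = ⊤ → L = ⊤) : commutator H = ⊤ := by
  refine (normal_cases π hr hπ hmin _).resolve_right fun h => ?_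
  obtain ⟨a, b, hab⟩ := (alt_facts hr).2
  obtain ⟨x, rfl⟩ := hπ a
  obtain ⟨y, rfl⟩ := hπ b
  refine hab (commutatorElement_eq_one_iff_mul_comm.1 ?_)
  rw [← map_commutatorElement]
  exact h (Subgroup.commutator_mem_commutator (Subgroup.mem_top x) (Subgroup.mem_top y))

theorem ker_nilpotent (hmin : ∀ L : Subgroup H, L.map π = ⊤ → L = ⊤) (hπ : Function.Surjective π) :
    Group.IsNilpotent π.ker := by
  have hle : π.ker ≤ frattini H := by
    refine le_iInf fun M => ?_
    refine le_iInf fun hM => ?_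
    by_contra hK
    refine hM.1 (hmin M ?_)
    have hsup : M ⊔ π.ker = ⊤ := hM.2 _ (lt_of_le_of_ne le_sup_left fun e => hK (e ▸ le_sup_right))
    have := congrArg (Subgroup.map π) hsup
    rwa [Subgroup.map_sup, (Subgroup.map_eq_bot_iff π.ker).2 le_rfl, sup_bot_eq,
      Subgroup.map_top_of_surjective π hπ] at this
  haveI : Group.IsNilpotent (frattini H) := frattini_nilpotent
  exact nilpotent_of_mulEquiv (Subgroup.subgroupOfEquivOfLe hle)

end minimal

theorem exists_matrix_aux {A : Type} [CommGroup A] [Finite A] {s : ℕ} [Fact s.Prime]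
    [Module (ZMod s) (Additive A)] :
    ∃ d, Nat.card A = s ^ d ∧ ∃ f : MulAut A →* Matrix (Fin d) (Fin d) (ZMod s), Function.Injective f := by
  haveI : Module.Finite (ZMod s) (Additive A) := Module.Finite.of_finite
  let g : MulAut A →* Module.End (ZMod s) (Additive A) :=
    { toFun := fun e => AddMonoidHom.toZModLinearMap s (MonoidHom.toAdditive e.toMonoidHom)
      map_one' := by
        apply LinearMap.ext; intro w
        show (AddMonoidHom.toZModLinearMap s (MonoidHom.toAdditive (1 : MulAut A).toMonoidHom)) w = w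
        rfl
      map_mul' := fun e e' => by
        apply LinearMap.ext; intro w
        show _ = (AddMonoidHom.toZModLinearMap s (MonoidHom.toAdditive e.toMonoidHom) : Module.End (ZMod s) (Additive A))
          ((AddMonoidHom.toZModLinearMap s (MonoidHom.toAdditive e'.toMonoidHom) : Module.End (ZMod s) (Additive A)) w)
        rfl }
  have hg : Function.Injective g := fun e e' h => MulEquiv.ext fun x =>
    Additive.ofMul.injective (LinearMap.congr_fun h (Additive.ofMul x))
  let bas := Module.finBasis (ZMod s) (Additive A)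
  refine ⟨Module.finrank (ZMod s) (Additive A), ?_,
    (LinearMap.toMatrixAlgEquiv bas).toRingEquiv.toMonoidHom.comp g,
    (LinearMap.toMatrixAlgEquiv bas).injective.comp hg⟩
  rw [← Nat.card_congr (Additive.ofMul (α := A)).symm, Module.natCard_eq_pow_finrank (K := ZMod s),
    Nat.card_zmod]

/-- Automorphisms of an elementary abelian group as matrices. -/
theorem exists_matrix {A : Type} [CommGroup A] [Finite A] {s : ℕ} [Fact s.Prime] (hA : ∀ a : A, a ^ s = 1) :
    ∃ d, Nat.card A = s ^ d ∧ ∃ f : MulAut A →* Matrix (Fin d) (Fin d) (ZMod s), Function.Injective f := by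
  letI : Module (ZMod s) (Additive A) := AddCommGroup.zmodModule fun w => hA (Additive.toMul w)
  exact exists_matrix_aux

section irreducible

variable {H : Type} [Group H] [Finite H] {π : H →* alternatingGroup (Fin r)}
variable {k : Type} [Field k] [IsAlgClosed k] {V : Type} [AddCommGroup V] [Module k V]
  [FiniteDimensional k V] [Nontrivial V] {ρ : H →* Module.End k V}

theorem scalar_of_central (hirr : ∀ U : Submodule k V, (∀ γ, ∀ u ∈ U, ρ γ u ∈ U) → U = ⊥ ∨ U = ⊤)
    {z : H} (hz : z ∈ Subgroup.center H) : ∃ c : k, ρ z = c • 1 := by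
  obtain ⟨c, hc⟩ := Module.End.exists_eigenvalue (ρ z)
  refine ⟨c, LinearMap.ext fun v => ?_⟩
  rcases hirr ((ρ z).eigenspace c) (fun γ u hu => by
    rw [Module.End.mem_eigenspace_iff] at hu ⊢
    rw [← rho_mul_apply, ← Subgroup.mem_center_iff.1 hz γ, rho_mul_apply, hu, map_smul]) with h | h
  · exact absurd h hc
  · exact Module.End.mem_eigenspace_iff.1 (h ▸ Submodule.mem_top)

theorem central_of_scalar (hinj : Function.Injective ρ) {z : H} {c : k} (h : ρ z = c • 1) :
    z ∈ Subgroup.center H :=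
  Subgroup.mem_center_iff.2 fun g => hinj (by
    rw [map_mul, map_mul, h, smul_mul_assoc, mul_smul_comm, one_mul, mul_one])

/-- Abelian normal subgroups are central. -/
theorem abelian_central (hr : 9 ≤ r) (hπ : Function.Surjective π)
    (hmin : ∀ L : Subgroup H, L.map π = ⊤ → L = ⊤) (hinj : Function.Injective ρ)
    (hirr : ∀ U : Submodule k V, (∀ γ, ∀ u ∈ U, ρ γ u ∈ U) → U = ⊥ ∨ U = ⊤)
    (hn : Module.finrank k V + 2 ≤ r) (A : Subgroup H) [hA : A.Normal]
    (hab : ∀ a ∈ A, ∀ b ∈ A, a * b = b * a) : A ≤ Subgroup.center H := by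
  classical
  let X := {χ : A → k // ∃ v : V, v ≠ 0 ∧ ∀ a : A, ρ a.1 v = χ a • v}
  choose vX hvX0 hvX using fun χ : X => χ.2
  have hli : LinearIndependent k vX :=
    linearIndependent_labels (fun a : A => ρ a.1) (fun χ : X => χ.1) Subtype.val_injective vX hvX0 hvX
  haveI : Finite X := hli.finite
  haveI := Fintype.ofFinite X
  have hcard : Nat.card X ≤ Module.finrank k V := by
    rw [Nat.card_eq_fintype_card]; exact hli.fintype_card_le_finrank
  let conj : H → A → A := fun h a => ⟨h⁻¹ * a.1 * h, by simpa using hA.conj_mem a.1 a.2 h⁻¹⟩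
  have hmove : ∀ (h : H) (χ : A → k) (v : V), (∀ a : A, ρ a.1 v = χ a • v) →
      ∀ a : A, ρ a.1 (ρ h v) = χ (conj h a) • ρ h v := fun h χ v hv a => by
    rw [← map_smul, ← hv, ← rho_mul_apply, ← rho_mul_apply]
    congr 2
    simp [conj, mul_assoc]
  letI : MulAction H X :=
    { smul := fun h χ => ⟨fun a => χ.1 (conj h a), ρ h (vX χ),
        fun e => hvX0 χ (by rw [← rho_inv_apply (ρ := ρ) h (vX χ), e, map_zero]), hmove h χ.1 _ (hvX χ)⟩
      one_smul := fun χ => Subtype.ext (funext fun a => congrArg χ.1 (Subtype.ext (by simp [conj])))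
      mul_smul := fun g h χ => Subtype.ext (funext fun a =>
        congrArg χ.1 (Subtype.ext (by simp [conj, mul_assoc]))) }
  have htriv : (MulAction.toPermHom H X).ker = ⊤ := by
    by_contra hne
    have h1 := card_alt_le π hr hπ hmin (MulAction.toPermHom H X) hne
    rw [Nat.card_perm] at h1
    have := (card_alt_bound hr).1
    have := Nat.factorial_le (show Nat.card X ≤ r - 2 by omega)
    omega
  have hfix : ∀ (h : H) (χ : X), h • χ = χ := fun h χ => by
    have : h ∈ (MulAction.toPermHom H X).ker := htriv ▸ Subgroup.mem_top h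
    exact Equiv.Perm.ext_iff.1 (MonoidHom.mem_ker.1 this) χ
  obtain ⟨χ₀, v₀, hv₀, hev⟩ := exists_joint (fun a : A => ρ a.1) fun a b =>
    (show Commute a.1 b.1 from hab a.1 a.2 b.1 b.2).map ρ
  set E : Submodule k V := ⨅ a : A, (ρ a.1).eigenspace (χ₀ a)
  have hE : E = ⊤ := by
    refine (hirr E fun h u hu => ?_).resolve_left fun e => hv₀ ((Submodule.eq_bot_iff _).1 e v₀
      ((Submodule.mem_iInf _).2 fun a => Module.End.mem_eigenspace_iff.2 (hev a)))
    simp only [E, Submodule.mem_iInf, Module.End.mem_eigenspace_iff] at hu ⊢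
    intro a
    rw [hmove h χ₀ u hu a]
    congr 1
    exact congrFun (congrArg Subtype.val (hfix h ⟨χ₀, v₀, hv₀, hev⟩)) a
  intro a ha
  refine central_of_scalar hinj (c := χ₀ ⟨a, ha⟩) (LinearMap.ext fun v => ?_)
  have hv : v ∈ E := hE ▸ Submodule.mem_top
  exact Module.End.mem_eigenspace_iff.1 ((Submodule.mem_iInf _).1 hv ⟨a, ha⟩)

/-- A kernel which is not central leads to a section of a smaller linear group. -/
theorem noncentral_false {n : ℕ} (IH : ∀ d < n, NoSection r d) (hr : 9 ≤ r) (hπ : Function.Surjective π)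
    (hmin : ∀ L : Subgroup H, L.map π = ⊤ → L = ⊤) (hinj : Function.Injective ρ)
    (hirr : ∀ U : Submodule k V, (∀ γ, ∀ u ∈ U, ρ γ u ∈ U) → U = ⊥ ∨ U = ⊤)
    (hdim : Module.finrank k V = n) (hn : n + 2 ≤ r) (hK : ¬ π.ker ≤ Subgroup.center H) : False := by
  classical
  haveI := ker_nilpotent π hmin hπ
  set K := π.ker
  set Z₀ := K ⊓ Subgroup.center H
  haveI : Z₀.Normal := Subgroup.normal_inf_normal K _
  let q := QuotientGroup.mk' Z₀
  set Kb := K.map q
  haveI hKbn : Kb.Normal := (MonoidHom.normal_ker π).map q (QuotientGroup.mk'_surjective Z₀)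
  haveI : Group.IsNilpotent Kb :=
    nilpotent_of_surjective (q.subgroupMap K) (MonoidHom.subgroupMap_surjective q K)
  haveI : Nontrivial Kb := by
    rw [Subgroup.nontrivial_iff_ne_bot]
    intro e
    refine hK fun g hg => ?_
    have : q g ∈ Kb := ⟨g, hg, rfl⟩
    rw [e, Subgroup.mem_bot] at this
    exact ((QuotientGroup.eq_one_iff g).1 this).2
  haveI : Nontrivial (Subgroup.center Kb) := by
    rw [Subgroup.nontrivial_iff_ne_bot]
    exact Group.IsNilpotent.center_ne_bot _
  obtain ⟨s, hs, hsdvd⟩ := Nat.exists_prime_and_dvd (n := Nat.card (Subgroup.center Kb))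
    (fun e => by have := Finite.one_lt_card (α := Subgroup.center Kb); omega)
  haveI : Fact s.Prime := ⟨hs⟩
  obtain ⟨z, hz⟩ := exists_prime_orderOf_dvd_card' s hsdvd
  let M : Subgroup H :=
    { carrier := {g | g ∈ K ∧ q g ^ s = 1 ∧ ∀ x ∈ K, Commute (q g) (q x)}
      one_mem' := ⟨one_mem K, by simp, fun x _ => by simp⟩
      mul_mem' := fun {a b} ha hb => ⟨mul_mem ha.1 hb.1, by
          rw [map_mul, (ha.2.2 b hb.1).mul_pow, ha.2.1, hb.2.1, one_mul],
        fun x hx => by rw [map_mul]; exact (ha.2.2 x hx).mul_left (hb.2.2 x hx)⟩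
      inv_mem' := fun {a} ha => ⟨inv_mem ha.1, by rw [map_inv, inv_pow, ha.2.1, inv_one],
        fun x hx => by rw [map_inv]; exact (ha.2.2 x hx).inv_left⟩ }
  haveI hMn : M.Normal := ⟨fun g hg h => ⟨(MonoidHom.normal_ker π).conj_mem g hg.1 h, by
      rw [map_mul, map_mul, map_inv, conj_pow, hg.2.1, mul_one, mul_inv_cancel], fun x hx => by
      have h1 := (hg.2.2 _ ((MonoidHom.normal_ker π).conj_mem x hx h⁻¹)).map (MulAut.conj (q h)).toMonoidHom
      simpa [mul_assoc] using h1⟩⟩
  have hMK : M ≤ K := fun g hg => hg.1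
  have hMcomm : ∀ a ∈ M, ∀ b ∈ M, ⁅a, b⁆ ∈ Z₀ := fun a ha b hb => by
    rw [← QuotientGroup.eq_one_iff]
    show q ⁅a, b⁆ = 1
    rw [map_commutatorElement]
    exact commutatorElement_eq_one_iff_commute.2 (ha.2.2 b hb.1)
  have hMnc : ¬ M ≤ Subgroup.center H := by
    intro hle
    obtain ⟨g, hg, e⟩ := (z : Kb).2
    have hgM : g ∈ M := ⟨hg, by
      rw [e, ← hz, ← Subgroup.coe_pow, ← Subgroup.coe_pow, pow_orderOf_eq_one]; rfl, fun x hx => by
      rw [e]
      exact (congrArg Subtype.val (Subgroup.mem_center_iff.1 z.2 ⟨q x, x, hx, rfl⟩)).symm⟩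
    have h1 : q g = 1 := (QuotientGroup.eq_one_iff g).2 ⟨hg, hle hgM⟩
    have hz1 : z = 1 := Subtype.ext (Subtype.ext (e.symm.trans h1))
    rw [hz1, orderOf_one] at hz
    exact hs.ne_one hz.symm
  -- only the centre commutes with all of `M`
  have hcenM : ∀ g ∈ M, (∀ x ∈ M, x * g = g * x) → g ∈ Z₀ := by
    let A : Subgroup H := M ⊓ Subgroup.centralizer (M : Set H)
    haveI : A.Normal := Subgroup.normal_inf_normal M _
    intro g hg hcom
    refine ⟨hg.1, abelian_central hr hπ hmin hinj hirr (hdim ▸ hn) A (fun a ha b hb => ?_) ?_⟩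
    · exact (Subgroup.mem_centralizer_iff.1 hb.2 a ha.1)
    · exact ⟨hg, Subgroup.mem_centralizer_iff.2 hcom⟩
  set Mb := M.map q
  haveI : Mb.Normal := hMn.map q (QuotientGroup.mk'_surjective Z₀)
  haveI : IsMulCommutative Mb := ⟨⟨fun x y => by
    obtain ⟨_, a, ha, rfl⟩ := x
    obtain ⟨_, b, hb, rfl⟩ := y
    exact Subtype.ext (ha.2.2 b hb.1)⟩⟩
  letI : CommGroup Mb := { (inferInstance : Group Mb) with mul_comm := fun a b => mul_comm' a b }
  obtain ⟨d, hcardM, mat, hmat⟩ := exists_matrix (A := Mb) (s := s) fun w => by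
    obtain ⟨_, a, ha, rfl⟩ := w
    exact Subtype.ext ha.2.1
  let conjH : H →* MulAut Mb := MulAut.conjNormal.comp q
  let φ : H →* Matrix (Fin d) (Fin d) (ZMod s) := mat.comp conjH
  have hφ : φ.ker ≠ ⊤ := by
    intro htop
    refine hMnc fun g hg => Subgroup.mem_center_iff.2 fun h => ?_
    have hc : ∀ h : H, ⁅h, g⁆ ∈ Z₀ := fun h => by
      have h1 : conjH h = 1 := hmat (by
        rw [map_one]; exact MonoidHom.mem_ker.1 (htop ▸ Subgroup.mem_top h : h ∈ φ.ker))
      have h2 : ((conjH h ⟨q g, g, hg, rfl⟩ : Mb) : H ⧸ Z₀) = q g := by rw [h1]; rfl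
      rw [← QuotientGroup.eq_one_iff]
      show q ⁅h, g⁆ = 1
      rw [map_commutatorElement, commutatorElement_def]
      have h3 : q h * q g * (q h)⁻¹ = q g := by simpa [conjH] using h2
      rw [h3, mul_inv_cancel]
    let f : H →* Z₀ :=
      { toFun := fun h => ⟨⁅h, g⁆, hc h⟩
        map_one' := Subtype.ext (commutatorElement_one_left g)
        map_mul' := fun a b => Subtype.ext (by
          show ⁅a * b, g⁆ = ⁅a, g⁆ * ⁅b, g⁆
          rw [show ⁅a * b, g⁆ = a * ⁅b, g⁆ * a⁻¹ * ⁅a, g⁆ by simp only [commutatorElement_def]; group,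
            Subgroup.mem_center_iff.1 (hc b).2 a, mul_inv_cancel_right,
            ← Subgroup.mem_center_iff.1 (hc b).2 ⁅a, g⁆]) }
    have hker : commutator H ≤ f.ker := by
      rw [commutator_def, Subgroup.commutator_le]
      intro a _ b _
      rw [MonoidHom.mem_ker, map_commutatorElement, commutatorElement_eq_one_iff_mul_comm]
      exact Subtype.ext (Subgroup.mem_center_iff.1 (f b).2.2 (f a).1)
    rw [commutator_eq_top π hr hπ hmin] at hker
    exact commutatorElement_eq_one_iff_mul_comm.1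
      (congrArg Subtype.val (MonoidHom.mem_ker.1 (hker (Subgroup.mem_top h))))
  -- the cosets are linearly independent
  have hsq : Nat.card Mb ≤ n * n := by
    choose rep hrep hrepq using fun m : Mb => m.2
    have hsc : ∀ (m : Mb) (x : M), ∃ c : k, ρ ⁅x.1, rep m⁆ = c • 1 :=
      fun m x => scalar_of_central hirr (hMcomm x.1 x.2 (rep m) (hrep m)).2
    choose c hc using hsc
    let T : M → Module.End k (Module.End k V) := fun x =>
      (LinearMap.mulLeft k (ρ x.1)).comp (LinearMap.mulRight k (ρ x.1⁻¹))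
    have hli : LinearIndependent k (fun m : Mb => ρ (rep m)) := by
      refine linearIndependent_labels T c ?_ _ (fun m e => ?_) fun m x => ?_
      · intro m m' e
        have key : ∀ x : M, ⁅x.1, rep m⁆ = ⁅x.1, rep m'⁆ := fun x => hinj (by rw [hc, hc, e])
        have hmem : (rep m)⁻¹ * rep m' ∈ Z₀ := by
          refine hcenM _ (mul_mem (inv_mem (hrep m)) (hrep m')) fun x hx => ?_
          have h1 := key ⟨x, hx⟩
          simp only [commutatorElement_def] at h1
          have h5 : x * rep m' * x⁻¹ = x * rep m * x⁻¹ * (rep m)⁻¹ * rep m' := by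
            rw [h1]; group
          calc x * ((rep m)⁻¹ * rep m') = (x * rep m * x⁻¹)⁻¹ * (x * rep m' * x⁻¹) * x := by group
            _ = (rep m)⁻¹ * rep m' * x := by rw [h5]; group
        refine Subtype.ext ?_
        rw [← hrepq m, ← hrepq m']
        exact (QuotientGroup.eq).2 hmem
      · obtain ⟨v, hv⟩ := exists_ne (0 : V)
        refine hv (rho_injective (ρ := ρ) (rep m) ?_)
        rw [show ρ (rep m) = 0 from e]; simp
      · show ρ x.1 * (ρ (rep m) * ρ x.1⁻¹) = _
        rw [← map_mul, ← map_mul, show x.1 * (rep m * x.1⁻¹) = ⁅x.1, rep m⁆ * rep m by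
          rw [commutatorElement_def]; group, map_mul, hc, smul_mul_assoc, one_mul]
    haveI := Fintype.ofFinite Mb
    have := hli.fintype_card_le_finrank
    rw [Module.finrank_linearMap, hdim] at this
    rwa [Nat.card_eq_fintype_card]
  rw [hcardM] at hsq
  have hd2 : 2 ^ d ≤ n * n := le_trans (Nat.pow_le_pow_left hs.two_le d) hsq
  have hsmall : d + 3 ≤ r := by
    by_contra hlt
    have h1 : 2 ^ (r - 2) ≤ 2 ^ d := Nat.pow_le_pow_right two_pos (by omega)
    have h2 : ∀ m, 5 ≤ m → m * m < 2 ^ m := by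
      intro m hm
      induction m, hm using Nat.le_induction with
      | base => norm_num
      | succ m hm ih => rw [pow_succ]; nlinarith
    have h3 := h2 (r - 2) (by omega)
    have h4 : n * n ≤ (r - 2) * (r - 2) := Nat.mul_le_mul (by omega) (by omega)
    omega
  rcases Nat.lt_or_ge d n with hlt | hge
  · let K' := AlgebraicClosure (ZMod s)
    let ψ : Matrix (Fin d) (Fin d) (ZMod s) →* Module.End K' (Fin d → K') :=
      (Matrix.toLinAlgEquiv' (R := K') (n := Fin d)).toRingEquiv.toMonoidHom.comp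
        (RingHom.mapMatrix (algebraMap (ZMod s) K')).toMonoidHom
    have hψ : Function.Injective ψ := (Matrix.toLinAlgEquiv' (R := K') (n := Fin d)).injective.comp
      (Matrix.map_injective (algebraMap (ZMod s) K').injective)
    refine IH d hlt K' (Fin d → K') H π (ψ.comp φ) hπ (fun h hh => ?_) (Module.finrank_fin_fun K')
      ⟨?_, fun _ => ?_⟩
    · refine ((normal_cases π hr hπ hmin φ.ker).resolve_left hφ) (MonoidHom.mem_ker.2 (hψ ?_))
      rw [map_one]; exact MonoidHom.mem_ker.1 hh
    all_goals rw [Module.finrank_fin_fun]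
    · omega
    · omega
  · have h1 : Nat.card (alternatingGroup (Fin r)) ≤ (s ^ d) ^ d := by
      haveI : Finite (Matrix (Fin d) (Fin d) (ZMod s)) := inferInstanceAs (Finite (Fin d → Fin d → ZMod s))
      refine (card_alt_le π hr hπ hmin φ hφ).trans (le_of_eq ?_)
      show Nat.card (Fin d → Fin d → ZMod s) = _
      simp
    rw [← pow_mul] at h1
    have hnpos : 0 < n := hdim ▸ Module.finrank_pos
    have h2 : s ^ d ≤ d * d := hsq.trans (Nat.mul_le_mul hge hge)
    have hd4 : d ≤ 4 := by
      by_contra h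
      have h3 : ∀ m, 5 ≤ m → m * m < 2 ^ m := by
        intro m hm
        induction m, hm using Nat.le_induction with
        | base => norm_num
        | succ m hm ih => rw [pow_succ]; nlinarith
      have := h3 d (by omega)
      have := Nat.pow_le_pow_left hs.two_le d
      omega
    have h65 := (card_alt_bound hr).2
    rcases Nat.lt_or_ge s 3 with hs3 | hs3
    · have : s = 2 := by have := hs.two_le; omega
      subst this
      have : 2 ^ (d * d) ≤ 2 ^ 16 := Nat.pow_le_pow_right two_pos (by nlinarith)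
      omega
    · have h3 := (Nat.pow_le_pow_left hs3 d).trans h2
      interval_cases d <;> norm_num at h3

end irreducible

/-- There are no small sections. -/
theorem noSection (hr : 9 ≤ r) : ∀ n, NoSection r n := by
  intro n
  induction n using Nat.strong_induction_on with
  | _ n IH =>
  intro k _ _ V _ _ _ H₀ _ _ π₀ ρ₀ hπ₀ hker₀ hdim hsmall
  classical
  -- a faithful cover
  let H₁ := H₀ ⧸ ρ₀.ker
  let π₁ : H₁ →* alternatingGroup (Fin r) := QuotientGroup.lift ρ₀.ker π₀ hker₀
  let ρ₁ : H₁ →* Module.End k V := QuotientGroup.lift ρ₀.ker ρ₀ le_rfl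
  have hρ₁ : Function.Injective ρ₁ := by
    intro x y e
    obtain ⟨x, rfl⟩ := QuotientGroup.mk_surjective x
    obtain ⟨y, rfl⟩ := QuotientGroup.mk_surjective y
    have e' : ρ₀ x = ρ₀ y := e
    refine QuotientGroup.eq.2 (MonoidHom.mem_ker.2 ?_)
    rw [map_mul, ← e', ← map_mul, inv_mul_cancel, map_one]
  have hπ₁ : Function.Surjective π₁ := fun g => by
    obtain ⟨h, rfl⟩ := hπ₀ g; exact ⟨QuotientGroup.mk h, rfl⟩
  -- a minimal one
  obtain ⟨L, hL, hLmin⟩ := (Set.toFinite {L : Subgroup H₁ | L.map π₁ = ⊤}).exists_minimal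
    ⟨⊤, Subgroup.map_top_of_surjective π₁ hπ₁⟩
  let π : L →* alternatingGroup (Fin r) := π₁.comp L.subtype
  let ρ : L →* Module.End k V := ρ₁.comp L.subtype
  have hπ : Function.Surjective π := fun g => by
    obtain ⟨h, hh, rfl⟩ : g ∈ L.map π₁ := by
      rw [show L.map π₁ = ⊤ from hL]; exact Subgroup.mem_top g
    exact ⟨⟨h, hh⟩, rfl⟩
  have hinj : Function.Injective ρ := hρ₁.comp Subtype.val_injective
  have hmin : ∀ M : Subgroup L, M.map π = ⊤ → M = ⊤ := fun M hM => by
    have h1 : M.map L.subtype ≤ L := by rintro _ ⟨x, -, rfl⟩; exact x.2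
    have h2 : (M.map L.subtype).map π₁ = ⊤ := by rw [Subgroup.map_map]; exact hM
    have h3 : L ≤ M.map L.subtype := hLmin h2 h1
    refine eq_top_iff.2 fun x _ => ?_
    obtain ⟨y, hy, e⟩ := h3 x.2
    rwa [← Subtype.ext (show (y : H₁) = x from e)]
  obtain ⟨a, b, hab⟩ := (alt_facts hr).2
  rcases Nat.eq_zero_or_pos n with hn0 | hnpos
  · haveI : Subsingleton V := Module.finrank_zero_iff.1 (hdim.trans hn0)
    obtain ⟨x, rfl⟩ := hπ a
    obtain ⟨y, rfl⟩ := hπ b
    refine hab ?_
    rw [← map_mul, ← map_mul, hinj (show ρ (x * y) = ρ (y * x) from LinearMap.ext fun v => Subsingleton.elim _ _)]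
  haveI : Nontrivial V := Module.finrank_pos_iff.1 (hdim ▸ hnpos)
  by_cases hred : ∀ U : Submodule k V, (∀ γ, ∀ u ∈ U, ρ γ u ∈ U) → U = ⊥ ∨ U = ⊤
  · by_cases hK : π.ker ≤ Subgroup.center L
    · exact central_false (π := π) (ρ := ρ)
        ⟨hr, hπ, hK, commutator_eq_top π hr hπ hmin, hinj, hred⟩ hsmall
    · exact noncentral_false IH hr hπ hmin hinj hred hdim (hdim ▸ hsmall.le) hK
  push Not at hred
  obtain ⟨U, hU, hbot, htop⟩ := hred
  let ρU : L →* Module.End k U :=
    { toFun := fun γ => (ρ γ).restrict (hU γ)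
      map_one' := by ext u; simp
      map_mul' := fun γ δ => by ext u; simp [rho_mul_apply] }
  let ρQ : L →* Module.End k (V ⧸ U) :=
    { toFun := fun γ => U.mapQ U (ρ γ) (hU γ)
      map_one' := by ext u; simp
      map_mul' := fun γ δ => by ext u; simp [rho_mul_apply] }
  have hfU := Submodule.finrank_quotient_add_finrank U
  have hUpos : 0 < Module.finrank k U :=
    Nat.pos_of_ne_zero fun e => hbot (Submodule.finrank_eq_zero.1 e)
  have hUlt : Module.finrank k U < Module.finrank k V := Submodule.finrank_lt htop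
  have hle := hsmall.le
  rcases normal_cases π hr hπ hmin ρU.ker with hUk | hUk
  swap
  · exact IH _ (by omega) k U L π ρU hπ hUk rfl ⟨by omega, fun e => by have := hsmall.le' e; omega⟩
  rcases normal_cases π hr hπ hmin ρQ.ker with hQk | hQk
  swap
  · exact IH _ (by omega) k (V ⧸ U) L π ρQ hπ hQk rfl ⟨by omega, fun e => by have := hsmall.le' e; omega⟩
  have hfix : ∀ γ, ∀ u ∈ U, ρ γ u = u := fun γ u hu =>
    congrArg Subtype.val (LinearMap.congr_fun (MonoidHom.mem_ker.1 (hUk ▸ Subgroup.mem_top γ : γ ∈ ρU.ker)) ⟨u, hu⟩)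
  have hdiff : ∀ γ v, ρ γ v - v ∈ U := fun γ v => by
    have := LinearMap.congr_fun (MonoidHom.mem_ker.1 (hQk ▸ Subgroup.mem_top γ : γ ∈ ρQ.ker)) (Submodule.Quotient.mk v)
    rw [← Submodule.Quotient.eq]
    exact this
  obtain ⟨x, rfl⟩ := hπ a
  obtain ⟨y, rfl⟩ := hπ b
  refine hab ?_
  rw [← map_mul, ← map_mul]
  refine congrArg π (hinj (LinearMap.ext fun v => ?_))
  have e : ∀ γ δ : L, ρ (γ * δ) v = ρ γ v + ρ δ v - v := fun γ δ => by
    have h1 := hfix γ _ (hdiff δ v)
    rw [map_sub] at h1
    rw [rho_mul_apply, sub_eq_iff_eq_add.1 h1]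
    abel
  rw [e, e]; abel

end CfsgLib.Classical.AltSection
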