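import Cfsg.Agent.Lib.Classical.AltSection.EigenFusion
import Cfsg.Agent.Lib.Chev.TwistF4

/-!
In ²F₄(q) an element of order 7 is not fused to its square.
-/

set_option autoImplicit false
set_option maxRecDepth 100000
set_option maxHeartbeats 1000000

namespace CfsgLib.Classical.AltSection.ReeEigen

open Cfsg.Lie Matrix CfsgLib.Chev CfsgLib.Chev.Cert CfsgLib.Chev.GTorus CfsgLib.Chev.SylowTorus

/-- A vector of length four modulo seven. -/
abbrev V7 := ZMod 7 × ZMod 7 × ZMod 7 × ZMod 7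

/-- The orbits of the Weyl group of type F4 on vectors modulo seven, six binary digits for each. -/
def orbTable : ℕ := 0x11051851010482cc30b20410b34e34b14914c38e30628a18c34c14a3ca14b2c424a28910810b34e34b10120b30c2c804110518510420424a28914b2c528f28630d30628a14c38e30524d28e50e28d2c935450d24410b34e34b10810928a24b1042cd38d3492c935450e28d34a39449428c29449150f38e3d434d28e50e28524530e38c14b2c528f28d24b24d51444d14535149250a30a5124d238618e49249428c29439438a34d28628a18c34c18c34c18a28e28d34a39434a39438a35150f38e3d449250a30a51149134514d35450d24b24528f2852cb14c38e3052442cd38d2c42c935450d24d34a39438a39438a34d28d5143492c92cd38d2c410424a2891082c528f2852cb24d51434914535149134a30a5124943ce38f51150a39438a34d14c38e30524b14a3ca14b1021471c508410b34e34b2c22d045140d14535149138728739144d1cf3c735034a39438a34b24d5143491042cd38d2c420424a2892c410b34e34d24b24d51438a34d28e50f1cd40d1cf28739144e1c514d45244d2c22d045140b1042cd38d1421021471ca14b2c528f38c14914c39438a34d28e38e3d44543ca30a5124943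4514d45244d24b24d5142852cb14a3cf1cd40d1cf50e28d34a39144e1ca1ce51150f38e3cf38e3d445438728739144e28d34a39434a39438a34a1ce45138738e3d44543d44543ce38f39144e1ca1ca39438a34d3473cf1cd4113872873914543ce38f50e38f51150f1ca1ce45138a34d28e50e1cd40d1cf3ce28d34a39428630d30628d30628a18c34d28e50e28a30a51249438618e49349428c29449238a34d28e51138728739134c18a28630514318718314914c38e30d14535149144c0cc4534d238618e49349428c29449150f38e3d434d28e50e28524530e38c14b2c528f28d24b24d51444d14535148e30524530e50e28d34a38e38f51150f28c29449250d1453514913492c935450a14b2c528f38c14914c3871831450c628a18c34c18728739144e38618e4934913033114d344d14535149250a30a51250e28d34a38a28630d30630d30628a18a34d28e50e50a30a51249238618e4934d13033114d348e18639245138728738c34c18a2860c514318718c14914c38e44d1453514943492c935449134514d45249428c29451150f38e3ca34d28e50e30524530e38a14b2c528f50d24b24d50f2852cb14a38e30524530e50e28d34a3ce38f51151428c29449244d14535149344c0cc45349134514d44e38c14914c1871831450c628a18c34c3872873914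5238618e49349428c29449348e18639249250a30a50e50e28d34a18a28630d30630d30628a38a34d28e50f1cd40d1cf50e28d34a39144e1ca1ce51150f38e3cf38e3d445438728739144e28d34a39449428c29449438a34d28e28a18c34c18c34c18a28628d34a39439428c29449248e1863924d13872873914543ce38f50e38f51150f1ca1ce45138a34d28e50e1cd40d1cf3ce28d34a39450d24b24d51244d14535149250a30a5144543ce38f28d34a39438c14914c38e2852cb14a3c714210214738d2c410b3514502c22d045244d14534e4513872871cd40d1cf3ca14b2c528f50d24b24d50e34b1042cd28a24420424d38d2c410b35450d24b24a39438a34d38a34d28e51138728739149134514d4514502c22d034e34b1042c51c714210214a3ca14b2cd1cf3c735034a39438a35150f38e3d449250a30a51149134514d35450d24b24528f2852cb14c38e30524d28e50e28d28739144e1ce38f51150f51150f38e3ce45138728728e50e28d34d1cf3c73502c528f2852cb24d51434914535149134a30a5124943ce38f51150a39438a34d14c38e30524a18c34c18a34c18a28630d34a39438a28c29449250e1863924d250a30a51248e28d34a39450d24b24d50f2852cb14a38e30524530e50e28d34a3ce38f51151428c29449244d1453514943492c93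5438d2c410b34a28910810934e34b1042cd5143492c928e50e28d34e28d34a39428630d30628f2852cb14a28a2442042451851010442cc30b20120b34e34b10414c38e30524b14a3ca14b34c18a28630e38c14914c34e34b1042cb30c2c804810518510104424a28910810b34e34b10b24d51434934d28e50e28e50e28d34a35450d24b24b34e34b10410928a2442011051851010482cc30b20410b34e34b14914c38e30628a18c34c14a3ca14b2c424a2891082c528f2852c40851c71421042cd38d2cb08b41145034514d45244e1ca1ce4513473cf1cd41138728739134c18a28630514318718314914c38e30d14535149144c0cc4534d238618e4934d13033114d244d14535138e3052453061c60c514318a28630d30e1ca1ce45148e1863924d138728739149134514d4514502c22d034e34b1042c51c714210214a3ca14b2cd1cf3c73502c528f2852cd30628a18c38e30524530d38d2c410b2cc30b20120414614404110928a2442011051851011021471c50851431871831871831450c51c71421021051851010410830c2040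

/-- The orbit of a vector. -/
def orb : V7 → ℕ
  | (a, b, c, d) => orbTable / 2 ^ (6 * (((a.val * 7 + b.val) * 7 + c.val) * 7 + d.val)) % 64

/-- A simple reflection on row vectors. -/
def stepF4 : V7 → ℕ → V7
  | (a, b, c, d), 0 => (b - a, b, c, d)
  | (a, b, c, d), 1 => (a, a + c - b, c, d)
  | (a, b, c, d), 2 => (a, b, 2 * b + d - c, d)
  | (a, b, c, d), _ => (a, b, c, c - d)

theorem orb_step : ∀ a b c d : ZMod 7, ∀ i : Fin 4,
    orb (stepF4 (a, b, c, d) i) = orb (a, b, c, d) := by decide +kernel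

/-- An eigenvector is not fused to its twist. -/
theorem orb_twist : ∀ a b c d : ZMod 7, (a, b, c, d) ≠ (0, 0, 0, 0) →
    orb (2 * a, 2 * b, 2 * c, 2 * d) = orb (a, b, c, d) →
    ∀ s : ZMod 7, s ≠ 0 → orb (s * d, s * c, s * 2 * b, s * 2 * a) ≠ orb (a, b, c, d) := by decide +kernel

/-- The vector as a function. -/
def vec7 (v : V7) : Fin 4 → ZMod 7 := ![v.1, v.2.1, v.2.2.1, v.2.2.2]

/-- A function as a vector. -/
def ofVec (x : Fin 4 → ZMod 7) : V7 := (x 0, x 1, x 2, x 3)

theorem vec7_ofVec (x : Fin 4 → ZMod 7) : vec7 (ofVec x) = x := by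
  funext i; fin_cases i <;> rfl

theorem ofVec_vec7 (v : V7) : ofVec (vec7 v) = v := rfl

/-- The matrix of a simple reflection modulo seven. -/
noncomputable def R4 (i : ℕ) : Matrix (Fin 4) (Fin 4) (ZMod 7) :=
  (reflMat tabF4 i).map (Int.castRingHom (ZMod 7))

/-- The matrix of a word modulo seven. -/
noncomputable def P4 (w : List ℕ) : Matrix (Fin 4) (Fin 4) (ZMod 7) :=
  ((w.map (reflMat tabF4)).prod).map (Int.castRingHom (ZMod 7))

theorem R4_0 : ∀ (x y : Fin 4), R4 0 x y =
    (!![-1, 0, 0, 0; 1, 1, 0, 0; 0, 0, 1, 0; 0, 0, 0, 1] : Matrix (Fin 4) (Fin 4) (ZMod 7)) x y := by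
  intro x y; fin_cases x <;> fin_cases y <;> decide +kernel

theorem R4_1 : ∀ (x y : Fin 4), R4 1 x y =
    (!![1, 1, 0, 0; 0, -1, 0, 0; 0, 1, 1, 0; 0, 0, 0, 1] : Matrix (Fin 4) (Fin 4) (ZMod 7)) x y := by
  intro x y; fin_cases x <;> fin_cases y <;> decide +kernel

theorem R4_2 : ∀ (x y : Fin 4), R4 2 x y =
    (!![1, 0, 0, 0; 0, 1, 2, 0; 0, 0, -1, 0; 0, 0, 1, 1] : Matrix (Fin 4) (Fin 4) (ZMod 7)) x y := by
  intro x y; fin_cases x <;> fin_cases y <;> decide +kernel

theorem R4_3 : ∀ (x y : Fin 4), R4 3 x y =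
    (!![1, 0, 0, 0; 0, 1, 0, 0; 0, 0, 1, 1; 0, 0, 0, -1] : Matrix (Fin 4) (Fin 4) (ZMod 7)) x y := by
  intro x y; fin_cases x <;> fin_cases y <;> decide +kernel

theorem vec7_step (v : V7) {i : ℕ} (hi : i < 4) : vec7 v ᵥ* R4 i = vec7 (stepF4 v i) := by
  obtain ⟨a, b, c, d⟩ := v
  interval_cases i
  · funext j; fin_cases j <;>
      simp [vec7, stepF4, Matrix.vecMul, dotProduct, Fin.sum_univ_succ, R4_0] <;> ring
  · funext j; fin_cases j <;>
      simp [vec7, stepF4, Matrix.vecMul, dotProduct, Fin.sum_univ_succ, R4_1] <;> ring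
  · funext j; fin_cases j <;>
      simp [vec7, stepF4, Matrix.vecMul, dotProduct, Fin.sum_univ_succ, R4_2] <;> ring
  · funext j; fin_cases j <;>
      simp [vec7, stepF4, Matrix.vecMul, dotProduct, Fin.sum_univ_succ, R4_3] <;> ring

/-- A word does not change the orbit. -/
theorem orb_vecMul : ∀ (w : List ℕ) (x : Fin 4 → ZMod 7), WordOK tabF4 w →
    orb (ofVec (x ᵥ* P4 w)) = orb (ofVec x)
  | [], x, _ => by
    have e : P4 [] = 1 := Matrix.map_one _ (map_zero _) (map_one _)
    rw [e, Matrix.vecMul_one]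
  | i :: w, x, hw => by
    have e : P4 (i :: w) = R4 i * P4 w := by
      show Matrix.map _ _ = _
      rw [List.map_cons, List.prod_cons, Matrix.map_mul]; rfl
    rw [e, ← Matrix.vecMul_vecMul, orb_vecMul w _ hw.tail]
    have hi : i < 4 := hw.head
    rw [← vec7_ofVec x, vec7_step _ hi, ofVec_vec7, ofVec_vec7]
    exact orb_step _ _ _ _ ⟨i, hi⟩

theorem eq_one_of_card : ∀ (j : Fin 3) (a : ZMod 7), a = 2 ^ (j : ℕ) →
    a ^ 12 * (a - 1) * (a ^ 3 + 1) * (a ^ 4 - 1) * (a ^ 6 + 1) = 0 → a = 1 := by decide +kernel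

theorem two_ne_zero_seven : ((2 : ℤ) : ZMod 7) ≠ 0 := by decide

variable {K : Type*} [Field K] [Fintype K] [CharP K 2]

/-- Elements of order 7 are not fused to their squares. -/
theorem not_fused {m : ℕ} (hK : Fintype.card K = 2 ^ (2 * m + 1)) {x y : GL chevF4.Idx K}
    (hx : x ∈ twistedF4 K (2 ^ m)) (hy : y ∈ twistedF4 K (2 ^ m)) (ho : orderOf x = 7)
    (hact : y * x * y⁻¹ = x ^ 2) : False := by
  classical
  haveI := Fact.mk (show Nat.Prime 7 by norm_num)
  obtain ⟨σ, hσ, hK2⟩ := setupF4 hK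
  set q := Fintype.card K with hq
  have hfix := fix_eq_twistedF4 σ hσ hK2
  rw [← hfix] at hx hy
  -- seven divides q - 1
  have h7 : ((q : ℕ) : ZMod 7) = 1 := by
    have hd : 7 ∣ Nat.card ↥(endoF4 σ).fix := by
      rw [← ho, ← Subgroup.orderOf_mk x hx]; exact orderOf_dvd_natCard _
    rw [card_twistF4 σ hσ hK2, ← hq, ← ZMod.natCast_eq_zero_iff] at hd
    push_cast [Nat.cast_sub (show 1 ≤ q from Fintype.card_pos),
      Nat.cast_sub (show 1 ≤ q ^ 4 from Nat.one_le_pow _ _ Fintype.card_pos)] at hd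
    refine eq_one_of_card ⟨(2 * m + 1) % 3, Nat.mod_lt _ (by norm_num)⟩ _ ?_ hd
    rw [hK, Nat.cast_pow]
    conv_lhs => rw [← Nat.div_add_mod (2 * m + 1) 3, pow_add, pow_mul,
      show ((2 : ℕ) : ZMod 7) ^ 3 = 1 from rfl, one_pow, one_mul]
    rfl
  set E := endoF4 σ with hE
  have hxG := E.fix_le_group hx
  have hyG := E.fix_le_group hy
  obtain ⟨g', hg', eG, eD⟩ := (orderOK_F4 (F := K)).ex
  obtain rfl : g' = 1 := Nat.dvd_one.1 (by simpa using hg')
  rw [one_mul] at eG eD
  have hidx : ¬ 7 ∣ (chevF4.diagonalSubgroup K).relIndex (chevF4.group K) :=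
    not_dvd_relIndex certF4.diagonal_le_group (by norm_num) Fintype.one_lt_card h7 eG eD (by decide)
  obtain ⟨g, hg, hgd⟩ := EigenFusion.exists_conj_diagonal certF4 (fun _ : Unit => x) (fun _ => 7)
    (fun _ => by norm_num) (fun _ => hxG) (fun _ => ho) (fun _ _ => Commute.refl x) (fun _ => hidx)
    Finset.univ
  set z := g * x * g⁻¹ with hz
  have hzd : z ∈ chevF4.diagonalSubgroup K := hgd () (Finset.mem_univ _)
  have hzo : orderOf z = 7 := by
    rw [hz, show g * x * g⁻¹ = (MulAut.conj g).toMonoidHom x from rfl,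
      orderOf_injective (MulAut.conj g).toMonoidHom (MulAut.conj g).injective, ho]
  obtain ⟨c, hc'⟩ := certF4.range_torusHom.ge hzd
  have hinj : Function.Injective (Cert.torusHom (D := chevF4) (T := tabF4) (F := K)) :=
    GTorus.torusHom_injective certF4 (invCartanF4_mul_smul.trans (by simp))
  have hc7 : c ^ 7 = 1 := hinj (by rw [map_pow, map_one, hc', ← hzo, pow_orderOf_eq_one])
  obtain ⟨ω, hω⟩ := exists_prime_orderOf_dvd_card' (G := Kˣ) 7 (by
    rw [Nat.card_units, Nat.card_eq_fintype_card, ← ZMod.natCast_eq_zero_iff,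
      Nat.cast_sub Fintype.card_pos, h7, Nat.cast_one, sub_self])
  have hω' : IsPrimitiveRoot (ω : K) 7 := by rw [IsPrimitiveRoot.iff_orderOf, orderOf_units, hω]
  have hXi : ∀ j, ∃ k : ℤ, ω ^ k = c j := fun j => by
    obtain ⟨k, -, hk⟩ := hω'.eq_pow_of_pow_eq_one (ξ := (c j : K))
      (by rw [← Units.val_pow_eq_pow_val, show c j ^ 7 = 1 from congrFun hc7 j, Units.val_one])
    exact ⟨k, Units.ext (by rw [zpow_natCast, Units.val_pow_eq_pow_val, hk])⟩
  choose k hk using hXi
  let x₇ : Fin 4 → ZMod 7 := fun i => (k i : ZMod 7)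
  have heig : ∀ (n : GL chevF4.Idx K) (k' : Fin tabF4.l → ℤ), n ∈ chevF4.monomialSubgroup K →
      n * z * n⁻¹ = Cert.torusHom (D := chevF4) (T := tabF4) (fun i => ω ^ k' i) →
      orb (ofVec fun i => (k' i : ZMod 7)) = orb (ofVec x₇) := by
    intro n k' hn hnz
    obtain ⟨w, hw, hM⟩ := exists_acts_word certF4 (inv_mem hn)
    set M := (w.map (reflMat tabF4)).prod
    have h1 : n⁻¹ * Cert.torusHom (D := chevF4) (T := tabF4) (matHom Mᵀ c) * n⁻¹⁻¹ =
        n⁻¹ * Cert.torusHom (D := chevF4) (T := tabF4) (fun i => ω ^ k' i) * n⁻¹⁻¹ := by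
      rw [conj_torusHom certF4 (inv_mem hn) hM c, ← hnz, hc']; group
    have hk' : (fun i => ω ^ k i) = c := funext hk
    rw [← hk', matHom_pow] at h1
    have h2 := hinj (mul_left_cancel (mul_right_cancel h1))
    have e : (fun i => (k' i : ZMod 7) : Fin 4 → ZMod 7) = x₇ ᵥ* P4 w := by
      funext i
      have h3 : (7 : ℤ) ∣ k' i - (Mᵀ *ᵥ k) i := by
        have h4 := orderOf_dvd_sub_iff_zpow_eq_zpow.2 (congrFun h2 i).symm
        rwa [hω] at h4
      rw [show (7 : ℤ) = ((7 : ℕ) : ℤ) from rfl, ← ZMod.intCast_zmod_eq_zero_iff_dvd, Int.cast_sub,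
        sub_eq_zero, Matrix.mulVec_transpose] at h3
      refine h3.trans ?_
      show Int.castRingHom (ZMod 7) ((k ᵥ* M) i) = _
      simp only [Matrix.vecMul, dotProduct, map_sum, map_mul]
      rfl
    rw [e]
    exact orb_vecMul w x₇ hw
  -- the square
  have hzy : g * y * g⁻¹ * z * (g * y * g⁻¹)⁻¹ = z ^ 2 := by
    rw [hz, conj_pow, ← hact]; group
  obtain ⟨n, hn, hnc⟩ := diag_fusion certF4 (mul_mem (mul_mem hg hyG) (inv_mem hg))
  have h2 := heig n (fun i => 2 * k i) hn (by
    rw [hnc _ hzd _ (pow_mem hzd 2) hzy, ← hc', ← map_pow]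
    congr 1
    funext i
    rw [Pi.pow_apply, ← hk i, mul_comm, _root_.zpow_mul, ← zpow_natCast (ω ^ k i) 2]; rfl)
  -- the twist
  have htor : Cert.torusHom (D := chevF4) (T := tabF4) (E.tor c) ∈ chevF4.diagonalSubgroup K :=
    certF4.range_torusHom.le ⟨_, rfl⟩
  have hconj : E.act g * g⁻¹ * z * (E.act g * g⁻¹)⁻¹ =
      Cert.torusHom (D := chevF4) (T := tabF4) (E.tor c) := by
    rw [← E.act_torusHom, hc', hz, E.act_mul (mul_mem hg hxG) (inv_mem hg), E.act_mul hg hxG,
      E.act_of_fix hx, E.act_inv hg]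
    group
  obtain ⟨n', hn', hnc'⟩ := diag_fusion certF4 (mul_mem (E.act_mem hg) (inv_mem hg))
  set s : ℤ := ((2 : ℤ) ^ m) with hs
  let k' : Fin tabF4.l → ℤ :=
    ![s * k ⟨3, by decide⟩, s * k ⟨2, by decide⟩, s * 2 * k ⟨1, by decide⟩, s * 2 * k ⟨0, by decide⟩]
  have htk : E.tor c = fun i => ω ^ k' i := by
    funext j
    obtain ⟨i, rfl⟩ := (Finite.injective_iff_surjective.1 E.πf_injective) j
    rw [torF4_val σ hσ, ← hk i, ← zpow_natCast (ω ^ k i), ← _root_.zpow_mul, mul_comm]
    congr 1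
    push_cast
    rw [← hs]
    revert i
    show ∀ i : Fin 4, _
    intro i
    fin_cases i
    · show s * ((2 : ℕ) : ℤ) * k ⟨0, by decide⟩ = s * 2 * k ⟨0, by decide⟩; norm_num
    · show s * ((2 : ℕ) : ℤ) * k ⟨1, by decide⟩ = s * 2 * k ⟨1, by decide⟩; norm_num
    · show s * ((1 : ℕ) : ℤ) * k ⟨2, by decide⟩ = s * k ⟨2, by decide⟩; norm_num
    · show s * ((1 : ℕ) : ℤ) * k ⟨3, by decide⟩ = s * k ⟨3, by decide⟩; norm_num
  have h3 := heig n' k' hn' (by rw [hnc' _ hzd _ htor hconj, htk])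
  have hx0 : ofVec x₇ ≠ (0, 0, 0, 0) := by
    intro h0
    have h1 : c = 1 := funext fun i => by
      rw [← hk i]
      refine orderOf_dvd_iff_zpow_eq_one.1 ?_
      rw [hω, ← ZMod.intCast_zmod_eq_zero_iff_dvd]
      exact congrFun ((vec7_ofVec x₇).symm.trans ((congrArg vec7 h0).trans
        (funext fun i => by fin_cases i <;> rfl : vec7 (0, 0, 0, 0) = fun _ => 0))) i
    rw [← hc', h1, map_one, orderOf_one] at hzo
    omega
  have hs7 : (s : ZMod 7) ≠ 0 := by
    rw [hs, Int.cast_pow]; exact pow_ne_zero _ two_ne_zero_seven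
  refine orb_twist _ _ _ _ hx0 ?_ (s : ZMod 7) hs7 ?_
  · simpa [ofVec, x₇] using h2
  · simp [ofVec, x₇, k'] at h3 ⊢
    exact h3

end CfsgLib.Classical.AltSection.ReeEigen
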