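import Cfsg.Agent.Lib.Classical.AltSection.EigenFusion
import Cfsg.Agent.Lib.Chev.TrialityG2

/-!
In ³D₄(q) an element of order 5 is not fused to its square.
-/

set_option autoImplicit false
set_option maxRecDepth 100000
set_option maxHeartbeats 1000000

namespace CfsgLib.Classical.AltSection.TriEigen

open Cfsg.Lie Matrix CfsgLib.Chev CfsgLib.Chev.Cert CfsgLib.Chev.GTorus CfsgLib.Chev.SylowTorus

/-- A vector of length four modulo five. -/
abbrev V5 := ZMod 5 × ZMod 5 × ZMod 5 × ZMod 5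

/-- The orbits of the Weyl group of type D4 on vectors modulo five, six binary digits for each. -/
def orbTable : ℕ := 124712213434786799975961186120886543716186354922664208437401746717554479864323201598519110268369214428875655624645645308934999850565291669888496399682095788693838862880816285992916111818648201741467479591995214415102163799298472188388893248448672627749411766326683381811313200531112558268366966852914176370210065874653294236541574472725953710160613249161126163394870730650063579967620253848452859442288496484991683029230418656310835054191586269304198588481382066359579711995047199068250806716502289759583606616715930627944767400085807000855153911841907881250469704225270116728535166784975975518315732457818417556008454991263594036651094376946982222024149154392216684411229483240951816078683647759253811893272062840023555162962216448076261658045377477773776007058255481397169877243401413040779174598499159521445214082400092005922872276415582685514767728983845315476136500802821764779398240541514109801880302992614621363785964514264267951657819315421652522909250836712237737320565890598461539960613855769560554248730000059966436845313019086099562656645241752517903835238448362189712465138315114746805824287181258672257256177279040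

/-- The orbit of a vector. -/
def orb : V5 → ℕ
  | (a, b, c, d) => orbTable / 2 ^ (6 * (((a.val * 5 + b.val) * 5 + c.val) * 5 + d.val)) % 64

/-- A simple reflection on row vectors. -/
def stepD4 : V5 → ℕ → V5
  | (a, b, c, d), 0 => (b - a, b, c, d)
  | (a, b, c, d), 1 => (a, a + c + d - b, c, d)
  | (a, b, c, d), 2 => (a, b, b - c, d)
  | (a, b, c, d), _ => (a, b, c, b - d)

theorem orb_step : ∀ a b c d : ZMod 5, ∀ i : Fin 4,
    orb (stepD4 (a, b, c, d) i) = orb (a, b, c, d) := by decide +kernel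

/-- An eigenvector is not fused to its twist. -/
theorem orb_twist : ∀ a b c d : ZMod 5, (a, b, c, d) ≠ (0, 0, 0, 0) →
    orb (2 * a, 2 * b, 2 * c, 2 * d) = orb (a, b, c, d) →
    ∀ k : ZMod 5, k ≠ 0 → orb (k * d, k * b, k * a, k * c) ≠ orb (a, b, c, d) := by decide +kernel

theorem sums_ne_zero : ¬ ((1 + 1 : ZMod 5) = 0 ∨ (1 + 1 + 1 + 1 : ZMod 5) = 0 ∨
    (1 + 1 + 1 + 1 + 1 + 1 : ZMod 5) = 0) := by decide

/-- The vector as a function. -/
def vec5 (v : V5) : Fin 4 → ZMod 5 := ![v.1, v.2.1, v.2.2.1, v.2.2.2]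

/-- A function as a vector. -/
def ofVec (x : Fin 4 → ZMod 5) : V5 := (x 0, x 1, x 2, x 3)

theorem vec5_ofVec (x : Fin 4 → ZMod 5) : vec5 (ofVec x) = x := by
  funext i; fin_cases i <;> rfl

theorem ofVec_vec5 (v : V5) : ofVec (vec5 v) = v := rfl

/-- The matrix of a simple reflection modulo five. -/
noncomputable def R4 (i : ℕ) : Matrix (Fin 4) (Fin 4) (ZMod 5) :=
  (reflMat tabD4 i).map (Int.castRingHom (ZMod 5))

/-- The matrix of a word modulo five. -/
noncomputable def P4 (w : List ℕ) : Matrix (Fin 4) (Fin 4) (ZMod 5) :=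
  ((w.map (reflMat tabD4)).prod).map (Int.castRingHom (ZMod 5))

theorem R4_0 : ∀ (x y : Fin 4), R4 0 x y =
    (!![-1, 0, 0, 0; 1, 1, 0, 0; 0, 0, 1, 0; 0, 0, 0, 1] : Matrix (Fin 4) (Fin 4) (ZMod 5)) x y := by
  intro x y; fin_cases x <;> fin_cases y <;> decide +kernel

theorem R4_1 : ∀ (x y : Fin 4), R4 1 x y =
    (!![1, 1, 0, 0; 0, -1, 0, 0; 0, 1, 1, 0; 0, 1, 0, 1] : Matrix (Fin 4) (Fin 4) (ZMod 5)) x y := by
  intro x y; fin_cases x <;> fin_cases y <;> decide +kernel

theorem R4_2 : ∀ (x y : Fin 4), R4 2 x y =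
    (!![1, 0, 0, 0; 0, 1, 1, 0; 0, 0, -1, 0; 0, 0, 0, 1] : Matrix (Fin 4) (Fin 4) (ZMod 5)) x y := by
  intro x y; fin_cases x <;> fin_cases y <;> decide +kernel

theorem R4_3 : ∀ (x y : Fin 4), R4 3 x y =
    (!![1, 0, 0, 0; 0, 1, 0, 1; 0, 0, 1, 0; 0, 0, 0, -1] : Matrix (Fin 4) (Fin 4) (ZMod 5)) x y := by
  intro x y; fin_cases x <;> fin_cases y <;> decide +kernel

theorem vec5_step (v : V5) {i : ℕ} (hi : i < 4) : vec5 v ᵥ* R4 i = vec5 (stepD4 v i) := by
  obtain ⟨a, b, c, d⟩ := v
  interval_cases i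
  · funext j; fin_cases j <;>
      simp [vec5, stepD4, Matrix.vecMul, dotProduct, Fin.sum_univ_succ, R4_0] <;> ring
  · funext j; fin_cases j <;>
      simp [vec5, stepD4, Matrix.vecMul, dotProduct, Fin.sum_univ_succ, R4_1] <;> ring
  · funext j; fin_cases j <;>
      simp [vec5, stepD4, Matrix.vecMul, dotProduct, Fin.sum_univ_succ, R4_2] <;> ring
  · funext j; fin_cases j <;>
      simp [vec5, stepD4, Matrix.vecMul, dotProduct, Fin.sum_univ_succ, R4_3] <;> ring

/-- A word does not change the orbit. -/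
theorem orb_vecMul : ∀ (w : List ℕ) (x : Fin 4 → ZMod 5), WordOK tabD4 w →
    orb (ofVec (x ᵥ* P4 w)) = orb (ofVec x)
  | [], x, _ => by
    have e : P4 [] = 1 := Matrix.map_one _ (map_zero _) (map_one _)
    rw [e, Matrix.vecMul_one]
  | i :: w, x, hw => by
    have e : P4 (i :: w) = R4 i * P4 w := by
      show Matrix.map _ _ = _
      rw [List.map_cons, List.prod_cons, Matrix.map_mul]; rfl
    rw [e, ← Matrix.vecMul_vecMul, orb_vecMul w _ hw.tail]
    have hi : i < 4 := hw.head
    rw [← vec5_ofVec x, vec5_step _ hi, ofVec_vec5, ofVec_vec5]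
    exact orb_step _ _ _ _ ⟨i, hi⟩

variable {K : Type*} [Field K] [Fintype K] {q : ℕ}

/-- Generators of ³D₄(q) stay fixed over a larger field. -/
theorem map_le_fix {L : Type*} [Field L] [Fintype L] (f : K →+* L) (σ : L →+* L) (hσ : ∀ t, σ t = t ^ q)
    (hK : ∀ t : K, ((t ^ q) ^ q) ^ q = t) :
    (twistedD4 K q).map (mapGL chevD4 f) ≤ (endoD4 σ).fix := by
  rw [Subgroup.map_le_iff_le_comap]
  refine certD4.genSubgroup_le ?_
  rintro w (⟨t, ht, r, hr, rfl⟩ | ⟨t, rs, hrs, rfl⟩)
  · simp only [List.map_cons, List.map_nil, List.prod_cons, List.prod_nil, mul_one, Subgroup.mem_comap,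
      certD4.X_map]
    simp only [List.mem_cons, List.not_mem_nil, or_false] at hr
    rcases hr with rfl | rfl <;>
      exact single_mem_fixD4 σ hσ (by decide +kernel) (by rw [← map_pow, ht])
  · rw [Subgroup.mem_comap, chevD4_prod_triple, show t ^ q ^ 2 = (t ^ q) ^ q by rw [← pow_mul, sq],
      map_mul, map_mul, certD4.X_map, certD4.X_map, certD4.X_map, map_pow, map_pow, map_pow]
    have hu : ((f t ^ q) ^ q) ^ q = f t := by rw [← map_pow, ← map_pow, ← map_pow, hK]
    have key : ∀ {r s u : ℕ}, r < tabD4.n ∧ s < tabD4.n ∧ u < tabD4.n →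
        twistD4a.rt r = s ∧ twistD4a.rt s = u ∧ twistD4a.rt u = r →
        (∀ x ∈ [r, s, u], twistD4a.ep x = 1 ∧ twistD4a.dg x = 1) →
        chkCommute tabD4 r s = true ∧ chkCommute tabD4 r u = true →
        X chevD4 r (f t) * X chevD4 s (f t ^ q) * X chevD4 u ((f t ^ q) ^ q) ∈ (endoD4 σ).fix := by
      rintro r s u ⟨hr, hs, hu'⟩ ⟨e1, e2, e3⟩ he hc
      have mr := certD4.X_mem_group hr (f t)
      have ms := certD4.X_mem_group hs (f t ^ q)
      have mu := certD4.X_mem_group hu' ((f t ^ q) ^ q)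
      refine (endoD4 σ).mem_fix.2 ⟨mul_mem (mul_mem mr ms) mu, ?_⟩
      rw [(endoD4 σ).act_mul (mul_mem mr ms) mu, (endoD4 σ).act_mul mr ms, (endoD4 σ).act_X hr,
        (endoD4 σ).act_X hs, (endoD4 σ).act_X hu', τD4_eq σ hσ (he r (by simp)),
        τD4_eq σ hσ (he s (by simp)), τD4_eq σ hσ (he u (by simp)), hu]
      show X chevD4 (twistD4a.rt r) _ * X chevD4 (twistD4a.rt s) _ * X chevD4 (twistD4a.rt u) _ = _
      rw [e1, e2, e3]
      exact ((certD4.commute_X hc.1 (f t) _).mul_right (certD4.commute_X hc.2 (f t) _)).eq.symm.trans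
        (mul_assoc _ _ _).symm
    simp only [List.mem_cons, List.not_mem_nil, or_false] at hrs
    rcases hrs with rfl | rfl <;>
      exact key (by decide +kernel) (by decide +kernel) (by decide +kernel) (by decide +kernel)

/-- Elements of order 5 are not fused to their squares, the characteristic not being 5. -/
theorem not_fused (hK : Fintype.card K = q ^ 3) (h5 : ¬ 5 ∣ q) {x y : GL chevD4.Idx K}
    (hx : x ∈ twistedD4 K q) (hy : y ∈ twistedD4 K q) (ho : orderOf x = 5)
    (hact : y * x * y⁻¹ = x ^ 2) : False := by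
  classical
  haveI := Fact.mk Nat.prime_five
  have hK3 : ∀ t : K, ((t ^ q) ^ q) ^ q = t := fun t => by
    rw [← pow_mul, ← pow_mul, show q * (q * q) = Fintype.card K by rw [hK]; ring, FiniteField.pow_card]
  obtain ⟨p, hp⟩ := CharP.exists K
  obtain ⟨e', hpp, hpe⟩ := FiniteField.card K p
  have := Fact.mk hpp
  obtain ⟨a, ha, hqa⟩ := (Nat.dvd_prime_pow hpp).1
    (show q ∣ p ^ (e' : ℕ) from hpe ▸ hK ▸ dvd_pow_self q three_ne_zero)
  let L := FiniteField.Extension K p 4
  let : Fintype L := Fintype.ofFinite L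
  have hQ : Fintype.card L = Fintype.card K ^ 4 := by
    rw [← Nat.card_eq_fintype_card, FiniteField.natCard_extension, Nat.card_eq_fintype_card]
  set f : K →+* L := algebraMap K L
  haveI : CharP L p := charP_of_injective_ringHom f.injective p
  set σ : L →+* L := iterateFrobenius L p a
  have hσ : ∀ t, σ t = t ^ q := fun t => by rw [hqa]; exact iterateFrobenius_def p a t
  have hQ1 : (Fintype.card L : ZMod 5) = 1 := by
    rw [hQ, Nat.cast_pow, show 4 = 5 - 1 from rfl, ZMod.pow_card_sub_one_eq_one]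
    rw [Ne, ZMod.natCast_eq_zero_iff, hK]
    exact fun hd => h5 (Nat.prime_five.dvd_of_dvd_pow hd)
  obtain ⟨g', hg', eG, eD⟩ := (orderOK_D4 (F := L)).ex
  have hidx : ¬ 5 ∣ (chevD4.diagonalSubgroup L).relIndex (chevD4.group L) := by
    intro hd
    have hr : ((Nat.card ↥(chevD4.group L) : ℕ)) =
        (chevD4.diagonalSubgroup L).relIndex (chevD4.group L) * Nat.card ↥(chevD4.diagonalSubgroup L) := by
      rw [mul_comm, ← Nat.card_congr (Subgroup.subgroupOfEquivOfLe certD4.diagonal_le_group).toEquiv]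
      exact (Subgroup.card_mul_index _).symm
    obtain ⟨m, hm⟩ := hd
    set Q := Fintype.card L
    have hQ2 : 2 ≤ Q := Fintype.one_lt_card
    have e : 5 * m * (Q - 1) ^ 4 = Q ^ 12 * (([2, 4, 4, 6] : List ℕ).map fun i => Q ^ i - 1).prod := by
      rw [← eG, hr, hm, show tabD4.l = 4 from rfl] at *
      rw [← eD]; ring
    have e2 : ((5 * m : ℕ) : ℤ) * ((Q : ℤ) - 1) ^ 4 =
        ((Q : ℤ) ^ 12 * ((([2, 4, 4, 6] : List ℕ).map fun i => ∑ j ∈ Finset.range i, (Q : ℤ) ^ j).prod)) *
          ((Q : ℤ) - 1) ^ 4 := by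
      have h1 := congrArg (fun n : ℕ => (n : ℤ)) e
      simp only [List.map_cons, List.map_nil, List.prod_cons, List.prod_nil, mul_one] at h1 ⊢
      push_cast [Nat.cast_sub (Nat.one_le_pow _ Q (by omega)), Nat.cast_sub (show 1 ≤ Q by omega)] at h1
      rw [← geom_sum_mul (Q : ℤ) 2, ← geom_sum_mul (Q : ℤ) 4, ← geom_sum_mul (Q : ℤ) 6] at h1
      push_cast
      linear_combination h1
    have e3 := congrArg (fun z : ℤ => (z : ZMod 5))
      (mul_right_cancel₀ (pow_ne_zero 4 (by omega : (Q : ℤ) - 1 ≠ 0)) e2)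
    simp [Finset.sum_range_succ, hQ1, show (5 : ZMod 5) = 0 from rfl] at e3
    exact sums_ne_zero e3
  set X := mapGL chevD4 f x with hX
  have hXo : orderOf X = 5 := (orderOf_injective _ (mapGL_injective chevD4 f) x).trans ho
  have hfix := map_le_fix f σ hσ hK3
  have hXfix : X ∈ (endoD4 σ).fix := hfix ⟨x, hx, rfl⟩
  have hXG := (endoD4 σ).fix_le_group hXfix
  have hYG := (endoD4 σ).fix_le_group (hfix ⟨y, hy, rfl⟩)
  obtain ⟨g, hg, hgd⟩ := EigenFusion.exists_conj_diagonal certD4 (fun _ : Unit => X) (fun _ => 5)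
    (fun _ => Nat.prime_five) (fun _ => hXG) (fun _ => hXo) (fun _ _ => Commute.refl X) (fun _ => hidx)
    Finset.univ
  set z := g * X * g⁻¹ with hz
  have hzd : z ∈ chevD4.diagonalSubgroup L := hgd () (Finset.mem_univ _)
  have hzo : orderOf z = 5 := by
    rw [hz, show g * X * g⁻¹ = (MulAut.conj g).toMonoidHom X from rfl,
      orderOf_injective (MulAut.conj g).toMonoidHom (MulAut.conj g).injective, hXo]
  obtain ⟨c₀, hc₀'⟩ := certD4.range_torusHom.ge hzd
  have hker : ∀ c : Fin tabD4.l → Lˣ, Cert.torusHom (D := chevD4) (T := tabD4) c = 1 → c ^ 2 = 1 :=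
    fun c hc => funext fun i => certD4.ker_pow invCartanD4_mul_smul (MonoidHom.mem_ker.2 hc) i
  set c := c₀ ^ 6 with hc
  have hc' : Cert.torusHom (D := chevD4) (T := tabD4) c = z := by
    rw [hc, map_pow, hc₀', pow_succ z 5, ← hzo, pow_orderOf_eq_one, one_mul]
  have hc5 : c ^ 5 = 1 := by
    have h1 := hker (c₀ ^ 5) (by rw [map_pow, hc₀', ← hzo, pow_orderOf_eq_one])
    rw [hc, ← pow_mul, show 6 * 5 = 5 * 2 * 3 from rfl, pow_mul, pow_mul, h1, one_pow]
  have huniq : ∀ c₁ c₂ : Fin tabD4.l → Lˣ, c₁ ^ 5 = 1 → c₂ ^ 5 = 1 →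
      Cert.torusHom (D := chevD4) (T := tabD4) c₁ = Cert.torusHom (D := chevD4) (T := tabD4) c₂ →
      c₁ = c₂ := by
    intro c₁ c₂ h1 h2 h3
    have h4 := hker (c₁ * c₂⁻¹) (by rw [map_mul, map_inv, h3, mul_inv_cancel])
    have h5' : (c₁ * c₂⁻¹) ^ 5 = 1 := by rw [mul_pow, inv_pow, h1, h2, inv_one, mul_one]
    rw [show 5 = 2 * 2 + 1 from rfl, pow_succ, pow_mul, h4, one_pow, one_mul] at h5'
    exact mul_inv_eq_one.1 h5'
  obtain ⟨ω, hω⟩ := exists_prime_orderOf_dvd_card' (G := Lˣ) 5 (by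
    rw [Nat.card_units, Nat.card_eq_fintype_card, ← ZMod.natCast_eq_zero_iff,
      Nat.cast_sub Fintype.card_pos, hQ1, Nat.cast_one, sub_self])
  have hω' : IsPrimitiveRoot (ω : L) 5 := by rw [IsPrimitiveRoot.iff_orderOf, orderOf_units, hω]
  have hXi : ∀ j, ∃ k : ℤ, ω ^ k = c j := fun j => by
    obtain ⟨k, -, hk⟩ := hω'.eq_pow_of_pow_eq_one (ξ := (c j : L))
      (by rw [← Units.val_pow_eq_pow_val, show c j ^ 5 = 1 from congrFun hc5 j, Units.val_one])
    exact ⟨k, Units.ext (by rw [zpow_natCast, Units.val_pow_eq_pow_val, hk])⟩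
  choose k hk using hXi
  let x₅ : Fin 4 → ZMod 5 := fun i => (k i : ZMod 5)
  have heig : ∀ (n : GL chevD4.Idx L) (k' : Fin tabD4.l → ℤ), n ∈ chevD4.monomialSubgroup L →
      n * z * n⁻¹ = Cert.torusHom (D := chevD4) (T := tabD4) (fun i => ω ^ k' i) →
      orb (ofVec fun i => (k' i : ZMod 5)) = orb (ofVec x₅) := by
    intro n k' hn hnz
    obtain ⟨w, hw, hM⟩ := exists_acts_word certD4 (inv_mem hn)
    set M := (w.map (reflMat tabD4)).prod
    have h1 : n⁻¹ * Cert.torusHom (D := chevD4) (T := tabD4) (matHom Mᵀ c) * n⁻¹⁻¹ =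
        n⁻¹ * Cert.torusHom (D := chevD4) (T := tabD4) (fun i => ω ^ k' i) * n⁻¹⁻¹ := by
      rw [conj_torusHom certD4 (inv_mem hn) hM c, ← hnz, hc']; group
    have h5k : ∀ v : Fin tabD4.l → ℤ, (fun i => ω ^ v i) ^ 5 = 1 := fun v => funext fun i => by
      rw [Pi.pow_apply, ← zpow_natCast, ← _root_.zpow_mul, mul_comm, _root_.zpow_mul, zpow_natCast, ← hω,
        pow_orderOf_eq_one, _root_.one_zpow, Pi.one_apply]
    have hk' : (fun i => ω ^ k i) = c := funext hk
    rw [← hk', matHom_pow] at h1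
    have h2 := huniq _ _ (h5k _) (h5k _) (mul_left_cancel (mul_right_cancel h1))
    have e : (fun i => (k' i : ZMod 5) : Fin 4 → ZMod 5) = x₅ ᵥ* P4 w := by
      funext i
      have h3 : (5 : ℤ) ∣ k' i - (Mᵀ *ᵥ k) i := by
        have h4 := orderOf_dvd_sub_iff_zpow_eq_zpow.2 (congrFun h2 i).symm
        rwa [hω] at h4
      rw [show (5 : ℤ) = ((5 : ℕ) : ℤ) from rfl, ← ZMod.intCast_zmod_eq_zero_iff_dvd, Int.cast_sub,
        sub_eq_zero, Matrix.mulVec_transpose] at h3
      refine h3.trans ?_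
      show Int.castRingHom (ZMod 5) ((k ᵥ* M) i) = _
      simp only [Matrix.vecMul, dotProduct, map_sum, map_mul]
      rfl
    rw [e]
    exact orb_vecMul w x₅ hw
  -- the square
  have hzy : g * mapGL chevD4 f y * g⁻¹ * z * (g * mapGL chevD4 f y * g⁻¹)⁻¹ = z ^ 2 := by
    rw [hz, conj_pow, hX, ← map_pow, ← hact, map_mul, map_mul, map_inv]; group
  obtain ⟨n, hn, hnc⟩ := diag_fusion certD4 (mul_mem (mul_mem hg hYG) (inv_mem hg))
  have h2 := heig n (fun i => 2 * k i) hn (by
    rw [hnc _ hzd _ (pow_mem hzd 2) hzy, ← hc', ← map_pow]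
    congr 1
    funext i
    rw [Pi.pow_apply, ← hk i, mul_comm, _root_.zpow_mul, ← zpow_natCast (ω ^ k i) 2]; rfl)
  -- the twist
  have htor : Cert.torusHom (D := chevD4) (T := tabD4) ((endoD4 σ).tor c) ∈ chevD4.diagonalSubgroup L :=
    certD4.range_torusHom.le ⟨_, rfl⟩
  set E := endoD4 σ with hE
  have hconj : E.act g * g⁻¹ * z * (E.act g * g⁻¹)⁻¹ =
      Cert.torusHom (D := chevD4) (T := tabD4) (E.tor c) := by
    have hinv : E.act g⁻¹ = (E.act g)⁻¹ := by
      refine eq_inv_of_mul_eq_one_right ?_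
      rw [← E.act_mul hg (inv_mem hg), mul_inv_cancel, E.act_one]
    rw [← E.act_torusHom, hc', hz, E.act_mul (mul_mem hg hXG) (inv_mem hg), E.act_mul hg hXG,
      E.act_of_fix hXfix, hinv]
    group
  obtain ⟨m, hm, hmc⟩ := diag_fusion certD4 (mul_mem (E.act_mem hg) (inv_mem hg))
  have hsimp : ∀ i : Fin tabD4.l, twistD4a.ep (tabD4.simple i) = 1 ∧ twistD4a.dg (tabD4.simple i) = 1 := by
    decide +kernel
  let k' : Fin tabD4.l → ℤ :=
    ![(q : ℤ) * k ⟨3, by decide⟩, (q : ℤ) * k ⟨1, by decide⟩, (q : ℤ) * k ⟨0, by decide⟩,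
      (q : ℤ) * k ⟨2, by decide⟩]
  have htk : E.tor c = fun i => ω ^ k' i := by
    funext j
    obtain ⟨i, rfl⟩ := (Finite.injective_iff_surjective.1 E.πf_injective) j
    rw [torD4_val σ hσ, ← hk i, ← zpow_natCast (ω ^ k i) q, ← _root_.zpow_mul, mul_comm]
    congr 1
    revert i
    show ∀ i : Fin 4, _
    intro i
    fin_cases i <;> rfl
  have h3 := heig m k' hm (by rw [hmc _ hzd _ htor hconj, htk])
  have hx0 : ofVec x₅ ≠ (0, 0, 0, 0) := by
    intro h0
    have h1 : c = 1 := funext fun i => by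
      rw [← hk i]
      refine orderOf_dvd_iff_zpow_eq_one.1 ?_
      rw [hω, ← ZMod.intCast_zmod_eq_zero_iff_dvd]
      exact congrFun ((vec5_ofVec x₅).symm.trans ((congrArg vec5 h0).trans
        (funext fun i => by fin_cases i <;> rfl : vec5 (0, 0, 0, 0) = fun _ => 0))) i
    rw [← hc', h1, map_one, orderOf_one] at hzo
    omega
  have hq5 : (q : ZMod 5) ≠ 0 := fun h => h5 ((ZMod.natCast_eq_zero_iff _ _).1 h)
  refine orb_twist _ _ _ _ hx0 ?_ (q : ZMod 5) hq5 ?_
  · simpa [ofVec, x₅] using h2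
  · simp [ofVec, x₅, k'] at h3 ⊢
    exact h3

end CfsgLib.Classical.AltSection.TriEigen
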