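import Cfsg.Agent.Lib.Classical.AltSection.G2Rank
import Cfsg.Agent.Lib.Classical.AltSection.EigenFusion
import Cfsg.Agent.Lib.Classical.AltSection.EightSection
import Cfsg.Agent.Lib.Chev.TrialityG2

/-!
In characteristic 5 the alternating group of degree 8 is not a section of ³D₄(q).
-/

set_option autoImplicit false
set_option maxRecDepth 100000
set_option maxHeartbeats 1000000

namespace CfsgLib.Classical.AltSection.TriEight

open Cfsg.Lie Matrix CfsgLib.Chev CfsgLib.Chev.Cert CfsgLib.Chev.GTorus CfsgLib.Chev.SylowTorus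

/-- The parity of a root against the root 14. -/
noncomputable def par (r : ℕ) : ℕ := (tabD4.pairing 14 r).natAbs % 2

theorem chkStab : (transversal levelsD4 4).all (fun u =>
    !((List.range 24).all fun r => decide (par (tabD4.rwordF u r) = par r)) ||
      (List.range 4).all fun i => decide
        (tabD4.rwordF (u ++ u ++ u ++ u ++ u ++ u ++ u ++ u) (tabD4.simple i) = tabD4.simple i)) = true := by
  decide +kernel

theorem sums_ne_zero : ∀ a : ZMod 7, a = 1 + 1 ∨ a = 1 + 1 + 1 + 1 ∨ a = 1 + 1 + 1 + 1 + 1 + 1 → a ≠ 0 := by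
  decide

/-- Root permutations compose. -/
theorem maps_append {D : ChevalleyDatum} {T : Tab} {C : Tab.Cover} (h : Cert D T C) {L : Type*}
    [Field L] {a b : GL D.Idx L} {wa wb : List ℕ} (hwb : WordOK T wb)
    (ha : ∀ r < T.n, Maps D a r (rword T wa r)) (hb : ∀ r < T.n, Maps D b r (rword T wb r)) :
    ∀ r < T.n, Maps D (a * b) r (rword T (wa ++ wb) r) := fun r hr => by
  rw [rword_append]
  exact Maps_mul (hb r hr) (ha _ (h.rword_lt hwb hr))

variable {F : Type*} [Field F]

/-- The preimage of an involution of G2(F) in the fixed points of the triality. -/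
theorem exists_preimage [Fintype F] (h2 : (2 : F) ≠ 0) :
    ∃ v : ↥(TrialityG2.tri F).fix, orderOf v = 2 ∧ (v : GL chevD4.Idx F) = hU chevD4 14 (-1) := by
  have hmem : ∀ (r : ℕ), r ∈ [14, 9] → ∀ t : F, X chevD4 r t ∈ (TrialityG2.tri F).fix := by
    intro r hr t
    simp only [List.mem_cons, List.not_mem_nil, or_false] at hr
    rcases hr with rfl | rfl <;>
      exact single_mem_fixD4 (RingHom.id F) TrialityG2.hf (by decide +kernel) (pow_one t)
  have h14 : 14 < tabD4.n := by decide +kernel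
  have hm : hU chevD4 14 (-1 : F) ∈ (TrialityG2.tri F).fix := by
    simp only [hU, nU, certD4.neg_eq h14, show tabD4.neg 14 = 9 by decide +kernel]
    have a := hmem 14 (by simp)
    have b := hmem 9 (by simp)
    exact mul_mem (mul_mem (mul_mem (a _) (b _)) (a _)) (mul_mem (mul_mem (a _) (b _)) (a _))
  have hne : (-1 : F) ≠ 0 := neg_ne_zero.2 one_ne_zero
  have e : (hU chevD4 14 (-1 : F) : Matrix chevD4.Idx chevD4.Idx F) =
      torus chevD4 fun s => (-1 : F) ^ tabD4.pairing 14 s := by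
    rw [certD4.hU_root h14 hne]
    exact torus_congr chevD4 fun s _ => by rw [Cert.charOf_cor 14 hne]
  refine ⟨⟨_, hm⟩, ?_, rfl⟩
  haveI := Fact.mk Nat.prime_two
  refine orderOf_eq_prime (Subtype.ext (Units.ext ?_)) (fun h1 => ?_)
  · show ((hU chevD4 14 (-1 : F) ^ 2 : GL chevD4.Idx F) : Matrix chevD4.Idx chevD4.Idx F) = _
    rw [pow_two, Units.val_mul, e, torus_mul, OneMemClass.coe_one, Units.val_one, ← torus_one chevD4]
    exact torus_congr chevD4 fun s _ => by rw [← mul_zpow, neg_mul_neg, one_mul, _root_.one_zpow]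
  · have h := congrArg (fun u : ↥(TrialityG2.tri F).fix =>
      ((u : GL chevD4.Idx F) : Matrix chevD4.Idx chevD4.Idx F)) h1
    simp only [OneMemClass.coe_one, Units.val_one, e] at h
    have hs : (12 : ℕ) < chevD4.nroots := by decide +kernel
    have ho : ∃ s < 24, Odd (tabD4.pairing 14 s) := by decide +kernel
    obtain ⟨s, hs, hodd⟩ := ho
    have hs' : s < chevD4.nroots := by rw [show chevD4.nroots = 24 by decide +kernel]; exact hs
    have := congrFun (congrFun h (Sum.inr ⟨s, hs'⟩)) (Sum.inr ⟨s, hs'⟩)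
    rw [torus, Matrix.diagonal_apply_eq, Sum.elim_inr, Matrix.one_apply_eq, hodd.neg_one_zpow] at this
    exact h2 (by linear_combination -this)

variable [Fintype F]

/-- A 7-element fused to its square does not centralise the involution. -/
theorem not_fused_seven (h2 : (2 : F) ≠ 0) (h7 : ¬ 7 ∣ Fintype.card F) {x y : GL chevD4.Idx F}
    (hx : x ∈ chevD4.group F) (hy : y ∈ chevD4.group F) (ho : orderOf x = 7)
    (hact : y * x * y⁻¹ = x ^ 2) (hxz : x * hU chevD4 14 (-1 : F) = hU chevD4 14 (-1 : F) * x)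
    (hyz : y * hU chevD4 14 (-1 : F) = hU chevD4 14 (-1 : F) * y) : False := by
  classical
  haveI := Fact.mk (show Nat.Prime 7 by norm_num)
  obtain ⟨p, hp⟩ := CharP.exists F
  obtain ⟨e', hpp, -⟩ := FiniteField.card F p
  have := Fact.mk hpp
  let L := FiniteField.Extension F p 6
  let : Fintype L := Fintype.ofFinite L
  have hQ : Fintype.card L = Fintype.card F ^ 6 := by
    rw [← Nat.card_eq_fintype_card, FiniteField.natCard_extension, Nat.card_eq_fintype_card]
  have hQ1 : (Fintype.card L : ZMod 7) = 1 := by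
    rw [hQ, Nat.cast_pow, show 6 = 7 - 1 from rfl, ZMod.pow_card_sub_one_eq_one]
    exact fun h => h7 ((ZMod.natCast_eq_zero_iff _ _).1 h)
  set f : F →+* L := algebraMap F L
  have hidx : ¬ 7 ∣ (chevD4.diagonalSubgroup L).relIndex (chevD4.group L) := by
    obtain ⟨g, hg, eG, eD⟩ := (orderOK_D4 (F := L)).ex
    intro hd
    have hr : Nat.card ↥(chevD4.group L) =
        (chevD4.diagonalSubgroup L).relIndex (chevD4.group L) * Nat.card ↥(chevD4.diagonalSubgroup L) := by
      rw [mul_comm, ← Nat.card_congr (Subgroup.subgroupOfEquivOfLe certD4.diagonal_le_group).toEquiv]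
      exact (Subgroup.card_mul_index _).symm
    obtain ⟨m, hm⟩ := hd
    set Q := Fintype.card L
    have hQ2 : 2 ≤ Q := Fintype.one_lt_card
    have e : 7 * m * (Q - 1) ^ 4 = Q ^ 12 * (([2, 4, 4, 6] : List ℕ).map fun i => Q ^ i - 1).prod := by
      rw [← eG, hr, hm, show tabD4.l = 4 from rfl] at *
      rw [← eD]; ring
    have e2 : ((7 * m : ℕ) : ℤ) * ((Q : ℤ) - 1) ^ 4 =
        ((Q : ℤ) ^ 12 * ((([2, 4, 4, 6] : List ℕ).map fun i => ∑ j ∈ Finset.range i, (Q : ℤ) ^ j).prod)) *
          ((Q : ℤ) - 1) ^ 4 := by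
      have h1 := congrArg (fun n : ℕ => (n : ℤ)) e
      simp only [List.map_cons, List.map_nil, List.prod_cons, List.prod_nil, mul_one] at h1 ⊢
      push_cast [Nat.cast_sub (Nat.one_le_pow _ Q (by omega)), Nat.cast_sub (show 1 ≤ Q by omega)] at h1
      rw [← geom_sum_mul (Q : ℤ) 2, ← geom_sum_mul (Q : ℤ) 4, ← geom_sum_mul (Q : ℤ) 6] at h1
      push_cast
      linear_combination h1
    have e3 := congrArg (fun z : ℤ => (z : ZMod 7))
      (mul_right_cancel₀ (pow_ne_zero 4 (by omega : (Q : ℤ) - 1 ≠ 0)) e2)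
    simp [Finset.sum_range_succ, hQ1, show (7 : ZMod 7) = 0 from rfl] at e3
    rcases e3 with e3 | e3 | e3
    exacts [sums_ne_zero _ (Or.inl rfl) e3, sums_ne_zero _ (Or.inr (Or.inl rfl)) e3,
      sums_ne_zero _ (Or.inr (Or.inr rfl)) e3]
  have h14 : 14 < tabD4.n := by decide +kernel
  have hneL : (-1 : L) ≠ 0 := neg_ne_zero.2 one_ne_zero
  set z := mapGL chevD4 f (hU chevD4 14 (-1 : F)) with hz
  have hzd : z ∈ chevD4.diagonalSubgroup L :=
    certD4.map_mem_diagonal f (certD4.hU_mem h14 (neg_ne_zero.2 one_ne_zero))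
  set X' := mapGL chevD4 f x with hX
  set Y' := mapGL chevD4 f y with hY
  have hXo : orderOf X' = 7 := (orderOf_injective _ (mapGL_injective chevD4 f) x).trans ho
  set A := chevD4.diagonalSubgroup L with hA
  set Z := chevD4.group L ⊓ Subgroup.centralizer {z} with hZ
  have hAZ : A ≤ Z := fun d hd => ⟨certD4.diagonal_le_group hd, Subgroup.mem_centralizer_singleton_iff.2
    (certD4.diagonal_comm hd hzd)⟩
  obtain ⟨S⟩ : Nonempty (Sylow 7 A) := inferInstance
  set T := (S : Subgroup A).map A.subtype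
  have hTA : T ≤ A := Subgroup.map_subtype_le _
  have h1 : ¬ 7 ∣ T.relIndex Z := by
    rw [← Subgroup.relIndex_mul_relIndex T A Z hTA hAZ]
    intro hd
    rcases (show Nat.Prime 7 by norm_num).dvd_mul.1 hd with h1 | h1
    · refine Sylow.not_dvd_index S ?_
      rwa [Subgroup.relIndex, Subgroup.subgroupOf,
        Subgroup.comap_map_eq_self_of_injective A.subtype_injective] at h1
    · refine hidx ?_
      rw [← Subgroup.relIndex_mul_relIndex A Z (chevD4.group L) hAZ inf_le_left]
      exact h1.mul_right _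
  have hXZ : X' ∈ Z := ⟨certD4.map_mem_group f hx, Subgroup.mem_centralizer_singleton_iff.2 (by
    rw [hX, hz, ← map_mul, hxz, map_mul])⟩
  obtain ⟨k, hk, hle⟩ := CfsgLib.Transfer.exists_conj_le_of_not_dvd_relIndex (hTA.trans hAZ)
    (S.isPGroup'.map _) h1 (Y := Subgroup.zpowers X') (Subgroup.zpowers_le.2 hXZ)
    (IsPGroup.of_card (n := 1) (by rw [Nat.card_zpowers, hXo, pow_one]))
  have hX2 : k * X' * k⁻¹ ∈ A := hTA (hle ⟨X', Subgroup.mem_zpowers X', rfl⟩)
  have hkz : k * z = z * k := Subgroup.mem_centralizer_singleton_iff.1 hk.2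
  have hYz : Y' * z = z * Y' := by rw [hY, hz, ← map_mul, hyz, map_mul]
  set g := k * Y' * k⁻¹ with hg
  have hgG : g ∈ chevD4.group L := mul_mem (mul_mem hk.1 (certD4.map_mem_group f hy)) (inv_mem hk.1)
  obtain ⟨n, hn, hnc⟩ := diag_fusion certD4 hgG
  have hgz : g * z * g⁻¹ = z := by
    have e : k⁻¹ * z = z * k⁻¹ := (Commute.inv_left (show Commute k z from hkz)).eq
    rw [hg]
    calc k * Y' * k⁻¹ * z * (k * Y' * k⁻¹)⁻¹ = k * Y' * (k⁻¹ * z) * k * Y'⁻¹ * k⁻¹ := by group
      _ = k * (Y' * z) * Y'⁻¹ * k⁻¹ := by rw [e]; group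
      _ = k * z * k⁻¹ := by rw [hYz]; group
      _ = z := by rw [hkz, mul_inv_cancel_right]
  have hgx : g * (k * X' * k⁻¹) * g⁻¹ = (k * X' * k⁻¹) ^ 2 := by
    rw [hg, conj_pow, hX, ← map_pow, ← hact, map_mul, map_mul, map_inv]
    rw [← hY]; group
  have hnz := hnc _ hzd _ hzd hgz
  have hnx := hnc _ hX2 _ (pow_mem hX2 2) hgx
  obtain ⟨w, hw, t, ht, hnw⟩ := certD4.exists_word_of_monomial hn
  obtain ⟨u, hu, huw⟩ := certD4.exists_transversal chkLevelsD4 tabD4.l le_rfl w hw
  have huok := certD4.transversal_ok chkLevelsD4 le_rfl hu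
  have hmaps : ∀ r < tabD4.n, Maps chevD4 n r (rword tabD4 u r) := fun r hr => by
    rw [← huw r hr, hnw]
    exact Maps_mul (certD4.Maps_diagonal ht hr) (certD4.Maps_nW hw hr)
  -- parity
  have hzL : z = hU chevD4 14 (-1 : L) := by
    simp only [hz, hU, nU, map_mul, certD4.X_map, map_neg, map_one, map_inv₀]
  have hchar : ∀ r < tabD4.n, z * X chevD4 r 1 * z⁻¹ = X chevD4 r ((-1 : L) ^ tabD4.pairing 14 r) := by
    intro r hr
    rw [mul_inv_eq_iff_eq_mul]
    refine Units.ext ?_
    rw [Units.val_mul, Units.val_mul, certD4.coe_X, certD4.coe_X, hzL, certD4.hU_root h14 hneL,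
      certD4.torus_mul_x (certD4.isChar_charOf fun i _ => zpow_ne_zero _ hneL) hr, Cert.charOf_cor 14 hneL,
      mul_one]
  have hpar : ∀ r < 24, par (tabD4.rwordF u r) = par r := by
    intro r hr
    have hr' : r < tabD4.n := by rw [show tabD4.n = 24 by decide +kernel]; exact hr
    have hs := certD4.rword_lt huok hr'
    obtain ⟨a, ha, he⟩ := hmaps r hr'
    have hnzc : n * z = z * n := mul_inv_eq_iff_eq_mul.1 hnz
    have h1 : z * (n * X chevD4 r 1 * n⁻¹) * z⁻¹ = n * (z * X chevD4 r 1 * z⁻¹) * n⁻¹ := by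
      calc z * (n * X chevD4 r 1 * n⁻¹) * z⁻¹ = (z * n) * X chevD4 r 1 * (z * n)⁻¹ := by group
        _ = (n * z) * X chevD4 r 1 * (n * z)⁻¹ := by rw [hnzc]
        _ = n * (z * X chevD4 r 1 * z⁻¹) * n⁻¹ := by group
    rw [hchar r hr', he, he] at h1
    have h2' : z * X chevD4 (rword tabD4 u r) (a * 1) * z⁻¹ =
        X chevD4 (rword tabD4 u r) ((-1 : L) ^ tabD4.pairing 14 (rword tabD4 u r) * (a * 1)) := by
      rw [mul_inv_eq_iff_eq_mul]
      refine Units.ext ?_
      rw [Units.val_mul, Units.val_mul, certD4.coe_X, certD4.coe_X, hzL, certD4.hU_root h14 hneL,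
        certD4.torus_mul_x (certD4.isChar_charOf fun i _ => zpow_ne_zero _ hneL) hs,
        Cert.charOf_cor 14 hneL]
    rw [h2'] at h1
    have h3 := certD4.X_inj hs h1
    have h4 : (-1 : L) ^ tabD4.pairing 14 (rword tabD4 u r) = (-1 : L) ^ tabD4.pairing 14 r := by
      refine mul_right_cancel₀ ha ?_
      linear_combination h3
    have h2L : (2 : L) ≠ 0 := by
      rw [show (2 : L) = f 2 from (map_ofNat f 2).symm]; exact (map_ne_zero f).2 h2
    have hne11 : (-1 : L) ≠ 1 := fun h => h2L (by linear_combination -h)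
    rw [tabD4.rwordF_eq]
    unfold par
    rcases Int.even_or_odd (tabD4.pairing 14 (rword tabD4 u r)) with hu' | hu' <;>
      rcases Int.even_or_odd (tabD4.pairing 14 r) with hr'' | hr''
    · rw [Nat.even_iff.1 (Int.natAbs_even.2 hu'), Nat.even_iff.1 (Int.natAbs_even.2 hr'')]
    · rw [hu'.neg_one_zpow, hr''.neg_one_zpow] at h4; exact absurd h4.symm hne11
    · rw [hu'.neg_one_zpow, hr''.neg_one_zpow] at h4; exact absurd h4 hne11
    · rw [Nat.odd_iff.1 (Int.natAbs_odd.2 hu'), Nat.odd_iff.1 (Int.natAbs_odd.2 hr'')]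
  have hu8 : ∀ i < 4, rword tabD4 (u ++ u ++ u ++ u ++ u ++ u ++ u ++ u) (tabD4.simple i) = tabD4.simple i := by
    have hchk := chkStab
    simp only [List.all_eq_true, Bool.or_eq_true, Bool.not_eq_true', List.mem_range,
      decide_eq_true_eq] at hchk
    intro i hi
    rcases hchk u hu with hbad | hgood
    · exfalso
      have hall : ((List.range 24).all fun r => decide (par (tabD4.rwordF u r) = par r)) = true := by
        simp only [List.all_eq_true, List.mem_range, decide_eq_true_eq]; exact hpar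
      rw [hbad] at hall
      exact Bool.noConfusion hall
    · have := hgood i hi
      rwa [tabD4.rwordF_eq] at this
  have hok2 : ∀ {a b : List ℕ}, WordOK tabD4 a → WordOK tabD4 b → WordOK tabD4 (a ++ b) := fun ha hb i hi =>
    (List.mem_append.1 hi).elim (ha i) (hb i)
  have hmul := @maps_append _ _ _ certD4 L _
  have m2 := hmul huok hmaps hmaps
  have m3 := hmul huok m2 hmaps
  have m4 := hmul huok m3 hmaps
  have m5 := hmul huok m4 hmaps
  have m6 := hmul huok m5 hmaps
  have m7 := hmul huok m6 hmaps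
  have h8 := hmul huok m7 hmaps
  have hok8 : WordOK tabD4 (u ++ u ++ u ++ u ++ u ++ u ++ u ++ u) :=
    hok2 (hok2 (hok2 (hok2 (hok2 (hok2 (hok2 huok huok) huok) huok) huok) huok) huok) huok
  have hn8 : n ^ 8 ∈ chevD4.diagonalSubgroup L := by
    refine certD4.mem_diagonal_of_perm (pow_mem hn 8) fun i hi s hs hM => ?_
    obtain ⟨hp1, hp2, -, -⟩ := certD4.simple_spec hi
    have hsn : s < tabD4.n := by have := certD4.two_mul_half; omega
    have e : n ^ 8 = n * n * n * n * n * n * n * n := by simp only [pow_succ, pow_zero, one_mul]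
    rw [e] at hM
    have := certD4.Maps_unique hsn (certD4.rword_lt hok8 hp2) hM (h8 _ hp2)
    rw [hu8 i hi] at this
    omega
  have hpow : ∀ j : ℕ, n ^ j * (k * X' * k⁻¹) * (n ^ j)⁻¹ = (k * X' * k⁻¹) ^ 2 ^ j :=
    Lift.conj_pow_iter hnx
  have h9 := hpow 8
  rw [certD4.diagonal_comm hn8 hX2, mul_inv_cancel_right] at h9
  have hkx : orderOf (k * X' * k⁻¹) = 7 := by
    rw [show k * X' * k⁻¹ = (MulAut.conj k).toMonoidHom X' from rfl,
      orderOf_injective (MulAut.conj k).toMonoidHom (MulAut.conj k).injective, hXo]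
  have := pow_eq_pow_iff_modEq.1 ((pow_one (k * X' * k⁻¹)).trans h9)
  rw [hkx] at this
  exact absurd this (by decide)

/-- A8 is not a section. -/
theorem no_section [CharP F 5] {K : Type*} [Field K] [Fintype K] [hK5 : CharP K 5] {q : ℕ} (hq : IsPrimePow q)
    (hF : Fintype.card F = q) (hK : Fintype.card K = q ^ 3) (f : F →+* K) (hqodd : q % 2 = 1)
    {Hg : Type*} [Group Hg] (ι : Hg →* ↥(twistedD4 K q)) (hι : Function.Injective ι)
    (π : Hg →* ↥(alternatingGroup (Fin 8))) (hπ : Function.Surjective π) : False := by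
  classical
  haveI : Finite Hg := Finite.of_injective ι hι
  haveI := Fact.mk Nat.prime_two
  have hodd : Fintype.card F % 2 = 1 := hF ▸ hqodd
  have h2 : (2 : F) ≠ 0 := G2Rank.two_ne
  -- the subgroup of type G2
  have hle : (TrialityG2.tri F).fix.map (mapGL chevD4 f) ≤ twistedD4 K q := by
    rw [TrialityG2.fix_eq, Subgroup.map_le_iff_le_comap]
    refine certD4.genSubgroup_le ?_
    have hpow : ∀ t : F, f t ^ q = f t := fun t => by rw [← map_pow, ← hF, FiniteField.pow_card]
    rintro w (⟨t, -, r, hr, rfl⟩ | ⟨t, rs, hrs, rfl⟩)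
    · simp only [List.map_cons, List.map_nil, List.prod_cons, List.prod_nil, mul_one, Subgroup.mem_comap,
        certD4.X_map]
      have := certD4.prod_mem_genSubgroup (S := d4Words K q) (w := [(r, f t)])
        (Or.inl ⟨f t, hpow t, r, hr, rfl⟩)
      simp only [List.map_cons, List.map_nil, List.prod_cons, List.prod_nil, mul_one] at this
      exact this
    · rw [Subgroup.mem_comap, chevD4_prod_triple, map_mul, map_mul, certD4.X_map, certD4.X_map,
        certD4.X_map]
      have := certD4.prod_mem_genSubgroup (S := d4Words K q)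
        (w := [(rs.1, f t), (rs.2.1, f t ^ q), (rs.2.2, f t ^ q ^ 2)]) (Or.inr ⟨f t, rs, hrs, rfl⟩)
      rw [chevD4_prod_triple, pow_two, pow_mul] at this
      simp only [hpow, one_pow, pow_one] at this ⊢
      exact this
  let j : ↥(chevG2.group F) →* ↥(twistedD4 K q) :=
    ((mapGL chevD4 f).comp ((TrialityG2.tri F).fix.subtype.comp TrialityG2.fixEquiv.symm.toMonoidHom)).codRestrict
      _ fun v => hle ⟨_, (TrialityG2.fixEquiv.symm v).2, rfl⟩
  have hj : Function.Injective j := fun a b e => TrialityG2.fixEquiv.symm.injective (Subtype.val_injective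
    (mapGL_injective chevD4 f (congrArg Subtype.val e)))
  have hindex : ¬ 2 ∣ j.range.index := by
    obtain ⟨σ, hσ⟩ := exists_frob hq hK
    have hcard := card_twistD4 σ hσ hK hq
    rw [fix_eq_twistedD4 σ hσ hK hq] at hcard
    have h := Subgroup.card_mul_index j.range
    rw [← Nat.card_congr (MonoidHom.ofInjective hj).toEquiv, card_groupG2, hcard, hF] at h
    have h1 : j.range.index = q ^ 6 * (q ^ 8 + q ^ 4 + 1) := by
      refine Nat.eq_of_mul_eq_mul_left (n := q ^ 6 * (q ^ 2 - 1) * (q ^ 6 - 1)) ?_ ?_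
      · have := hq.two_le
        have e2 : 0 < q ^ 2 - 1 := Nat.sub_pos_of_lt (Nat.one_lt_pow two_ne_zero (by omega))
        have e6 : 0 < q ^ 6 - 1 := Nat.sub_pos_of_lt (Nat.one_lt_pow (by norm_num) (by omega))
        positivity
      · refine Eq.trans ?_ (h.trans ?_)
        · ring
        · ring
    rw [h1, Nat.two_dvd_ne_zero]
    simp [Nat.mul_mod, Nat.pow_mod, Nat.add_mod, hqodd]
  obtain ⟨S₀⟩ : Nonempty (Sylow 2 ↥(chevG2.group F)) := inferInstance
  set S := (S₀ : Subgroup ↥(chevG2.group F)).map j with hS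
  have hSr : S ≤ j.range := by rintro _ ⟨v, -, rfl⟩; exact ⟨v, rfl⟩
  have hconj : ∀ Y : Subgroup ↥(twistedD4 K q), IsPGroup 2 Y →
      ∃ g, ∀ v ∈ Y, g * v * g⁻¹ ∈ j.range := by
    intro Y hY
    obtain ⟨g, -, hg⟩ := CfsgLib.Transfer.exists_conj_le_of_not_dvd_relIndex (H := ⊤) (le_top : S ≤ ⊤)
      (S₀.isPGroup'.map j) (fun hd => by
        rw [Subgroup.relIndex_top_right, hS, Subgroup.index_map_of_injective _ hj,
          Nat.prime_two.dvd_mul] at hd
        rcases hd with hd | hd
        · exact Sylow.not_dvd_index S₀ hd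
        · exact hindex hd)
      (Y := Y) le_top hY
    exact ⟨g, fun v hv => hSr (hg ⟨v, hv, rfl⟩)⟩
  have h16 : ∀ A : Subgroup Hg, Nat.card A = 16 → (∀ g ∈ A, g * g = 1) → False := by
    intro A hA hexp
    obtain ⟨g, hg⟩ := hconj (A.map ι) (IsPGroup.of_card (n := 4) (by
      rw [Subgroup.card_map_of_injective hι, hA]; rfl))
    let c : ↥A →* ↥(chevG2.group F) :=
      (MonoidHom.ofInjective hj).symm.toMonoidHom.comp
        ((((MulAut.conj g).toMonoidHom.comp (ι.comp A.subtype))).codRestrict j.range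
          fun v => hg _ ⟨v, v.2, rfl⟩)
    have hc : Function.Injective c := (MonoidHom.ofInjective hj).symm.injective.comp fun a b e =>
      Subtype.val_injective (hι ((MulAut.conj g).injective (congrArg Subtype.val e)))
    refine G2Rank.not_card_sixteen hodd c.range (fun v hv => ?_) ?_
    · obtain ⟨a, rfl⟩ := hv
      rw [← map_mul, show a * a = 1 from Subtype.ext (hexp a a.2), map_one]
    · rw [← Nat.card_congr (MonoidHom.ofInjective hc).toEquiv, hA]
  obtain ⟨z, C, hz1, hzz, hC, hcomm⟩ := EightSection.exists_central π hπ h16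
  -- move the involution to the standard one
  have hzo : orderOf (ι z) = 2 := by
    rw [orderOf_injective ι hι]
    exact orderOf_eq_prime (by rw [pow_two]; exact hzz) hz1
  obtain ⟨g₁, hg₁⟩ := hconj (Subgroup.zpowers (ι z))
    (IsPGroup.of_card (n := 1) (by rw [Nat.card_zpowers, hzo, pow_one]))
  obtain ⟨v, hv⟩ := hg₁ _ (Subgroup.mem_zpowers _)
  obtain ⟨v₀, hv₀, hv₀e⟩ := exists_preimage (F := F) h2
  have hvo : orderOf v = 2 := by
    rw [← orderOf_injective j hj, hv, ← hzo]
    exact orderOf_injective (MulAut.conj g₁).toMonoidHom (MulAut.conj g₁).injective _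
  have hv₀o : orderOf (TrialityG2.fixEquiv v₀) = 2 := by
    rw [← hv₀]; exact MulEquiv.orderOf_eq _ _
  obtain ⟨c, hc⟩ := isConj_iff.1 ((G2Invol.conj_zI hodd h2 v hvo).trans
    (G2Invol.conj_zI hodd h2 _ hv₀o).symm)
  set g := j c * g₁ with hg
  have hgz : g * ι z * g⁻¹ = j (TrialityG2.fixEquiv v₀) := by
    rw [← hc, map_mul, map_mul, map_inv, hv, hg]; group
  have hzK : ((j (TrialityG2.fixEquiv v₀) : ↥(twistedD4 K q)) : GL chevD4.Idx K) = hU chevD4 14 (-1) := by
    show mapGL chevD4 f ((TrialityG2.fixEquiv.symm (TrialityG2.fixEquiv v₀) : ↥(TrialityG2.tri F).fix) :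
      GL chevD4.Idx F) = _
    rw [MulEquiv.symm_apply_apply, hv₀e]
    simp only [hU, nU, map_mul, certD4.X_map, map_neg, map_one, map_inv₀]
  obtain ⟨x, y, hxC, hyC, hox, hxy⟩ := EightSection.exists_seven π C hC
  obtain ⟨σ, hσ⟩ := exists_frob hq hK
  have hKG : twistedD4 K q ≤ chevD4.group K := by
    rw [← fix_eq_twistedD4 σ hσ hK hq]; exact (endoD4 σ).fix_le_group
  have hcm : ∀ u ∈ C, (g * ι u * g⁻¹) * j (TrialityG2.fixEquiv v₀) = j (TrialityG2.fixEquiv v₀) * (g * ι u * g⁻¹) := by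
    intro u hu
    rw [← hgz]
    have e : ι u * ι z = ι z * ι u := by rw [← map_mul, ← map_mul, hcomm u hu]
    calc g * ι u * g⁻¹ * (g * ι z * g⁻¹) = g * (ι u * ι z) * g⁻¹ := by group
      _ = g * ι z * g⁻¹ * (g * ι u * g⁻¹) := by rw [e]; group
  refine not_fused_seven (F := K) G2Rank.two_ne ?_ (x := (g * ι x * g⁻¹ : ↥(twistedD4 K q)).1)
    (y := (g * ι y * g⁻¹ : ↥(twistedD4 K q)).1) (hKG (g * ι x * g⁻¹).2) (hKG (g * ι y * g⁻¹).2) ?_ ?_ ?_ ?_
  · intro h7
    obtain ⟨p, n, hp, -, e⟩ := hq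
    have hp' := Nat.prime_iff.2 hp
    have hp5 : p = 5 := by
      haveI := Fact.mk hp'
      haveI : CharP K p := charP_of_card_eq_prime_pow (f := n * 3) (by rw [hK, ← e, pow_mul])
      exact CharP.eq K ‹CharP K p› hK5
    have h75 := (show Nat.Prime 7 by norm_num).dvd_of_dvd_pow (hK ▸ h7)
    rw [← e, hp5] at h75
    exact absurd ((show Nat.Prime 7 by norm_num).dvd_of_dvd_pow h75) (by norm_num)
  · rw [Subgroup.orderOf_coe, show g * ι x * g⁻¹ = (MulAut.conj g).toMonoidHom (ι x) from rfl,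
      orderOf_injective (MulAut.conj g).toMonoidHom (MulAut.conj g).injective, orderOf_injective ι hι, hox]
  · rw [← Subgroup.coe_inv, ← Subgroup.coe_mul, ← Subgroup.coe_mul, ← SubgroupClass.coe_pow]
    refine congrArg Subtype.val ?_
    rw [conj_pow, ← map_pow, ← hxy, map_mul, map_mul, map_inv]; group
  · rw [← hzK, ← Subgroup.coe_mul, ← Subgroup.coe_mul, hcm x hxC]
  · rw [← hzK, ← Subgroup.coe_mul, ← Subgroup.coe_mul, hcm y hyC]

end CfsgLib.Classical.AltSection.TriEight
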