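import Cfsg.Agent.Lib.Classical.AltSection.Reduce

/-!
Tools for the representations of degree at most twenty-seven of perfect central extensions of the
alternating group on twelve points: joint eigenspaces, fixed subsets, and three involutions permuted by
an element of order three.
-/

set_option autoImplicit false
set_option linter.unusedSectionVars false

namespace CfsgLib.Classical.AltSection.Twelve

open Equiv Finset Module

/-! ### Sets of three-cycles -/

/-- A subgroup containing the even permutations of two overlapping sets contains those of the union. -/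
theorem in_union {r : ℕ} {S : Subgroup (alternatingGroup (Fin r))} {T T' : Finset (Fin r)}
    (hT : ∀ g, In T g → g ∈ S) (hT' : ∀ g, In T' g → g ∈ S) (h5 : 5 ≤ T.card)
    (h2 : 2 ≤ (T ∩ T').card) : ∀ g, In (T ∪ T') g → g ∈ S := by
  classical
  obtain ⟨c, hc, d, hd, hcd⟩ := one_lt_card.1 h2
  obtain ⟨hcT, hcT'⟩ := mem_inter.1 hc
  obtain ⟨hdT, hdT'⟩ := mem_inter.1 hd
  -- one further point
  have hone : ∀ i ∈ T', i ∉ T → ∀ a ∈ T, ∀ b ∈ T, a ≠ b → c3 i a b ∈ S := by
    intro i hi hiT a ha b hb hab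
    have hic : i ≠ c := fun e => hiT (e ▸ hcT)
    have hid : i ≠ d := fun e => hiT (e ▸ hdT)
    obtain ⟨h, hh, e1, e2⟩ : ∃ h, In T h ∧ (h : Perm (Fin r)) c = a ∧ (h : Perm (Fin r)) d = b := by
      obtain ⟨h₁, hh₁, e₁⟩ : ∃ h₁, In T h₁ ∧ (h₁ : Perm (Fin r)) c = a := by
        by_cases hca : c = a
        · exact ⟨1, fun j _ => rfl, hca⟩
        obtain ⟨w, hw⟩ : ((T.erase c).erase a).Nonempty := card_pos.1 (by
          have := pred_card_le_card_erase (s := T.erase c) (a := a)
          have := pred_card_le_card_erase (s := T) (a := c)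
          omega)
        simp only [mem_erase] at hw
        exact ⟨c3 c a w, in_c3 hcT ha hw.2.2,
          c3_apply_left hca hw.1.symm hw.2.1.symm⟩
      set d' := (h₁ : Perm (Fin r)) d with hd'
      have hd'T : d' ∈ T := by
        by_contra hn
        exact hn (((h₁ : Perm (Fin r)).injective (hh₁ d' hn)).symm ▸ hdT)
      by_cases hdb : d' = b
      · exact ⟨h₁, hh₁, e₁, hdb⟩
      have had' : a ≠ d' := fun e => hcd ((h₁ : Perm (Fin r)).injective (e₁.trans e))
      obtain ⟨w, hw⟩ : (((T.erase d').erase b).erase a).Nonempty := card_pos.1 (by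
        have := pred_card_le_card_erase (s := (T.erase d').erase b) (a := a)
        have := pred_card_le_card_erase (s := T.erase d') (a := b)
        have := pred_card_le_card_erase (s := T) (a := d')
        omega)
      simp only [mem_erase] at hw
      refine ⟨c3 d' b w * h₁, (in_c3 hd'T hb hw.2.2.2).mul hh₁, ?_, ?_⟩
      · rw [Subgroup.coe_mul, Perm.mul_apply, e₁, c3_apply_other had' hab hw.1.symm]
      · rw [Subgroup.coe_mul, Perm.mul_apply]
        exact c3_apply_left hdb hw.2.1.symm hw.2.2.1.symm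
    have hii : (h : Perm (Fin r)) i = i := hh i hiT
    have key := c3_conj h hic hcd (b := c) (c := d)
    rw [hii, e1, e2] at key
    rw [← key]
    exact mul_mem (mul_mem (hT h hh) (hT' _ (in_c3 hi hcT' hdT'))) (inv_mem (hT h hh))
  have hins : ∀ i ∈ T', ∀ g, In (insert i T) g → g ∈ S := by
    intro i hi
    by_cases hiT : i ∈ T
    · rw [insert_eq_of_mem hiT]; exact hT
    intro g hg
    refine (Subgroup.closure_le _).2 ?_ (mem_closure_c3 _ g hg)
    rintro _ ⟨x, hx, y, hy, z, hz, hxy, hyz, hxz, rfl⟩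
    rw [mem_insert] at hx hy hz
    rcases hx with rfl | hx
    · exact hone _ hi hiT y (hy.resolve_left hxy.symm) z (hz.resolve_left hxz.symm) hyz
    rcases hy with rfl | hy
    · rw [c3_rot hxy hyz hxz]
      exact hone _ hi hiT z (hz.resolve_left hyz.symm) x hx hxz.symm
    rcases hz with rfl | hz
    · rw [c3_rot hxy hyz hxz, c3_rot hyz hxz.symm hxy.symm]
      exact hone _ hi hiT x hx y hy hxy
    exact hT _ (in_c3 hx hy hz)
  have main : ∀ U : Finset (Fin r), U ⊆ T' → ∀ g, In (T ∪ U) g → g ∈ S := by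
    intro U
    induction U using Finset.induction_on with
    | empty => intro _ g hg; rw [union_empty] at hg; exact hT g hg
    | @insert i U hiU ih =>
      intro hsub g hg
      have hU := ih (fun j hj => hsub (mem_insert_of_mem hj))
      refine (Subgroup.closure_le _).2 ?_ (mem_closure_c3 _ g hg)
      rintro _ ⟨x, hx, y, hy, z, hz, hxy, hyz, hxz, rfl⟩
      rw [union_insert, mem_insert] at hx hy hz
      have hstep : ∀ y z, y ∈ T ∪ U → z ∈ T ∪ U → y ≠ z → i ≠ y → i ≠ z → c3 i y z ∈ S := by
        intro y z hy hz hyz hiy hiz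
        obtain ⟨a, ha, b, hb, hab, hia, hib⟩ : ∃ a ∈ T, ∃ b ∈ T, a ≠ b ∧ a ≠ i ∧ b ≠ i := by
          obtain ⟨a, ha, b, hb, hab⟩ := one_lt_card.1 (show 1 < (T.erase i).card by
            have := pred_card_le_card_erase (s := T) (a := i); omega)
          exact ⟨a, mem_of_mem_erase ha, b, mem_of_mem_erase hb, hab, ne_of_mem_erase ha, ne_of_mem_erase hb⟩
        by_cases hiTU : i ∈ T ∪ U
        · exact hU _ (in_c3 hiTU hy hz)
        obtain ⟨h, hh, e1, e2⟩ : ∃ h, In (T ∪ U) h ∧ (h : Perm (Fin r)) a = y ∧ (h : Perm (Fin r)) b = z := by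
          have hcard : 5 ≤ (T ∪ U).card := h5.trans (card_le_card subset_union_left)
          obtain ⟨h₁, hh₁, e₁⟩ : ∃ h₁, In (T ∪ U) h₁ ∧ (h₁ : Perm (Fin r)) a = y := by
            by_cases hay : a = y
            · exact ⟨1, fun j _ => rfl, hay⟩
            obtain ⟨w, hw⟩ : (((T ∪ U).erase a).erase y).Nonempty := card_pos.1 (by
              have := pred_card_le_card_erase (s := (T ∪ U).erase a) (a := y)
              have := pred_card_le_card_erase (s := T ∪ U) (a := a)
              omega)
            simp only [mem_erase] at hw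
            exact ⟨c3 a y w, in_c3 (mem_union_left _ ha) hy hw.2.2,
              c3_apply_left hay hw.1.symm hw.2.1.symm⟩
          set b' := (h₁ : Perm (Fin r)) b with hb'
          have hb'T : b' ∈ T ∪ U := by
            by_contra hn
            exact hn (((h₁ : Perm (Fin r)).injective (hh₁ b' hn)).symm ▸ mem_union_left _ hb)
          by_cases hbz : b' = z
          · exact ⟨h₁, hh₁, e₁, hbz⟩
          have hyb' : y ≠ b' := fun e => hab ((h₁ : Perm (Fin r)).injective (e₁.trans e))
          obtain ⟨w, hw⟩ : ((((T ∪ U).erase b').erase z).erase y).Nonempty := card_pos.1 (by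
            have := pred_card_le_card_erase (s := ((T ∪ U).erase b').erase z) (a := y)
            have := pred_card_le_card_erase (s := (T ∪ U).erase b') (a := z)
            have := pred_card_le_card_erase (s := T ∪ U) (a := b')
            omega)
          simp only [mem_erase] at hw
          refine ⟨c3 b' z w * h₁, (in_c3 hb'T hz hw.2.2.2).mul hh₁, ?_, ?_⟩
          · rw [Subgroup.coe_mul, Perm.mul_apply, e₁, c3_apply_other hyb' hyz hw.1.symm]
          · rw [Subgroup.coe_mul, Perm.mul_apply]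
            exact c3_apply_left hbz hw.2.1.symm hw.2.2.1.symm
        have key := c3_conj h (Ne.symm hia) hab (a := i)
        rw [hh i hiTU, e1, e2] at key
        rw [← key]
        refine mul_mem (mul_mem (hU h hh) (hins i (hsub (mem_insert_self i U)) _
          (in_c3 (mem_insert_self i T) (mem_insert_of_mem ha) (mem_insert_of_mem hb)))) (inv_mem (hU h hh))
      rcases hx with rfl | hx
      · exact hstep y z (hy.resolve_left hxy.symm) (hz.resolve_left hxz.symm) hyz hxy hxz
      rcases hy with rfl | hy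
      · rw [c3_rot hxy hyz hxz]
        exact hstep z x (hz.resolve_left hyz.symm) hx hxz.symm hyz hxy.symm
      rcases hz with rfl | hz
      · rw [c3_rot hxy hyz hxz, c3_rot hyz hxz.symm hxy.symm]
        exact hstep x y hx hy hxy hxz.symm hyz.symm
      exact hU _ (in_c3 hx hy hz)
  exact main T' subset_rfl

/-! ### Involutions permuted by an element of order three -/

variable {k : Type*} [Field k] {V : Type*} [AddCommGroup V] [Module k V] [FiniteDimensional k V]

/-- Two commuting involutions and an element of order three permuting them with their product. -/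
structure Kfour (x T₁ T₂ : Module.End k V) : Prop where
  cube : x * x * x = 1
  sq₁ : T₁ * T₁ = 1
  sq₂ : T₂ * T₂ = 1
  comm : T₁ * T₂ = T₂ * T₁
  move₁ : x * T₁ = T₂ * x
  move₂ : x * T₂ = T₁ * T₂ * x

/-- The space fixed by the first and inverted by the second. -/
def K1 (T₁ T₂ : Module.End k V) : Submodule k V :=
  LinearMap.ker (T₁ - 1) ⊓ LinearMap.ker (T₂ + 1)

theorem mem_K1 {T₁ T₂ : Module.End k V} {v : V} : v ∈ K1 T₁ T₂ ↔ T₁ v = v ∧ T₂ v = -v := by
  simp only [K1, Submodule.mem_inf, LinearMap.mem_ker, LinearMap.sub_apply, LinearMap.add_apply,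
    Module.End.one_apply, sub_eq_zero, add_eq_zero_iff_eq_neg]

variable {x T₁ T₂ : Module.End k V}

theorem Kfour.x_ker (K : Kfour x T₁ T₂) {v : V} (hv : v ∈ K1 T₁ T₂) :
    T₁ (x v) = -(x v) ∧ T₂ (x v) = x v ∧ T₁ (x (x v)) = -(x (x v)) ∧ T₂ (x (x v)) = -(x (x v)) := by
  obtain ⟨h1, h2⟩ := mem_K1.1 hv
  have e1 : ∀ w, x (T₁ w) = T₂ (x w) := fun w => LinearMap.congr_fun K.move₁ w
  have e2 : ∀ w, x (T₂ w) = T₁ (T₂ (x w)) := fun w => LinearMap.congr_fun K.move₂ w
  have a2 : T₂ (x v) = x v := by rw [← e1, h1]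
  have a1 : T₁ (x v) = -(x v) := by
    have := e2 v
    rw [h2, map_neg, a2] at this
    exact this.symm
  have b2 : T₂ (x (x v)) = -(x (x v)) := by rw [← e1, a1, map_neg]
  have b1 : T₁ (x (x v)) = -(x (x v)) := by
    have := e2 (x v)
    rw [a2, b2, map_neg] at this
    exact (neg_eq_iff_eq_neg.1 this.symm)
  exact ⟨a1, a2, b1, b2⟩

theorem Kfour.x_inj (K : Kfour x T₁ T₂) : Function.Injective x :=
  Function.LeftInverse.injective (g := x * x) fun v => LinearMap.congr_fun K.cube v

theorem two_smul_eq_zero' (h2 : (2 : k) ≠ 0) {v : V} (h : v = -v) : v = 0 := by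
  have : (2 : k) • v = 0 := by rw [two_smul]; nth_rewrite 1 [h]; exact neg_add_cancel v
  exact (smul_eq_zero.1 this).resolve_left h2

/-- The moved space of an involution is twice the first space. -/
theorem Kfour.finrank_range (K : Kfour x T₁ T₂) (h2 : (2 : k) ≠ 0) :
    Module.finrank k (LinearMap.range (T₁ - 1)) = 2 * Module.finrank k (K1 T₁ T₂) := by
  set A := (K1 T₁ T₂).map x
  set B := A.map x
  have hA : Module.finrank k A = Module.finrank k (K1 T₁ T₂) :=
    (Submodule.equivMapOfInjective _ K.x_inj _).finrank_eq.symm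
  have hB : Module.finrank k B = Module.finrank k (K1 T₁ T₂) :=
    (Submodule.equivMapOfInjective _ K.x_inj _).finrank_eq.symm.trans hA
  have hAd : ∀ w ∈ A, T₁ w = -w ∧ T₂ w = w := by
    rintro _ ⟨v, hv, rfl⟩; exact ⟨(K.x_ker hv).1, (K.x_ker hv).2.1⟩
  have hBd : ∀ w ∈ B, T₁ w = -w ∧ T₂ w = -w := by
    rintro _ ⟨_, ⟨v, hv, rfl⟩, rfl⟩; exact ⟨(K.x_ker hv).2.2.1, (K.x_ker hv).2.2.2⟩
  have hAB : A ⊓ B = ⊥ := (Submodule.eq_bot_iff _).2 fun w hw =>
    two_smul_eq_zero' h2 ((hAd w hw.1).2.symm.trans (hBd w hw.2).2)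
  have hle : A ⊔ B ≤ LinearMap.range (T₁ - 1) := by
    have : ∀ w, T₁ w = -w → w ∈ LinearMap.range (T₁ - 1) := fun w hw => ⟨(-(2 : k)⁻¹) • w, by
      rw [map_smul, LinearMap.sub_apply, Module.End.one_apply, hw, ← neg_one_smul k w,
        show (-1 : k) • w - w = (-2 : k) • w by module, smul_smul]
      field_simp
      simp⟩
    exact sup_le (fun w hw => this w (hAd w hw).1) fun w hw => this w (hBd w hw).1
  have hge : LinearMap.range (T₁ - 1) ≤ A ⊔ B := by
    rintro _ ⟨v, rfl⟩
    set u := (T₁ - 1) v with hu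
    have hu1 : T₁ u = -u := by
      rw [hu, LinearMap.sub_apply, Module.End.one_apply, map_sub,
        show T₁ (T₁ v) = v from LinearMap.congr_fun K.sq₁ v, neg_sub]
    have hT22 : T₂ (T₂ u) = u := LinearMap.congr_fun K.sq₂ u
    have hT12 : T₁ (T₂ u) = -(T₂ u) := by
      rw [show T₁ (T₂ u) = T₂ (T₁ u) from LinearMap.congr_fun K.comm u, hu1, map_neg]
    have e1 : ∀ w, x (T₁ w) = T₂ (x w) := fun w => LinearMap.congr_fun K.move₁ w
    have e2 : ∀ w, x (T₂ w) = T₁ (T₂ (x w)) := fun w => LinearMap.congr_fun K.move₂ w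
    have hx3 : ∀ w, x (x (x w)) = w := fun w => LinearMap.congr_fun K.cube w
    have inA : ∀ w, T₁ w = -w → T₂ w = w → w ∈ A := fun w h1 h2' => by
      refine ⟨x (x w), mem_K1.2 ⟨?_, ?_⟩, hx3 w⟩
      · refine K.x_inj ?_
        rw [e1, hx3, h2']
      · refine K.x_inj ?_
        rw [e2, hx3, h2', h1, map_neg, hx3]
    have inB : ∀ w, T₁ w = -w → T₂ w = -w → w ∈ B := fun w h1 h2' => by
      refine ⟨x (x w), inA _ ?_ ?_, hx3 w⟩
      · refine K.x_inj ?_
        rw [map_neg, e1, hx3, h2']
      · refine K.x_inj ?_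
        rw [e2, hx3, h2', map_neg, h1, neg_neg]
    rw [show u = (2 : k)⁻¹ • (u + T₂ u) + (2 : k)⁻¹ • (u - T₂ u) by
      match_scalars <;> field_simp <;> ring]
    refine Submodule.add_mem_sup (Submodule.smul_mem _ _ (inA _ ?_ ?_))
      (Submodule.smul_mem _ _ (inB _ ?_ ?_))
    · rw [map_add, hu1, hT12, neg_add]
    · rw [map_add, hT22, add_comm]
    · rw [map_sub, hu1, hT12]; abel
    · rw [map_sub, hT22]; abel
  rw [le_antisymm hge hle]
  have := Submodule.finrank_sup_add_finrank_inf_eq A B
  rw [hAB, finrank_bot, add_zero, hA, hB] at this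
  omega

/-- Eigenvectors of the element of order three without fixed part inject into the first space. -/
theorem Kfour.le_K1 (K : Kfour x T₁ T₂) (h2 : (2 : k) ≠ 0) (ζ : k) (E : Submodule k V)
    (hE : ∀ v ∈ E, x v = ζ • v) (h0 : ∀ v ∈ E, T₁ v = v → T₂ v = v → v = 0) :
    Module.finrank k E ≤ Module.finrank k (K1 T₁ T₂) := by
  let P : Module.End k V := (1 + T₁) * (1 - T₂)
  have hP : ∀ v, P v ∈ K1 T₁ T₂ := fun v => by
    rw [mem_K1]
    have c : ∀ w, T₁ (T₂ w) = T₂ (T₁ w) := fun w => LinearMap.congr_fun K.comm w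
    have s1 : ∀ w, T₁ (T₁ w) = w := fun w => LinearMap.congr_fun K.sq₁ w
    have s2 : ∀ w, T₂ (T₂ w) = w := fun w => LinearMap.congr_fun K.sq₂ w
    simp only [P, Module.End.mul_apply, LinearMap.add_apply, LinearMap.sub_apply, Module.End.one_apply,
      map_add, map_sub, s1, s2, ← c]
    constructor <;> abel
  refine LinearMap.finrank_le_finrank_of_injective
    (f := (P.comp E.subtype).codRestrict (K1 T₁ T₂) fun v => hP _) ?_
  rw [injective_iff_map_eq_zero]
  rintro ⟨v, hv⟩ hPv
  refine Subtype.ext (h0 v hv ?_ ?_)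
  all_goals
    have hp : v + T₁ v - (T₂ v + T₁ (T₂ v)) = 0 := by
      have h : P v = 0 := congrArg Subtype.val hPv
      simp only [P, Module.End.mul_apply, LinearMap.add_apply, LinearMap.sub_apply,
        Module.End.one_apply, map_sub] at h
      linear_combination (norm := module) h
    have e1 : ∀ w, x (T₁ w) = T₂ (x w) := fun w => LinearMap.congr_fun K.move₁ w
    have e2 : ∀ w, x (T₂ w) = T₁ (T₂ (x w)) := fun w => LinearMap.congr_fun K.move₂ w
    have s1 : ∀ w, T₁ (T₁ w) = w := fun w => LinearMap.congr_fun K.sq₁ w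
    have s2 : ∀ w, T₂ (T₂ w) = w := fun w => LinearMap.congr_fun K.sq₂ w
    have c : ∀ w, T₁ (T₂ w) = T₂ (T₁ w) := fun w => LinearMap.congr_fun K.comm w
    have hζ : ζ ≠ 0 ∨ v = 0 := by
      by_cases hz : ζ = 0
      · exact Or.inr (K.x_inj (by rw [hE v hv, hz, zero_smul, map_zero]))
      · exact Or.inl hz
    rcases hζ with hz | rfl
    swap
    · simp
    have step : ∀ p : V, x p = 0 → p = 0 := fun p hp => K.x_inj (by rw [hp, map_zero])
    have hq : v + T₂ v - (T₁ (T₂ v) + T₁ v) = 0 := by
      have := congrArg x hp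
      simp only [map_zero, map_sub, map_add, e1, e2, hE v hv, map_smul, ← c, s2] at this
      refine (smul_eq_zero.1 (show ζ • _ = (0 : V) from ?_)).resolve_left hz
      linear_combination (norm := module) this
    have hr : v + T₁ (T₂ v) - (T₁ v + T₂ v) = 0 := by
      have := congrArg x hq
      simp only [map_zero, map_sub, map_add, e1, e2, hE v hv, map_smul, ← c, s2] at this
      refine (smul_eq_zero.1 (show ζ • _ = (0 : V) from ?_)).resolve_left hz
      linear_combination (norm := module) this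
  · have h4 : (2 : k) • (v - T₁ v) = 0 := by
      rw [two_smul, ← add_zero (v - T₁ v + (v - T₁ v))]
      have h := congrArg₂ (· + ·) hq hr
      simp only [add_zero] at h ⊢
      rw [← h]; abel
    exact (sub_eq_zero.1 ((smul_eq_zero.1 h4).resolve_left h2)).symm
  · have h4 : (2 : k) • (v - T₂ v) = 0 := by
      rw [two_smul]
      have h := congrArg₂ (· + ·) hp hr
      simp only [add_zero] at h
      rw [← h]; abel
    exact (sub_eq_zero.1 ((smul_eq_zero.1 h4).resolve_left h2)).symm

/-- The sum over the powers injects the first space into the fixed space. -/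
theorem Kfour.exists_fixed (K : Kfour x T₁ T₂) (h2 : (2 : k) ≠ 0) :
    ∃ W : Submodule k V, W ≤ LinearMap.ker (x - 1) ∧
      W ≤ K1 T₁ T₂ ⊔ (K1 T₁ T₂).map x ⊔ (K1 T₁ T₂).map (x * x) ∧
      Module.finrank k W = Module.finrank k (K1 T₁ T₂) ∧
      ∀ v ∈ W, T₁ v = v → T₂ v = v → v = 0 := by
  let S : Module.End k V := 1 + x + x * x
  have hSv : ∀ v, S v = v + x v + x (x v) := fun v => rfl
  have htri : ∀ v ∈ K1 T₁ T₂, T₁ (S v) = v - x v - x (x v) ∧ T₂ (S v) = -v + x v - x (x v) := by
    intro v hv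
    obtain ⟨h1, h2'⟩ := mem_K1.1 hv
    obtain ⟨a1, a2, b1, b2⟩ := K.x_ker hv
    rw [hSv]
    simp only [map_add, h1, h2', a1, a2, b1, b2]
    constructor <;> abel
  have hzero : ∀ v ∈ K1 T₁ T₂, T₁ (S v) = S v → T₂ (S v) = S v → v = 0 := by
    intro v hv e1 e2
    obtain ⟨f1, f2⟩ := htri v hv
    have g1 : (2 : k) • (x v + x (x v)) = 0 := by
      rw [two_smul, ← sub_self (S v)]
      nth_rewrite 2 [← e1]
      rw [f1, hSv]; abel
    have g2 : (2 : k) • (v + x (x v)) = 0 := by
      rw [two_smul, ← sub_self (S v)]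
      nth_rewrite 2 [← e2]
      rw [f2, hSv]; abel
    have g3 := congrArg (fun w => T₂ w) ((smul_eq_zero.1 g1).resolve_left h2)
    obtain ⟨-, a2, -, b2⟩ := K.x_ker hv
    simp only [map_add, map_zero, a2, b2] at g3
    have g4 : (2 : k) • x v = 0 := by
      linear_combination (norm := module) (smul_eq_zero.1 g1).resolve_left h2 + g3
    exact K.x_inj (((smul_eq_zero.1 g4).resolve_left h2).trans (map_zero x).symm)
  refine ⟨(K1 T₁ T₂).map S, ?_, ?_, ?_, ?_⟩
  · rintro _ ⟨v, -, rfl⟩
    rw [LinearMap.mem_ker, LinearMap.sub_apply, Module.End.one_apply, hSv]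
    simp only [map_add, show x (x (x v)) = v from LinearMap.congr_fun K.cube v]
    abel
  · rintro _ ⟨v, hv, rfl⟩
    rw [hSv]
    exact Submodule.add_mem_sup (Submodule.add_mem_sup hv ⟨v, hv, rfl⟩) ⟨v, hv, rfl⟩
  · have hinj : Function.Injective (S.comp (K1 T₁ T₂).subtype) := by
      rw [injective_iff_map_eq_zero]
      rintro ⟨v, hv⟩ hSv0
      have h0 : S v = 0 := hSv0
      exact Subtype.ext (hzero v hv (by rw [h0, map_zero]) (by rw [h0, map_zero]))
    have h := LinearMap.finrank_range_of_inj hinj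
    rwa [LinearMap.range_comp, Submodule.range_subtype] at h
  · rintro _ ⟨v, hv, rfl⟩ e1 e2
    rw [hzero v hv e1 e2, map_zero]

end CfsgLib.Classical.AltSection.Twelve
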