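import Cfsg.Agent.Lib.Classical.AltSection.TwelveTools

/-!
An abelian normal subgroup which is not central gives twelve blocks of dimension at most two, and an
element of prime order moves only the blocks that it permutes.
-/

set_option autoImplicit false
set_option linter.unusedSectionVars false
set_option maxRecDepth 100000
set_option maxHeartbeats 1000000

namespace CfsgLib.Classical.AltSection.Twelve

open Equiv Finset Module

/-- The bound for the multiplicity by the degree. -/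
def bd (n : ℕ) : ℕ := if n < 11 then 0 else if n < 17 then 1 else 2

/-- Subgroups of small index are point stabilisers. -/
def Natural : Prop :=
  ∀ S : Subgroup (alternatingGroup (Fin 12)), S ≠ ⊤ → S.index ≤ 27 →
    ∃ t : Fin 12, ∀ g, g ∈ S ↔ (g : Perm (Fin 12)) t = t

variable {H : Type} [Group H] [Finite H] {π : H →* alternatingGroup (Fin 12)}
variable {k : Type} [Field k] [IsAlgClosed k] {V : Type} [AddCommGroup V] [Module k V]
  [FiniteDimensional k V] {ρ : H →* Module.End k V}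

theorem finrank_sup_eq {W : Fin 12 → Submodule k V} (hind : univ.SupIndep W) {m : ℕ}
    (hm : ∀ s, Module.finrank k (W s) = m) (T : Finset (Fin 12)) :
    Module.finrank k ↥(T.sup W) = T.card * m := by
  induction T using Finset.induction_on with
  | empty => simp
  | insert a T ha ih =>
    have hd : Disjoint (W a) (T.sup W) := hind (subset_univ T) (mem_univ a) ha
    have h := Submodule.finrank_sup_add_finrank_inf_eq (W a) (T.sup W)
    rw [disjoint_iff.1 hd, finrank_bot, add_zero, hm, ih] at h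
    rw [Finset.sup_insert, h, card_insert_of_notMem ha, add_mul, one_mul, add_comm]

/-- Blocks permuted as the twelve points. -/
theorem blocks_bound (hπ : Function.Surjective π) (hn : Module.finrank k V ≤ 27)
    (W : Fin 12 → Submodule k V) (hind : univ.SupIndep W) (htop : univ.sup W = ⊤) (hne : W 0 ≠ ⊥)
    (hmap : ∀ γ s, ∀ w ∈ W s, ρ γ w ∈ W (pm π γ s)) {ℓ : ℕ} (hℓ : ℓ.Prime)
    (hK : ¬ ℓ ∣ Nat.card π.ker) {x : H} (hx : x ^ ℓ = 1) {T : Finset (Fin 12)} (hT : T.card ≤ ℓ)
    (hg : In T (π x)) :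
    Module.finrank k (moved ρ x) ≤ ℓ * bd (Module.finrank k V) := by
  classical
  set m := Module.finrank k (W 0) with hm0
  have hmono : ∀ γ s, Module.finrank k (W s) ≤ Module.finrank k (W (pm π γ s)) := fun γ s => by
    rw [(Submodule.equivMapOfInjective (ρ γ) (rho_injective γ) (W s)).finrank_eq]
    exact Submodule.finrank_mono (Submodule.map_le_iff_le_comap.2 fun w hw => hmap γ s w hw)
  have hto : ∀ s t : Fin 12, ∃ γ : H, pm π γ s = t := fun s t => by
    obtain ⟨g, hg⟩ := exists_conj (r := 12) (α := Fin 1) ⟨fun _ => s, fun _ _ _ => Subsingleton.elim _ _⟩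
      ⟨fun _ => t, fun _ _ _ => Subsingleton.elim _ _⟩ (by simp)
    obtain ⟨γ, rfl⟩ := hπ g
    exact ⟨γ, hg 0⟩
  have hm : ∀ s, Module.finrank k (W s) = m := fun s => by
    obtain ⟨γ, hγ⟩ := hto 0 s
    obtain ⟨δ, hδ⟩ := hto s 0
    have h1 := hmono γ 0
    have h2 := hmono δ s
    rw [hγ] at h1
    rw [hδ] at h2
    omega
  have htot := finrank_sup_eq hind hm univ
  rw [htop, finrank_top, card_univ, Fintype.card_fin] at htot
  have hm1 : 1 ≤ m := Nat.one_le_iff_ne_zero.2 fun e => hne (Submodule.finrank_eq_zero.1 e)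
  have hm2 : m ≤ 2 := by omega
  have hbd : bd (Module.finrank k V) = m := by
    rw [htot]; interval_cases m <;> rfl
  -- fixed blocks are fixed pointwise
  have hfix : ∀ s, s ∉ T → ∀ w ∈ W s, ρ x w = w := by
    intro s hs
    obtain ⟨f, hf, hfT, hfr⟩ := exists_alt_embedding (univ.erase s) (q := 11) (by simp)
    let P : Subgroup H := f.range.comap π
    have hPs : ∀ γ ∈ P, pm π γ s = s := fun γ ⟨h, e⟩ => by
      show (π γ : Perm (Fin 12)) s = s
      rw [← e]
      exact hfT h s (by simp)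
    let π' : P →* alternatingGroup (Fin 11) :=
      (MonoidHom.ofInjective hf).symm.toMonoidHom.comp ((π.comp P.subtype).codRestrict f.range fun γ => γ.2)
    have hπ' : Function.Surjective π' := fun a => by
      obtain ⟨γ, hγ⟩ := hπ (f a)
      refine ⟨⟨γ, a, hγ.symm⟩, ?_⟩
      apply (MonoidHom.ofInjective hf).injective
      rw [MonoidHom.comp_apply, MulEquiv.coe_toMonoidHom, MulEquiv.apply_symm_apply]
      exact Subtype.ext hγ
    have hinv : ∀ γ ∈ P, ∀ w ∈ W s, ρ γ w ∈ W s := fun γ hγ w hw => by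
      have := hmap γ s w hw
      rwa [hPs γ hγ] at this
    let ρ' : P →* Module.End k (W s) :=
      { toFun := fun γ => (ρ γ.1).restrict (hinv γ.1 γ.2)
        map_one' := by ext u; simp
        map_mul' := fun γ δ => by ext u; simp [rho_mul_apply] }
    have hnk : ¬ ρ'.ker ≤ π'.ker := fun hle =>
      noSection (r := 11) (by norm_num) _ k (W s) P π' ρ' hπ' hle rfl
        ⟨by rw [hm]; omega, fun _ => by rw [hm]; omega⟩
    haveI : IsSimpleGroup (alternatingGroup (Fin 11)) := (alt_facts (r := 11) (by norm_num)).1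
    have htop' : ρ'.ker.map π' = ⊤ :=
      ((MonoidHom.normal_ker ρ').map π' hπ').eq_bot_or_eq_top.resolve_left fun e =>
        hnk ((Subgroup.map_eq_bot_iff _).1 e)
    obtain ⟨a, ha⟩ := hfr (π x) fun i hi => hg i fun hiT => by
      simp only [mem_erase, mem_univ, and_true, ne_eq, not_not] at hi
      exact hs (hi ▸ hiT)
    obtain ⟨n₁, hn₁, e₁⟩ : a ∈ ρ'.ker.map π' := htop' ▸ Subgroup.mem_top a
    have hn₁π : π n₁.1 = π x := by
      rw [← ha, ← e₁]
      show _ = ((MonoidHom.ofInjective hf) ((MonoidHom.ofInjective hf).symm _)).1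
      rw [MulEquiv.apply_symm_apply]
      rfl
    have hn₁w : ∀ w ∈ W s, ρ n₁.1 w = w := fun w hw =>
      congrArg Subtype.val (LinearMap.congr_fun (MonoidHom.mem_ker.1 hn₁) ⟨w, hw⟩)
    have hgℓ : π x ^ ℓ = 1 := by rw [← map_pow, hx, map_one]
    obtain ⟨j, hjπ, hjℓ⟩ := exists_lift_power (π := π) hℓ hK (x := n₁.1) (by rw [hn₁π]; exact hgℓ)
    obtain ⟨h, hhπ, hh⟩ := conj_lift hℓ hK hx hjℓ (hjπ.trans hn₁π)
    have hhP : h ∈ P := Subgroup.zpowers_le.2 (show π x ∈ f.range from ⟨a, ha⟩) hhπ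
    intro w hw
    rw [← hh, rho_mul_apply, rho_mul_apply,
      mem_fixd_pow (hn₁w _ (hinv _ (inv_mem hhP) w hw)) j, rho_inv_apply']
  -- the moved space lies over the permuted blocks
  have hmem : ∀ t ∈ T, pm π x t ∈ T := fun t ht => by
    by_contra hn
    exact hn (((π x : Perm (Fin 12)).injective (hg _ hn)).symm ▸ ht)
  have hle : moved ρ x ≤ T.sup W := by
    rw [moved, LinearMap.range_eq_map, ← htop, Finset.sup_eq_iSup, Submodule.map_iSup]
    refine iSup_le fun s => ?_
    rw [Submodule.map_iSup]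
    refine iSup_le fun _ => ?_
    rintro _ ⟨w, hw, rfl⟩
    rw [LinearMap.sub_apply, Module.End.one_apply]
    by_cases hs : s ∈ T
    · exact sub_mem (Finset.le_sup (f := W) (hmem s hs) (hmap x s w hw)) (Finset.le_sup (f := W) hs hw)
    · rw [hfix s hs w hw, sub_self]; exact zero_mem _
  refine (Submodule.finrank_mono hle).trans ?_
  rw [finrank_sup_eq hind hm, hbd]
  exact Nat.mul_le_mul_right _ hT

variable [Nontrivial V]

/-- An abelian normal subgroup which is not central gives blocks. -/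
theorem monomial_bound (hnat : Natural) (hπ : Function.Surjective π)
    (hmin : ∀ L : Subgroup H, L.map π = ⊤ → L = ⊤) (hinj : Function.Injective ρ)
    (hirr : ∀ U : Submodule k V, (∀ γ, ∀ u ∈ U, ρ γ u ∈ U) → U = ⊥ ∨ U = ⊤)
    (hn : Module.finrank k V ≤ 27) (A : Subgroup H) [hA : A.Normal]
    (hab : ∀ a ∈ A, ∀ b ∈ A, a * b = b * a) (hnc : ¬ A ≤ Subgroup.center H) {ℓ : ℕ} (hℓ : ℓ.Prime)
    (hK : ¬ ℓ ∣ Nat.card π.ker) {x : H} (hx : x ^ ℓ = 1) {T : Finset (Fin 12)} (hT : T.card ≤ ℓ)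
    (hg : In T (π x)) :
    Module.finrank k (moved ρ x) ≤ ℓ * bd (Module.finrank k V) := by
  classical
  let X := {χ : A → k // ∃ v : V, v ≠ 0 ∧ ∀ a : A, ρ a.1 v = χ a • v}
  choose vX hvX0 hvX using fun χ : X => χ.2
  have hli : LinearIndependent k vX :=
    linearIndependent_labels (fun a : A => ρ a.1) (fun χ : X => χ.1) Subtype.val_injective vX hvX0 hvX
  haveI : Finite X := hli.finite
  haveI := Fintype.ofFinite X
  have hcard : Nat.card X ≤ Module.finrank k V := by
    rw [Nat.card_eq_fintype_card]; exact hli.fintype_card_le_finrank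
  let conj : H → A → A := fun h a => ⟨h⁻¹ * a.1 * h, by simpa using hA.conj_mem a.1 a.2 h⁻¹⟩
  have hmove : ∀ (h : H) (χ : A → k) (v : V), (∀ a : A, ρ a.1 v = χ a • v) →
      ∀ a : A, ρ a.1 (ρ h v) = χ (conj h a) • ρ h v := fun h χ v hv a => by
    rw [← map_smul, ← hv, ← rho_mul_apply, ← rho_mul_apply]
    congr 2
    simp [conj, mul_assoc]
  letI : MulAction H X :=
    { smul := fun h χ => ⟨fun a => χ.1 (conj h a), ρ h (vX χ),
        fun e => hvX0 χ (by rw [← rho_inv_apply (ρ := ρ) h (vX χ), e, map_zero]), hmove h χ.1 _ (hvX χ)⟩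
      one_smul := fun χ => Subtype.ext (funext fun a => congrArg χ.1 (Subtype.ext (by simp [conj])))
      mul_smul := fun g h χ => Subtype.ext (funext fun a =>
        congrArg χ.1 (Subtype.ext (by simp [conj, mul_assoc]))) }
  let E : X → Submodule k V := fun χ => ⨅ a : A, (ρ a.1).eigenspace (χ.1 a)
  have memE : ∀ (χ : X) (v : V), v ∈ E χ ↔ ∀ a : A, ρ a.1 v = χ.1 a • v := fun χ v => by
    simp only [E, Submodule.mem_iInf, Module.End.mem_eigenspace_iff]
  have hE : ∀ (γ : H) (χ : X), ∀ v ∈ E χ, ρ γ v ∈ E (γ • χ) := fun γ χ v hv =>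
    (memE _ _).2 (hmove γ χ.1 v ((memE χ v).1 hv))
  have hcomm : ∀ a b : A, Commute (ρ a.1) (ρ b.1) := fun a b =>
    (show Commute a.1 b.1 from hab a.1 a.2 b.1 b.2).map ρ
  have hindE : iSupIndep E := by
    have h := Module.End.independent_iInf_maxGenEigenspace_of_forall_mapsTo (fun a : A => ρ a.1)
      fun a b φ => Module.End.mapsTo_maxGenEigenspace_of_comm (hcomm b a) φ
    exact (h.comp (Subtype.val_injective (p := fun χ : A → k => ∃ v : V, v ≠ 0 ∧ ∀ a : A, ρ a.1 v = χ a • v))).mono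
      fun χ => iInf_mono fun a => Module.End.eigenspace_le_maxGenEigenspace
  obtain ⟨χ₀', v₀, hv₀, hev⟩ := exists_joint (fun a : A => ρ a.1) hcomm
  let χ₀ : X := ⟨χ₀', v₀, hv₀, hev⟩
  have hv₀E : v₀ ∈ E χ₀ := (memE _ _).2 hev
  set S := (MulAction.stabilizer H χ₀).map π with hS
  have hSne : S ≠ ⊤ := fun htop => by
    have hst := hmin _ htop
    have hfixE : ∀ γ, ∀ v ∈ E χ₀, ρ γ v ∈ E χ₀ := fun γ v hv => by
      have := hE γ χ₀ v hv
      rwa [MulAction.mem_stabilizer_iff.1 (hst ▸ Subgroup.mem_top γ : γ ∈ MulAction.stabilizer H χ₀)] at this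
    have hall := (hirr _ hfixE).resolve_left fun e => hv₀ ((Submodule.eq_bot_iff _).1 e v₀ hv₀E)
    exact hnc fun a ha => central_of_scalar hinj (c := χ₀' ⟨a, ha⟩) (LinearMap.ext fun v =>
      (memE χ₀ v).1 (hall ▸ Submodule.mem_top) ⟨a, ha⟩)
  have hidx : S.index ≤ 27 := by
    refine (Nat.le_of_dvd (Nat.pos_of_ne_zero Subgroup.index_ne_zero_of_finite)
      (Subgroup.index_map_dvd _ hπ)).trans ?_
    rw [MulAction.index_stabilizer, ← Nat.card_coe_set_eq]
    exact ((Finite.card_subtype_le _).trans hcard).trans hn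
  obtain ⟨t, ht⟩ := hnat S hSne hidx
  let fib : Fin 12 → Finset X := fun s => univ.filter fun χ => ∃ γ : H, γ • χ₀ = χ ∧ pm π γ t = s
  have hfib : ∀ s s', s ≠ s' → Disjoint (fib s) (fib s') := fun s s' hne => by
    rw [Finset.disjoint_left]
    intro χ h1 h2
    obtain ⟨-, γ, e1, f1⟩ := mem_filter.1 h1
    obtain ⟨-, δ, e2, f2⟩ := mem_filter.1 h2
    have hmem : γ⁻¹ * δ ∈ MulAction.stabilizer H χ₀ := by
      rw [MulAction.mem_stabilizer_iff, mul_smul, e2, ← e1, inv_smul_smul]
    have h3 := (ht (π (γ⁻¹ * δ))).1 ⟨_, hmem, rfl⟩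
    rw [map_mul, map_inv, Subgroup.coe_mul, Subgroup.coe_inv, Perm.mul_apply, Perm.inv_def,
      Equiv.symm_apply_eq] at h3
    exact hne (f1 ▸ f2 ▸ h3.symm)
  let W : Fin 12 → Submodule k V := fun s => (fib s).sup E
  have hmap : ∀ γ s, ∀ w ∈ W s, ρ γ w ∈ W (pm π γ s) := fun γ s => by
    refine Submodule.map_le_iff_le_comap.1 ?_
    show Submodule.map (ρ γ) ((fib s).sup E) ≤ _
    rw [Finset.sup_eq_iSup, Submodule.map_iSup]
    refine iSup_le fun χ => ?_
    rw [Submodule.map_iSup]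
    refine iSup_le fun hχ => ?_
    rintro _ ⟨w, hw, rfl⟩
    obtain ⟨-, δ, e1, f1⟩ := mem_filter.1 hχ
    refine Finset.le_sup (f := E) (mem_filter.2 ⟨mem_univ _, γ * δ, ?_, ?_⟩) (hE γ χ w hw)
    · rw [mul_smul, e1]
    · simp only [pm, map_mul, Subgroup.coe_mul, Perm.mul_apply]
      exact congrArg _ f1
  have hind : univ.SupIndep W := fun T' _ s _ hs => by
    show Disjoint ((fib s).sup E) (T'.sup fun s' => (fib s').sup E)
    rw [← Finset.sup_biUnion]
    refine (hindE.supIndep' univ).disjoint_sup_sup (subset_univ _) (subset_univ _) ?_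
    rw [Finset.disjoint_biUnion_right]
    exact fun s' hs' => hfib s s' fun e => hs (e ▸ hs')
  have hWne : ∀ s, ∀ γ, pm π γ t = s → ρ γ v₀ ∈ W s := fun s γ e =>
    Finset.le_sup (f := E) (mem_filter.2 ⟨mem_univ _, γ, rfl, e⟩) (hE γ χ₀ v₀ hv₀E)
  have htop : univ.sup W = ⊤ := by
    refine (hirr _ fun γ => ?_).resolve_left fun e => ?_
    · intro u hu
      refine (Submodule.map_le_iff_le_comap.1 ?_ : univ.sup W ≤ (univ.sup W).comap (ρ γ)) hu
      rw [Finset.sup_eq_iSup, Submodule.map_iSup]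
      refine iSup_le fun s => ?_
      rw [Submodule.map_iSup]
      refine iSup_le fun _ => ?_
      rintro _ ⟨w, hw, rfl⟩
      exact le_iSup₂_of_le (f := fun s (_ : s ∈ univ) => W s) (pm π γ s) (mem_univ _) le_rfl (hmap γ s w hw)
    · have h1 : ρ 1 v₀ ∈ univ.sup W :=
        Finset.le_sup (f := W) (mem_univ (pm π 1 t)) (hWne _ 1 rfl)
      rw [e, Submodule.mem_bot, map_one, Module.End.one_apply] at h1
      exact hv₀ h1
  have hne : W 0 ≠ ⊥ := fun e => by
    obtain ⟨g, hg'⟩ := exists_conj (r := 12) (α := Fin 1) ⟨fun _ => t, fun _ _ _ => Subsingleton.elim _ _⟩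
      ⟨fun _ => 0, fun _ _ _ => Subsingleton.elim _ _⟩ (by simp)
    obtain ⟨γ, rfl⟩ := hπ g
    have h1 := hWne 0 γ (hg' 0)
    rw [e, Submodule.mem_bot, ← map_zero (ρ γ)] at h1
    exact hv₀ (rho_injective γ h1)
  exact blocks_bound hπ hn W hind htop hne hmap hℓ hK hx hT hg

end CfsgLib.Classical.AltSection.Twelve
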