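import Cfsg.Agent.Lib.Classical.AltSection.TwelveBasic

/-!
An irreducible representation of degree at most twenty-seven of a perfect central extension of the
alternating group on twelve points, in characteristic prime to six: a three-cycle moves a space of
dimension two or four.
-/

set_option autoImplicit false
set_option linter.unusedSectionVars false
set_option maxRecDepth 100000
set_option maxHeartbeats 1000000

namespace CfsgLib.Classical.AltSection.Twelve

open Equiv Finset Module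

/-- The four blocks. -/
def blk : Fin 4 × ZMod 3 ↪ Fin 12 :=
  ⟨fun z => ⟨(3 * z.1.val + z.2.val) % 12, Nat.mod_lt _ (by norm_num)⟩,
    fun z z' h => by revert h z z'; decide⟩

theorem odd3 : Odd 3 := ⟨1, rfl⟩

/-- The first point of a block. -/
def bp (i : Fin 4) (u : ZMod 3) : Fin 12 := blk (i, u)

theorem xB_blk (i : Fin 4) : xB odd3 blk i = c3 (bp i 0) (bp i 1) (bp i 2) := by
  refine Subtype.ext (Equiv.ext fun y => ?_)
  obtain ⟨⟨j, u⟩, rfl⟩ := ((Fintype.bijective_iff_injective_and_card (blk : Fin 4 × ZMod 3 → Fin 12)).2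
    ⟨blk.injective, by decide⟩).2 y
  rw [xB_apply]
  revert i j u
  decide +kernel

/-- The complement of the first block. -/
def T₀ : Finset (Fin 12) := univ.filter fun i => 3 ≤ i.val

/-- Nine points. -/
def nine : Fin 9 ↪ Fin 12 :=
  ⟨fun i => ⟨i.val + 3, by omega⟩, fun i j h => Fin.ext (by simpa using h)⟩

theorem mem_nine : ∀ a ∈ T₀, ∃ a', nine a' = a := by decide

theorem viaEmbedding_swap (a b : Fin 9) :
    Perm.viaEmbedding (swap a b) nine = swap (nine a) (nine b) := by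
  refine Equiv.ext fun y => ?_
  by_cases hy : y ∈ Set.range nine
  · obtain ⟨u, rfl⟩ := hy
    rw [Perm.viaEmbedding_apply, Function.Embedding.swap_apply]
  · rw [Perm.viaEmbedding_apply_of_notMem _ _ _ hy,
      swap_apply_of_ne_of_ne (fun e => hy ⟨a, e.symm⟩) fun e => hy ⟨b, e.symm⟩]

theorem exists_nine :
    ∃ φ : alternatingGroup (Fin 9) →* alternatingGroup (Fin 12), Function.Injective φ ∧
      (∀ g, In T₀ (φ g)) ∧
      ∀ a b c : Fin 9, a ≠ b → b ≠ c → φ (c3 a b c) = c3 (nine a) (nine b) (nine c) := by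
  let f : Perm (Fin 9) →* Perm (Fin 12) := Perm.viaEmbeddingHom nine
  have hs : ∀ g : Perm (Fin 9), g ∈ alternatingGroup (Fin 9) → f g ∈ alternatingGroup (Fin 12) := by
    intro g hg
    rw [Perm.mem_alternatingGroup] at hg ⊢
    rw [Perm.viaEmbeddingHom_apply, Perm.viaEmbedding, Perm.sign_extendDomain]
    exact hg
  refine ⟨(f.comp (alternatingGroup (Fin 9)).subtype).codRestrict _ fun g => hs g.1 g.2,
    fun a b e => Subtype.ext (Perm.viaEmbeddingHom_injective nine (congrArg Subtype.val e)),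
    fun g i hi => ?_, fun a b c hab hbc => ?_⟩
  · show Perm.viaEmbedding g.1 nine i = i
    refine Perm.viaEmbedding_apply_of_notMem _ _ _ ?_
    rintro ⟨u, rfl⟩
    exact hi (mem_filter.2 ⟨mem_univ _, Nat.le_add_left 3 u.val⟩)
  · refine Subtype.ext ?_
    rw [c3_val (nine.injective.ne hab) (nine.injective.ne hbc)]
    show f (c3 a b c : alternatingGroup (Fin 9)) = _
    rw [c3_val hab hbc, map_mul, Perm.viaEmbeddingHom_apply, Perm.viaEmbeddingHom_apply,
      viaEmbedding_swap, viaEmbedding_swap]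

theorem c3_commute {r : ℕ} {a b c d e f : Fin r} (hab : a ≠ b) (hbc : b ≠ c) (hac : a ≠ c)
    (h : ∀ p ∈ [a, b, c], p ∉ [d, e, f]) : Commute (c3 a b c) (c3 d e f) := by
  refine Subtype.ext (Perm.Disjoint.commute fun p => ?_).eq
  by_cases hp : p ∈ [a, b, c]
  · right
    have := h p hp
    simp only [List.mem_cons, List.not_mem_nil, or_false, not_or] at this
    exact c3_apply_other this.1 this.2.1 this.2.2
  · left
    simp only [List.mem_cons, List.not_mem_nil, or_false, not_or] at hp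
    exact c3_apply_other hp.1 hp.2.1 hp.2.2

/-- Each nonzero residue is one of two multiples of another. -/
theorem ite_mul_eq : ∀ x y : ZMod 3, x ≠ 0 → y ≠ 0 →
    ((mult3.u ^ (if y = x then 0 else 1) : (ZMod 3)ˣ) : ZMod 3) * x = y := by decide +kernel

theorem exists_pair : ∀ c : Fin 4 → ZMod 3, (∀ i, c i ≠ 0) → ∃ i j, i ≠ j ∧ c i = c j := by
  decide +kernel

/-- Patterns without zero are all present with one. -/
theorem full_mem {W : Finset (Fin 4 → ZMod 3)} (hW : Orbit.Closed mult3.u W) {a : Fin 4 → ZMod 3}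
    (ha : a ∈ W) (ha0 : ∀ i, a i ≠ 0) {c : Fin 4 → ZMod 3} (hc : ∀ i, c i ≠ 0) : c ∈ W := by
  obtain ⟨i, j, hij, hcij⟩ := exists_pair c hc
  set b : Fin 4 → ℕ := fun l => if c l = a l then 0 else 1
  have hσ : ∀ σ : Perm (Fin 4), (∀ l, c (σ.symm l) = c l) → Orbit.act mult3.u σ b a = c := by
    intro σ h
    funext l
    simp only [Orbit.act, b]
    rw [ite_mul_eq _ _ (ha0 _) (hc _), h]
  rcases neg_one_pow_eq_or (ℤˣ) (∑ l, b l) with h | h
  · rw [← hσ 1 fun l => rfl]
    exact hW 1 b (by rw [map_one, h, one_mul]) a ha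
  · rw [← hσ (swap i j) fun l => by
      rw [symm_swap]
      by_cases hl : l = i
      · subst hl; rw [swap_apply_left, hcij]
      by_cases hl' : l = j
      · subst hl'; rw [swap_apply_right, hcij]
      rw [swap_apply_of_ne_of_ne hl hl']]
    exact hW _ b (by rw [Perm.sign_swap hij, h]; rfl) a ha

variable {k : Type} [Field k] {V : Type} [AddCommGroup V] [Module k V] [FiniteDimensional k V]

/-- Vectors fixed by an operator of finite order and its moved space are independent. -/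
theorem finrank_sup_fix {q : ℕ} [NeZero q] {ζ : k} (hζ : IsPrimitiveRoot ζ q) (hq : (q : k) ≠ 0)
    {x : Module.End k V} (hx : x ^ q = 1) {U : Submodule k V} (hU : U ≤ LinearMap.ker (x - 1)) :
    Module.finrank k ↥(LinearMap.range (x - 1) ⊔ U) =
      Module.finrank k (LinearMap.range (x - 1)) + Module.finrank k U := by
  have h := Submodule.finrank_sup_add_finrank_inf_eq (LinearMap.range (x - 1)) U
  rwa [le_bot_iff.1 ((inf_le_inf_left _ hU).trans (Eigen.disjoint_range_ker hζ hq hx).le),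
    finrank_bot, add_zero] at h

variable [IsAlgClosed k] [Nontrivial V] {Γ : Type} [Group Γ] [Finite Γ]
variable {π : Γ →* alternatingGroup (Fin 12)} {ρ : Γ →* Module.End k V}

/-- The lift of a three-cycle. -/
noncomputable abbrev lf (π : Γ →* alternatingGroup (Fin 12)) (a b c : Fin 12) : Γ := lft π (c3 a b c)

theorem X_blk (i : Fin 4) : X π ρ odd3 blk i = ρ (lf π (bp i 0) (bp i 1) (bp i 2)) := by
  rw [X, xB_blk]

variable (C : Cov π ρ)
include C

theorem lf_mem {S : Finset (Fin 12)} {a b c : Fin 12} (ha : a ∈ S) (hb : b ∈ S) (hc : c ∈ S)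
    (hab : a ≠ b) (hbc : b ≠ c) (hac : a ≠ c) : lf π a b c ∈ C.gs S :=
  Subgroup.subset_closure ⟨a, ha, b, hb, c, hc, hab, hbc, hac, rfl⟩

theorem gs_commute {S : Finset (Fin 12)} {a b c : Fin 12} (hab : a ≠ b) (hbc : b ≠ c) (hac : a ≠ c)
    (h : ∀ p ∈ [a, b, c], p ∉ S) {γ : Γ} (hγ : γ ∈ C.gs S) : Commute (lf π a b c) γ := by
  unfold Cov.gs at hγ
  induction hγ using Subgroup.closure_induction with
  | mem x hx =>
    obtain ⟨d, hd, e, he, f, hf, h1, h2, h3, rfl⟩ := hx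
    refine C.lft_commute (c3_odd hab hbc hac) (c3_commute hab hbc hac fun p hp hp' => ?_)
    simp only [List.mem_cons, List.not_mem_nil, or_false] at hp'
    rcases hp' with rfl | rfl | rfl <;> exact h _ hp (by assumption)
  | one => exact Commute.one_right _
  | mul x y _ _ hx hy => exact hx.mul_right hy
  | inv x _ hx => exact hx.inv_right

theorem eigen_inv {S : Finset (Fin 12)} (i : Fin 4) (h : ∀ u, bp i u ∉ S) (ζ : k) (j : ZMod 3)
    {γ : Γ} (hγ : γ ∈ C.gs S) {v : V} (hv : v ∈ Eigen.E ζ (X π ρ odd3 blk i) j) :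
    ρ γ v ∈ Eigen.E ζ (X π ρ odd3 blk i) j := by
  have hne : ∀ i : Fin 4, bp i 0 ≠ bp i 1 ∧ bp i 1 ≠ bp i 2 ∧ bp i 0 ≠ bp i 2 := by decide
  have hc := gs_commute C (hne i).1 (hne i).2.1 (hne i).2.2 (fun p hp => by
    simp only [List.mem_cons, List.not_mem_nil, or_false] at hp
    rcases hp with rfl | rfl | rfl <;> exact h _) hγ
  rw [Eigen.mem_E, X_blk] at hv ⊢
  rw [← rho_mul_apply, hc.eq, rho_mul_apply, hv, map_smul]

/-- Nine points act trivially on an invariant space of dimension at most seven. -/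
theorem small_triv (h3 : (3 : k) ≠ 0) {U : Submodule k V} (hU : ∀ γ ∈ C.gs T₀, ∀ u ∈ U, ρ γ u ∈ U)
    (hd : Module.finrank k U ≤ 7) {a b c : Fin 12} (ha : a ∈ T₀) (hb : b ∈ T₀) (hc : c ∈ T₀)
    (hab : a ≠ b) (hbc : b ≠ c) (hac : a ≠ c) : ∀ u ∈ U, ρ (lf π a b c) u = u := by
  classical
  obtain ⟨φ, hφ, hφT, hφc⟩ := exists_nine
  have hran : ∀ g, In T₀ g → g ∈ φ.range := fun g hg => by
    refine (Subgroup.closure_le _).2 ?_ (mem_closure_c3 _ g hg)
    rintro _ ⟨x, hx, y, hy, z, hz, h1, h2, -, rfl⟩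
    obtain ⟨x', rfl⟩ := mem_nine x hx
    obtain ⟨y', rfl⟩ := mem_nine y hy
    obtain ⟨z', rfl⟩ := mem_nine z hz
    exact ⟨_, hφc x' y' z' (fun e => h1 (by rw [e])) (fun e => h2 (by rw [e]))⟩
  let π' : ↥(C.gs T₀) →* alternatingGroup (Fin 9) :=
    (MonoidHom.ofInjective hφ).symm.toMonoidHom.comp
      ((π.comp (C.gs T₀).subtype).codRestrict φ.range fun γ => hran _ (C.gs_in γ.2))
  have hπ' : ∀ γ, φ (π' γ) = π γ.1 := fun γ =>
    MonoidHom.apply_ofInjective_symm hφ _
  have hsur : Function.Surjective π' := fun g => by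
    obtain ⟨γ, hγ, e⟩ := C.exists_gs (hφT g)
    exact ⟨⟨γ, hγ⟩, hφ ((hπ' _).trans e)⟩
  let ρU : ↥(C.gs T₀) →* Module.End k U :=
    { toFun := fun γ => (ρ γ.1).restrict (hU γ.1 γ.2)
      map_one' := by ext u; simp
      map_mul' := fun γ δ => by ext u; simp [rho_mul_apply] }
  haveI : IsSimpleGroup (alternatingGroup (Fin 9)) := (alt_facts le_rfl).1
  rcases (MonoidHom.normal_ker ρU).map π' hsur |>.eq_bot_or_eq_top with hb' | ht
  · exfalso
    refine noSection (r := 9) le_rfl _ k U _ π' ρU hsur ((Subgroup.map_eq_bot_iff _).1 hb') rfl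
      ⟨by omega, fun e => ?_⟩
    exfalso
    rw [show ((9 : ℕ) : k) = 3 * 3 by push_cast; norm_num, mul_self_eq_zero] at e
    exact h3 e
  · intro u hu
    obtain ⟨a', rfl⟩ := mem_nine a ha
    obtain ⟨b', rfl⟩ := mem_nine b hb
    obtain ⟨c', rfl⟩ := mem_nine c hc
    obtain ⟨γ, hγ, e⟩ : c3 a' b' c' ∈ (ρU.ker).map π' := ht ▸ Subgroup.mem_top _
    have hπγ : π γ.1 = c3 (nine a') (nine b') (nine c') := by
      rw [← hπ', e, hφc a' b' c' (fun e => hab (by rw [e])) (fun e => hbc (by rw [e]))]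
    rw [lf, ← hπγ, lft_eq_pow C γ.1 (m := 3) ⟨1, rfl⟩ (by rw [hπγ]; exact c3_order hab hbc hac)]
    exact mem_fixd_pow (congrArg Subtype.val (LinearMap.congr_fun hγ ⟨u, hu⟩)) _

theorem eleven_le (h2 : (2 : k) ≠ 0) (h3 : (3 : k) ≠ 0) : 11 ≤ Module.finrank k V := by
  by_contra h
  refine noSection (r := 12) (by norm_num) _ k V Γ π ρ C.surj ?_ rfl ⟨by omega, fun e => ?_⟩
  · rw [(MonoidHom.ker_eq_bot_iff ρ).2 C.inj]; exact bot_le
  · exfalso
    rw [show ((12 : ℕ) : k) = 2 * 2 * 3 by push_cast; norm_num] at e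
    simp [h2, h3] at e

/-- The space is spanned by no invariant line. -/
theorem no_line (h2 : (2 : k) ≠ 0) (h3 : (3 : k) ≠ 0) {u : V} (hu : u ≠ 0)
    (h : ∀ g, ∃ γ, π γ = g ∧ ∃ c : k, ρ γ u = c • u) : False := by
  have hinv : ∀ γ, ∀ v ∈ Submodule.span k {u}, ρ γ v ∈ Submodule.span k {u} := by
    intro γ v hv
    obtain ⟨t, rfl⟩ := Submodule.mem_span_singleton.1 hv
    obtain ⟨δ, hδ, c, hc⟩ := h (π γ)
    obtain ⟨e, he⟩ := C.exists_scalar (z := γ * δ⁻¹) (by rw [map_mul, map_inv, hδ, mul_inv_cancel])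
    rw [map_smul, show γ = γ * δ⁻¹ * δ by group, rho_mul_apply, hc, map_smul, he, smul_smul, smul_smul]
    exact Submodule.smul_mem _ _ (Submodule.mem_span_singleton_self u)
  rcases C.irred _ hinv with e | e
  · exact hu (Submodule.span_singleton_eq_bot.1 e)
  · have h1 := finrank_span_singleton (K := k) hu
    rw [e, finrank_top] at h1
    have := eleven_le C h2 h3
    omega

/-- No joint eigenvector for three blocks. -/
theorem supp_ne_three (hn : Module.finrank k V ≤ 27) {ζ : k} (hζ : IsPrimitiveRoot ζ 3)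
    {a : Fin 4 → ZMod 3} (ha : a ∈ Wt π ρ odd3 blk ζ) : (Orbit.supp a).card ≠ 3 := by
  intro h
  have h1 := Orbit.card_middle mult3.inj mult3.cancel (closed_Wt C odd3 blk hζ mult3) ha h
    (by norm_num) 3 le_rfl
  have h2 := card_filter_le (Wt π ρ odd3 blk ζ) fun c => (Orbit.supp c).card = 3
  have h3 := card_Wt_le (π := π) (ρ := ρ) odd3 blk hζ
  norm_num [Nat.choose] at h1
  omega

omit C in
theorem sum_joint_le {ζ : k} (hζ : IsPrimitiveRoot ζ 3) (S : Finset (Fin 4 → ZMod 3)) :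
    ∑ a ∈ S, Module.finrank k (J π ρ odd3 blk ζ a) ≤ Module.finrank k V := by
  classical
  let B := fun a : S => Module.finBasis k (J π ρ odd3 blk ζ a.1)
  let v : (Σ a : S, Fin (Module.finrank k (J π ρ odd3 blk ζ a.1))) → V := fun p => (B p.1 p.2 : V)
  have hv : LinearIndependent k v := by
    rw [Fintype.linearIndependent_iff]
    intro g hg
    let w : S → V := fun a => ∑ i, g ⟨a, i⟩ • (B a i : V)
    have hw : ∀ a, w a ∈ J π ρ odd3 blk ζ a.1 := fun a =>
      Submodule.sum_mem _ fun i _ => Submodule.smul_mem _ _ (B a i).2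
    have hsum : ∑ a, w a = 0 := by rw [← hg, Fintype.sum_sigma]
    have hw0 : ∀ a, w a = 0 := by
      let S' := univ.filter fun a : S => w a ≠ 0
      have hli := Eigen.linearIndependent_joint hζ (X π ρ odd3 blk) (fun a : S' => a.1.1)
        (fun a b e => Subtype.ext (Subtype.ext e)) (fun a => w a.1) (fun a => (mem_filter.1 a.2).2)
        (fun a i => (Submodule.mem_iInf _).1 (hw a.1) i)
      intro a
      by_contra ha
      have h1 := Fintype.linearIndependent_iff.1 hli (fun _ => 1) (by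
        simp only [one_smul]
        rw [Finset.sum_coe_sort S' w, ← hsum]
        exact Finset.sum_filter_ne_zero univ) ⟨a, mem_filter.2 ⟨mem_univ _, ha⟩⟩
      exact one_ne_zero h1
    intro p
    refine Fintype.linearIndependent_iff.1 (B p.1).linearIndependent (fun i => g ⟨p.1, i⟩) ?_ p.2
    refine Subtype.ext ?_
    rw [Submodule.coe_sum]
    simpa [w] using hw0 p.1
  have := hv.fintype_card_le_finrank
  rw [Fintype.card_sigma] at this
  simp only [Fintype.card_fin] at this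
  rwa [Finset.sum_coe_sort S fun a => Module.finrank k (J π ρ odd3 blk ζ a)] at this

/-- The double transposition lifts of a quadruple fail to commute when six points carry a fixed point
free three-cycle. -/
theorem quad_noncomm (h2 : (2 : k) ≠ 0) (h3 : (3 : k) ≠ 0) {U : Submodule k V} (hU0 : U ≠ ⊥)
    (hU : ∀ γ ∈ C.gs {6, 7, 8, 9, 10, 11}, ∀ u ∈ U, ρ γ u ∈ U)
    (hfpf : ∀ u ∈ U, u + ρ (lf π 6 7 8) u + ρ (lf π 6 7 8) (ρ (lf π 6 7 8) u) = 0) :
    H π 6 7 8 9 * H π 7 8 6 9 ≠ H π 7 8 6 9 * H π 6 7 8 9 := by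
  intro hcomm
  set x := lf π 6 7 8 with hx
  set T₁ := H π 6 7 8 9
  set T₂ := H π 7 8 6 9
  have mem : ∀ {a b c : Fin 12}, a ∈ ({6, 7, 8, 9, 10, 11} : Finset (Fin 12)) →
      b ∈ ({6, 7, 8, 9, 10, 11} : Finset (Fin 12)) → c ∈ ({6, 7, 8, 9, 10, 11} : Finset (Fin 12)) →
      a ≠ b → b ≠ c → a ≠ c → lf π a b c ∈ C.gs {6, 7, 8, 9, 10, 11} :=
    fun ha hb hc h1 h2' h3' => lf_mem C ha hb hc h1 h2' h3'
  have hxg : x ∈ C.gs {6, 7, 8, 9, 10, 11} := mem (by decide) (by decide) (by decide) (by decide) (by decide) (by decide)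
  have h1g : T₁ ∈ C.gs {6, 7, 8, 9, 10, 11} := mul_mem
    (mem (by decide) (by decide) (by decide) (by decide) (by decide) (by decide))
    (mem (by decide) (by decide) (by decide) (by decide) (by decide) (by decide))
  have h2g : T₂ ∈ C.gs {6, 7, 8, 9, 10, 11} := mul_mem
    (mem (by decide) (by decide) (by decide) (by decide) (by decide) (by decide))
    (mem (by decide) (by decide) (by decide) (by decide) (by decide) (by decide))
  have hm1 : x * T₁ * x⁻¹ = T₂ := by
    have hp : ∀ i : Fin 12, pm π x i = ((c3 6 7 8 : alternatingGroup (Fin 12)) : Perm (Fin 12)) i :=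
      fun i => by simp [pm, hx, lf, C.map_lft]
    simp only [T₁, T₂, H]
    rw [show x * (lft π (c3 6 7 8) * lft π (c3 7 8 9)) * x⁻¹ =
      x * lft π (c3 6 7 8) * x⁻¹ * (x * lft π (c3 7 8 9) * x⁻¹) by group,
      lft_c3_conj C x (by decide) (by decide) (by decide), lft_c3_conj C x (by decide) (by decide) (by decide)]
    simp only [hp]
    rw [show c3 ((c3 6 7 8 : alternatingGroup (Fin 12)).1 6) ((c3 6 7 8 : alternatingGroup (Fin 12)).1 7)
        ((c3 6 7 8 : alternatingGroup (Fin 12)).1 8) = c3 7 8 6 by decide +kernel,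
      show c3 ((c3 6 7 8 : alternatingGroup (Fin 12)).1 7) ((c3 6 7 8 : alternatingGroup (Fin 12)).1 8)
        ((c3 6 7 8 : alternatingGroup (Fin 12)).1 9) = c3 8 6 9 by decide +kernel]
  have hπ1 : π T₁ = c3 6 7 8 * c3 7 8 9 := by simp [T₁, H, C.map_lft]
  have hπ2 : π T₂ = c3 7 8 6 * c3 8 6 9 := by simp [T₂, H, C.map_lft]
  -- squares are trivial and signs normalise the three involutions
  obtain ⟨ε, hε⟩ := C.exists_scalar (z := T₁ * T₁) (by rw [map_mul, hπ1]; decide +kernel)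
  set z₃ := (T₁ * T₂)⁻¹ * (x * T₂ * x⁻¹) with hz₃
  have hz₃k : π z₃ = 1 := by
    simp only [hz₃, map_mul, map_inv, hπ1, hπ2, hx, lf, C.map_lft]; decide +kernel
  obtain ⟨e, he⟩ := C.exists_scalar hz₃k
  obtain ⟨v₁, hv₁⟩ := exists_ne (0 : V)
  have hee : e * e = 1 := by
    have h' := LinearMap.congr_fun (congrArg ρ (C.ker_sq hz₃k)) v₁
    simp only [rho_mul_apply, he, map_smul, smul_smul, map_one, Module.End.one_apply] at h'
    exact smul_left_injective k hv₁ (h'.trans (one_smul k v₁).symm)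
  have e1 : ∀ v, ρ x (ρ T₁ v) = ρ T₂ (ρ x v) := fun v => by
    rw [← rho_mul_apply, ← rho_mul_apply, ← hm1, inv_mul_cancel_right]
  have e2 : ∀ v, ρ x (ρ T₂ v) = e • ρ T₁ (ρ T₂ (ρ x v)) := fun v => by
    rw [← map_smul, ← map_smul, ← he, ← rho_mul_apply, ← rho_mul_apply, ← rho_mul_apply,
      ← rho_mul_apply]
    congr 2
    simp only [hz₃, mul_inv_rev, mul_assoc]
    have c : Commute z₃ (T₁ * T₂) := (Subgroup.mem_center_iff.1 (C.central hz₃k) _).symm
    calc x * T₂ = T₁ * T₂ * z₃ * x := by rw [hz₃]; group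
      _ = T₁ * (T₂ * (x * z₃)) := by
        rw [mul_assoc (T₁ * T₂) z₃ x, ← Subgroup.mem_center_iff.1 (C.central hz₃k) x, mul_assoc]
      _ = _ := by
        rw [Subgroup.mem_center_iff.1 (C.central hz₃k) x, hz₃]; group
  have hc : ∀ v, ρ T₂ (ρ T₁ v) = ρ T₁ (ρ T₂ v) := fun v => by
    rw [← rho_mul_apply, ← hcomm, rho_mul_apply]
  have hT1sq : ∀ v, ρ T₁ (ρ T₁ v) = ε • v := fun v => by rw [← rho_mul_apply, hε]
  have hx3 : ∀ v, ρ x (ρ x (ρ x v)) = v := fun v => by
    have h := Y_pow (ρ := ρ) C (a := (6 : Fin 12)) (b := 7) (c := 8) (by decide) (by decide) (by decide)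
    rw [Y] at h
    simpa [pow_succ, hx] using LinearMap.congr_fun h v
  have hxi : Function.Injective (ρ x) := rho_injective x
  have hT2sq : ∀ v, ρ T₂ (ρ T₂ v) = ε • v := fun v => by
    rw [← hx3 v, ← e1, ← e1, hT1sq, map_smul]
  have hε1 : ε = 1 := by
    have h := e2 (ρ T₂ v₁)
    simp only [hT2sq, map_smul, e2, smul_smul, hc, hT1sq, hee, one_mul] at h
    have h' := smul_left_injective k (fun e0 => hv₁ (hxi (e0.trans (map_zero _).symm))) h
    have hε0 : ε ≠ 0 := fun e0 => hv₁ (rho_injective T₁ (rho_injective T₁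
      (by rw [hT1sq, e0, zero_smul, map_zero, map_zero])))
    exact (mul_eq_left₀ hε0).1 (by linear_combination h'.symm - (ε * ε) * hee)
  simp only [hε1, one_smul] at hT1sq hT2sq
  have hP : ∀ u ∈ U, u + e • ρ T₁ u - (e • ρ T₂ u + ρ T₁ (ρ T₂ u)) = 0 := by
    intro u hu
    set v := u + e • ρ T₁ u - (e • ρ T₂ u + ρ T₁ (ρ T₂ u)) with hv
    have hvU : v ∈ U := U.sub_mem (U.add_mem hu (U.smul_mem _ (hU _ h1g u hu)))
      (U.add_mem (U.smul_mem _ (hU _ h2g u hu)) (hU _ h1g _ (hU _ h2g u hu)))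
    have ha : ρ T₁ v = e • v := by
      simp only [hv, map_add, map_sub, map_smul, hT1sq, smul_add, smul_sub, smul_smul, hee, one_smul]
      abel
    have hb : ρ T₂ v = (-e) • v := by
      rw [neg_smul]
      simp only [hv, map_add, map_sub, map_smul, hT2sq, hc, smul_add, smul_sub, smul_smul, hee, one_smul]
      abel
    have a2 : ρ T₂ (ρ x v) = e • ρ x v := by rw [← e1, ha, map_smul]
    have a1 : ρ T₁ (ρ x v) = (-e) • ρ x v := by
      have h := e2 v
      rw [hb, map_smul, a2, map_smul, smul_smul, hee, one_smul] at h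
      exact h.symm
    have b2 : ρ T₂ (ρ x (ρ x v)) = (-e) • ρ x (ρ x v) := by rw [← e1, a1, map_smul]
    have b1 : ρ T₁ (ρ x (ρ x v)) = (-e) • ρ x (ρ x v) := by
      have h := e2 (ρ x v)
      rw [a2, map_smul, b2, map_smul, smul_smul, mul_neg, hee, neg_smul, one_smul] at h
      rw [neg_smul, h, neg_neg]
    have h := hfpf v hvU
    have h' := congrArg (fun w => e • ρ T₁ w) h
    simp only [map_add, ha, a1, b1, smul_add, smul_smul, mul_neg, hee, map_zero, smul_zero] at h'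
    refine (smul_eq_zero.1 (show (2 : k) • v = 0 from ?_)).resolve_left h2
    linear_combination (norm := module) h + h'
  have hagree : ∀ u ∈ U, ρ T₁ u = ρ T₂ u := by
    intro u hu
    have hq := congrArg (ρ x) (hP (ρ x (ρ x u)) (hU _ hxg _ (hU _ hxg u hu)))
    simp only [map_add, map_sub, map_smul, map_zero, e1, e2, hx3, smul_smul, hee, one_smul, hc,
      hT2sq] at hq
    have hd : ρ T₂ u - ρ T₁ u = 0 := by
      have hr := hP u hu
      have h4 : (e * 1) • ((2 : k) • (ρ T₁ u - ρ T₂ u)) = 0 := by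
        linear_combination (norm := module) hr - hq
      rw [mul_one, smul_eq_zero, smul_eq_zero] at h4
      have he0 : e ≠ 0 := fun e0 => by rw [e0, mul_zero] at hee; exact zero_ne_one hee
      rw [← neg_sub, (h4.resolve_left he0).resolve_left h2, neg_zero]
    exact (sub_eq_zero.1 hd).symm
  -- the quotient is then trivial, and with it the three-cycle
  set D := T₁⁻¹ * T₂
  have hD : ∀ u ∈ U, ρ D u = u := fun u hu => by
    simp only [D]
    rw [rho_mul_apply, ← hagree u hu, rho_inv_apply]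
  have hgen : ∀ a b c : Fin 12, a ∈ ({6, 7, 8, 9, 10, 11} : Finset (Fin 12)) →
      b ∈ ({6, 7, 8, 9, 10, 11} : Finset (Fin 12)) → c ∈ ({6, 7, 8, 9, 10, 11} : Finset (Fin 12)) →
      In {6, 7, 8, 9, 10, 11} (c3 a b c) := fun a b c ha hb hc => in_c3 ha hb hc
  obtain ⟨g₁, hg₁, e₁⟩ := C.exists_gs ((hgen 6 7 9 (by decide) (by decide) (by decide)).mul
    (hgen 9 10 8 (by decide) (by decide) (by decide)))
  obtain ⟨g₂, hg₂, e₂⟩ := C.exists_gs ((hgen 6 8 7 (by decide) (by decide) (by decide)).mul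
    (hgen 7 9 10 (by decide) (by decide) (by decide)))
  set E := g₁ * D * g₁⁻¹ * (g₂ * D * g₂⁻¹)
  have hπE : π E = c3 6 7 8 := by
    simp only [E, D, map_mul, map_inv, e₁, e₂, hπ1, hπ2]
    decide +kernel
  have hE : ∀ g ∈ C.gs {6, 7, 8, 9, 10, 11}, ∀ u ∈ U, ρ (g * D * g⁻¹) u = u := fun g hg u hu => by
    rw [rho_mul_apply, rho_mul_apply, hD _ (hU _ (inv_mem hg) u hu), rho_inv_apply']
  obtain ⟨u, hu, hu0⟩ := Submodule.exists_mem_ne_zero_of_ne_bot hU0
  have hxu : ρ x u = u := by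
    rw [hx, lf, ← hπE, lft_eq_pow C E (m := 3) ⟨1, rfl⟩ (by rw [hπE]; decide +kernel)]
    refine mem_fixd_pow ?_ _
    simp only [E]
    rw [rho_mul_apply, hE g₂ hg₂ u hu, hE g₁ hg₁ u hu]
  have := hfpf u hu
  rw [hxu, hxu] at this
  refine hu0 ((smul_eq_zero.1 (show (3 : k) • u = 0 from ?_)).resolve_left h3)
  linear_combination (norm := module) this

/-- No joint eigenvector for all four blocks. -/
theorem supp_ne_four (h2 : (2 : k) ≠ 0) (h3 : (3 : k) ≠ 0) (hn : Module.finrank k V ≤ 27) {ζ : k}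
    (hζ : IsPrimitiveRoot ζ 3) {a : Fin 4 → ZMod 3} (ha : a ∈ Wt π ρ odd3 blk ζ) :
    (Orbit.supp a).card ≠ 4 := by
  classical
  intro hfull
  have hW := closed_Wt C odd3 blk hζ mult3
  have h3n : ((3 : ℕ) : k) ≠ 0 := by simpa using h3
  have ha0 : ∀ i, a i ≠ 0 := fun i => Orbit.mem_supp.1 (by
    rw [(card_eq_iff_eq_univ (Orbit.supp a)).1 (by rw [hfull, Fintype.card_fin])]
    exact mem_univ i)
  have hall : ∀ c : Fin 4 → ZMod 3, (∀ i, c i ≠ 0) → c ∈ Wt π ρ odd3 blk ζ :=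
    fun c hc => full_mem hW ha ha0 hc
  set F := univ.filter fun c : Fin 4 → ZMod 3 => ∀ i, c i ≠ 0
  have hF : F.card = 16 := by decide +kernel
  -- no weight with two entries
  have hno2 : ∀ c ∈ Wt π ρ odd3 blk ζ, (Orbit.supp c).card ≠ 2 := fun c hc h => by
    have h1 := Orbit.card_middle mult3.inj mult3.cancel hW hc h (by norm_num) 2 le_rfl
    have hd : Disjoint F ((Wt π ρ odd3 blk ζ).filter fun d => (Orbit.supp d).card = 2) :=
      disjoint_left.2 fun d hd1 hd2 => by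
        have hu : Orbit.supp d = univ := eq_univ_of_forall fun i => Orbit.mem_supp.2 ((mem_filter.1 hd1).2 i)
        have := (mem_filter.1 hd2).2
        rw [hu, card_univ, Fintype.card_fin] at this
        omega
    have h4 := card_le_card (union_subset (fun d hd1 => hall d (mem_filter.1 hd1).2)
      (filter_subset _ _) : F ∪ ((Wt π ρ odd3 blk ζ).filter fun d => (Orbit.supp d).card = 2) ⊆
        Wt π ρ odd3 blk ζ)
    rw [card_union_of_disjoint hd] at h4
    have := card_Wt_le (π := π) (ρ := ρ) odd3 blk hζ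
    norm_num [Nat.choose] at h1
    omega
  set U := Eigen.E ζ (X π ρ odd3 blk 0) (1 : ZMod 3) ⊓ Eigen.E ζ (X π ρ odd3 blk 1) (1 : ZMod 3)
  have hU : ∀ γ ∈ C.gs {6, 7, 8, 9, 10, 11}, ∀ u ∈ U, ρ γ u ∈ U := fun γ hγ u hu =>
    ⟨eigen_inv C 0 (by decide) ζ 1 hγ hu.1, eigen_inv C 1 (by decide) ζ 1 hγ hu.2⟩
  obtain ⟨v₀, hv₀, hv₀0⟩ := Submodule.exists_mem_ne_zero_of_ne_bot
    ((mem_Wt (π := π) (ρ := ρ) odd3 blk (ζ := ζ) (a := fun _ => 1)).1 (hall _ fun _ => one_ne_zero))
  have hv₀i := (Submodule.mem_iInf _).1 hv₀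
  have hU0 : U ≠ ⊥ := fun e => hv₀0 ((Submodule.eq_bot_iff _).1 e v₀ ⟨hv₀i 0, hv₀i 1⟩)
  have hX2 : X π ρ odd3 blk 2 = ρ (lf π 6 7 8) := X_blk 2
  have hfpf : ∀ u ∈ U, u + ρ (lf π 6 7 8) u + ρ (lf π 6 7 8) (ρ (lf π 6 7 8) u) = 0 := by
    intro u hu
    set w := u + ρ (lf π 6 7 8) u + ρ (lf π 6 7 8) (ρ (lf π 6 7 8) u) with hw
    by_contra hw0
    have hx3 : ρ (lf π 6 7 8) (ρ (lf π 6 7 8) (ρ (lf π 6 7 8) u)) = u := by
      have h := X_pow (ρ := ρ) C odd3 blk 2
      rw [hX2] at h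
      simpa [pow_succ] using LinearMap.congr_fun h u
    have hwU : w ∈ U := by
      have hxg : lf π 6 7 8 ∈ C.gs {6, 7, 8, 9, 10, 11} :=
        lf_mem C (by decide) (by decide) (by decide) (by decide) (by decide) (by decide)
      exact U.add_mem (U.add_mem hu (hU _ hxg u hu)) (hU _ hxg _ (hU _ hxg u hu))
    have hwfix : w ∈ Eigen.E ζ (X π ρ odd3 blk 2) (0 : ZMod 3) := by
      rw [Eigen.mem_E, hX2, ZMod.val_zero, pow_zero, one_smul, hw, map_add, map_add, hx3]
      abel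
    have hinv : ∀ i, ∀ z ∈ U ⊓ Eigen.E ζ (X π ρ odd3 blk 2) (0 : ZMod 3),
        X π ρ odd3 blk i z ∈ U ⊓ Eigen.E ζ (X π ρ odd3 blk 2) (0 : ZMod 3) := by
      intro i z hz
      have hcm : ∀ (l : Fin 4) (m : ZMod 3) (y : V), y ∈ Eigen.E ζ (X π ρ odd3 blk l) m →
          X π ρ odd3 blk i y ∈ Eigen.E ζ (X π ρ odd3 blk l) m := fun l m y hy => by
        rw [Eigen.mem_E] at hy ⊢
        rw [← Module.End.mul_apply, (X_commute C odd3 blk l i).eq, Module.End.mul_apply, hy, map_smul]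
      exact ⟨⟨hcm 0 1 z hz.1.1, hcm 1 1 z hz.1.2⟩, hcm 2 0 z hz.2⟩
    obtain ⟨c, hc, hne⟩ := exists_weight C odd3 blk hζ h3n
      (U := U ⊓ Eigen.E ζ (X π ρ odd3 blk 2) (0 : ZMod 3))
      (fun e => hw0 ((Submodule.eq_bot_iff _).1 e w (Submodule.mem_inf.2 ⟨hwU, hwfix⟩))) hinv
    obtain ⟨z, hz, hz0⟩ := Submodule.exists_mem_ne_zero_of_ne_bot hne
    have hzi := (Submodule.mem_iInf _).1 hz.2
    have eqj : ∀ l m, z ∈ Eigen.E ζ (X π ρ odd3 blk l) m → c l = m := fun l m hm => by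
      refine Eigen.zpow_inj hζ (smul_left_injective k hz0 ?_)
      exact ((Eigen.mem_E ζ).1 (hzi l)).symm.trans ((Eigen.mem_E ζ).1 hm)
    have c0 := eqj 0 1 hz.1.1.1
    have c1 := eqj 1 1 hz.1.1.2
    have c2 := eqj 2 0 hz.1.2
    have dec : ∀ c : Fin 4 → ZMod 3, c 0 = 1 → c 1 = 1 → c 2 = 0 →
        (Orbit.supp c).card = 2 ∨ (Orbit.supp c).card = 3 := by decide +kernel
    rcases dec c c0 c1 c2 with h | h
    · exact hno2 c hc h
    · exact supp_ne_three C hn hζ hc h
  have hnc := quad_noncomm C h2 h3 hU0 hU hfpf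
  obtain ⟨ε, hε⟩ := C.exists_scalar
    (z := (H π 7 8 6 9 * H π 6 7 8 9)⁻¹ * (H π 6 7 8 9 * H π 7 8 6 9))
    (by simp only [H, map_mul, map_inv, C.map_lft]; decide +kernel)
  set z₀ := (H π 7 8 6 9 * H π 6 7 8 9)⁻¹ * (H π 6 7 8 9 * H π 7 8 6 9) with hz₀
  have hz₀k : π z₀ = 1 := by simp only [hz₀, H, map_mul, map_inv, C.map_lft]; decide +kernel
  have hε1 : ε = -1 := by
    have hsq : ε * ε = 1 := by
      have h' := LinearMap.congr_fun (congrArg ρ (C.ker_sq hz₀k)) v₀
      simp only [rho_mul_apply, hε, map_smul, smul_smul, map_one, Module.End.one_apply] at h'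
      exact smul_left_injective k hv₀0 (h'.trans (one_smul k v₀).symm)
    rcases mul_self_eq_one_iff.1 hsq with h | h
    · exact absurd (inv_mul_eq_one.1 (C.eq_one_of_fix hz₀k hv₀0 (by rw [hε, h, one_smul]))).symm hnc
    · exact h
  -- the same for every quadruple
  have hquad : ∀ q : Fin 4 → Fin 12, Function.Injective q → ∀ v,
      ρ (H π (q 0) (q 1) (q 2) (q 3)) (ρ (H π (q 1) (q 2) (q 0) (q 3)) v) =
        -ρ (H π (q 1) (q 2) (q 0) (q 3)) (ρ (H π (q 0) (q 1) (q 2) (q 3)) v) := by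
    intro q hq v
    obtain ⟨g, hg⟩ := exists_conj (⟨![6, 7, 8, 9], by decide⟩ : Fin 4 ↪ Fin 12) ⟨q, hq⟩ (by simp)
    obtain ⟨γ, rfl⟩ := C.surj g
    have hm : ∀ i, pm π γ (![6, 7, 8, 9] i) = q i := hg
    have hH : ∀ a b c d : Fin 4, a ≠ b → b ≠ c → a ≠ c → c ≠ d → b ≠ d →
        γ * H π (![6, 7, 8, 9] a) (![6, 7, 8, 9] b) (![6, 7, 8, 9] c) (![6, 7, 8, 9] d) * γ⁻¹ =
          H π (q a) (q b) (q c) (q d) := by
      intro a b c d hab hbc hac hcd hbd
      have hi : Function.Injective (![6, 7, 8, 9] : Fin 4 → Fin 12) := by decide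
      simp only [H]
      rw [show γ * (lft π (c3 (![6, 7, 8, 9] a) (![6, 7, 8, 9] b) (![6, 7, 8, 9] c)) *
          lft π (c3 (![6, 7, 8, 9] b) (![6, 7, 8, 9] c) (![6, 7, 8, 9] d))) * γ⁻¹ =
          γ * lft π (c3 (![6, 7, 8, 9] a) (![6, 7, 8, 9] b) (![6, 7, 8, 9] c)) * γ⁻¹ *
            (γ * lft π (c3 (![6, 7, 8, 9] b) (![6, 7, 8, 9] c) (![6, 7, 8, 9] d)) * γ⁻¹) by group,
        lft_c3_conj C γ (hi.ne hab) (hi.ne hbc) (hi.ne hac),
        lft_c3_conj C γ (hi.ne hbc) (hi.ne hcd) (hi.ne hbd), hm, hm, hm, hm]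
    have e1 := hH 0 1 2 3 (by decide) (by decide) (by decide) (by decide) (by decide)
    have e2 := hH 1 2 0 3 (by decide) (by decide) (by decide) (by decide) (by decide)
    have key : ∀ w, ρ (H π 6 7 8 9) (ρ (H π 7 8 6 9) w) = -ρ (H π 7 8 6 9) (ρ (H π 6 7 8 9) w) := by
      intro w
      have h := congrArg (fun z => ρ (H π 7 8 6 9 * H π 6 7 8 9) z) (hε w)
      rw [← rho_mul_apply, hz₀, mul_inv_cancel_left, map_smul, rho_mul_apply, rho_mul_apply, hε1,
        neg_one_smul] at h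
      exact h
    simp only [Matrix.cons_val_zero, Matrix.cons_val_one, Matrix.cons_val] at e1 e2
    rw [← e1, ← e2, ← rho_mul_apply, ← rho_mul_apply]
    rw [show γ * H π 6 7 8 9 * γ⁻¹ * (γ * H π 7 8 6 9 * γ⁻¹) = γ * (H π 6 7 8 9 * H π 7 8 6 9) * γ⁻¹ by group,
      show γ * H π 7 8 6 9 * γ⁻¹ * (γ * H π 6 7 8 9 * γ⁻¹) = γ * (H π 7 8 6 9 * H π 6 7 8 9) * γ⁻¹ by group,
      rho_mul_apply, rho_mul_apply, rho_mul_apply (γ * (H π 7 8 6 9 * H π 6 7 8 9)),
      rho_mul_apply γ (H π 7 8 6 9 * H π 6 7 8 9), rho_mul_apply, key, ← rho_mul_apply (H π 7 8 6 9),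
      map_neg]
  set A := H π 0 3 6 9 with hA
  set A' := H π 3 6 0 9 with hA'
  set B := H π 1 4 7 10 with hB
  set B' := H π 4 7 1 10 with hB'
  set D := H π 2 5 8 11 with hD
  set D' := H π 5 8 2 11 with hD'
  have aA := hquad ![0, 3, 6, 9] (by decide)
  have aB := hquad ![1, 4, 7, 10] (by decide)
  have aD := hquad ![2, 5, 8, 11] (by decide)
  simp only [Matrix.cons_val_zero, Matrix.cons_val_one, Matrix.cons_val] at aA aB aD
  rw [← hA, ← hA'] at aA
  rw [← hB, ← hB'] at aB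
  rw [← hD, ← hD'] at aD
  have hcmm : ∀ {S : Finset (Fin 12)} {a b c d : Fin 12}, a ≠ b → b ≠ c → a ≠ c → c ≠ d → b ≠ d →
      (∀ p ∈ [a, b, c, d], p ∉ S) → ∀ γ ∈ C.gs S, ∀ v, ρ (H π a b c d) (ρ γ v) = ρ γ (ρ (H π a b c d) v) := by
    intro S a b c d hab hbc hac hcd hbd h γ hγ v
    have c1 := gs_commute C hab hbc hac (fun p hp => h p (by simp at hp ⊢; tauto)) hγ
    have c2 := gs_commute C hbc hcd hbd (fun p hp => h p (by simp at hp ⊢; tauto)) hγ
    rw [← rho_mul_apply, ← rho_mul_apply]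
    exact congrArg (fun z => ρ z v) (c1.mul_left c2).eq
  have memH : ∀ {S : Finset (Fin 12)} {a b c d : Fin 12}, a ∈ S → b ∈ S → c ∈ S → d ∈ S →
      a ≠ b → b ≠ c → a ≠ c → c ≠ d → b ≠ d → H π a b c d ∈ C.gs S := fun ha hb hc hd h1 h2' h3' h4 h5 =>
    mul_mem (lf_mem C ha hb hc h1 h2' h3') (lf_mem C hb hc hd h2' h4 h5)
  set G := A * B * D
  set G' := A' * B' * D'
  have hanti : ∀ v, ρ G (ρ G' v) = -ρ G' (ρ G v) := by
    intro v
    simp only [G, G', rho_mul_apply]
    have c1 : ∀ w, ρ D (ρ A' w) = ρ A' (ρ D w) := fun w =>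
      hcmm (S := {0, 3, 6, 9}) (by decide) (by decide) (by decide) (by decide) (by decide) (by decide) _
        (memH (by decide) (by decide) (by decide) (by decide) (by decide) (by decide) (by decide) (by decide) (by decide)) w
    have c2 : ∀ w, ρ B (ρ A' w) = ρ A' (ρ B w) := fun w =>
      hcmm (S := {0, 3, 6, 9}) (by decide) (by decide) (by decide) (by decide) (by decide) (by decide) _
        (memH (by decide) (by decide) (by decide) (by decide) (by decide) (by decide) (by decide) (by decide) (by decide)) w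
    have c3' : ∀ w, ρ D (ρ B' w) = ρ B' (ρ D w) := fun w =>
      hcmm (S := {1, 4, 7, 10}) (by decide) (by decide) (by decide) (by decide) (by decide) (by decide) _
        (memH (by decide) (by decide) (by decide) (by decide) (by decide) (by decide) (by decide) (by decide) (by decide)) w
    have c4 : ∀ w, ρ A (ρ B' w) = ρ B' (ρ A w) := fun w =>
      hcmm (S := {1, 4, 7, 10}) (by decide) (by decide) (by decide) (by decide) (by decide) (by decide) _
        (memH (by decide) (by decide) (by decide) (by decide) (by decide) (by decide) (by decide) (by decide) (by decide)) w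
    have c5 : ∀ w, ρ A (ρ D' w) = ρ D' (ρ A w) := fun w =>
      hcmm (S := {2, 5, 8, 11}) (by decide) (by decide) (by decide) (by decide) (by decide) (by decide) _
        (memH (by decide) (by decide) (by decide) (by decide) (by decide) (by decide) (by decide) (by decide) (by decide)) w
    have c6 : ∀ w, ρ B (ρ D' w) = ρ D' (ρ B w) := fun w =>
      hcmm (S := {2, 5, 8, 11}) (by decide) (by decide) (by decide) (by decide) (by decide) (by decide) _
        (memH (by decide) (by decide) (by decide) (by decide) (by decide) (by decide) (by decide) (by decide) (by decide)) w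
    simp only [c1, c2, c3', aA, aB, aD, c4, c5, c6, map_neg, neg_neg]
  -- both keep the joint eigenspace
  have hkeep : ∀ g : Γ, (∀ i : Fin 4, ∃ j, π g * c3 (bp i 0) (bp i 1) (bp i 2) * (π g)⁻¹ =
      c3 (bp j 0) (bp j 1) (bp j 2)) → (∀ j : Fin 4, ∃ i, π g * c3 (bp i 0) (bp i 1) (bp i 2) * (π g)⁻¹ =
      c3 (bp j 0) (bp j 1) (bp j 2)) → ∀ v ∈ J π ρ odd3 blk ζ (fun _ => 1),
      ρ g v ∈ J π ρ odd3 blk ζ (fun _ => 1) := by
    intro g _ hg v hv
    refine (Submodule.mem_iInf _).2 fun j => ?_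
    obtain ⟨i, hi⟩ := hg j
    have hne : ∀ i : Fin 4, bp i 0 ≠ bp i 1 ∧ bp i 1 ≠ bp i 2 ∧ bp i 0 ≠ bp i 2 := by decide
    have hc := C.lft_conj (c3_odd (hne i).1 (hne i).2.1 (hne i).2.2) g
    rw [hi] at hc
    have hvi := (Eigen.mem_E ζ).1 ((Submodule.mem_iInf _).1 hv i)
    rw [X_blk] at hvi
    rw [Eigen.mem_E, X_blk, lf, ← hc, rho_mul_apply, rho_mul_apply, rho_inv_apply, hvi, map_smul]
  have hGπ : π G = c3 0 3 6 * c3 3 6 9 * (c3 1 4 7 * c3 4 7 10) * (c3 2 5 8 * c3 5 8 11) := by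
    simp only [G, hA, hB, hD, H, map_mul, C.map_lft]
  have hG'π : π G' = c3 3 6 0 * c3 6 0 9 * (c3 4 7 1 * c3 7 1 10) * (c3 5 8 2 * c3 8 2 11) := by
    simp only [G', hA', hB', hD', H, map_mul, C.map_lft]
  have hG := hkeep G (by rw [hGπ]; decide +kernel) (by rw [hGπ]; decide +kernel)
  have hG' := hkeep G' (by rw [hG'π]; decide +kernel) (by rw [hG'π]; decide +kernel)
  set J₁ := J π ρ odd3 blk ζ (fun _ => 1)
  have hJ1 : 2 ≤ Module.finrank k J₁ := by
    by_contra hlt
    have hle : J₁ ≤ Submodule.span k {v₀} := by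
      refine (Submodule.eq_of_le_of_finrank_le ((Submodule.span_singleton_le_iff_mem _ _).2 hv₀) ?_).ge
      rw [finrank_span_singleton hv₀0]
      omega
    obtain ⟨p, hp⟩ := Submodule.mem_span_singleton.1 (hle (hG v₀ hv₀))
    obtain ⟨p', hp'⟩ := Submodule.mem_span_singleton.1 (hle (hG' v₀ hv₀))
    have h := hanti v₀
    rw [← hp', map_smul, ← hp, map_smul, ← hp', smul_smul, smul_smul, mul_comm p p'] at h
    have hz := two_smul_eq_zero' h2 h
    rw [smul_eq_zero] at hz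
    rcases mul_eq_zero.1 (hz.resolve_right hv₀0) with e | e
    · exact hv₀0 (rho_injective G' (by rw [map_zero, ← hp', e, zero_smul]))
    · exact hv₀0 (rho_injective G (by rw [map_zero, ← hp, e, zero_smul]))
  have hdim : ∀ c ∈ F, 2 ≤ Module.finrank k (J π ρ odd3 blk ζ c) := by
    intro c hc
    obtain ⟨i, j, hij, hcij⟩ := exists_pair c (mem_filter.1 hc).2
    set b : Fin 4 → ℕ := fun l => if c l = 1 then 0 else 1 with hb
    obtain ⟨σ, hσs, hσc⟩ : ∃ σ : Perm (Fin 4), Perm.sign σ * (-1) ^ (∑ l, b l) = 1 ∧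
        ∀ l, c (σ.symm l) = c l := by
      rcases neg_one_pow_eq_or (ℤˣ) (∑ l, b l) with h | h
      · exact ⟨1, by rw [map_one, h, one_mul], fun l => rfl⟩
      · refine ⟨swap i j, by rw [Perm.sign_swap hij, h]; rfl, fun l => ?_⟩
        rw [symm_swap]
        by_cases hl : l = i
        · subst hl; rw [swap_apply_left, hcij]
        by_cases hl' : l = j
        · subst hl'; rw [swap_apply_right, hcij]
        rw [swap_apply_of_ne_of_ne hl hl']
    obtain ⟨γ, hγ⟩ := exists_move C odd3 blk hζ mult3.w mult3.u mult3.mul mult3.sign σ b (Or.inl hσs)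
      (fun _ => 1)
    have e : (fun l => ((mult3.u ^ b (σ.symm l) : (ZMod 3)ˣ) : ZMod 3) * 1) = c := funext fun l => by
      simp only [hb]
      rw [ite_mul_eq 1 _ one_ne_zero ((mem_filter.1 hc).2 _), hσc]
    rw [e] at hγ
    exact hJ1.trans (LinearMap.finrank_le_finrank_of_injective (f := (ρ γ).restrict hγ)
      fun v w h => Subtype.ext (rho_injective γ (congrArg Subtype.val h)))
  have h1 := sum_joint_le (π := π) (ρ := ρ) hζ F
  have h2' := Finset.card_nsmul_le_sum F _ 2 hdim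
  rw [hF, smul_eq_mul] at h2'
  omega

/-- No joint eigenvector for two blocks. -/
theorem supp_le_one (h2 : (2 : k) ≠ 0) (h3 : (3 : k) ≠ 0) (hn : Module.finrank k V ≤ 27) {ζ : k}
    (hζ : IsPrimitiveRoot ζ 3) {a : Fin 4 → ZMod 3} (ha : a ∈ Wt π ρ odd3 blk ζ) :
    (Orbit.supp a).card ≤ 1 := by
  classical
  have h3n : ((3 : ℕ) : k) ≠ 0 := by simpa using h3
  have h4 : (Orbit.supp a).card ≤ 4 := (card_le_univ _).trans (Fintype.card_fin 4).le
  by_contra hgt
  have htwo : (Orbit.supp a).card = 2 := by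
    have := supp_ne_three C hn hζ ha
    have := supp_ne_four C h2 h3 hn hζ ha
    omega
  have hW := closed_Wt C odd3 blk hζ mult3
  have h1 := Orbit.card_middle mult3.inj mult3.cancel hW ha htwo (by norm_num) 2 le_rfl
  norm_num [Nat.choose] at h1
  set F := univ.filter fun c : Fin 4 → ZMod 3 => (Orbit.supp c).card = 2
  have hF : F.card = 24 := by decide +kernel
  have hall : F ⊆ Wt π ρ odd3 blk ζ := by
    have e := eq_of_subset_of_card_le (s := (Wt π ρ odd3 blk ζ).filter fun c => (Orbit.supp c).card = 2)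
      (t := F) (fun c hc => mem_filter.2 ⟨mem_univ _, (mem_filter.1 hc).2⟩) (by omega)
    exact e ▸ filter_subset _ _
  set G := univ.filter fun c : Fin 4 → ZMod 3 => (Orbit.supp c).card = 2 ∧ c 0 = 0
  have hG : G.card = 12 := by decide +kernel
  have hfix : 12 ≤ Module.finrank k (Eigen.E ζ (X π ρ odd3 blk 0) (0 : ZMod 3)) := by
    have hc : ∀ c ∈ G, ∃ v ≠ (0 : V), ∀ i, v ∈ Eigen.E ζ (X π ρ odd3 blk i) (c i) := fun c hc => by
      obtain ⟨v, hv, hv0⟩ := Submodule.exists_mem_ne_zero_of_ne_bot ((mem_Wt odd3 blk).1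
        (hall (mem_filter.2 ⟨mem_univ c, (mem_filter.1 hc).2.1⟩)))
      exact ⟨v, hv0, fun i => (Submodule.mem_iInf _).1 hv i⟩
    choose v hv0 hv using fun c : G => hc c.1 c.2
    have hli := Eigen.linearIndependent_joint hζ (X π ρ odd3 blk) (fun c : G => c.1)
      Subtype.val_injective v hv0 hv
    have hsp : ∀ c : G, v c ∈ Eigen.E ζ (X π ρ odd3 blk 0) (0 : ZMod 3) := fun c => by
      have h := hv c 0
      rwa [(mem_filter.1 c.2).2.2] at h
    have hli' : LinearIndependent k (fun c : G => (⟨v c, hsp c⟩ : Eigen.E ζ (X π ρ odd3 blk 0) (0 : ZMod 3))) :=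
      LinearIndependent.of_comp (Submodule.subtype _) hli
    simpa [hG] using hli'.fintype_card_le_finrank
  let ι₁ : Fin 1 × ZMod 3 ↪ Fin 12 := (single 3 (0 : Fin 4)).trans blk
  have hX : X π ρ odd3 ι₁ 0 = X π ρ odd3 blk 0 := by
    rw [X, X, xB_sub odd3 blk ι₁ 0 0 fun u => rfl]
  obtain ⟨ζ', m, hζ', -, hmv, hE⟩ := exists_multiplicity C odd3 (by norm_num) h3n mult3 ι₁
    (by norm_num) (fun c hc => ⟨if c = 1 then 0 else 1, by revert c hc; decide +kernel⟩)
  have hrank := LinearMap.finrank_range_add_finrank_ker (X π ρ odd3 blk 0 - 1)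
  have hm : 2 * m + 12 ≤ 27 := by
    rw [show moved ρ (lft π (xB odd3 ι₁ 0)) = LinearMap.range (X π ρ odd3 blk 0 - 1) by
      rw [← hX]; rfl] at hmv
    rw [Eigen.E_zero] at hfix
    omega
  obtain ⟨j', hj'0, hj'⟩ : ∃ j' : ZMod 3, j' ≠ 0 ∧ ζ = ζ' ^ j'.val := by
    obtain ⟨i, hi, e⟩ := hζ'.eq_pow_of_pow_eq_one hζ.pow_eq_one
    refine ⟨(i : ZMod 3), ?_, by rw [ZMod.val_natCast, Nat.mod_eq_of_lt hi, e]⟩
    intro h0
    interval_cases i
    · rw [pow_zero] at e
      exact absurd (hζ.eq_orderOf.trans (by rw [← e, orderOf_one])) (by norm_num)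
    · exact absurd h0 (by decide)
    · exact absurd h0 (by decide)
  have hEE : Eigen.E ζ (X π ρ odd3 blk 0) (1 : ZMod 3) = Eigen.E ζ' (X π ρ odd3 ι₁ 0) j' := by
    rw [hX]; unfold Eigen.E
    rw [show (1 : ZMod 3).val = 1 from rfl, pow_one, ← hj']
  set U := Eigen.E ζ (X π ρ odd3 blk 0) (1 : ZMod 3)
  have hUd : Module.finrank k U ≤ 7 := by rw [hEE, hE j' hj'0]; omega
  have hUinv : ∀ γ ∈ C.gs T₀, ∀ u ∈ U, ρ γ u ∈ U := fun γ hγ u hu =>
    eigen_inv C 0 (by decide) ζ 1 hγ hu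
  obtain ⟨v, hv, hv0⟩ := Submodule.exists_mem_ne_zero_of_ne_bot ((mem_Wt odd3 blk).1
    (hall (show (![1, 1, 0, 0] : Fin 4 → ZMod 3) ∈ F from mem_filter.2 ⟨mem_univ _, by decide +kernel⟩)))
  have hv' := (Submodule.mem_iInf _).1 hv
  have h0 : v ∈ U := hv' 0
  have h := small_triv C h3 hUinv hUd (a := 3) (b := 4) (c := 5) (by decide) (by decide) (by decide)
    (by decide) (by decide) (by decide) v h0
  have h' := (Eigen.mem_E ζ).1 (hv' 1)
  rw [X_blk, show lf π (bp 1 0) (bp 1 1) (bp 1 2) = lf π 3 4 5 from rfl, h,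
    show ((![1, 1, 0, 0] : Fin 4 → ZMod 3) 1).val = 1 from rfl, pow_one] at h'
  exact hζ.ne_one (by norm_num) (smul_left_injective k hv0 (h'.symm.trans (one_smul k v).symm))

end CfsgLib.Classical.AltSection.Twelve
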