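import Cfsg.Agent.Lib.Classical.AltSection.TwelveCentral

/-!
The space moved by a three-cycle in an irreducible representation of degree at most twenty-seven of a
perfect central extension of the alternating group on twelve points.
-/

set_option autoImplicit false
set_option linter.unusedSectionVars false
set_option maxRecDepth 100000
set_option maxHeartbeats 1000000

namespace CfsgLib.Classical.AltSection.Twelve

open Equiv Finset Module

variable {k : Type} [Field k] {V : Type} [AddCommGroup V] [Module k V] [FiniteDimensional k V]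
variable [IsAlgClosed k] [Nontrivial V] {Γ : Type} [Group Γ] [Finite Γ]
variable {π : Γ →* alternatingGroup (Fin 12)} {ρ : Γ →* Module.End k V}
variable (C : Cov π ρ) (h2 : (2 : k) ≠ 0) (h3 : (3 : k) ≠ 0) (hn : Module.finrank k V ≤ 27)
include C

/-- An element mapping one tuple of at most ten points to another. -/
theorem exists_map {m : ℕ} (f f' : Fin m → Fin 12) (hf : Function.Injective f)
    (hf' : Function.Injective f') (hm : m + 2 ≤ 12) : ∃ γ, ∀ i, pm π γ (f i) = f' i := by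
  obtain ⟨g, hg⟩ := exists_conj (⟨f, hf⟩ : Fin m ↪ Fin 12) ⟨f', hf'⟩ (by simpa using hm)
  obtain ⟨γ, rfl⟩ := C.surj g
  exact ⟨γ, hg⟩

omit C in
theorem inj_six {a b c d e f : Fin 12} (hab : a ≠ b) (hbc : b ≠ c) (hac : a ≠ c) (hde : d ≠ e) (hef : e ≠ f)
    (hdf : d ≠ f) (h : ∀ p ∈ [a, b, c], ∀ q ∈ [d, e, f], p ≠ q) : Function.Injective ![a, b, c, d, e, f] := by
  rw [← List.nodup_ofFn]
  show [a, b, c, d, e, f].Nodup
  simp only [List.forall_mem_cons, List.not_mem_nil, IsEmpty.forall_iff, forall_const, and_true] at h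
  simp [hab, hbc, hac, hde, hef, hdf, h]

theorem moved_conj_c3 (γ : Γ) {a b c : Fin 12} (hab : a ≠ b) (hbc : b ≠ c) (hac : a ≠ c) :
    moved ρ (lf π (pm π γ a) (pm π γ b) (pm π γ c)) = (moved ρ (lf π a b c)).map (ρ γ) := by
  rw [lf, ← lft_c3_conj C γ hab hbc hac, moved_conj]

include h2 h3 hn in
/-- Disjoint three-cycles do not interfere. -/
theorem fix_disj {a b c d e f : Fin 12} (hinj : Function.Injective ![a, b, c, d, e, f]) :
    ∀ v ∈ moved ρ (lf π d e f), ρ (lf π a b c) v = v := by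
  classical
  have h3n : ((3 : ℕ) : k) ≠ 0 := by simpa using h3
  haveI : NeZero ((3 : ℕ) : k) := ⟨h3n⟩
  obtain ⟨ζ, hζ⟩ := Eigen.exists_primitive (k := k) 3
  have h0 : (X π ρ odd3 blk 0 - 1) * (X π ρ odd3 blk 1 - 1) = 0 := by
    by_contra hne
    obtain ⟨w, hw, hw0, hw1⟩ := exists_weight_two C odd3 blk hζ h3n hne
    have h1 := supp_le_one C h2 h3 hn hζ hw
    have h4 : 1 < (Orbit.supp w).card :=
      one_lt_card.2 ⟨0, Orbit.mem_supp.2 hw0, 1, Orbit.mem_supp.2 hw1, by decide⟩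
    omega
  have h01 : ∀ v ∈ moved ρ (lf π 3 4 5), ρ (lf π 0 1 2) v = v := by
    intro v hv
    have e1 : X π ρ odd3 blk 1 = ρ (lf π 3 4 5) := X_blk 1
    have e0 : X π ρ odd3 blk 0 = ρ (lf π 0 1 2) := X_blk 0
    rw [← e0]
    exact fix_of_prod_zero h0 v (by rw [e1]; exact hv)
  obtain ⟨γ, hγ⟩ := exists_map C ![0, 1, 2, 3, 4, 5] ![a, b, c, d, e, f] (by decide) hinj (by norm_num)
  obtain ⟨rfl, rfl, rfl, rfl, rfl, rfl⟩ : pm π γ 0 = a ∧ pm π γ 1 = b ∧ pm π γ 2 = c ∧ pm π γ 3 = d ∧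
      pm π γ 4 = e ∧ pm π γ 5 = f := ⟨hγ 0, hγ 1, hγ 2, hγ 3, hγ 4, hγ 5⟩
  intro v hv
  rw [moved_conj_c3 C γ (by decide) (by decide) (by decide)] at hv
  obtain ⟨u, hu, rfl⟩ := hv
  rw [lf, ← lft_c3_conj C γ (by decide) (by decide) (by decide), rho_mul_apply, rho_mul_apply,
    rho_inv_apply, h01 u hu]

include h2 h3 hn in
theorem gs_fix {S : Finset (Fin 12)} {d e f : Fin 12} (hde : d ≠ e) (hef : e ≠ f) (hdf : d ≠ f)
    (hout : ∀ p ∈ [d, e, f], p ∉ S) {γ : Γ} (hγ : γ ∈ C.gs S) :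
    ∀ v ∈ moved ρ (lf π d e f), ρ γ v = v := by
  unfold Cov.gs at hγ
  induction hγ using Subgroup.closure_induction with
  | mem x hx =>
    obtain ⟨a, ha, b, hb, c, hc, h1, h2', h3', rfl⟩ := hx
    refine fix_disj C h2 h3 hn (inj_six h1 h2' h3' hde hef hdf fun p hp q hq hpq => hout q hq (hpq ▸ ?_))
    simp only [List.mem_cons, List.not_mem_nil, or_false] at hp
    rcases hp with rfl | rfl | rfl <;> assumption
  | one => simp
  | mul x y _ _ hx hy => intro v hv; rw [rho_mul_apply, hy v hv, hx v hv]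
  | inv x _ hx =>
    intro v hv
    nth_rw 1 [← hx v hv]
    exact rho_inv_apply x v

include h2 h3 hn in
/-- Lifts over nine points are unique. -/
theorem quad_one {S : Finset (Fin 12)} (hS : S.card ≤ 9) {γ δ : Γ} (hγ : γ ∈ C.gs S) (hδ : δ ∈ C.gs S)
    (e : π γ = π δ) : γ = δ := by
  obtain ⟨a, b, c, ha, hb, hc, hab, hbc, hac⟩ := exists_triple (S := Sᶜ) (by
    rw [card_compl, Fintype.card_fin]; omega)
  obtain ⟨v, hv, hv0⟩ := Submodule.exists_mem_ne_zero_of_ne_bot
    (C.moved_ne_bot (γ := lf π a b c) (c3_lift_ne_one C hab hbc hac))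
  have hfix := gs_fix C h2 h3 hn hab hbc hac (S := S) (fun p hp => by
    simp only [List.mem_cons, List.not_mem_nil, or_false] at hp
    simp only [mem_compl] at ha hb hc
    rcases hp with rfl | rfl | rfl <;> assumption) (mul_mem (inv_mem hγ) hδ) v hv
  exact inv_mul_eq_one.1 (C.eq_one_of_fix (by rw [map_mul, map_inv, e, inv_mul_cancel]) hv0 hfix)

include h2 h3 hn in
theorem kfour {S : Finset (Fin 12)} (hS : S.card ≤ 9) {x T₁ T₂ : Γ} (hx : x ∈ C.gs S) (h₁ : T₁ ∈ C.gs S)
    (h₂ : T₂ ∈ C.gs S) (e3 : π (x * x * x) = π 1) (e₁ : π (T₁ * T₁) = π 1) (e₂ : π (T₂ * T₂) = π 1)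
    (ec : π (T₁ * T₂) = π (T₂ * T₁)) (m₁ : π (x * T₁) = π (T₂ * x))
    (m₂ : π (x * T₂) = π (T₁ * T₂ * x)) : Kfour (ρ x) (ρ T₁) (ρ T₂) := by
  have q := fun {γ δ : Γ} (hγ : γ ∈ C.gs S) (hδ : δ ∈ C.gs S) (e : π γ = π δ) =>
    congrArg ρ (quad_one C h2 h3 hn hS hγ hδ e)
  constructor
  · rw [← map_mul, ← map_mul, q (mul_mem (mul_mem hx hx) hx) (one_mem _) e3, map_one]
  · rw [← map_mul, q (mul_mem h₁ h₁) (one_mem _) e₁, map_one]
  · rw [← map_mul, q (mul_mem h₂ h₂) (one_mem _) e₂, map_one]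
  · rw [← map_mul, ← map_mul, q (mul_mem h₁ h₂) (mul_mem h₂ h₁) ec]
  · rw [← map_mul, ← map_mul, q (mul_mem hx h₁) (mul_mem h₂ hx) m₁]
  · rw [← map_mul, ← map_mul, ← map_mul, q (mul_mem hx h₂) (mul_mem (mul_mem h₁ h₂) hx) m₂]

include h2 h3 hn in
/-- A three-cycle moves two or four dimensions, and four only in dimension at least seventeen. -/
theorem central_moved : ∃ m : ℕ, 1 ≤ m ∧ m ≤ 2 ∧ (m = 2 → 17 ≤ Module.finrank k V) ∧
    ∀ a b c : Fin 12, a ≠ b → b ≠ c → a ≠ c → Module.finrank k (moved ρ (lf π a b c)) = 2 * m := by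
  classical
  have h3n : ((3 : ℕ) : k) ≠ 0 := by simpa using h3
  haveI : NeZero ((3 : ℕ) : k) := ⟨h3n⟩
  let ι₁ : Fin 1 × ZMod 3 ↪ Fin 12 := (single 3 (0 : Fin 4)).trans blk
  obtain ⟨ζ, m, hζ, hm0, hmv, hE⟩ := exists_multiplicity C odd3 (by norm_num) h3n mult3 ι₁
    (by norm_num) (fun c hc => ⟨if c = 1 then 0 else 1, by revert c hc; decide +kernel⟩)
  have hX0 : X π ρ odd3 ι₁ 0 = X π ρ odd3 blk 0 := by
    rw [X, X, xB_sub odd3 blk ι₁ 0 0 fun u => rfl]
  have hlf0 : lft π (xB odd3 ι₁ 0) = lf π 0 1 2 := by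
    rw [xB_sub odd3 blk ι₁ 0 0 fun u => rfl, xB_blk]; rfl
  rw [hlf0] at hmv
  have hall : ∀ a b c : Fin 12, a ≠ b → b ≠ c → a ≠ c →
      Module.finrank k (moved ρ (lf π a b c)) = 2 * m := fun a b c hab hbc hac => by
    rw [lf, finrank_moved_c3_eq C hab hbc hac (by decide : (0 : Fin 12) ≠ 1) (by decide : (1 : Fin 12) ≠ 2)
      (by decide), ← lf, hmv]
  -- four blocks with their common fixed space
  set N := ⨅ i, LinearMap.ker (X π ρ odd3 blk i - 1) with hN
  have hbp : ∀ i j : Fin 4, i ≠ j →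
      Function.Injective ![bp i 0, bp i 1, bp i 2, bp j 0, bp j 1, bp j 2] := by decide +kernel
  have hdisj : ∀ i j : Fin 4, i ≠ j → ∀ v ∈ LinearMap.range (X π ρ odd3 blk j - 1),
      X π ρ odd3 blk i v = v := by
    intro i j hij v hv
    rw [X_blk] at hv ⊢
    exact fix_disj C h2 h3 hn (hbp i j hij) v hv
  have hXp : ∀ i, X π ρ odd3 blk i ^ 3 = 1 := X_pow C odd3 blk
  have hR : ∀ i, Module.finrank k (LinearMap.range (X π ρ odd3 blk i - 1)) = 2 * m := fun i => by
    have hne : ∀ i : Fin 4, bp i 0 ≠ bp i 1 ∧ bp i 1 ≠ bp i 2 ∧ bp i 0 ≠ bp i 2 := by decide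
    rw [X_blk]; exact hall _ _ _ (hne i).1 (hne i).2.1 (hne i).2.2
  have hker : ∀ i j, i ≠ j → LinearMap.range (X π ρ odd3 blk j - 1) ≤ LinearMap.ker (X π ρ odd3 blk i - 1) :=
    fun i j hij v hv => by
      rw [LinearMap.mem_ker, LinearMap.sub_apply, Module.End.one_apply, hdisj i j hij v hv, sub_self]
  set U₃ := LinearMap.range (X π ρ odd3 blk 3 - 1) ⊔ N
  set U₂ := LinearMap.range (X π ρ odd3 blk 2 - 1) ⊔ U₃
  set U₁ := LinearMap.range (X π ρ odd3 blk 1 - 1) ⊔ U₂
  have d3 := finrank_sup_fix hζ h3n (hXp 3) (U := N) (iInf_le _ 3)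
  have d2 := finrank_sup_fix hζ h3n (hXp 2) (U := U₃) (sup_le (hker 2 3 (by decide)) (iInf_le _ 2))
  have d1 := finrank_sup_fix hζ h3n (hXp 1) (U := U₂)
    (sup_le (hker 1 2 (by decide)) (sup_le (hker 1 3 (by decide)) (iInf_le _ 1)))
  have d0 := finrank_sup_fix hζ h3n (hXp 0) (U := U₁) (sup_le (hker 0 1 (by decide))
    (sup_le (hker 0 2 (by decide)) (sup_le (hker 0 3 (by decide)) (iInf_le _ 0))))
  have htot := Submodule.finrank_le (LinearMap.range (X π ρ odd3 blk 0 - 1) ⊔ U₁)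
  simp only [hR] at d0 d1 d2 d3
  replace d1 : Module.finrank k U₁ = 2 * m + Module.finrank k U₂ := d1
  replace d2 : Module.finrank k U₂ = 2 * m + Module.finrank k U₃ := d2
  replace d3 : Module.finrank k U₃ = 2 * m + Module.finrank k N := d3
  have hm3 : m ≤ 3 := by omega
  -- nine points fix the space moved by the first block
  have hsm : ∀ j : ZMod 3, j ≠ 0 → ∀ v ∈ Eigen.E ζ (X π ρ odd3 blk 0) j, ∀ a b c : Fin 12, a ∈ T₀ →
      b ∈ T₀ → c ∈ T₀ → a ≠ b → b ≠ c → a ≠ c → ρ (lf π a b c) v = v := fun j hj v hv a b c ha hb hc h1 h2' h3' =>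
    small_triv C h3 (fun γ hγ u hu => eigen_inv C 0 (by decide) ζ j hγ hu)
      (by rw [← hX0, hE j hj]; omega) ha hb hc h1 h2' h3' v hv
  -- the quadruple
  have memH : ∀ {S : Finset (Fin 12)} {a b c d : Fin 12}, a ∈ S → b ∈ S → c ∈ S → d ∈ S →
      a ≠ b → b ≠ c → a ≠ c → c ≠ d → b ≠ d → H π a b c d ∈ C.gs S := fun ha hb hc hd h1 h2' h3' h4 h5 =>
    mul_mem (lf_mem C ha hb hc h1 h2' h3') (lf_mem C hb hc hd h2' h4 h5)
  set Q : Finset (Fin 12) := {0, 1, 2, 3}
  have hxQ : lf π 0 1 2 ∈ C.gs Q := lf_mem C (by decide) (by decide) (by decide) (by decide) (by decide) (by decide)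
  have h1Q : H π 0 1 2 3 ∈ C.gs Q := memH (by decide) (by decide) (by decide) (by decide) (by decide) (by decide) (by decide) (by decide) (by decide)
  have h2Q : H π 1 2 0 3 ∈ C.gs Q := memH (by decide) (by decide) (by decide) (by decide) (by decide) (by decide) (by decide) (by decide) (by decide)
  have KQ := kfour C h2 h3 hn (S := Q) (by decide) hxQ h1Q h2Q
    (by simp only [H, lf, map_mul, map_one, C.map_lft]; decide +kernel)
    (by simp only [H, map_mul, map_one, C.map_lft]; decide +kernel)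
    (by simp only [H, map_mul, map_one, C.map_lft]; decide +kernel)
    (by simp only [H, map_mul, C.map_lft]; decide +kernel)
    (by simp only [H, lf, map_mul, C.map_lft]; decide +kernel)
    (by simp only [H, lf, map_mul, C.map_lft]; decide +kernel)
  have hfree : ∀ v ∈ Eigen.E ζ (X π ρ odd3 blk 0) (1 : ZMod 3), ρ (H π 0 1 2 3) v = v →
      ρ (H π 1 2 0 3) v = v → v = 0 := by
    intro v hv hv1 hv2
    by_contra hv0
    have hxv : ρ (lf π 0 1 2) v = ζ • v := by
      have h := (Eigen.mem_E ζ).1 hv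
      rw [X_blk, show (1 : ZMod 3).val = 1 from rfl, pow_one] at h
      exact h
    have e : lf π 0 1 3 = lf π 0 1 2 * lf π 0 1 2 * (H π 0 1 2 3 * H π 1 2 0 3) := by
      refine quad_one C h2 h3 hn (S := Q) (by decide)
        (lf_mem C (by decide) (by decide) (by decide) (by decide) (by decide) (by decide))
        (mul_mem (mul_mem hxQ hxQ) (mul_mem h1Q h2Q)) ?_
      simp only [H, lf, map_mul, C.map_lft]
      decide +kernel
    let Lst : Subgroup Γ :=
      { carrier := {γ | ∃ c : k, c ≠ 0 ∧ ρ γ v = c • v}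
        one_mem' := ⟨1, one_ne_zero, by simp⟩
        mul_mem' := fun {a b} ha hb => by
          obtain ⟨c, hc, ec⟩ := ha
          obtain ⟨d, hd, ed⟩ := hb
          exact ⟨d * c, mul_ne_zero hd hc, by rw [rho_mul_apply, ed, map_smul, ec, smul_smul]⟩
        inv_mem' := fun {a} ha => by
          obtain ⟨c, hc, ec⟩ := ha
          exact ⟨c⁻¹, inv_ne_zero hc, rho_injective a (by
            rw [rho_inv_apply', map_smul, ec, smul_smul, inv_mul_cancel₀ hc, one_smul])⟩ }
    have hζ0 : ζ ≠ 0 := hζ.ne_zero (by norm_num)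
    have hx : c3 0 1 2 ∈ Lst.map π := ⟨_, ⟨ζ, hζ0, hxv⟩, C.map_lft _⟩
    have hy : c3 0 1 3 ∈ Lst.map π := ⟨_, ⟨ζ * ζ, mul_ne_zero hζ0 hζ0, by
      rw [show lft π (c3 0 1 3) = lf π 0 1 3 from rfl, e, rho_mul_apply, rho_mul_apply, rho_mul_apply,
        hv2, hv1, hxv, map_smul, hxv, smul_smul]⟩, C.map_lft _⟩
    have hT : ∀ g, In T₀ g → g ∈ Lst.map π := by
      intro g hg
      refine (Subgroup.closure_le _).2 ?_ (mem_closure_c3 _ g hg)
      rintro _ ⟨a, ha, b, hb, c, hc, h1, h2', h3', rfl⟩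
      exact ⟨_, ⟨1, one_ne_zero, by rw [one_smul]; exact hsm 1 (by decide) v hv a b c ha hb hc h1 h2' h3'⟩,
        C.map_lft _⟩
    have conjT : ∀ {T : Finset (Fin 12)} {h : alternatingGroup (Fin 12)}, h ∈ Lst.map π →
        (∀ g, In T g → g ∈ Lst.map π) → ∀ g, In (T.image (h : Perm (Fin 12))) g → g ∈ Lst.map π := by
      intro T h hh hT g hg
      have : In T (h⁻¹ * g * h) := fun i hi => by
        have h1 : (h : Perm (Fin 12)) i ∉ T.image (h : Perm (Fin 12)) := fun hm => by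
          obtain ⟨j, hj, e⟩ := mem_image.1 hm
          exact hi ((h : Perm (Fin 12)).injective e ▸ hj)
        show ((h : Perm (Fin 12))⁻¹ * (g : Perm (Fin 12)) * (h : Perm (Fin 12))) i = i
        rw [Perm.mul_apply, Perm.mul_apply, hg _ h1, Perm.inv_def, Equiv.symm_apply_apply]
      rw [show g = h * (h⁻¹ * g * h) * h⁻¹ by group]
      exact mul_mem (mul_mem hh (hT _ this)) (inv_mem hh)
    have hA := conjT (h := c3 0 1 3) hy hT
    have hB := conjT (h := c3 0 1 3 * c3 0 1 3) (mul_mem hy hy) hT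
    have hAB := in_union (in_union hT hA (by decide +kernel) (by decide +kernel)) hB
      (by decide +kernel) (by decide +kernel)
    have hC := conjT hx hAB
    have hD := in_union hAB hC (by decide +kernel) (by decide +kernel)
    refine no_line C h2 h3 hv0 fun g => ?_
    obtain ⟨γ, ⟨c, -, hc⟩, hγ⟩ := hD g (fun i hi => absurd (by revert i; decide +kernel) hi)
    exact ⟨γ, hγ, c, hc⟩
  have hl : m ≤ Module.finrank k (K1 (ρ (H π 0 1 2 3)) (ρ (H π 1 2 0 3))) := by
    have h := KQ.le_K1 h2 ζ (Eigen.E ζ (X π ρ odd3 blk 0) (1 : ZMod 3))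
      (fun v hv => by
        have h := (Eigen.mem_E ζ).1 hv
        rwa [X_blk, show (1 : ZMod 3).val = 1 from rfl, pow_one] at h)
      hfree
    rwa [← hX0, hE 1 (by decide)] at h
  -- six points
  set S₆ : Finset (Fin 12) := {0, 1, 2, 3, 4, 5}
  have hxS : lf π 0 1 2 * lf π 3 4 5 ∈ C.gs S₆ := mul_mem
    (lf_mem C (by decide) (by decide) (by decide) (by decide) (by decide) (by decide))
    (lf_mem C (by decide) (by decide) (by decide) (by decide) (by decide) (by decide))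
  have h1S : H π 0 3 1 4 ∈ C.gs S₆ := memH (by decide) (by decide) (by decide) (by decide) (by decide) (by decide) (by decide) (by decide) (by decide)
  have h2S : H π 1 4 2 5 ∈ C.gs S₆ := memH (by decide) (by decide) (by decide) (by decide) (by decide) (by decide) (by decide) (by decide) (by decide)
  have KS := kfour C h2 h3 hn (S := S₆) (by decide) hxS h1S h2S
    (by simp only [H, lf, map_mul, map_one, C.map_lft]; decide +kernel)
    (by simp only [H, map_mul, map_one, C.map_lft]; decide +kernel)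
    (by simp only [H, map_mul, map_one, C.map_lft]; decide +kernel)
    (by simp only [H, map_mul, C.map_lft]; decide +kernel)
    (by simp only [H, lf, map_mul, C.map_lft]; decide +kernel)
    (by simp only [H, lf, map_mul, C.map_lft]; decide +kernel)
  have hconj : Module.finrank k (moved ρ (H π 0 3 1 4)) = Module.finrank k (moved ρ (H π 0 1 2 3)) := by
    obtain ⟨γ, hγ⟩ := exists_map C ![0, 1, 2, 3] ![0, 3, 1, 4] (by decide) (by decide) (by norm_num)
    rw [← finrank_moved_conj γ (H π 0 1 2 3)]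
    suffices e : γ * H π 0 1 2 3 * γ⁻¹ = H π 0 3 1 4 by rw [e]
    simp only [H, lf]
    rw [show γ * (lft π (c3 0 1 2) * lft π (c3 1 2 3)) * γ⁻¹ =
      γ * lft π (c3 0 1 2) * γ⁻¹ * (γ * lft π (c3 1 2 3) * γ⁻¹) by group,
      lft_c3_conj C γ (by decide) (by decide) (by decide), lft_c3_conj C γ (by decide) (by decide) (by decide),
      show pm π γ 0 = 0 from hγ 0, show pm π γ 1 = 3 from hγ 1, show pm π γ 2 = 1 from hγ 2,
      show pm π γ 3 = 4 from hγ 3]
  have hl6 : m ≤ Module.finrank k (K1 (ρ (H π 0 3 1 4)) (ρ (H π 1 4 2 5))) := by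
    have e6 : Module.finrank k (moved ρ (H π 0 3 1 4)) = _ := KS.finrank_range h2
    have e4 : Module.finrank k (moved ρ (H π 0 1 2 3)) = _ := KQ.finrank_range h2
    omega
  obtain ⟨W, hWk, hWs, hWd, -⟩ := KS.exists_fixed h2
  -- the new space lies in the common fixed space and is fixed by the other six points
  set K₁ := K1 (ρ (H π 0 3 1 4)) (ρ (H π 1 4 2 5))
  have hK1 : ∀ v ∈ K₁, ∀ a b c : Fin 12, a ∈ ({6, 7, 8, 9, 10, 11} : Finset (Fin 12)) →
      b ∈ ({6, 7, 8, 9, 10, 11} : Finset (Fin 12)) → c ∈ ({6, 7, 8, 9, 10, 11} : Finset (Fin 12)) →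
      a ≠ b → b ≠ c → a ≠ c → ρ (lf π a b c) v = v := by
    intro v hv a b c ha hb hc h1 h2' h3'
    obtain ⟨-, e⟩ := mem_K1.1 hv
    have hv2 : v ∈ moved ρ (H π 1 4 2 5) := ⟨(-(2 : k)⁻¹) • v, by
      rw [map_smul, LinearMap.sub_apply, Module.End.one_apply, show ρ (H π 1 4 2 5) v = -v from e,
        show -v - v = (-2 : k) • v by module, smul_smul]
      field_simp
      simp⟩
    have hinj : ∀ {d e f : Fin 12}, d ∈ S₆ → e ∈ S₆ → f ∈ S₆ → d ≠ e → e ≠ f → d ≠ f →
        moved ρ (lft π (c3 d e f)) ≤ fixd ρ (lf π a b c) := by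
      intro d e f hd he hf g1 g2 g3 u hu
      rw [mem_fixd]
      refine fix_disj C h2 h3 hn (inj_six h1 h2' h3' g1 g2 g3 fun p hp q hq hpq => ?_) u hu
      have hne : ∀ p ∈ ({6, 7, 8, 9, 10, 11} : Finset (Fin 12)), p ∉ S₆ := by decide
      simp only [List.mem_cons, List.not_mem_nil, or_false] at hp hq
      rcases hp with rfl | rfl | rfl <;> rcases hq with rfl | rfl | rfl <;>
        first
        | exact hne _ ha (hpq ▸ by assumption)
        | exact hne _ hb (hpq ▸ by assumption)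
        | exact hne _ hc (hpq ▸ by assumption)
    exact mem_fixd.1 ((moved_mul_le _ _).trans (sup_le
      (hinj (by decide) (by decide) (by decide) (by decide) (by decide) (by decide))
      (hinj (by decide) (by decide) (by decide) (by decide) (by decide) (by decide))) hv2)
  have hW6 : ∀ w ∈ W, ∀ a b c : Fin 12, a ∈ ({6, 7, 8, 9, 10, 11} : Finset (Fin 12)) →
      b ∈ ({6, 7, 8, 9, 10, 11} : Finset (Fin 12)) → c ∈ ({6, 7, 8, 9, 10, 11} : Finset (Fin 12)) →
      a ≠ b → b ≠ c → a ≠ c → ρ (lf π a b c) w = w := by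
    intro w hw a b c ha hb hc h1 h2' h3'
    have hcm : ∀ u, ρ (lf π a b c) (ρ (lf π 0 1 2 * lf π 3 4 5) u) =
        ρ (lf π 0 1 2 * lf π 3 4 5) (ρ (lf π a b c) u) := fun u => by
      rw [← rho_mul_apply, ← rho_mul_apply]
      refine congrArg (fun z => ρ z u) (gs_commute C h1 h2' h3' (S := S₆) (fun p hp => ?_) hxS).eq
      simp only [List.mem_cons, List.not_mem_nil, or_false] at hp
      have hd : ∀ p ∈ ({6, 7, 8, 9, 10, 11} : Finset (Fin 12)), p ∉ S₆ := by decide
      rcases hp with rfl | rfl | rfl <;> exact hd _ (by assumption)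
    have hle : K₁ ⊔ K₁.map (ρ (lf π 0 1 2 * lf π 3 4 5)) ⊔
        K₁.map (ρ (lf π 0 1 2 * lf π 3 4 5) * ρ (lf π 0 1 2 * lf π 3 4 5)) ≤ fixd ρ (lf π a b c) := by
      refine sup_le (sup_le (fun u hu => mem_fixd.2 (hK1 u hu a b c ha hb hc h1 h2' h3')) ?_) ?_
      · rintro _ ⟨u, hu, rfl⟩
        rw [mem_fixd, hcm, hK1 u hu a b c ha hb hc h1 h2' h3']
      · rintro _ ⟨u, hu, rfl⟩
        rw [mem_fixd, Module.End.mul_apply, hcm, hcm, hK1 u hu a b c ha hb hc h1 h2' h3']
    exact mem_fixd.1 (hle (hWs hw))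
  have hWN : W ≤ N := by
    intro w hw
    have hxw : ρ (lf π 0 1 2) (ρ (lf π 3 4 5) w) = w := by
      have h := hWk hw
      rw [LinearMap.mem_ker, LinearMap.sub_apply, Module.End.one_apply, sub_eq_zero, rho_mul_apply] at h
      exact h
    set r₁ := ρ (lf π 3 4 5) w - w with hr₁
    have hr₁m : r₁ ∈ moved ρ (lf π 3 4 5) := ⟨w, rfl⟩
    have hfix : ρ (lf π 0 1 2) r₁ = r₁ := fix_disj C h2 h3 hn (by decide) r₁ hr₁m
    have hr₀ : ρ (lf π 0 1 2) w - w = -r₁ := by
      have := hxw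
      rw [show ρ (lf π 3 4 5) w = w + r₁ by rw [hr₁]; abel, map_add, hfix] at this
      linear_combination (norm := module) this
    have hr : r₁ = 0 := by
      have hm' : r₁ ∈ moved ρ (lf π 0 1 2) := ⟨-w, by
        rw [map_neg]; show -(ρ (lf π 0 1 2) w - w) = r₁; rw [hr₀, neg_neg]⟩
      exact (Submodule.eq_bot_iff _).1 (Eigen.disjoint_range_ker hζ h3n (x := ρ (lf π 0 1 2))
        (by have := hXp 0; rwa [X_blk] at this)) r₁
        ⟨hm', by rw [SetLike.mem_coe, LinearMap.mem_ker, LinearMap.sub_apply, Module.End.one_apply, hfix, sub_self]⟩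
    rw [hr, neg_zero] at hr₀
    refine (Submodule.mem_iInf _).2 fun i => ?_
    rw [LinearMap.mem_ker, LinearMap.sub_apply, Module.End.one_apply, sub_eq_zero, X_blk]
    fin_cases i
    · exact sub_eq_zero.1 hr₀
    · exact sub_eq_zero.1 (hr₁.symm.trans hr)
    · exact hW6 w hw 6 7 8 (by decide) (by decide) (by decide) (by decide) (by decide) (by decide)
    · exact hW6 w hw 9 10 11 (by decide) (by decide) (by decide) (by decide) (by decide) (by decide)
  have hN1 := Submodule.finrank_mono hWN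
  refine ⟨m, hm0, ?_, fun _ => by omega, hall⟩
  by_contra hm2
  -- now the common fixed space is the new space
  have hWN' : W = N := Submodule.eq_of_le_of_finrank_le hWN (by omega)
  obtain ⟨w, hw, hw0⟩ := Submodule.exists_mem_ne_zero_of_ne_bot (p := W) (fun e => by
    rw [e, finrank_bot] at hWd
    omega)
  let St : Subgroup Γ :=
    { carrier := {γ | ρ γ w = w}
      one_mem' := by simp
      mul_mem' := fun {a b} ha hb => by
        show ρ (a * b) w = w
        rw [rho_mul_apply, show ρ b w = w from hb, show ρ a w = w from ha]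
      inv_mem' := fun {a} ha => by
        show ρ a⁻¹ w = w
        nth_rw 1 [← show ρ a w = w from ha]
        exact rho_inv_apply a w }
  have hbj : ∀ j j' : Fin 4, c3 (bp j 0) (bp j 1) (bp j 2) = c3 (bp j' 0) (bp j' 1) (bp j' 2) → j = j' := by
    decide +kernel
  have hsix : ∀ δ : Γ, (∀ j : Fin 4, ∃ i, π δ * c3 (bp i 0) (bp i 1) (bp i 2) * (π δ)⁻¹ =
      c3 (bp j 0) (bp j 1) (bp j 2)) →
      ∀ g, In (({6, 7, 8, 9, 10, 11} : Finset (Fin 12)).image (pm π δ)) g → g ∈ St.map π := by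
    intro δ hδ g hg
    have hpre : ρ δ⁻¹ w ∈ W := by
      rw [hWN']
      have hwN := (Submodule.mem_iInf _).1 (hWN' ▸ hw : w ∈ N)
      refine (Submodule.mem_iInf _).2 fun i => ?_
      rw [LinearMap.mem_ker, LinearMap.sub_apply, Module.End.one_apply, sub_eq_zero, X_blk]
      have hne : ∀ i : Fin 4, bp i 0 ≠ bp i 1 ∧ bp i 1 ≠ bp i 2 ∧ bp i 0 ≠ bp i 2 := by decide
      have hsurj : Function.Surjective (fun j => Classical.choose (hδ j)) :=
        Finite.injective_iff_surjective.1 fun j j' e => by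
          have h1 := (Classical.choose_spec (hδ j)).symm
          have h2' := (Classical.choose_spec (hδ j')).symm
          replace e : Classical.choose (hδ j) = Classical.choose (hδ j') := e
          rw [e] at h1
          exact hbj j j' (h1.trans h2'.symm)
      obtain ⟨j, hj⟩ := hsurj i
      have hsp := Classical.choose_spec (hδ j)
      rw [show Classical.choose (hδ j) = i from hj] at hsp
      have hc := C.lft_conj (c3_odd (hne i).1 (hne i).2.1 (hne i).2.2) δ
      rw [hsp] at hc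
      have hwj := hwN j
      rw [LinearMap.mem_ker, LinearMap.sub_apply, Module.End.one_apply, sub_eq_zero, X_blk, lf, ← hc,
        rho_mul_apply, rho_mul_apply] at hwj
      have := congrArg (ρ δ⁻¹) hwj
      rwa [rho_inv_apply] at this
    refine (Subgroup.closure_le _).2 ?_ (mem_closure_c3 _ g hg)
    rintro _ ⟨a', ha', b', hb', c', hc', h1, h2', h3', rfl⟩
    obtain ⟨a, ha, rfl⟩ := mem_image.1 ha'
    obtain ⟨b, hb, rfl⟩ := mem_image.1 hb'
    obtain ⟨c, hc, rfl⟩ := mem_image.1 hc'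
    have h1' : a ≠ b := fun e => h1 (by rw [e])
    have h2'' : b ≠ c := fun e => h2' (by rw [e])
    have h3'' : a ≠ c := fun e => h3' (by rw [e])
    refine ⟨δ * lf π a b c * δ⁻¹, ?_, ?_⟩
    · show ρ (δ * lf π a b c * δ⁻¹) w = w
      rw [rho_mul_apply, rho_mul_apply, hW6 _ hpre a b c ha hb hc h1' h2'' h3'', rho_inv_apply']
    · rw [lft_c3_conj C δ h1' h2'' h3'', C.map_lft]
  obtain ⟨g₁, hg₁⟩ := C.surj (c3 0 3 9 * c3 1 4 10 * c3 2 5 11)
  obtain ⟨g₂, hg₂⟩ := C.surj (c3 0 6 3 * c3 6 3 9 * (c3 1 7 4 * c3 7 4 10) * (c3 2 8 5 * c3 8 5 11))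
  have s0 := hsix 1 (by simp only [map_one]; decide +kernel)
  have s1 := hsix g₁ (by rw [hg₁]; decide +kernel)
  have s2 := hsix g₂ (by rw [hg₂]; decide +kernel)
  simp only [pm, map_one, hg₁, hg₂] at s0 s1 s2
  have u1 := in_union s0 s1 (by decide +kernel) (by decide +kernel)
  have u2 := in_union u1 s2 (by decide +kernel) (by decide +kernel)
  refine no_line C h2 h3 hw0 fun g => ?_
  obtain ⟨γ, hγ, e⟩ := u2 g (fun i hi => absurd (by revert i; decide +kernel) hi)
  exact ⟨γ, e, 1, by rw [one_smul]; exact hγ⟩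

end CfsgLib.Classical.AltSection.Twelve
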